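import Cfsg.Agent.Lib.helper68.RegularP

set_option autoImplicit false

namespace Cfsg.Agent.Lib.helper68

open Subgroup
open scoped commutatorElement

section ExpClosed

universe u

variable {G : Type*} [Group G]

/-- A finite commutative `p`-group with at most `p` solutions of `a ^ p = 1` is cyclic. -/
theorem isCyclic_comm_pgroup {Z : Type*} [Group Z] [Finite Z] {p : ℕ} [hp : Fact p.Prime]
    (hZ : IsPGroup p Z) (hc : ∀ a b : Z, a * b = b * a)
    (h : Nat.card {a : Z // a ^ p = 1} ≤ p) : IsCyclic Z := by
  classical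
  have := Fintype.ofFinite Z
  have h1 : (Finset.univ.filter (fun a : Z => a ^ p = 1)).card ≤ p := by
    rwa [Nat.card_eq_fintype_card, Fintype.card_subtype] at h
  have key : ∀ j : ℕ, (Finset.univ.filter (fun a : Z => a ^ (p ^ j) = 1)).card ≤ p ^ j := by
    intro j
    induction j with
    | zero =>
      rw [pow_zero, Finset.card_le_one]
      intro a ha b hb
      rw [Finset.mem_filter, pow_one] at ha hb
      rw [ha.2, hb.2]
    | succ j ih =>
      have h2 := Finset.card_le_mul_card_image (f := fun a : Z => a ^ p)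
        (Finset.univ.filter (fun a : Z => a ^ (p ^ (j + 1)) = 1)) p (by
          intro b _
          by_cases hne : ((Finset.univ.filter (fun a : Z => a ^ (p ^ (j + 1)) = 1)).filter
              (fun a => a ^ p = b)).Nonempty
          · obtain ⟨a₀, ha₀⟩ := hne
            rw [Finset.mem_filter] at ha₀
            refine le_trans (Finset.card_le_card_of_injOn (fun a => a * a₀⁻¹) ?_ ?_) h1
            · intro a ha
              have ha' := (Finset.mem_filter.1 (Finset.mem_coe.1 ha)).2
              apply Finset.mem_coe.2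
              rw [Finset.mem_filter]
              refine ⟨Finset.mem_univ _, ?_⟩
              rw [(show Commute a a₀⁻¹ from hc a a₀⁻¹).mul_pow, inv_pow, ha', ha₀.2,
                mul_inv_cancel]
            · intro a _ a' _ h
              exact mul_right_cancel h
          · rw [Finset.not_nonempty_iff_eq_empty] at hne
            rw [hne]
            simp)
      have h3 : (Finset.image (fun a : Z => a ^ p)
          (Finset.univ.filter (fun a : Z => a ^ (p ^ (j + 1)) = 1))) ⊆
          Finset.univ.filter (fun a : Z => a ^ (p ^ j) = 1) := by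
        intro b hb
        obtain ⟨a, ha, rfl⟩ := Finset.mem_image.1 hb
        rw [Finset.mem_filter] at ha ⊢
        refine ⟨Finset.mem_univ _, ?_⟩
        rw [← pow_mul, ← pow_succ']
        exact ha.2
      calc (Finset.univ.filter (fun a : Z => a ^ (p ^ (j + 1)) = 1)).card
          ≤ p * (Finset.image (fun a : Z => a ^ p)
            (Finset.univ.filter (fun a : Z => a ^ (p ^ (j + 1)) = 1))).card := h2
        _ ≤ p * (Finset.univ.filter (fun a : Z => a ^ (p ^ j) = 1)).card :=
          Nat.mul_le_mul_left _ (Finset.card_le_card h3)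
        _ ≤ p * p ^ j := Nat.mul_le_mul_left _ ih
        _ = p ^ (j + 1) := by rw [pow_succ']
  apply isCyclic_of_card_pow_eq_one_le
  intro n hn
  have hsub : Finset.univ.filter (fun a : Z => a ^ n = 1) ⊆
      Finset.univ.filter (fun a : Z => a ^ (p ^ (n.factorization p)) = 1) := by
    intro a ha
    rw [Finset.mem_filter] at ha ⊢
    refine ⟨Finset.mem_univ _, ?_⟩
    obtain ⟨i, hi⟩ := hZ a
    have ho1 : orderOf a ∣ n := orderOf_dvd_of_pow_eq_one ha.2
    have ho2 : orderOf a ∣ p ^ i := orderOf_dvd_of_pow_eq_one hi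
    obtain ⟨i', -, hi'⟩ := (Nat.dvd_prime_pow hp.out).1 ho2
    rw [hi'] at ho1
    have hle : i' ≤ n.factorization p :=
      (Nat.Prime.pow_dvd_iff_le_factorization hp.out hn.ne').1 ho1
    apply orderOf_dvd_iff_pow_eq_one.1
    rw [hi']
    exact pow_dvd_pow p hle
  calc (Finset.univ.filter (fun a : Z => a ^ n = 1)).card
      ≤ (Finset.univ.filter (fun a : Z => a ^ (p ^ (n.factorization p)) = 1)).card :=
        Finset.card_le_card hsub
    _ ≤ p ^ (n.factorization p) := key _
    _ ≤ n := Nat.le_of_dvd hn (Nat.ordProj_dvd n p)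

/-- In a finite `p`-group of class less than `p`, a product of two elements of order dividing
`p` has order dividing `p`. -/
theorem pow_mul_eq_one_of_class_lt [Finite G] {p : ℕ} [hp : Fact p.Prime] (hG : IsPGroup p G)
    (hcl : (⊤ : Subgroup G).lowerCentralSeries (p - 1) = ⊥) :
    ∀ (N : ℕ) (x y : G), Nat.card (Subgroup.closure ({x, y} : Set G)) = N →
      x ^ p = 1 → y ^ p = 1 → (x * y) ^ p = 1 := by
  intro N
  induction N using Nat.strong_induction_on with
  | _ N ih =>
    intro x y hN hx hy
    by_cases hcomm : x * y = y * x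
    · rw [(show Commute x y from hcomm).mul_pow, hx, hy, one_mul]
    obtain ⟨S, hS⟩ : ∃ S : Subgroup G, S = Subgroup.closure ({x, y} : Set G) := ⟨_, rfl⟩
    rw [← hS] at hN
    have hxS : x ∈ S := hS ▸ Subgroup.subset_closure (by simp)
    have hyS : y ∈ S := hS ▸ Subgroup.subset_closure (by simp)
    have hSp : IsPGroup p S := hG.to_subgroup S
    have hSnil : Group.IsNilpotent S := hSp.isNilpotent
    have hzx : Subgroup.zpowers (⟨x, hxS⟩ : S) ≠ ⊤ := by
      intro htop
      apply hcomm
      have hy' : (⟨y, hyS⟩ : S) ∈ Subgroup.zpowers (⟨x, hxS⟩ : S) := by rw [htop]; trivial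
      obtain ⟨k, hk⟩ := Subgroup.mem_zpowers_iff.1 hy'
      have hk' : x ^ k = y := by
        have := congrArg Subtype.val hk
        simpa using this
      rw [← hk']
      exact ((Commute.refl x).zpow_right k).eq
    obtain ⟨K, hKco, hxK⟩ : ∃ K : Subgroup S, IsCoatom K ∧
        Subgroup.zpowers (⟨x, hxS⟩ : S) ≤ K := by
      rcases eq_top_or_exists_le_coatom (Subgroup.zpowers (⟨x, hxS⟩ : S)) with h | h
      · exact absurd h hzx
      · exact h
    have hKn : K.Normal := by
      have hnc := Group.normalizerCondition_of_isNilpotent (G := S)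
      have h1 : K < Subgroup.normalizer (K : Set S) := hnc K (lt_top_iff_ne_top.2 hKco.1)
      exact Subgroup.normalizer_eq_top_iff.1 (hKco.2 _ h1)
    obtain ⟨T, hT⟩ : ∃ T : Subgroup S,
        T = Subgroup.normalClosure ({(⟨x, hxS⟩ : S)} : Set S) := ⟨_, rfl⟩
    have hTn : T.Normal := hT ▸ Subgroup.normalClosure_normal
    have hTK : T ≤ K := by
      rw [hT]
      apply Subgroup.normalClosure_le_normal
      rw [Set.singleton_subset_iff]
      exact hxK (Subgroup.mem_zpowers _)
    have hxT : (⟨x, hxS⟩ : S) ∈ T := hT ▸ Subgroup.subset_normalClosure (Set.mem_singleton _)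
    have hW : ∀ s : S, ∃ k : ℤ, (s : S ⧸ T) = ((⟨y, hyS⟩ : S) : S ⧸ T) ^ k := by
      obtain ⟨W, hWdef⟩ : ∃ W : Subgroup S, W =
          (Subgroup.zpowers (((⟨y, hyS⟩ : S) : S ⧸ T))).comap (QuotientGroup.mk' T) := ⟨_, rfl⟩
      have hxW : (⟨x, hxS⟩ : S) ∈ W := by
        rw [hWdef, Subgroup.mem_comap, QuotientGroup.mk'_apply, (QuotientGroup.eq_one_iff _).2 hxT]
        exact Subgroup.one_mem _
      have hyW : (⟨y, hyS⟩ : S) ∈ W := by
        rw [hWdef, Subgroup.mem_comap, QuotientGroup.mk'_apply]
        exact Subgroup.mem_zpowers _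
      have hWtop : Subgroup.closure ({x, y} : Set G) ≤ W.map S.subtype := by
        rw [Subgroup.closure_le]
        intro g hg
        rcases hg with rfl | hg
        · exact ⟨⟨g, hxS⟩, hxW, rfl⟩
        · rw [Set.mem_singleton_iff] at hg
          subst hg
          exact ⟨⟨g, hyS⟩, hyW, rfl⟩
      intro s
      have hs : (s : G) ∈ Subgroup.closure ({x, y} : Set G) := hS ▸ s.2
      obtain ⟨w, hw, hws⟩ := hWtop hs
      have hwe : w = s := Subtype.ext hws
      have hw' : s ∈ W := by
        rw [← hwe]
        exact hw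
      rw [hWdef] at hw'
      have hw'' := Subgroup.mem_comap.1 hw'
      rw [QuotientGroup.mk'_apply] at hw''
      obtain ⟨k, hk⟩ := Subgroup.mem_zpowers_iff.1 hw''
      exact ⟨k, hk.symm⟩
    have hcommQ : IsMulCommutative (S ⧸ T) := ⟨⟨fun a b => by
      obtain ⟨a, rfl⟩ := QuotientGroup.mk_surjective a
      obtain ⟨b, rfl⟩ := QuotientGroup.mk_surjective b
      obtain ⟨i, hi⟩ := hW a
      obtain ⟨j, hj⟩ := hW b
      rw [hi, hj]
      exact ((Commute.refl _).zpow_zpow i j).eq⟩⟩
    have hcomT : _root_.commutator S ≤ T :=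
      Subgroup.Normal.quotient_commutative_iff_commutator_le.1 hcommQ
    have hcardK : Nat.card K < N := by
      rw [← hN]
      have h1 := Subgroup.card_mul_index K
      have h2 : 1 < K.index := Subgroup.one_lt_index_of_ne_top hKco.1
      have h3 : 0 < Nat.card K := Nat.card_pos
      nlinarith
    have hTexp : ∀ t : S, t ∈ T → t ^ p = 1 := by
      intro t ht
      rw [hT] at ht
      have ht' : t ∈ Subgroup.closure (Group.conjugatesOfSet ({(⟨x, hxS⟩ : S)} : Set S)) := ht
      refine Subgroup.closure_induction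
        (p := fun t _ => t ∈ T ∧ t ^ p = 1) ?_ ?_ ?_ ?_ ht' |>.2
      · intro u hu
        refine ⟨hT ▸ Subgroup.subset_closure hu, ?_⟩
        obtain ⟨a, ha, hconj⟩ := Group.mem_conjugatesOfSet_iff.1 hu
        rw [Set.mem_singleton_iff] at ha
        subst ha
        obtain ⟨c, hc⟩ := isConj_iff.1 hconj
        rw [← hc, conj_pow]
        have hxp : (⟨x, hxS⟩ : S) ^ p = 1 := Subtype.ext (by simpa using hx)
        rw [hxp]
        simp
      · exact ⟨T.one_mem, one_pow p⟩
      · intro u v _ _ hup hvp
        refine ⟨T.mul_mem hup.1 hvp.1, ?_⟩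
        have hle : Subgroup.closure ({(u : G), (v : G)} : Set G) ≤ K.map S.subtype := by
          rw [Subgroup.closure_le]
          intro g hg
          rcases hg with rfl | hg
          · exact ⟨u, hTK hup.1, rfl⟩
          · rw [Set.mem_singleton_iff] at hg
            subst hg
            exact ⟨v, hTK hvp.1, rfl⟩
        have hlt : Nat.card (Subgroup.closure ({(u : G), (v : G)} : Set G)) < N := by
          calc Nat.card (Subgroup.closure ({(u : G), (v : G)} : Set G))
              ≤ Nat.card (K.map S.subtype) := Subgroup.card_le_of_le hle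
            _ = Nat.card K := Subgroup.card_subtype S K
            _ < N := hcardK
        have h5 := ih _ hlt (u : G) (v : G) rfl
          (by simpa using congrArg Subtype.val hup.2) (by simpa using congrArg Subtype.val hvp.2)
        exact Subtype.ext (by simpa using h5)
      · intro u _ hup
        refine ⟨T.inv_mem hup.1, ?_⟩
        rw [inv_pow, hup.2, inv_one]
    have hc := lcs_top_subtype_eq_bot S (p - 1) hcl
    have hM : ∀ k, 2 ≤ k → k ≤ p - 1 → ∀ a' ∈ gam S k,
        a' ^ (p.choose k) ∈ (⊥ : Subgroup S) := by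
      intro k hk2 hkp a' ha'
      have h1 : a' ∈ (⊤ : Subgroup S).lowerCentralSeries 1 :=
        Subgroup.lowerCentralSeries_antitone _ (by omega : 1 ≤ k - 1) ha'
      rw [Subgroup.top_lowerCentralSeries_one] at h1
      have h2 := hTexp a' (hcomT h1)
      obtain ⟨j, hj⟩ := Nat.Prime.dvd_choose_self hp.out (by omega : k ≠ 0)
        (by have := hp.out.pos; omega)
      rw [Subgroup.mem_bot, hj, pow_mul, h2, one_pow]
    obtain ⟨z, hz, heq⟩ := hall_petrescu_mem (p - 1) hc ⊥ p hM (⟨x, hxS⟩ : S) ⟨y, hyS⟩
    rw [Subgroup.mem_bot] at hz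
    have h6 := congrArg Subtype.val heq
    rw [hz] at h6
    simp only [Subgroup.coe_pow, Subgroup.coe_mul, mul_one] at h6
    rw [h6, hx, hy, one_mul]

/-- A finite `p`-group with `γ_{c+1} ≠ 1`, `c ≥ 1`, has order at least `p ^ (c + 2)`. -/
theorem card_ge_of_lcs_ne_bot {p : ℕ} [hp : Fact p.Prime] : ∀ (c : ℕ), 1 ≤ c →
    ∀ (G : Type u) [Group G] [Finite G], IsPGroup p G →
      (⊤ : Subgroup G).lowerCentralSeries c ≠ ⊥ → p ^ (c + 2) ≤ Nat.card G := by
  have hcenter : ∀ (G : Type u) [Group G] [Finite G], IsPGroup p G → Nontrivial G →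
      p ≤ Nat.card (center G) := by
    intro G _ _ hG hnt
    have := hG.center_nontrivial
    rcases (hG.to_subgroup (center G)).card_eq_or_dvd with h | h
    · exfalso
      have hbot := Subgroup.card_eq_one.1 h
      exact (Subgroup.nontrivial_iff_ne_bot _).1 this hbot
    · exact Nat.le_of_dvd Nat.card_pos h
  have hnt : ∀ (G : Type u) [Group G] (c : ℕ),
      (⊤ : Subgroup G).lowerCentralSeries c ≠ ⊥ → Nontrivial G := by
    intro G _ c hL
    by_contra hcon
    rw [not_nontrivial_iff_subsingleton] at hcon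
    exact hL (Subsingleton.elim _ _)
  intro c hc
  induction c, hc using Nat.le_induction with
  | base =>
    intro G _ _ hG hL
    have hntG := hnt G 1 hL
    have hZ := hcenter G hG hntG
    have hQp : IsPGroup p (G ⧸ center G) := hG.to_quotient (center G)
    obtain ⟨k, hk⟩ := hQp.exists_card_eq
    have hk2 : 2 ≤ k := by
      by_contra hlt
      have hcyc : IsCyclic (G ⧸ center G) := by
        rcases Nat.lt_or_ge k 1 with h0 | h1
        · have hk0 : k = 0 := by omega
          rw [hk0, pow_zero] at hk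
          have := (Nat.card_eq_one_iff_unique.1 hk).1
          exact isCyclic_of_subsingleton
        · have hk1 : k = 1 := by omega
          rw [hk1, pow_one] at hk
          exact isCyclic_of_prime_card hk
      apply hL
      rw [Subgroup.top_lowerCentralSeries_one, commutator_eq_bot_iff]
      exact MonoidHom.isMulCommutative_of_isCyclic_of_ker_le_center
        (QuotientGroup.mk' (center G)) (by rw [QuotientGroup.ker_mk'])
    have hcard := Subgroup.card_eq_card_quotient_mul_card_subgroup (center G)
    rw [hcard, hk]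
    calc p ^ (1 + 2) = p ^ 2 * p := by ring
      _ ≤ p ^ k * Nat.card (center G) :=
        Nat.mul_le_mul (Nat.pow_le_pow_right hp.out.pos hk2) hZ
  | succ c hc ih =>
    intro G _ _ hG hL
    have hntG := hnt G (c + 1) hL
    have hZ := hcenter G hG hntG
    have hQp : IsPGroup p (G ⧸ center G) := hG.to_quotient (center G)
    have hLQ : (⊤ : Subgroup (G ⧸ center G)).lowerCentralSeries c ≠ ⊥ := by
      intro hbot
      apply hL
      have h1 := Subgroup.map_lowerCentralSeries (⊤ : Subgroup G) (QuotientGroup.mk' (center G)) c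
      rw [Subgroup.map_top_of_surjective _ (QuotientGroup.mk'_surjective _), hbot,
        Subgroup.map_eq_bot_iff, QuotientGroup.ker_mk'] at h1
      rw [Subgroup.lowerCentralSeries_succ, eq_bot_iff]
      calc ⁅(⊤ : Subgroup G).lowerCentralSeries c, (⊤ : Subgroup G)⁆
          ≤ ⁅center G, (⊤ : Subgroup G)⁆ := Subgroup.commutator_mono h1 le_rfl
        _ = ⊥ := Subgroup.commutator_center_left _
    have h2 := ih (G ⧸ center G) hQp hLQ
    have hcard := Subgroup.card_eq_card_quotient_mul_card_subgroup (center G)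
    rw [hcard]
    calc p ^ (c + 1 + 2) = p ^ (c + 2) * p := by ring
      _ ≤ Nat.card (G ⧸ center G) * Nat.card (center G) := Nat.mul_le_mul h2 hZ

/-- **S3872.** -/
theorem min_not_exp_closed {G : Type u} [Group G] [Finite G] {p : ℕ} [hp : Fact p.Prime]
    (hG : IsPGroup p G)
    (hnc : ¬ (∃ H : Subgroup G, (H : Set G) = {g : G | g ^ p = 1}))
    (hsub : ∀ K : Subgroup G, K ≠ ⊤ → (∃ H : Subgroup ↥K, (H : Set ↥K) = {g : ↥K | g ^ p = 1}))
    (hquo : ∀ (N : Subgroup G) [N.Normal], N ≠ ⊥ →
      (∃ H : Subgroup (G ⧸ N), (H : Set (G ⧸ N)) = {g : (G ⧸ N) | g ^ p = 1})) :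
    (∃ x y : G, Subgroup.closure ({x, y} : Set G) = ⊤) ∧
      (⊤ : Subgroup G).lowerCentralSeries (p - 1) ≠ ⊥ ∧
      Monoid.exponent G = p ^ 2 ∧ IsCyclic ↥(Subgroup.center G) ∧ p ^ (p + 1) ≤ Nat.card G := by
  obtain ⟨x, y, hx, hy, hxy⟩ : ∃ x y : G, x ^ p = 1 ∧ y ^ p = 1 ∧ (x * y) ^ p ≠ 1 := by
    by_contra hcon
    simp only [not_exists, not_and, not_not] at hcon
    apply hnc
    exact ⟨{ carrier := {g : G | g ^ p = 1}
             mul_mem' := fun {a b} ha hb => hcon a b ha hb
             one_mem' := one_pow p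
             inv_mem' := fun {a} ha => by
               show a⁻¹ ^ p = 1
               rw [inv_pow, (show a ^ p = 1 from ha), inv_one] }, rfl⟩
  have hgen : Subgroup.closure ({x, y} : Set G) = ⊤ := by
    by_contra hne
    obtain ⟨H, hH⟩ := hsub _ hne
    have hxK : x ∈ Subgroup.closure ({x, y} : Set G) := Subgroup.subset_closure (by simp)
    have hyK : y ∈ Subgroup.closure ({x, y} : Set G) := Subgroup.subset_closure (by simp)
    have h1 : (⟨x, hxK⟩ : Subgroup.closure ({x, y} : Set G)) ∈ H := by
      have : (⟨x, hxK⟩ : Subgroup.closure ({x, y} : Set G)) ∈ (H : Set _) := by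
        rw [hH]
        exact Subtype.ext (by simpa using hx)
      exact this
    have h2 : (⟨y, hyK⟩ : Subgroup.closure ({x, y} : Set G)) ∈ H := by
      have : (⟨y, hyK⟩ : Subgroup.closure ({x, y} : Set G)) ∈ (H : Set _) := by
        rw [hH]
        exact Subtype.ext (by simpa using hy)
      exact this
    have h4 : ((⟨x, hxK⟩ : Subgroup.closure ({x, y} : Set G)) * ⟨y, hyK⟩) ∈ (H : Set _) :=
      H.mul_mem h1 h2
    rw [hH] at h4
    apply hxy
    have h5 := congrArg Subtype.val (show ((⟨x, hxK⟩ : Subgroup.closure ({x, y} : Set G)) *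
      ⟨y, hyK⟩) ^ p = 1 from h4)
    simpa using h5
  have hclass : (⊤ : Subgroup G).lowerCentralSeries (p - 1) ≠ ⊥ :=
    fun hcl => hxy (pow_mul_eq_one_of_class_lt hG hcl _ x y rfl hx hy)
  have hstar : ∀ (N : Subgroup G) [N.Normal], N ≠ ⊥ → ∀ g : G, g ^ p ∈ N := by
    intro N _ hN g
    obtain ⟨H, hH⟩ := hquo N hN
    have hle : Subgroup.closure ({x, y} : Set G) ≤ H.comap (QuotientGroup.mk' N) := by
      rw [Subgroup.closure_le]
      intro u hu
      have hup : u ^ p = 1 := by
        rcases hu with rfl | hu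
        · exact hx
        · rw [Set.mem_singleton_iff] at hu
          rw [hu]
          exact hy
      have : QuotientGroup.mk' N u ∈ (H : Set (G ⧸ N)) := by
        rw [hH]
        show (QuotientGroup.mk' N u) ^ p = 1
        rw [← map_pow, hup, map_one]
      exact this
    have hg : g ∈ H.comap (QuotientGroup.mk' N) := hle (hgen ▸ Subgroup.mem_top g)
    have hg' : QuotientGroup.mk' N g ∈ (H : Set (G ⧸ N)) := hg
    rw [hH] at hg'
    have hg'' : (QuotientGroup.mk' N g) ^ p = 1 := hg'
    rw [← map_pow] at hg''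
    exact (QuotientGroup.eq_one_iff _).1 hg''
  have hnt : Nontrivial G := ⟨⟨x * y, 1, fun h => hxy (by rw [h, one_pow])⟩⟩
  have hZnt := hG.center_nontrivial
  have hZbot : center G ≠ ⊥ := (Subgroup.nontrivial_iff_ne_bot _).1 hZnt
  -- central subgroups generated by one element are normal
  have hzn : ∀ a : G, a ∈ center G → (Subgroup.zpowers a).Normal := by
    intro a ha
    constructor
    intro n hn g
    obtain ⟨k, rfl⟩ := Subgroup.mem_zpowers_iff.1 hn
    have hc : Commute g (a ^ k) :=
      Commute.zpow_right (show Commute g a from Subgroup.mem_center_iff.1 ha g) k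
    rw [hc.eq, mul_inv_cancel_right]
    exact Subgroup.zpow_mem_zpowers a k
  -- an element of order p in the centre
  have hpdvd : p ∣ Nat.card (center G) := by
    rcases (hG.to_subgroup (center G)).card_eq_or_dvd with h | h
    · exact absurd (Subgroup.card_eq_one.1 h) hZbot
    · exact h
  obtain ⟨z₀, hz₀⟩ := exists_prime_orderOf_dvd_card' (G := center G) p hpdvd
  have hz₀o : orderOf (z₀ : G) = p := by rw [Subgroup.orderOf_coe]; exact hz₀
  have hz₀n := hzn (z₀ : G) z₀.2
  have hz₀b : Subgroup.zpowers (z₀ : G) ≠ ⊥ := by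
    rw [Ne, Subgroup.zpowers_eq_bot]
    intro h1
    rw [h1, orderOf_one] at hz₀o
    exact hp.out.one_lt.ne hz₀o
  have hpp : ∀ g : G, g ^ (p ^ 2) = 1 := by
    intro g
    have h1 := hstar (Subgroup.zpowers (z₀ : G)) hz₀b g
    obtain ⟨k, hk⟩ := Subgroup.mem_zpowers_iff.1 h1
    rw [pow_two, pow_mul, ← hk, ← zpow_natCast, ← zpow_mul, mul_comm, zpow_mul, zpow_natCast,
      ← hz₀o, pow_orderOf_eq_one, one_zpow]
  have hexp : Monoid.exponent G = p ^ 2 := by
    have hdvd := Monoid.exponent_dvd_of_forall_pow_eq_one hpp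
    obtain ⟨i, hi, hie⟩ := (Nat.dvd_prime_pow hp.out).1 hdvd
    rcases Nat.lt_or_ge i 2 with hlt | hge
    · exfalso
      apply hxy
      apply orderOf_dvd_iff_pow_eq_one.1
      refine (Monoid.order_dvd_exponent (x * y)).trans ?_
      rw [hie]
      calc p ^ i ∣ p ^ 1 := pow_dvd_pow p (by omega)
        _ = p := pow_one p
    · have : i = 2 := by omega
      rw [hie, this]
  -- the centre is cyclic
  obtain ⟨z, hz⟩ : ∃ z, z = (x * y) ^ p := ⟨_, rfl⟩
  have hz1 : z ≠ 1 := hz ▸ hxy
  have hzall : ∀ (N : Subgroup G) [N.Normal], N ≠ ⊥ → z ∈ N :=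
    fun N _ hN => hz ▸ hstar N hN (x * y)
  have hzp : z ^ p = 1 := by
    rw [hz, ← pow_mul, ← pow_two]
    exact hpp _
  have hzo : orderOf z = p := orderOf_eq_prime hzp hz1
  have hcyc : IsCyclic (center G) := by
    apply isCyclic_comm_pgroup (hG.to_subgroup (center G))
      (fun a b => Subtype.ext ((Subgroup.mem_center_iff.1 b.2) a.1))
    have hmem : ∀ a : {a : center G // a ^ p = 1}, ((a.1 : center G) : G) ∈ Subgroup.zpowers z := by
      intro a
      by_cases ha1 : ((a.1 : center G) : G) = 1
      · rw [ha1]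
        exact Subgroup.one_mem _
      · have hap : ((a.1 : center G) : G) ^ p = 1 := by
          have := congrArg Subtype.val a.2
          simpa using this
        have hao : orderOf ((a.1 : center G) : G) = p := orderOf_eq_prime hap ha1
        have han := hzn _ a.1.2
        have hab : Subgroup.zpowers ((a.1 : center G) : G) ≠ ⊥ := by
          rw [Ne, Subgroup.zpowers_eq_bot]
          exact ha1
        have hza := hzall _ hab
        have hle : Subgroup.zpowers z ≤ Subgroup.zpowers ((a.1 : center G) : G) := by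
          rw [Subgroup.zpowers_le]
          exact hza
        have heq : Subgroup.zpowers z = Subgroup.zpowers ((a.1 : center G) : G) := by
          apply Subgroup.eq_of_le_of_card_ge hle
          rw [Nat.card_zpowers, Nat.card_zpowers, hzo, hao]
        rw [heq]
        exact Subgroup.mem_zpowers _
    have hinj : Function.Injective (fun a : {a : center G // a ^ p = 1} =>
        (⟨((a.1 : center G) : G), hmem a⟩ : Subgroup.zpowers z)) := by
      intro a b hab
      have h1 := congrArg Subtype.val hab
      exact Subtype.ext (Subtype.ext h1)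
    calc Nat.card {a : center G // a ^ p = 1} ≤ Nat.card (Subgroup.zpowers z) :=
          Nat.card_le_card_of_injective _ hinj
      _ = p := by rw [Nat.card_zpowers, hzo]
  refine ⟨⟨x, y, hgen⟩, hclass, hexp, hcyc, ?_⟩
  have h2 := card_ge_of_lcs_ne_bot (p := p) (p - 1) (by have := hp.out.two_le; omega) G hG hclass
  have e : p - 1 + 2 = p + 1 := by have := hp.out.two_le; omega
  rw [e] at h2
  exact h2

end ExpClosed

end Cfsg.Agent.Lib.helper68
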