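import Cfsg.Agent.Lib.helper68.HallPet
import Cfsg.Prelude.Def_PLocal

set_option autoImplicit false

namespace Cfsg.Agent.Lib.helper68

open Subgroup
open scoped commutatorElement

section RegularP

variable {G : Type*} [Group G]

/-- `p ^ n ∣ (p ^ n).choose k` for `0 < k < p`. -/
lemma prime_pow_dvd_choose {p : ℕ} (hp : p.Prime) (n k : ℕ) (hk0 : 0 < k) (hkp : k < p) :
    p ^ n ∣ (p ^ n).choose k := by
  obtain ⟨N', hN'⟩ : ∃ N', p ^ n = N' + 1 := ⟨p ^ n - 1, by
    have := Nat.pos_of_ne_zero (pow_ne_zero n hp.ne_zero)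
    omega⟩
  obtain ⟨k', rfl⟩ : ∃ k', k = k' + 1 := ⟨k - 1, by omega⟩
  have h1 := Nat.add_one_mul_choose_eq N' k'
  have h2 : p ^ n ∣ (p ^ n).choose (k' + 1) * (k' + 1) := by
    rw [hN', ← h1]
    exact Dvd.intro _ rfl
  have hcop : (p ^ n).Coprime (k' + 1) := by
    apply Nat.Coprime.pow_left
    rw [Nat.Prime.coprime_iff_not_dvd hp]
    intro hd
    have := Nat.le_of_dvd (by omega) hd
    omega
  exact hcop.dvd_of_dvd_mul_right h2

/-- The subgroup `S` has class `< c + 1` if the whole group has. -/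
lemma lcs_top_subtype_eq_bot (S : Subgroup G) (c : ℕ)
    (hc : (⊤ : Subgroup G).lowerCentralSeries c = ⊥) :
    (⊤ : Subgroup S).lowerCentralSeries c = ⊥ := by
  have h1 := Subgroup.top_subtype_lowerCentralSeries S c
  have h2 : S.lowerCentralSeries c ≤ (⊤ : Subgroup G).lowerCentralSeries c :=
    Subgroup.lowerCentralSeries_mono c le_top
  rw [hc, le_bot_iff] at h2
  rw [h2] at h1
  exact (Subgroup.map_eq_bot_iff_of_injective _ S.subtype_injective).1 h1

/-- elements of `γ_k(S)`, `k ≥ 2`, lie in `[S, S]`. -/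
lemma coe_mem_commutator_of_mem_gam (S : Subgroup G) {k : ℕ} (hk : 2 ≤ k) {a : S}
    (ha : a ∈ gam S k) : (a : G) ∈ ⁅S, S⁆ := by
  have h1 : a ∈ (⊤ : Subgroup S).lowerCentralSeries 1 :=
    Subgroup.lowerCentralSeries_antitone _ (by omega : 1 ≤ k - 1) ha
  have h2 := Subgroup.top_subtype_lowerCentralSeries S 1
  have h3 : (a : G) ∈ ((⊤ : Subgroup S).lowerCentralSeries 1).map S.subtype :=
    Subgroup.mem_map_of_mem S.subtype h1
  rw [h2] at h3
  exact h3

/-- **A `p`-group of class less than `p` is regular.** (S4209) -/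
theorem regular_of_class_lt {p : ℕ} [hp : Fact p.Prime] (hG : IsPGroup p G)
    (hcl : (⊤ : Subgroup G).lowerCentralSeries (p - 1) = ⊥) : Cfsg.IsRegularPGroup p G := by
  refine ⟨hG, fun a b n => ?_⟩
  obtain ⟨S, hS⟩ : ∃ S : Subgroup G, S = Subgroup.closure ({a, b} : Set G) := ⟨_, rfl⟩
  rw [← hS]
  have haS : a ∈ S := hS ▸ Subgroup.subset_closure (by simp)
  have hbS : b ∈ S := hS ▸ Subgroup.subset_closure (by simp)
  have hc := lcs_top_subtype_eq_bot S (p - 1) hcl
  have hM : ∀ k, 2 ≤ k → k ≤ p - 1 → ∀ a' ∈ gam S k,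
      a' ^ ((p ^ n).choose k) ∈ (Cfsg.powerClosure p n ⁅S, S⁆).comap S.subtype := by
    intro k hk2 hkp a' ha'
    obtain ⟨j, hj⟩ := prime_pow_dvd_choose hp.out n k (by omega)
      (by have := hp.out.pos; omega)
    rw [Subgroup.mem_comap, hj, mul_comm, pow_mul]
    apply Subgroup.subset_closure
    refine ⟨(a' : G) ^ j, Subgroup.pow_mem _ (coe_mem_commutator_of_mem_gam S hk2 ha') _, ?_⟩
    simp
  obtain ⟨z, hz, heq⟩ := hall_petrescu_mem (p - 1) hc _ (p ^ n) hM (⟨a, haS⟩ : S) ⟨b, hbS⟩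
  refine ⟨(z : G), hz, ?_⟩
  have := congrArg Subtype.val heq
  simpa using this

end RegularP

end Cfsg.Agent.Lib.helper68
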