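import Mathlib
import Cfsg.Agent.Lib.helper2.BGDefs
import Cfsg.Agent.Lib.helper79.BFC4core

/-!
# S4504 (helper2 split), shared core of pieces J12 / J34 (helper68)

Central elements act as scalars in an irreducible representation; sums over the centre of a
function transforming by a multiplicative character of the centre.
-/

set_option autoImplicit false

open Cfsg
open scoped ComplexConjugate

namespace Cfsg.Agent.Lib.helper2.BG

variable {G : Type*} [Group G]

/-- A central element acts as a scalar of norm one (Schur). -/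
theorem helper68_central_scalar (χ : IrrCharacter G) (z : G) (hz : z ∈ Subgroup.center G)
    (hfin : 0 < orderOf z) :
    ∃ μ : ℂ, ‖μ‖ = 1 ∧ ∀ g : G, (χ : G → ℂ) (g * z) = μ * (χ : G → ℂ) g := by
  obtain ⟨n, ρ, hirr, hρ⟩ := χ.2
  have hcomm : ∀ g : G, ρ g * ρ z = ρ z * ρ g := by
    intro g
    rw [← map_mul, ← map_mul, (Subgroup.mem_center_iff.mp hz g)]
  obtain ⟨μ, hμ⟩ := Cfsg.Agent.Lib.helper2.BF.helper79_scalar_of_commute ρ hirr z hcomm
  have hψ1 : (χ : G → ℂ) 1 ≠ 0 := Cfsg.Agent.Lib.helper4.irr_degree_ne_zero χ.2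
  refine ⟨μ, ?_, fun g => ?_⟩
  · have hpow : ∀ j : ℕ, ρ (z ^ j) = (μ ^ j) • (LinearMap.id : (Fin n → ℂ) →ₗ[ℂ] (Fin n → ℂ)) := by
      intro j
      induction j with
      | zero =>
        rw [pow_zero, pow_zero, map_one, one_smul]
        rfl
      | succ j ih =>
        rw [pow_succ, map_mul, ih, hμ, pow_succ]
        ext v
        simp [mul_smul]
        ring
    have h1 := hpow (orderOf z)
    rw [pow_orderOf_eq_one, map_one] at h1
    have h2 := congrArg (LinearMap.trace ℂ (Fin n → ℂ)) h1
    rw [map_smul, smul_eq_mul] at h2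
    have h3 : LinearMap.trace ℂ (Fin n → ℂ) (LinearMap.id : (Fin n → ℂ) →ₗ[ℂ] (Fin n → ℂ))
        = (χ : G → ℂ) 1 := by
      rw [← hρ]
      unfold Representation.character
      rw [map_one]
      rfl
    have h4 : LinearMap.trace ℂ (Fin n → ℂ) (1 : Module.End ℂ (Fin n → ℂ)) = (χ : G → ℂ) 1 := h3
    rw [h3, h4] at h2
    have h5 : μ ^ orderOf z = 1 := by
      have : (μ ^ orderOf z - 1) * (χ : G → ℂ) 1 = 0 := by linear_combination -h2
      rcases mul_eq_zero.1 this with h6 | h6
      · exact sub_eq_zero.1 h6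
      · exact absurd h6 hψ1
    exact Complex.norm_eq_one_of_pow_eq_one h5 hfin.ne'
  · rw [← hρ]
    unfold Representation.character
    rw [map_mul, hμ, mul_smul_comm, map_smul, smul_eq_mul]
    rfl

/-- The central character `z ↦ χ z / χ 1`. -/
noncomputable def helper68_cc (χ : G → ℂ) (z : G) : ℂ := χ z / χ 1

variable [Fintype G]

theorem helper68_cc_spec (χ : IrrCharacter G) (z : G) (hz : z ∈ Subgroup.center G) :
    ‖helper68_cc (χ : G → ℂ) z‖ = 1 ∧
      ∀ g : G, (χ : G → ℂ) (g * z) = helper68_cc (χ : G → ℂ) z * (χ : G → ℂ) g := by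
  obtain ⟨μ, hμ1, hμ⟩ := helper68_central_scalar χ z hz (orderOf_pos z)
  have hψ1 : (χ : G → ℂ) 1 ≠ 0 := Cfsg.Agent.Lib.helper4.irr_degree_ne_zero χ.2
  have h1 : helper68_cc (χ : G → ℂ) z = μ := by
    unfold helper68_cc
    have := hμ 1
    rw [one_mul] at this
    rw [this]
    field_simp
  rw [h1]
  exact ⟨hμ1, hμ⟩

theorem helper68_cc_mul (χ : IrrCharacter G) (z z' : G) (hz : z ∈ Subgroup.center G)
    (hz' : z' ∈ Subgroup.center G) :
    helper68_cc (χ : G → ℂ) (z * z') = helper68_cc (χ : G → ℂ) z * helper68_cc (χ : G → ℂ) z' := by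
  have hψ1 : (χ : G → ℂ) 1 ≠ 0 := Cfsg.Agent.Lib.helper4.irr_degree_ne_zero χ.2
  have h2 := (helper68_cc_spec χ z' hz').2 z
  unfold helper68_cc at h2 ⊢
  rw [h2]
  field_simp

theorem helper68_cc_mul_conj (χ : IrrCharacter G) (z : G) (hz : z ∈ Subgroup.center G) :
    helper68_cc (χ : G → ℂ) z * conj (helper68_cc (χ : G → ℂ) z) = 1 := by
  have h := (helper68_cc_spec χ z hz).1
  rw [Complex.mul_conj, Complex.normSq_eq_norm_sq, h]
  norm_num

/-- Sum over the centre of a function transforming by a multiplicative function `ν`. -/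
theorem helper68_center_sum (F ν : G → ℂ) (h : G)
    (hmul : ∀ z ∈ Subgroup.center G, ∀ z' ∈ Subgroup.center G, ν (z * z') = ν z * ν z')
    (hF : ∀ z ∈ Subgroup.center G, F (h * z) = ν z * F h) :
    ((∀ z ∈ Subgroup.center G, ν z = 1) →
      ∑ z : G, Set.indicator ((Subgroup.center G : Subgroup G) : Set G) (fun z => F (h * z)) z
        = (Nat.card (Subgroup.center G) : ℂ) * F h) ∧
    ((∃ z₀ ∈ Subgroup.center G, ν z₀ ≠ 1) →
      ∑ z : G, Set.indicator ((Subgroup.center G : Subgroup G) : Set G) (fun z => F (h * z)) z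
        = 0) := by
  classical
  have hsum : ∑ z : G, Set.indicator ((Subgroup.center G : Subgroup G) : Set G)
        (fun z => F (h * z)) z
      = (∑ z ∈ Finset.univ.filter (fun z : G => z ∈ Subgroup.center G), ν z) * F h := by
    rw [Finset.sum_mul, Finset.sum_filter]
    refine Finset.sum_congr rfl (fun z _ => ?_)
    by_cases hz : z ∈ Subgroup.center G
    · rw [Set.indicator_of_mem (show z ∈ ((Subgroup.center G : Subgroup G) : Set G) from hz),
        if_pos hz, hF z hz]
    · rw [Set.indicator_of_notMem (show z ∉ ((Subgroup.center G : Subgroup G) : Set G) from hz),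
        if_neg hz]
  constructor
  · intro h1
    rw [hsum]
    have : ∑ z ∈ Finset.univ.filter (fun z : G => z ∈ Subgroup.center G), ν z
        = (Nat.card (Subgroup.center G) : ℂ) := by
      rw [Finset.sum_congr rfl (fun z hz => h1 z (Finset.mem_filter.mp hz).2)]
      rw [Finset.sum_const, nsmul_eq_mul, mul_one, Nat.card_eq_fintype_card,
        Fintype.card_subtype]
    rw [this]
  · rintro ⟨z₀, hz₀, hne⟩
    rw [hsum]
    have key : ν z₀ * ∑ z ∈ Finset.univ.filter (fun z : G => z ∈ Subgroup.center G), ν z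
        = ∑ z ∈ Finset.univ.filter (fun z : G => z ∈ Subgroup.center G), ν z := by
      rw [Finset.mul_sum]
      refine Finset.sum_bij (fun z _ => z₀ * z) ?_ ?_ ?_ ?_
      · intro z hz
        rw [Finset.mem_filter] at hz ⊢
        exact ⟨Finset.mem_univ _, Subgroup.mul_mem _ hz₀ hz.2⟩
      · intro a _ b _ hab
        exact mul_left_cancel hab
      · intro b hb
        rw [Finset.mem_filter] at hb
        refine ⟨z₀⁻¹ * b, ?_, by group⟩
        rw [Finset.mem_filter]
        exact ⟨Finset.mem_univ _, Subgroup.mul_mem _ (Subgroup.inv_mem _ hz₀) hb.2⟩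
      · intro z hz
        rw [Finset.mem_filter] at hz
        exact (hmul z₀ hz₀ z hz.2).symm
    have h0 : ∑ z ∈ Finset.univ.filter (fun z : G => z ∈ Subgroup.center G), ν z = 0 := by
      have h2 : (ν z₀ - 1) *
          ∑ z ∈ Finset.univ.filter (fun z : G => z ∈ Subgroup.center G), ν z = 0 := by
        rw [sub_mul, key, one_mul, sub_self]
      rcases mul_eq_zero.mp h2 with h3 | h3
      · exact absurd (sub_eq_zero.mp h3) hne
      · exact h3
    rw [h0, zero_mul]

end Cfsg.Agent.Lib.helper2.BG
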