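import Cfsg.Agent.Lib.helper68.W2PDefs

/-! # S0720, piece A1: counting lemmas in a scheme -/

set_option autoImplicit false

namespace Cfsg.Agent.Lib.helper68.W2P

open Finset
open scoped Classical

variable {p : ℕ} [Fact p.Prime] {ι : Type*}

section A1
variable (D : Scheme p ι)

theorem col_add (t x y : ZMod p) (j k : Fin 2) :
    D.col (x + t, j) (y + t, k) = D.col (x, j) (y, k) := by
  have h : ∀ n : ℕ, D.col (x + (n : ZMod p), j) (y + (n : ZMod p), k) = D.col (x, j) (y, k) := by
    intro n
    induction n with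
    | zero => simp
    | succ n ih => rw [Nat.cast_succ, ← add_assoc, ← add_assoc, D.shift]; exact ih
  have := h t.val
  simpa using this

theorem col_shift (x y : ZMod p) (j k : Fin 2) :
    D.col (x, j) (y, k) = D.col (0, j) (y - x, k) := by
  have := col_add D x 0 (y - x) j k
  simpa using this

theorem tr_tr (j : ι) : D.tr (D.tr j) = j := by
  obtain ⟨ω, ω', rfl⟩ := D.surj j
  rw [← D.col_tr ω ω', ← D.col_tr ω' ω]

theorem col_i0 (ω : ZMod p × Fin 2) : D.col ω ω = D.i0 := (D.diag ω ω).mpr rfl

theorem tr_i0 : D.tr D.i0 = D.i0 := by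
  have := D.col_tr (0, 0) (0, 0)
  rw [col_i0] at this
  exact this.symm

theorem n_pos (j : ι) : 0 < D.n j := by
  obtain ⟨ω, ω', rfl⟩ := D.surj j
  rw [← D.valency _ ω]
  exact Finset.card_pos.mpr ⟨ω', by simp⟩

theorem card_pairs (i : ι) :
    ((univ : Finset ((ZMod p × Fin 2) × (ZMod p × Fin 2))).filter
      (fun q => D.col q.1 q.2 = i)).card = Fintype.card (ZMod p × Fin 2) * D.n i := by
  rw [Finset.card_filter, Fintype.sum_prod_type]
  have : ∀ a : ZMod p × Fin 2, (∑ b : ZMod p × Fin 2, if D.col a b = i then 1 else 0) = D.n i := by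
    intro a
    rw [← Finset.card_filter]
    exact D.valency i a
  simp only [this, Finset.sum_const, Finset.card_univ, smul_eq_mul]

theorem col_eq_tr_iff (j : ι) (ω ω' : ZMod p × Fin 2) :
    D.col ω' ω = D.tr j ↔ D.col ω ω' = j := by
  constructor
  · intro h
    rw [D.col_tr ω' ω, h, tr_tr]
  · intro h
    rw [D.col_tr ω ω', h]

theorem n_tr (j : ι) : D.n (D.tr j) = D.n j := by
  have h1 := card_pairs D j
  have h2 := card_pairs D (D.tr j)
  have h3 : ((univ : Finset ((ZMod p × Fin 2) × (ZMod p × Fin 2))).filter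
      (fun q => D.col q.1 q.2 = D.tr j)).card =
      ((univ : Finset ((ZMod p × Fin 2) × (ZMod p × Fin 2))).filter
      (fun q => D.col q.1 q.2 = j)).card := by
    apply Finset.card_equiv (Equiv.prodComm _ _)
    intro q
    simp only [mem_filter, mem_univ, true_and, Equiv.prodComm_apply, Prod.fst_swap, Prod.snd_swap]
    exact col_eq_tr_iff D j q.2 q.1
  rw [h1, h2] at h3
  have hpos : 0 < Fintype.card (ZMod p × Fin 2) := Fintype.card_pos
  exact Nat.eq_of_mul_eq_mul_left hpos h3

theorem card_S_add_card_R (j : ι) : (D.S j).card + (D.R j).card = D.n j := by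
  have h := D.valency j (0, 0)
  rw [Finset.card_filter, Fintype.sum_prod_type] at h
  simp only [Fin.sum_univ_two, Finset.sum_add_distrib] at h
  rw [← Finset.card_filter, ← Finset.card_filter] at h
  exact h

theorem card_R'_add_card_S' (j : ι) : (D.R' j).card + (D.S' j).card = D.n j := by
  have h := D.valency j (0, 1)
  rw [Finset.card_filter, Fintype.sum_prod_type] at h
  simp only [Fin.sum_univ_two, Finset.sum_add_distrib] at h
  rw [← Finset.card_filter, ← Finset.card_filter] at h
  exact h

theorem card_neg_filter (P : ZMod p → Prop) :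
    ((univ : Finset (ZMod p)).filter (fun s => P (-s))).card =
      ((univ : Finset (ZMod p)).filter (fun s => P s)).card := by
  apply Finset.card_equiv (Equiv.neg _)
  intro s
  simp

theorem card_S_add_card_R' (j : ι) : (D.S j).card + (D.R' j).card = D.n j := by
  -- in-valency at (0,0)
  have h : ((univ : Finset (ZMod p × Fin 2)).filter (fun ω => D.col ω (0, 0) = j)).card
      = D.n (D.tr j) := by
    rw [← D.valency (D.tr j) (0, 0)]
    congr 1
    ext ω
    simp only [mem_filter, mem_univ, true_and]
    exact (col_eq_tr_iff D j ω (0, 0)).symm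
  rw [n_tr, Finset.card_filter, Fintype.sum_prod_type] at h
  simp only [Fin.sum_univ_two, Finset.sum_add_distrib] at h
  rw [← Finset.card_filter, ← Finset.card_filter] at h
  have e1 : ((univ : Finset (ZMod p)).filter (fun s => D.col (s, 0) (0, 0) = j)).card
      = (D.S j).card := by
    have := card_neg_filter (fun s => D.col (0, 0) (s, 0) = j)
    unfold Scheme.S
    rw [← this]
    congr 1
    ext s
    simp only [mem_filter, mem_univ, true_and]
    rw [col_shift D s 0 0 0, zero_sub]
  have e2 : ((univ : Finset (ZMod p)).filter (fun s => D.col (s, 1) (0, 0) = j)).card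
      = (D.R' j).card := by
    have := card_neg_filter (fun s => D.col (0, 1) (s, 0) = j)
    unfold Scheme.R'
    rw [← this]
    congr 1
    ext s
    simp only [mem_filter, mem_univ, true_and]
    rw [col_shift D s 0 1 0, zero_sub]
  rw [e1, e2] at h
  exact h

theorem card_R' (j : ι) : (D.R' j).card = (D.R j).card := by
  have h1 := card_S_add_card_R' D j
  have h2 := card_S_add_card_R D j
  omega

theorem card_S' (j : ι) : (D.S' j).card = (D.S j).card := by
  have h1 := card_R'_add_card_S' D j
  have h2 := card_S_add_card_R D j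
  have h3 := card_R' D j
  omega

theorem card_S_tr (j : ι) : (D.S (D.tr j)).card = (D.S j).card := by
  have := card_neg_filter (fun s => D.col (0, 0) (s, 0) = j)
  unfold Scheme.S
  rw [← this]
  congr 1
  ext s
  simp only [mem_filter, mem_univ, true_and]
  rw [col_eq_tr_iff, col_shift D s 0 0 0, zero_sub]

theorem mu_tr (j : ι) : D.mu (D.tr j) = D.mu j := by
  have h1 := card_S_tr D j
  have h2 := card_S_add_card_R D j
  have h3 := card_S_add_card_R D (D.tr j)
  rw [n_tr] at h3
  unfold Scheme.mu
  omega

theorem S_i0 : D.S D.i0 = {0} := by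
  ext s
  simp only [Scheme.S, mem_filter, mem_univ, true_and, mem_singleton, D.diag, Prod.mk.injEq,
    and_true]
  exact eq_comm

theorem S'_i0 : D.S' D.i0 = {0} := by
  ext s
  simp only [Scheme.S', mem_filter, mem_univ, true_and, mem_singleton, D.diag, Prod.mk.injEq,
    and_true]
  exact eq_comm

theorem R_i0 : D.R D.i0 = ∅ := by
  ext s
  simp [Scheme.R, D.diag]

theorem n_i0 : D.n D.i0 = 1 := by
  have h := card_S_add_card_R D D.i0
  rw [S_i0, R_i0] at h
  simpa using h.symm

theorem mu_i0 : D.mu D.i0 = 1 := by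
  simp [Scheme.mu, S_i0, R_i0]

theorem zero_notMem_S (j : ι) (hj : j ≠ D.i0) : (0 : ZMod p) ∉ D.S j := by
  intro h
  simp only [Scheme.S, mem_filter, mem_univ, true_and] at h
  exact hj (h ▸ col_i0 D (0, 0))

theorem zero_notMem_S' (j : ι) (hj : j ≠ D.i0) : (0 : ZMod p) ∉ D.S' j := by
  intro h
  simp only [Scheme.S', mem_filter, mem_univ, true_and] at h
  exact hj (h ▸ col_i0 D (0, 1))

theorem S_disjoint (i j : ι) (h : i ≠ j) : Disjoint (D.S i) (D.S j) := by
  rw [Finset.disjoint_left]
  intro s hi hj
  simp only [Scheme.S, mem_filter, mem_univ, true_and] at hi hj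
  exact h (hi.symm.trans hj)

theorem S'_disjoint (i j : ι) (h : i ≠ j) : Disjoint (D.S' i) (D.S' j) := by
  rw [Finset.disjoint_left]
  intro s hi hj
  simp only [Scheme.S', mem_filter, mem_univ, true_and] at hi hj
  exact h (hi.symm.trans hj)

theorem sum_card_S [Fintype ι] : ∑ j, (D.S j).card = p := by
  have h := Finset.card_eq_sum_card_fiberwise (s := (univ : Finset (ZMod p)))
    (t := (univ : Finset ι)) (f := fun s => D.col (0, 0) (s, 0)) (fun _ _ => mem_univ _)
  rw [Finset.card_univ, ZMod.card] at h
  exact h.symm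

theorem sum_card_R [Fintype ι] : ∑ j, (D.R j).card = p := by
  have h := Finset.card_eq_sum_card_fiberwise (s := (univ : Finset (ZMod p)))
    (t := (univ : Finset ι)) (f := fun s => D.col (0, 0) (s, 1)) (fun _ _ => mem_univ _)
  rw [Finset.card_univ, ZMod.card] at h
  exact h.symm

theorem sum_mu [Fintype ι] : ∑ j, D.mu j = 0 := by
  unfold Scheme.mu
  rw [Finset.sum_sub_distrib, ← Nat.cast_sum, ← Nat.cast_sum, sum_card_S, sum_card_R, sub_self]

theorem exists_col_from_zero (j : ι) : ∃ ω' : ZMod p × Fin 2, D.col (0, 0) ω' = j := by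
  have h := n_pos D j
  rw [← D.valency j (0, 0)] at h
  obtain ⟨ω', hω'⟩ := Finset.card_pos.mp h
  exact ⟨ω', by simpa using hω'⟩

end A1

end Cfsg.Agent.Lib.helper68.W2P
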