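import Mathlib
import Cfsg.Agent.Lib.helper30.PCentral
import Cfsg.Agent.Lib.helper30.RankTwo

/-!
# Blackburn rank ≤ 2 : general lemmas (power formula, `p`-central groups)
-/

namespace Cfsg.Agent.Lib.helper68

universe u

/-- Moving a power of `d` across `s` when `s d s⁻¹ = d'`. -/
theorem blk_conj_pow_mul {G : Type*} [Group G] (s d d' : G) (h : s * d * s⁻¹ = d') (m : ℕ) :
    s * d ^ m = d' ^ m * s := by
  have : s * d ^ m * s⁻¹ = d' ^ m := by rw [← h, conj_pow]
  rw [← this]; group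

/-- **Power formula.**  If `s d s⁻¹ = d e`, `s e s⁻¹ = e z`, and `d, e, z` commute pairwise and `z`
commutes with `s`, then `(d s)^k = d^k e^(k choose 2) z^(k choose 3) s^k`. -/
theorem blk_pow_formula {G : Type*} [Group G] (s d e z : G) (h1 : s * d * s⁻¹ = d * e)
    (h2 : s * e * s⁻¹ = e * z) (hde : d * e = e * d) (hdz : d * z = z * d) (hez : e * z = z * e)
    (hsz : s * z = z * s) (k : ℕ) :
    (d * s) ^ k = d ^ k * e ^ (k.choose 2) * z ^ (k.choose 3) * s ^ k := by
  have cde : Commute d e := hde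
  have cdz : Commute d z := hdz
  have cez : Commute e z := hez
  have h3 : s * z * s⁻¹ = z := by rw [hsz]; group
  induction k with
  | zero => simp
  | succ k ih =>
    have hc2 : (k + 1).choose 2 = k + k.choose 2 := by
      rw [Nat.choose_succ_succ' k 1, Nat.choose_one_right]
    have hc3 : (k + 1).choose 3 = k.choose 2 + k.choose 3 := Nat.choose_succ_succ' k 2
    have e1 : s * d ^ k = (d * e) ^ k * s := blk_conj_pow_mul s d _ h1 k
    have e2 : s * e ^ (k.choose 2) = (e * z) ^ (k.choose 2) * s := blk_conj_pow_mul s e _ h2 _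
    have e3 : s * z ^ (k.choose 3) = z ^ (k.choose 3) * s := blk_conj_pow_mul s z _ h3 _
    calc (d * s) ^ (k + 1) = d * s * (d * s) ^ k := pow_succ' _ _
      _ = d * s * (d ^ k * e ^ (k.choose 2) * z ^ (k.choose 3) * s ^ k) := by rw [ih]
      _ = d * (s * d ^ k) * e ^ (k.choose 2) * z ^ (k.choose 3) * s ^ k := by group
      _ = d * ((d * e) ^ k * s) * e ^ (k.choose 2) * z ^ (k.choose 3) * s ^ k := by rw [e1]
      _ = d * (d * e) ^ k * (s * e ^ (k.choose 2)) * z ^ (k.choose 3) * s ^ k := by group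
      _ = d * (d * e) ^ k * ((e * z) ^ (k.choose 2) * s) * z ^ (k.choose 3) * s ^ k := by rw [e2]
      _ = d * (d * e) ^ k * (e * z) ^ (k.choose 2) * (s * z ^ (k.choose 3)) * s ^ k := by group
      _ = d * (d * e) ^ k * (e * z) ^ (k.choose 2) * (z ^ (k.choose 3) * s) * s ^ k := by rw [e3]
      _ = d * (d ^ k * e ^ k) * (e ^ (k.choose 2) * z ^ (k.choose 2)) * z ^ (k.choose 3)
            * s ^ (k + 1) := by
          rw [cde.mul_pow, cez.mul_pow, pow_succ' s k]; group
      _ = d ^ (k + 1) * e ^ ((k + 1).choose 2) * z ^ ((k + 1).choose 3) * s ^ (k + 1) := by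
          rw [hc2, hc3, pow_succ' d k, pow_add e, pow_add z]
          have c1 : Commute (e ^ k) (e ^ (k.choose 2)) := (Commute.refl e).pow_pow _ _
          have c2 : Commute (z ^ (k.choose 2)) (z ^ (k.choose 3)) := (Commute.refl z).pow_pow _ _
          simp only [mul_assoc]

/-- `p ∣ p.choose 2` for odd `p`. -/
theorem blk_dvd_choose_two {p : ℕ} (hp : p.Prime) (hp2 : p ≠ 2) : p ∣ p.choose 2 := by
  apply Nat.Prime.dvd_choose_self hp (by norm_num)
  have := hp.two_le
  omega

/-- `p ∣ p.choose 3` for `p ≥ 5`. -/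
theorem blk_dvd_choose_three {p : ℕ} (hp : p.Prime) (hp2 : p ≠ 2) (hp3 : p ≠ 3) :
    p ∣ p.choose 3 := by
  apply Nat.Prime.dvd_choose_self hp (by norm_num)
  have := hp.two_le
  omega

/-- If `x^p = 1` and `p ∣ m` then `x^m = 1`. -/
theorem blk_pow_eq_one_of_dvd {G : Type*} [Monoid G] {x : G} {p m : ℕ} (hx : x ^ p = 1)
    (h : p ∣ m) : x ^ m = 1 := by
  obtain ⟨k, rfl⟩ := h
  rw [pow_mul, hx, one_pow]

/-- **`p`-central lemma.**  In a finite `p`-group (`p` odd) in which all elements of order dividing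
`p` are central, `x^p = y^p` implies `(x⁻¹ y)^p = 1`. -/
theorem blk_pcentral_pow_eq (p : ℕ) [Fact p.Prime] (hp : p ≠ 2) :
    ∀ (k : ℕ) (R : Type u) [Group R] [Finite R], IsPGroup p R →
      (∀ x : R, x ^ p = 1 → x ∈ Subgroup.center R) →
      ∀ x y : R, x ^ (p ^ k) = 1 → x ^ p = y ^ p → (x⁻¹ * y) ^ p = 1 := by
  have hpp : p.Prime := Fact.out
  intro k
  induction k with
  | zero =>
    intro R _ _ hR hc x y hx hxy
    rw [pow_zero, pow_one] at hx
    subst hx
    rw [inv_one, one_mul, ← hxy, one_pow]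
  | succ k ih =>
    intro R _ _ hR hc x y hx hxy
    have hnil : Group.IsNilpotent R := hR.isNilpotent
    -- the subgroup of elements of order dividing p
    let E : Subgroup R :=
      { carrier := {x | x ^ p = 1}
        mul_mem' := by
          intro a b ha hb
          have hca : Commute a b := (Subgroup.mem_center_iff.mp (hc a ha) b).symm
          show (a * b) ^ p = 1
          rw [hca.mul_pow, show a ^ p = 1 from ha, show b ^ p = 1 from hb, one_mul]
        one_mem' := one_pow p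
        inv_mem' := by
          intro a ha
          show (a⁻¹) ^ p = 1
          rw [inv_pow, show a ^ p = 1 from ha, inv_one] }
    have hEmem : ∀ a : R, a ∈ E ↔ a ^ p = 1 := fun a => Iff.rfl
    have hEc : E ≤ Subgroup.center R := fun a ha => hc a ((hEmem a).mp ha)
    have hEn : E.Normal := by
      refine ⟨fun a ha g => ?_⟩
      rw [hEmem] at ha ⊢
      rw [conj_pow, ha, mul_one, mul_inv_cancel]
    obtain ⟨Eb, hEb1, hEb2, -, -⟩ := Cfsg.Agent.Lib.helper30.pcentral_quotient p hp hR E hEc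
      (fun a ha => (hEmem a).mpr ha) (fun a ha => (hEmem a).mp ha)
    have hQ : IsPGroup p (R ⧸ E) := hR.to_quotient E
    have hx' : ((x : R ⧸ E)) ^ (p ^ k) = 1 := by
      rw [← QuotientGroup.mk_pow, QuotientGroup.eq_one_iff, hEmem, ← pow_mul, ← pow_succ]
      exact hx
    have hxy' : ((x : R ⧸ E)) ^ p = ((y : R ⧸ E)) ^ p := by
      rw [← QuotientGroup.mk_pow, ← QuotientGroup.mk_pow, hxy]
    have h1 := ih (R ⧸ E) hQ (fun a ha => hEb1 (hEb2 a ha)) (x : R ⧸ E) (y : R ⧸ E) hx' hxy'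
    rw [← QuotientGroup.mk_inv, ← QuotientGroup.mk_mul, ← QuotientGroup.mk_pow,
      QuotientGroup.eq_one_iff, hEmem] at h1
    -- w = x⁻¹ y has order dividing p²
    set w : R := x⁻¹ * y with hw
    have hw2 : w ^ (p ^ 2) = 1 := by rw [pow_two, pow_mul]; exact h1
    have hT := Cfsg.Agent.Lib.helper30.pcentral_comm_pow p hp hc w x hw2
    set c : R := w * x * w⁻¹ * x⁻¹ with hcdef
    have hcp : c ^ p = 1 := by
      have : c = (x * w * x⁻¹ * w⁻¹)⁻¹ := by rw [hcdef]; group
      rw [this, inv_pow, hT, inv_one]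
    have hcc := hc c hcp
    have hyx : y = x * w := by rw [hw]; group
    have hmul : w * x = c * (x * w) := by rw [hcdef]; group
    have hpow := Cfsg.Agent.S1443.mul_pow_of_comm_central x w c hmul
      (Subgroup.mem_center_iff.mp hcc x).symm (Subgroup.mem_center_iff.mp hcc w).symm p
    have hodd : 2 ∣ p - 1 := by
      obtain ⟨j, hj⟩ := hpp.odd_of_ne_two hp
      exact ⟨j, by omega⟩
    have h3 : c ^ (p * (p - 1) / 2) = 1 := by
      rw [Nat.mul_div_assoc p hodd, pow_mul, hcp, one_pow]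
    rw [h3, mul_one, ← hyx, ← hxy] at hpow
    exact (mul_eq_left).mp hpow.symm

/-- `p`-central lemma, without the order hypothesis. -/
theorem blk_pcentral_pow_eq' (p : ℕ) [Fact p.Prime] (hp : p ≠ 2) {R : Type u} [Group R] [Finite R]
    (hR : IsPGroup p R) (hc : ∀ x : R, x ^ p = 1 → x ∈ Subgroup.center R) (x y : R)
    (hxy : x ^ p = y ^ p) : (x⁻¹ * y) ^ p = 1 := by
  obtain ⟨k, hk⟩ := hR x
  exact blk_pcentral_pow_eq p hp k R hR hc x y hk hxy

/-- Counting `p`-th powers in a `p`-central group: the `p`-power map has fibres inside cosets of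
`E ⊇ Ω₁`. -/
theorem blk_pcentral_card_le (p : ℕ) [Fact p.Prime] (hp : p ≠ 2) {R : Type u} [Group R] [Finite R]
    (hR : IsPGroup p R) (hc : ∀ x : R, x ^ p = 1 → x ∈ Subgroup.center R) (E : Subgroup R)
    (hE : ∀ x : R, x ^ p = 1 → x ∈ E) :
    Nat.card R ≤ Nat.card E * Set.ncard {y : R | ∃ g : R, y = g ^ p} := by
  classical
  have := Fintype.ofFinite R
  have h1 := Finset.card_le_mul_card_image (f := fun g : R => g ^ p) (Finset.univ : Finset R)
    (Nat.card E) (by
      intro b hb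
      rw [Finset.mem_image] at hb
      obtain ⟨g₀, -, rfl⟩ := hb
      have hsub : (Finset.univ.filter (fun a : R => a ^ p = g₀ ^ p)) ⊆
          Finset.image (fun e : ↥E => g₀ * (e : R)) (Finset.univ : Finset ↥E) := by
        intro a ha
        rw [Finset.mem_filter] at ha
        rw [Finset.mem_image]
        refine ⟨⟨g₀⁻¹ * a, hE _ (blk_pcentral_pow_eq' p hp hR hc g₀ a ha.2.symm)⟩,
          Finset.mem_univ _, ?_⟩
        simp
      calc (Finset.univ.filter (fun a : R => a ^ p = g₀ ^ p)).card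
          ≤ (Finset.image (fun e : ↥E => g₀ * (e : R)) (Finset.univ : Finset ↥E)).card :=
            Finset.card_le_card hsub
        _ ≤ (Finset.univ : Finset ↥E).card := Finset.card_image_le
        _ = Nat.card E := by rw [Finset.card_univ, Nat.card_eq_fintype_card])
  have h2 : {y : R | ∃ g : R, y = g ^ p} = ↑((Finset.univ : Finset R).image (fun g : R => g ^ p)) := by
    ext y
    simp only [Set.mem_ofPred_eq, Finset.coe_image, Finset.coe_univ, Set.image_univ, Set.mem_range]
    constructor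
    · rintro ⟨g, rfl⟩; exact ⟨g, rfl⟩
    · rintro ⟨g, rfl⟩; exact ⟨g, rfl⟩
  rw [h2, Set.ncard_coe_finset, Nat.card_eq_fintype_card, ← Finset.card_univ]
  exact h1

/-- A nontrivial element of a subgroup of prime order generates it. -/
theorem blk_prime_gen {G : Type*} [Group G] {p : ℕ} [Fact p.Prime] (Z : Subgroup G)
    (hZ : Nat.card Z = p) (w : G) (hw : w ∈ Z) (hw1 : w ≠ 1) :
    ∀ ζ ∈ Z, ∃ j : ℕ, j < p ∧ ζ = w ^ j := by
  have hpp : p.Prime := Fact.out
  intro ζ hζ
  have hfin : Finite ↥Z := Nat.finite_of_card_ne_zero (by rw [hZ]; exact hpp.ne_zero)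
  have h1 : Subgroup.zpowers (⟨w, hw⟩ : ↥Z) = ⊤ :=
    zpowers_eq_top_of_prime_card hZ (by intro h; exact hw1 (congrArg Subtype.val h))
  have h2 : (⟨ζ, hζ⟩ : ↥Z) ∈ Subgroup.zpowers (⟨w, hw⟩ : ↥Z) := by rw [h1]; exact Subgroup.mem_top _
  rw [← mem_powers_iff_mem_zpowers] at h2
  obtain ⟨j, hj⟩ := h2
  have hj' : w ^ j = ζ := by
    have := congrArg Subtype.val hj
    simpa using this
  have hwp : w ^ p = 1 := by
    have h3 : (⟨w, hw⟩ : ↥Z) ^ p = 1 := by
      rw [← hZ]; exact pow_card_eq_one'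
    have := congrArg Subtype.val h3
    simpa using this
  refine ⟨j % p, Nat.mod_lt _ hpp.pos, ?_⟩
  rw [← hj']
  conv_lhs => rw [← Nat.div_add_mod j p]
  rw [pow_add, pow_mul, hwp, one_pow, one_mul]

/-- An element of a `p`-group with `c^p ≠ 1` has a power of order exactly `p²`. -/
theorem blk_exists_order_sq {G : Type*} [Group G] {p : ℕ} (hG : IsPGroup p G) (c : G)
    (hc : c ^ p ≠ 1) : ∃ m : ℕ, (c ^ m) ^ (p ^ 2) = 1 ∧ (c ^ m) ^ p ≠ 1 := by
  classical
  have hex : ∃ k : ℕ, c ^ (p ^ k) = 1 := hG c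
  have hmin : ∀ j, j < Nat.find hex → c ^ (p ^ j) ≠ 1 := fun j hj => Nat.find_min hex hj
  have hk := Nat.find_spec hex
  have h0 : Nat.find hex ≠ 0 := by
    intro h0
    rw [h0, pow_zero, pow_one] at hk
    rw [hk, one_pow] at hc
    exact hc rfl
  have h1 : Nat.find hex ≠ 1 := by
    intro h1
    rw [h1, pow_one] at hk
    exact hc hk
  obtain ⟨k', hk'⟩ : ∃ k', Nat.find hex = k' + 2 := ⟨Nat.find hex - 2, by omega⟩
  refine ⟨p ^ k', ?_, ?_⟩
  · rw [← pow_mul, ← pow_add, ← hk']; exact hk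
  · rw [← pow_mul, ← pow_succ]
    exact hmin (k' + 1) (by omega)

/-- If `g^j` and `g^p` lie in a subgroup and `p ∤ j`, then `g` lies in it. -/
theorem blk_mem_of_pow_mem {G : Type*} [Group G] {p : ℕ} [Fact p.Prime] (C : Subgroup G) (g : G)
    (j : ℕ) (hj : g ^ j ∈ C) (hp : g ^ p ∈ C) (hcop : ¬ p ∣ j) : g ∈ C := by
  have hpp : p.Prime := Fact.out
  have hco : Nat.gcd p j = 1 := (Nat.Prime.coprime_iff_not_dvd hpp).mpr hcop
  have hb := Nat.gcd_eq_gcd_ab p j
  rw [hco] at hb
  have : g = (g ^ p) ^ (Nat.gcdA p j) * (g ^ j) ^ (Nat.gcdB p j) := by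
    rw [← zpow_natCast g p, ← zpow_natCast g j, ← zpow_mul, ← zpow_mul, ← zpow_add, ← hb]
    simp
  rw [this]
  exact C.mul_mem (C.zpow_mem hp _) (C.zpow_mem hj _)

/-- Counting a subgroup all of whose elements are `s^i * k` with `i < r`, `k ∈ K`. -/
theorem blk_card_le_of_forall {G : Type*} [Group G] [Finite G] (H K : Subgroup G) (s : G) (r : ℕ)
    (h : ∀ g ∈ H, ∃ i : ℕ, i < r ∧ ∃ k ∈ K, g = s ^ i * k) : Nat.card H ≤ r * Nat.card K := by
  choose i hi k hk hg using h
  let f : ↥H → Fin r × ↥K := fun g => (⟨i g.1 g.2, hi g.1 g.2⟩, ⟨k g.1 g.2, hk g.1 g.2⟩)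
  have hf : Function.Injective f := by
    intro a b hab
    have h1 : i a.1 a.2 = i b.1 b.2 := by
      have := congrArg (fun t => (t.1 : ℕ)) hab
      simpa [f] using this
    have h2 : k a.1 a.2 = k b.1 b.2 := by
      have := congrArg (fun t => (t.2 : G)) hab
      simpa [f] using this
    apply Subtype.ext
    rw [hg a.1 a.2, hg b.1 b.2, h1, h2]
  have := Nat.card_le_card_of_injective f hf
  rwa [Nat.card_prod, Nat.card_fin] at this

end Cfsg.Agent.Lib.helper68
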