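import Mathlib
import Cfsg.Agent.Lib.helper68.Blk1
import Cfsg.Agent.Lib.helper30.OmegaCent
import Cfsg.Agent.Lib.helper3.PGroupFrattini
import Cfsg.Agent.Lib.helper3.PGroupNormal
import Cfsg.Prelude.Def_OddOrderLocal

/-!
# Huppert's criterion: `p` odd, `|G : ℧₁(G)| ≤ p²` implies `G` metacyclic
-/

namespace Cfsg.Agent.Lib.helper68

universe u

open Subgroup

/-- Internal form of "metacyclic": a normal cyclic subgroup `⟨x⟩` with `G = ⟨y⟩⟨x⟩`. -/
def MCyc (G : Type*) [Group G] : Prop :=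
  ∃ x y : G, (∀ g : G, g * x * g⁻¹ ∈ Subgroup.zpowers x) ∧ ∀ g : G, ∃ i j : ℕ, g = y ^ j * x ^ i

theorem MCyc.isMetacyclic {G : Type u} [Group G] (h : MCyc G) : Cfsg.IsMetacyclic G := by
  obtain ⟨x, y, hn, hg⟩ := h
  have hN : (Subgroup.zpowers x).Normal := by
    refine ⟨fun n hn' g => ?_⟩
    obtain ⟨k, rfl⟩ := Subgroup.mem_zpowers_iff.mp hn'
    have : g * x ^ k * g⁻¹ = (g * x * g⁻¹) ^ k := by rw [conj_zpow]
    rw [this]
    exact Subgroup.zpow_mem _ (hn g) k
  refine ⟨Subgroup.zpowers x, hN, inferInstance, ?_⟩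
  refine ⟨⟨(y : G ⧸ Subgroup.zpowers x), fun q => ?_⟩⟩
  induction q using QuotientGroup.induction_on with
  | H g =>
    obtain ⟨i, j, rfl⟩ := hg g
    refine Subgroup.mem_zpowers_iff.mpr ⟨j, ?_⟩
    rw [zpow_natCast, QuotientGroup.mk_mul, QuotientGroup.mk_pow]
    have : ((x ^ i : G) : G ⧸ Subgroup.zpowers x) = 1 := by
      rw [QuotientGroup.eq_one_iff]
      exact Subgroup.pow_mem _ (Subgroup.mem_zpowers x) i
    rw [this, mul_one]

/-- If generators commute modulo a normal subgroup `M`, then all commutators lie in `M`. -/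
theorem blk_comm_mem_of_gens {G : Type*} [Group G] (M : Subgroup G) [hM : M.Normal] (S : Set G)
    (hS : Subgroup.closure S = ⊤) (h : ∀ a ∈ S, ∀ b ∈ S, a * b * a⁻¹ * b⁻¹ ∈ M) :
    ∀ u v : G, u * v * u⁻¹ * v⁻¹ ∈ M := by
  have step1 : ∀ b ∈ S, ∀ u : G, u * b * u⁻¹ * b⁻¹ ∈ M := by
    intro b hb u
    have hu : u ∈ Subgroup.closure S := by rw [hS]; exact Subgroup.mem_top u
    induction hu using Subgroup.closure_induction with
    | mem a ha => exact h a ha b hb
    | one => simp
    | mul u u' _ _ ih ih' =>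
      have : (u * u') * b * (u * u')⁻¹ * b⁻¹
          = u * (u' * b * u'⁻¹ * b⁻¹) * u⁻¹ * (u * b * u⁻¹ * b⁻¹) := by group
      rw [this]
      exact M.mul_mem (hM.conj_mem _ ih' u) ih
    | inv u _ ih =>
      have : u⁻¹ * b * u⁻¹⁻¹ * b⁻¹ = u⁻¹ * (u * b * u⁻¹ * b⁻¹)⁻¹ * u⁻¹⁻¹ := by group
      rw [this]
      exact hM.conj_mem _ (M.inv_mem ih) u⁻¹
  intro u v
  have hv : v ∈ Subgroup.closure S := by rw [hS]; exact Subgroup.mem_top v
  induction hv using Subgroup.closure_induction with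
  | mem b hb => exact step1 b hb u
  | one => simp
  | mul v v' _ _ ih ih' =>
    have : u * (v * v') * u⁻¹ * (v * v')⁻¹
        = (u * v * u⁻¹ * v⁻¹) * (v * (u * v' * u⁻¹ * v'⁻¹) * v⁻¹) := by group
    rw [this]
    exact M.mul_mem ih (hM.conj_mem _ ih' v)
  | inv v _ ih =>
    have : u * v⁻¹ * u⁻¹ * v⁻¹⁻¹ = v⁻¹ * (u * v * u⁻¹ * v⁻¹)⁻¹ * v⁻¹⁻¹ := by group
    rw [this]
    exact hM.conj_mem _ (M.inv_mem ih) v⁻¹

/-- If `⟨x⟩` is normal and `G = ⟨x, y⟩` then every element is `y^j x^i`. -/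
theorem blk_mcyc_of_closure {G : Type*} [Group G] [Finite G] (x y : G)
    (hn : ∀ g : G, g * x * g⁻¹ ∈ Subgroup.zpowers x) (hxy : Subgroup.closure {x, y} = ⊤) :
    ∀ g : G, ∃ i j : ℕ, g = y ^ j * x ^ i := by
  have hmul : ∀ a b : G, (∃ i j : ℕ, a = y ^ j * x ^ i) → (∃ i j : ℕ, b = y ^ j * x ^ i) →
      ∃ i j : ℕ, a * b = y ^ j * x ^ i := by
    rintro a b ⟨i, j, rfl⟩ ⟨i', j', rfl⟩
    have h1 := hn (y ^ j')⁻¹
    rw [inv_inv, ← mem_powers_iff_mem_zpowers] at h1
    obtain ⟨m, hm⟩ := h1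
    have hm' : (y ^ j')⁻¹ * x * y ^ j' = x ^ m := hm.symm
    have h2 : (y ^ j')⁻¹ * x ^ i * y ^ j' = x ^ (m * i) := by
      rw [pow_mul, ← hm']
      have := conj_pow (a := (y ^ j')⁻¹) (b := x) (i := i)
      rw [inv_inv] at this
      exact this.symm
    refine ⟨m * i + i', j + j', ?_⟩
    rw [pow_add x, ← h2, pow_add y]
    group
  have hpow : ∀ a : G, (∃ i j : ℕ, a = y ^ j * x ^ i) → ∀ n : ℕ, ∃ i j : ℕ, a ^ n = y ^ j * x ^ i := by
    intro a ha n
    induction n with
    | zero => exact ⟨0, 0, by simp⟩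
    | succ n ih => rw [pow_succ]; exact hmul _ _ ih ha
  intro g
  have hg : g ∈ Subgroup.closure {x, y} := by rw [hxy]; exact Subgroup.mem_top g
  induction hg using Subgroup.closure_induction with
  | mem a ha =>
    rcases ha with rfl | rfl
    · exact ⟨1, 0, by simp⟩
    · exact ⟨0, 1, by simp⟩
  | one => exact ⟨0, 0, by simp⟩
  | mul a b _ _ iha ihb => exact hmul a b iha ihb
  | inv a _ iha =>
    have : a⁻¹ = a ^ (orderOf a - 1) := by
      rw [inv_eq_iff_mul_eq_one, ← pow_succ', Nat.sub_add_cancel (orderOf_pos a), pow_orderOf_eq_one]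
    rw [this]
    exact hpow a iha _

/-- In a `p`-group with `|G : ℧₁(G)| ≤ p²`, any `g ∉ ℧₁(G)` is part of a generating pair. -/
theorem blk_exists_gen_pair (p : ℕ) [Fact p.Prime] {G : Type*} [Group G] [Finite G]
    (hG : IsPGroup p G)
    (hidx : (Subgroup.closure {x : G | ∃ g : G, x = g ^ p}).index ≤ p ^ 2) (g : G)
    (hg : g ∉ Subgroup.closure {x : G | ∃ g : G, x = g ^ p}) :
    ∃ h : G, Subgroup.closure {g, h} = ⊤ := by
  set V := Subgroup.closure {x : G | ∃ g : G, x = g ^ p} with hV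
  have hVfr : V ≤ frattini G := by
    rw [hV, Subgroup.closure_le]
    rintro x ⟨g, rfl⟩
    exact Cfsg.Agent.Lib.helper3.pow_prime_mem_frattini hG g
  have hcardV : Nat.card V * V.index = Nat.card G := Subgroup.card_mul_index V
  set K₁ := Subgroup.closure {g} ⊔ V with hK₁
  have hgK₁ : g ∈ K₁ := (le_sup_left : Subgroup.closure {g} ≤ K₁) (Subgroup.subset_closure rfl)
  have hlt1 : V < K₁ := lt_of_le_of_ne le_sup_right (fun h => hg (h ▸ hgK₁))
  have h1 : p * Nat.card V ≤ Nat.card K₁ :=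
    Cfsg.Agent.Lib.helper30.pgroup_lt_card p V K₁ (hG.to_subgroup K₁) hlt1
  by_cases hK : K₁ = ⊤
  · refine ⟨g, ?_⟩
    have h2 : Subgroup.closure {g} ⊔ frattini G = ⊤ :=
      top_le_iff.mp (hK ▸ sup_le_sup_left hVfr _)
    have h3 := frattini_nongenerating h2
    rw [Set.pair_eq_singleton]
    exact h3
  · obtain ⟨h, hh⟩ : ∃ h, h ∉ K₁ := by
      by_contra hcon
      simp only [not_exists, not_not] at hcon
      exact hK (top_le_iff.mp (fun x _ => hcon x))
    refine ⟨h, ?_⟩
    set K₂ := Subgroup.closure {g, h} ⊔ V with hK₂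
    have hle : K₁ ≤ K₂ :=
      sup_le_sup_right (Subgroup.closure_mono (by intro a ha; rw [Set.mem_singleton_iff] at ha; rw [ha]; exact Set.mem_insert _ _)) V
    have hhK₂ : h ∈ K₂ :=
      (le_sup_left : Subgroup.closure {g, h} ≤ K₂) (Subgroup.subset_closure (by simp))
    have hlt2 : K₁ < K₂ := lt_of_le_of_ne hle (fun h' => hh (h' ▸ hhK₂))
    have h2 : p * Nat.card K₁ ≤ Nat.card K₂ :=
      Cfsg.Agent.Lib.helper30.pgroup_lt_card p K₁ K₂ (hG.to_subgroup K₂) hlt2
    have h3 : Nat.card K₂ = Nat.card G := by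
      apply le_antisymm (Subgroup.card_le_card_group K₂)
      calc Nat.card G = Nat.card V * V.index := hcardV.symm
        _ ≤ Nat.card V * p ^ 2 := Nat.mul_le_mul_left _ hidx
        _ = p * (p * Nat.card V) := by ring
        _ ≤ p * Nat.card K₁ := Nat.mul_le_mul_left _ h1
        _ ≤ Nat.card K₂ := h2
    have h4 : K₂ = ⊤ := Subgroup.eq_top_of_card_eq K₂ h3
    have h5 : Subgroup.closure {g, h} ⊔ frattini G = ⊤ :=
      top_le_iff.mp (h4 ▸ sup_le_sup_left hVfr _)
    exact frattini_nongenerating h5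

/-- **Huppert's criterion** (internal form).  A finite `p`-group, `p` odd, with
`|G : ℧₁(G)| ≤ p²` is metacyclic. -/
theorem blk_huppert (p : ℕ) [Fact p.Prime] (hp : p ≠ 2) :
    ∀ (n : ℕ) (G : Type u) [Group G] [Finite G], Nat.card G = n → IsPGroup p G →
      (Subgroup.closure {x : G | ∃ g : G, x = g ^ p}).index ≤ p ^ 2 → MCyc G := by
  have hpp : p.Prime := Fact.out
  have hodd : 2 ∣ p - 1 := by
    obtain ⟨j, hj⟩ := hpp.odd_of_ne_two hp
    exact ⟨j, by omega⟩
  intro n
  induction n using Nat.strong_induction_on with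
  | _ n ih =>
  intro G _ _ hn hG hidx
  set V := Subgroup.closure {x : G | ∃ g : G, x = g ^ p} with hV
  have hVn : V.Normal := by
    apply Cfsg.Agent.Lib.helper30.closure_normal_of_conj_mem
    rintro g x ⟨a, rfl⟩
    apply Subgroup.subset_closure
    exact ⟨g * a * g⁻¹, by rw [conj_pow]⟩
  have hVfr : V ≤ frattini G := by
    rw [hV, Subgroup.closure_le]
    rintro x ⟨g, rfl⟩
    exact Cfsg.Agent.Lib.helper3.pow_prime_mem_frattini hG g
  -- commutators lie in V
  have hcommV : ∀ a b : G, a * b * a⁻¹ * b⁻¹ ∈ V := by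
    have hQ : IsPGroup p (G ⧸ V) := hG.to_quotient V
    have hcard : Nat.card (G ⧸ V) = V.index := (Subgroup.index_eq_card V).symm
    obtain ⟨k, hk⟩ := IsPGroup.iff_card.mp hQ
    have hk2 : k ≤ 2 := by
      by_contra hcon
      have h1 : p ^ 3 ≤ p ^ k := Nat.pow_le_pow_right hpp.pos (by omega)
      have h2 : p ^ 2 < p ^ 3 := Nat.pow_lt_pow_right hpp.one_lt (by norm_num)
      rw [hcard] at hk
      omega
    have hcomm : ∀ a b : G ⧸ V, a * b = b * a := by
      interval_cases k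
      · have : Subsingleton (G ⧸ V) := (Nat.card_eq_one_iff_unique.mp (by rw [hk, pow_zero])).1
        intro a b; exact Subsingleton.elim _ _
      · have hcyc : IsCyclic (G ⧸ V) := isCyclic_of_prime_card (p := p) (by rw [hk, pow_one])
        intro a b
        exact (IsCyclic.isMulCommutative (α := G ⧸ V)).is_comm.comm a b
      · exact (IsPGroup.isMulCommutative_of_card_eq_prime_sq hk).is_comm.comm
    intro a b
    rw [← QuotientGroup.eq_one_iff]
    simp only [QuotientGroup.mk_mul, QuotientGroup.mk_inv]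
    rw [hcomm (a : G ⧸ V) b]; group
  let T : Set G := {w | ∃ a b g : G, w = (a * b * a⁻¹ * b⁻¹) * g * (a * b * a⁻¹ * b⁻¹)⁻¹ * g⁻¹} ∪
    {w | ∃ a b : G, w = (a * b * a⁻¹ * b⁻¹) ^ p}
  by_cases hT : ∀ w ∈ T, w = 1
  · -- class ≤ 2 with commutators of order dividing p
    have hcent : ∀ a b g : G, (a * b * a⁻¹ * b⁻¹) * g = g * (a * b * a⁻¹ * b⁻¹) := by
      intro a b g
      have h1 := hT _ (Or.inl ⟨a, b, g, rfl⟩)
      have h2 : (a * b * a⁻¹ * b⁻¹) * g * (a * b * a⁻¹ * b⁻¹)⁻¹ * g⁻¹ * (g * (a * b * a⁻¹ * b⁻¹))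
          = (a * b * a⁻¹ * b⁻¹) * g := by group
      rw [h1, one_mul] at h2
      exact h2.symm
    have hcp : ∀ a b : G, (a * b * a⁻¹ * b⁻¹) ^ p = 1 := fun a b => hT _ (Or.inr ⟨a, b, rfl⟩)
    have hmulpow : ∀ a b : G, (a * b) ^ p = a ^ p * b ^ p := by
      intro a b
      have hmul : b * a = (b * a * b⁻¹ * a⁻¹) * (a * b) := by group
      have h1 := Cfsg.Agent.S1443.mul_pow_of_comm_central a b (b * a * b⁻¹ * a⁻¹) hmul
        (hcent b a a) (hcent b a b) p
      rw [h1, Nat.mul_div_assoc p hodd, pow_mul, hcp, one_pow, mul_one]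
    have hVpow : ∀ v ∈ V, ∃ g : G, v = g ^ p := by
      intro v hv
      induction hv using Subgroup.closure_induction with
      | mem x hx => exact hx
      | one => exact ⟨1, by simp⟩
      | mul x y _ _ ihx ihy =>
        obtain ⟨a, rfl⟩ := ihx
        obtain ⟨b, rfl⟩ := ihy
        exact ⟨a * b, (hmulpow a b).symm⟩
      | inv x _ ihx =>
        obtain ⟨a, rfl⟩ := ihx
        exact ⟨a⁻¹, by rw [inv_pow]⟩
    by_cases hVtop : ∀ g : G, g ∈ V
    · have hfr : frattini G = ⊤ := top_le_iff.mp (fun g _ => hVfr (hVtop g))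
      have hbot : (⊥ : Subgroup G) = ⊤ := frattini_nongenerating (by rw [hfr]; simp)
      have htriv : ∀ g : G, g = 1 := fun g => by
        have : g ∈ (⊥ : Subgroup G) := by rw [hbot]; exact Subgroup.mem_top g
        exact Subgroup.mem_bot.mp this
      exact ⟨1, 1, fun g => by simp, fun g => ⟨0, 0, by rw [htriv g]; simp⟩⟩
    · simp only [not_forall] at hVtop
      obtain ⟨g₀, hg₀⟩ := hVtop
      obtain ⟨h₀, hgh⟩ := blk_exists_gen_pair p hG hidx g₀ hg₀
      set c := h₀ * g₀ * h₀⁻¹ * g₀⁻¹ with hc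
      have hccent : ∀ g : G, c * g = g * c := fun g => hcent h₀ g₀ g
      have hMn : (Subgroup.zpowers c).Normal := by
        refine ⟨fun m hm g => ?_⟩
        obtain ⟨k, rfl⟩ := Subgroup.mem_zpowers_iff.mp hm
        have h1 : Commute c g := hccent g
        have h2 : g * c ^ k * g⁻¹ = c ^ k := by
          rw [← (h1.zpow_left k).eq]; group
        rw [h2]
        exact Subgroup.zpow_mem_zpowers c k
      have hcomm : ∀ u v : G, u * v * u⁻¹ * v⁻¹ ∈ Subgroup.zpowers c := by
        apply blk_comm_mem_of_gens (Subgroup.zpowers c) {g₀, h₀} hgh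
        intro a ha b hb
        rcases ha with ha | ha <;> rcases hb with hb | hb
        · rw [ha, hb]; simp
        · have hb' : b = h₀ := hb
          have : a * b * a⁻¹ * b⁻¹ = c⁻¹ := by rw [hc, ha, hb']; group
          rw [this]
          exact Subgroup.inv_mem _ (Subgroup.mem_zpowers c)
        · have ha' : a = h₀ := ha
          rw [ha', hb]
          exact Subgroup.mem_zpowers c
        · have ha' : a = h₀ := ha
          have hb' : b = h₀ := hb
          rw [ha', hb']; simp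
      by_cases hc1 : c = 1
      · have hab : ∀ u v : G, u * v = v * u := by
          intro u v
          have h1 := hcomm u v
          rw [hc1, Subgroup.zpowers_one_eq_bot, Subgroup.mem_bot] at h1
          calc u * v = (u * v * u⁻¹ * v⁻¹) * (v * u) := by group
            _ = v * u := by rw [h1, one_mul]
        have hnorm : ∀ g : G, g * g₀ * g⁻¹ ∈ Subgroup.zpowers g₀ := by
          intro g
          rw [hab g g₀, mul_assoc, mul_inv_cancel, mul_one]
          exact Subgroup.mem_zpowers g₀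
        exact ⟨g₀, h₀, hnorm, blk_mcyc_of_closure g₀ h₀ hnorm hgh⟩
      · have hcV : c ∈ V := hcommV h₀ g₀
        obtain ⟨g', hg'c, hmax⟩ : ∃ g' : G, c ∈ Subgroup.zpowers g' ∧
            ∀ u : G, c ∈ Subgroup.zpowers u → orderOf u ≤ orderOf g' := by
          have hfin : Set.Finite {g : G | c ∈ Subgroup.zpowers g} := Set.toFinite _
          obtain ⟨g', hg', hmax⟩ := Set.exists_max_image {g : G | c ∈ Subgroup.zpowers g} orderOf
            hfin ⟨c, Subgroup.mem_zpowers c⟩
          exact ⟨g', hg', fun u hu => hmax u hu⟩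
        have hg'V : g' ∉ V := by
          intro hmem
          obtain ⟨u, hu⟩ := hVpow g' hmem
          have hcu : c ∈ Subgroup.zpowers u := by
            have h1 : Subgroup.zpowers g' ≤ Subgroup.zpowers u := by
              rw [Subgroup.zpowers_le, hu]
              exact Subgroup.pow_mem _ (Subgroup.mem_zpowers u) p
            exact h1 hg'c
          have h1 := hmax u hcu
          have hu1 : u ≠ 1 := by
            rintro rfl
            rw [one_pow] at hu
            rw [hu, Subgroup.zpowers_one_eq_bot, Subgroup.mem_bot] at hg'c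
            exact hc1 hg'c
          obtain ⟨k, hk⟩ := IsPGroup.iff_orderOf.mp hG u
          have hk0 : k ≠ 0 := by
            rintro rfl
            rw [pow_zero, orderOf_eq_one_iff] at hk
            exact hu1 hk
          have h2 : orderOf (u ^ p) = p ^ (k - 1) := by
            rw [orderOf_pow' u hpp.ne_zero, hk]
            have h3 : Nat.gcd (p ^ k) p = p := Nat.gcd_eq_right (dvd_pow_self p hk0)
            rw [h3]
            apply Nat.div_eq_of_eq_mul_left hpp.pos
            rw [← pow_succ, Nat.sub_add_cancel (Nat.one_le_iff_ne_zero.mpr hk0)]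
          rw [hu, h2, hk] at h1
          have h4 : p ^ (k - 1) < p ^ k := Nat.pow_lt_pow_right hpp.one_lt (by omega)
          omega
        obtain ⟨h', hgh'⟩ := blk_exists_gen_pair p hG hidx g' hg'V
        have hnorm : ∀ g : G, g * g' * g⁻¹ ∈ Subgroup.zpowers g' := by
          intro g
          have h1 : g * g' * g⁻¹ = (g * g' * g⁻¹ * g'⁻¹) * g' := by group
          rw [h1]
          have h2 : Subgroup.zpowers c ≤ Subgroup.zpowers g' := by
            rw [Subgroup.zpowers_le]; exact hg'c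
          exact Subgroup.mul_mem _ (h2 (hcomm g g')) (Subgroup.mem_zpowers g')
        exact ⟨g', h', hnorm, blk_mcyc_of_closure g' h' hnorm hgh'⟩
  · -- induction step: factor out a central subgroup of order p inside N₀
    simp only [not_forall] at hT
    obtain ⟨w₀, hw₀T, hw₀⟩ := hT
    set N₀ := Subgroup.closure T with hN₀
    have hN₀n : N₀.Normal := by
      apply Cfsg.Agent.Lib.helper30.closure_normal_of_conj_mem
      intro g x hx
      apply Subgroup.subset_closure
      rcases hx with ⟨a, b, k, rfl⟩ | ⟨a, b, rfl⟩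
      · left
        exact ⟨g * a * g⁻¹, g * b * g⁻¹, g * k * g⁻¹, by group⟩
      · right
        refine ⟨g * a * g⁻¹, g * b * g⁻¹, ?_⟩
        rw [← conj_pow]
        congr 1
        group
    have hN₀ne : N₀ ≠ ⊥ := by
      intro h
      have h1 : w₀ ∈ N₀ := Subgroup.subset_closure hw₀T
      rw [h, Subgroup.mem_bot] at h1
      exact hw₀ h1
    obtain ⟨z, hzN, hzc, hz1, hzp⟩ :=
      Cfsg.Agent.Lib.helper3.exists_central_of_normal_ne_bot hG N₀ hN₀ne
    set Z := Subgroup.zpowers z with hZ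
    have hZc : ∀ ζ ∈ Z, ∀ g : G, ζ * g = g * ζ := by
      intro ζ hζ g
      obtain ⟨k, rfl⟩ := Subgroup.mem_zpowers_iff.mp hζ
      have h1 : Commute z g := (Subgroup.mem_center_iff.mp hzc g).symm
      exact (h1.zpow_left k).eq
    have hZn : Z.Normal := by
      refine ⟨fun m hm g => ?_⟩
      have h1 : g * m * g⁻¹ = m := by rw [← hZc m hm g]; group
      rw [h1]; exact hm
    have hZcard : Nat.card Z = p := by
      rw [hZ, Nat.card_zpowers]; exact orderOf_eq_prime hzp hz1
    have hζp : ∀ ζ ∈ Z, ζ ^ p = 1 := by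
      intro ζ hζ
      obtain ⟨k, rfl⟩ := Subgroup.mem_zpowers_iff.mp hζ
      rw [← zpow_natCast, ← zpow_mul, mul_comm, zpow_mul, zpow_natCast, hzp, one_zpow]
    have hcardQ : Nat.card (G ⧸ Z) < n := by
      have h1 := Subgroup.card_eq_card_quotient_mul_card_subgroup Z
      rw [hn, hZcard] at h1
      have hpos : 0 < Nat.card (G ⧸ Z) := Nat.card_pos
      nlinarith [hpp.two_le]
    have hidxQ : (Subgroup.closure {x : G ⧸ Z | ∃ g : G ⧸ Z, x = g ^ p}).index ≤ p ^ 2 := by
      have h1 : V.map (QuotientGroup.mk' Z) ≤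
          Subgroup.closure {x : G ⧸ Z | ∃ g : G ⧸ Z, x = g ^ p} := by
        rw [hV, MonoidHom.map_closure]
        apply Subgroup.closure_mono
        rintro _ ⟨x, ⟨g, rfl⟩, rfl⟩
        exact ⟨(g : G ⧸ Z), by simp⟩
      have h2 := Subgroup.index_dvd_of_le h1
      have h3 := Subgroup.index_map_dvd V (QuotientGroup.mk'_surjective Z)
      have h4 : V.index ≠ 0 := Subgroup.index_ne_zero_of_finite
      exact le_trans (Nat.le_of_dvd (Nat.pos_of_ne_zero h4) (dvd_trans h2 h3)) hidx
    obtain ⟨xb, yb, hnb, hgb⟩ := ih _ hcardQ (G ⧸ Z) rfl (hG.to_quotient Z) hidxQ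
    obtain ⟨x, rfl⟩ := QuotientGroup.mk_surjective xb
    obtain ⟨y, rfl⟩ := QuotientGroup.mk_surjective yb
    have F1 : ∀ g : G, ∃ k : ℤ, ∃ ζ ∈ Z, g * x * g⁻¹ = x ^ k * ζ := by
      intro g
      have h1 := hnb (g : G ⧸ Z)
      obtain ⟨k, hk⟩ := Subgroup.mem_zpowers_iff.mp h1
      refine ⟨k, (x ^ k)⁻¹ * (g * x * g⁻¹), ?_, by group⟩
      rw [← QuotientGroup.eq]
      simpa using hk
    have F2 : ∀ g : G, ∃ i j : ℕ, ∃ ζ ∈ Z, g = y ^ j * x ^ i * ζ := by
      intro g
      obtain ⟨i, j, hij⟩ := hgb (g : G ⧸ Z)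
      refine ⟨i, j, (y ^ j * x ^ i)⁻¹ * g, ?_, by group⟩
      rw [← QuotientGroup.eq]
      simpa using hij.symm
    obtain ⟨k, ζ₀, hζ₀, hk⟩ := F1 y
    set c := y * x * y⁻¹ * x⁻¹ with hc
    have hcx : c = x ^ (k - 1) * ζ₀ := by
      rw [hc, hk, zpow_sub_one]
      have h1 := hZc ζ₀ hζ₀ x⁻¹
      rw [mul_assoc, h1]; group
    have hcxcomm : c * x = x * c := by
      rw [hcx]
      have h1 := hZc ζ₀ hζ₀ x
      calc x ^ (k - 1) * ζ₀ * x = x ^ (k - 1) * (ζ₀ * x) := by group
        _ = x ^ (k - 1) * (x * ζ₀) := by rw [h1]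
        _ = x * (x ^ (k - 1) * ζ₀) := by group
    have hyc : y * c * y⁻¹ = c ^ k := by
      have h1 : y * x * y⁻¹ = c * x := by rw [hc]; group
      have h2 : y * c * y⁻¹ = (y * x * y⁻¹) ^ (k - 1) * ζ₀ := by
        rw [conj_zpow]
        have h3 := hZc ζ₀ hζ₀ y⁻¹
        calc y * c * y⁻¹ = y * (x ^ (k - 1) * ζ₀) * y⁻¹ := by rw [← hcx]
          _ = y * x ^ (k - 1) * (ζ₀ * y⁻¹) := by group
          _ = y * x ^ (k - 1) * (y⁻¹ * ζ₀) := by rw [h3]
          _ = y * x ^ (k - 1) * y⁻¹ * ζ₀ := by group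
      rw [h2, h1, (show Commute c x from hcxcomm).mul_zpow, mul_assoc, ← hcx, ← zpow_add_one]
      congr 1
      ring
    have hMn : (Subgroup.zpowers c).Normal := by
      refine ⟨fun m hm g => ?_⟩
      obtain ⟨l, rfl⟩ := Subgroup.mem_zpowers_iff.mp hm
      rw [← conj_zpow]
      apply Subgroup.zpow_mem
      obtain ⟨i, j, ζ, hζ, rfl⟩ := F2 g
      have h1 : (y ^ j * x ^ i * ζ) * c * (y ^ j * x ^ i * ζ)⁻¹ = y ^ j * c * (y ^ j)⁻¹ := by
        have e1 : ζ * c = c * ζ := hZc ζ hζ c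
        have e2 : x ^ i * c = c * x ^ i := ((show Commute c x from hcxcomm).pow_right i).eq.symm
        calc (y ^ j * x ^ i * ζ) * c * (y ^ j * x ^ i * ζ)⁻¹
            = y ^ j * x ^ i * (ζ * c) * ζ⁻¹ * (x ^ i)⁻¹ * (y ^ j)⁻¹ := by group
          _ = y ^ j * (x ^ i * c) * (x ^ i)⁻¹ * (y ^ j)⁻¹ := by rw [e1]; group
          _ = y ^ j * c * (y ^ j)⁻¹ := by rw [e2]; group
      rw [h1]
      have h2 : ∀ j : ℕ, y ^ j * c * (y ^ j)⁻¹ ∈ Subgroup.zpowers c := by
        intro j
        induction j with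
        | zero => simp
        | succ j ihj =>
          have h3 : y ^ (j + 1) * c * (y ^ (j + 1))⁻¹ = y * (y ^ j * c * (y ^ j)⁻¹) * y⁻¹ := by
            rw [pow_succ']; group
          rw [h3]
          obtain ⟨l', hl'⟩ := Subgroup.mem_zpowers_iff.mp ihj
          rw [← hl', ← conj_zpow, hyc, ← zpow_mul]
          exact Subgroup.zpow_mem_zpowers c _
      exact h2 j
    have hS : Subgroup.closure ({x, y} ∪ (Z : Set G)) = ⊤ := by
      rw [eq_top_iff]
      intro g _
      obtain ⟨i, j, ζ, hζ, rfl⟩ := F2 g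
      exact Subgroup.mul_mem _ (Subgroup.mul_mem _
        (Subgroup.pow_mem _ (Subgroup.subset_closure (by simp)) j)
        (Subgroup.pow_mem _ (Subgroup.subset_closure (by simp)) i))
        (Subgroup.subset_closure (Or.inr hζ))
    have hcomm : ∀ u v : G, u * v * u⁻¹ * v⁻¹ ∈ Subgroup.zpowers c := by
      apply blk_comm_mem_of_gens (Subgroup.zpowers c) _ hS
      intro a ha b hb
      have hone : (1 : G) ∈ Subgroup.zpowers c := Subgroup.one_mem _
      rcases ha with ha | ha
      · rcases hb with hb | hb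
        · rcases ha with ha | ha <;> rcases hb with hb | hb
          · rw [ha, hb]; simp
          · have hb' : b = y := hb
            have h1 : a * b * a⁻¹ * b⁻¹ = c⁻¹ := by rw [hc, ha, hb']; group
            rw [h1]
            exact Subgroup.inv_mem _ (Subgroup.mem_zpowers c)
          · have ha' : a = y := ha
            rw [ha', hb]
            exact Subgroup.mem_zpowers c
          · have ha' : a = y := ha
            have hb' : b = y := hb
            rw [ha', hb']; simp
        · have h1 : a * b * a⁻¹ * b⁻¹ = 1 := by rw [← hZc b hb a]; group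
          rw [h1]; exact hone
      · have h1 : a * b * a⁻¹ * b⁻¹ = 1 := by rw [hZc a ha b]; group
        rw [h1]; exact hone
    have hgc : ∀ g : G, g * c * g⁻¹ * c⁻¹ ∈ Subgroup.zpowers (c ^ p) := by
      intro g
      by_cases hc1 : c = 1
      · rw [hc1]; simp
      have h1 := hMn.conj_mem c (Subgroup.mem_zpowers c) g
      rw [← mem_powers_iff_mem_zpowers] at h1
      obtain ⟨m, hm⟩ := h1
      have hm' : c ^ m = g * c * g⁻¹ := hm
      have hiter : ∀ j : ℕ, g ^ j * c * (g ^ j)⁻¹ = c ^ (m ^ j) := by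
        intro j
        induction j with
        | zero => simp
        | succ j ihj =>
          have h3 : g ^ (j + 1) * c * (g ^ (j + 1))⁻¹ = g * (g ^ j * c * (g ^ j)⁻¹) * g⁻¹ := by
            rw [pow_succ']; group
          rw [h3, ihj, ← conj_pow, ← hm', ← pow_mul, pow_succ']
      obtain ⟨r, hr⟩ := hG g
      have h2 := hiter (p ^ r)
      rw [hr, one_mul, inv_one, mul_one] at h2
      have h3 : m ^ (p ^ r) ≡ 1 [MOD orderOf c] := by
        rw [← pow_eq_pow_iff_modEq, pow_one]; exact h2.symm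
      have hpord : p ∣ orderOf c := by
        obtain ⟨k', hk'⟩ := IsPGroup.iff_orderOf.mp hG c
        rw [hk']
        apply dvd_pow_self
        rintro rfl
        rw [pow_zero, orderOf_eq_one_iff] at hk'
        exact hc1 hk'
      have h4 : m ^ (p ^ r) ≡ 1 [MOD p] := h3.of_dvd hpord
      have h5 : ∀ r : ℕ, (m : ZMod p) ^ (p ^ r) = (m : ZMod p) := by
        intro r
        induction r with
        | zero => simp
        | succ r ihr => rw [pow_succ, pow_mul, ihr, ZMod.pow_card]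
      have hm1 : (m : ZMod p) = 1 := by
        have h6 := (ZMod.natCast_eq_natCast_iff _ _ _).mpr h4
        rw [Nat.cast_pow, h5, Nat.cast_one] at h6
        exact h6
      have h7 : m ≡ 1 [MOD p] := by
        apply (ZMod.natCast_eq_natCast_iff _ _ _).mp
        rw [hm1, Nat.cast_one]
      have hm0 : 1 ≤ m := by
        rcases Nat.eq_zero_or_pos m with h0 | h0
        · exfalso
          rw [h0] at h7
          have h8 := (Nat.modEq_zero_iff_dvd.mp h7.symm)
          have := Nat.le_of_dvd (by norm_num) h8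
          have := hpp.two_le
          omega
        · exact h0
      obtain ⟨t, ht⟩ := (Nat.modEq_iff_dvd' hm0).mp h7.symm
      have hmt : m = 1 + p * t := by omega
      have h9 : g * c * g⁻¹ * c⁻¹ = (c ^ p) ^ t := by
        rw [← hm', hmt, pow_add, pow_one, pow_mul]; group
      rw [h9]
      exact Subgroup.pow_mem _ (Subgroup.mem_zpowers _) t
    have hN₀le : N₀ ≤ Subgroup.zpowers (c ^ p) := by
      rw [hN₀, Subgroup.closure_le]
      rintro w (⟨a, b, g, rfl⟩ | ⟨a, b, rfl⟩)
      · obtain ⟨l, hl⟩ := Subgroup.mem_zpowers_iff.mp (hcomm a b)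
        rw [SetLike.mem_coe, ← hl]
        obtain ⟨t, ht⟩ := Subgroup.mem_zpowers_iff.mp (hgc g)
        have e1 : g * c * g⁻¹ = (c ^ p) ^ t * c := by rw [ht]; group
        have e2 : g * c ^ l * g⁻¹ = ((c ^ p) ^ t * c) ^ l := by rw [← e1, conj_zpow]
        have e3 : Commute ((c ^ p) ^ t) c := ((Commute.refl c).pow_left p).zpow_left t
        rw [e3.mul_zpow] at e2
        have e4 : c ^ l * g * (c ^ l)⁻¹ * g⁻¹ = (((c ^ p) ^ t) ^ l)⁻¹ := by
          have e5 : c ^ l * g * (c ^ l)⁻¹ * g⁻¹ = c ^ l * (g * c ^ l * g⁻¹)⁻¹ := by group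
          rw [e5, e2]; group
        rw [e4]
        exact Subgroup.inv_mem _ (Subgroup.zpow_mem _ (Subgroup.zpow_mem _ (Subgroup.mem_zpowers _) t) l)
      · obtain ⟨l, hl⟩ := Subgroup.mem_zpowers_iff.mp (hcomm a b)
        have e1 : (c ^ l) ^ p = (c ^ p) ^ l := by
          rw [← zpow_natCast (c ^ l) p, ← zpow_mul, mul_comm, zpow_mul, zpow_natCast]
        rw [SetLike.mem_coe, ← hl, e1]
        exact Subgroup.zpow_mem_zpowers _ l
    have hzx : z ∈ Subgroup.zpowers x := by
      have h1 := hN₀le hzN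
      have h2 : c ^ p ∈ Subgroup.zpowers x := by
        rw [hcx, (show Commute (x ^ (k - 1)) ζ₀ from (hZc ζ₀ hζ₀ _).symm).mul_pow, hζp ζ₀ hζ₀,
          mul_one]
        exact Subgroup.pow_mem _ (Subgroup.zpow_mem_zpowers x _) p
      exact (Subgroup.zpowers_le.mpr h2) h1
    have hZx : ∀ ζ ∈ Z, ζ ∈ Subgroup.zpowers x := fun ζ hζ => (Subgroup.zpowers_le.mpr hzx) hζ
    refine ⟨x, y, ?_, ?_⟩
    · intro g
      obtain ⟨k', ζ, hζ, hk'⟩ := F1 g
      rw [hk']
      exact Subgroup.mul_mem _ (Subgroup.zpow_mem_zpowers x k') (hZx ζ hζ)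
    · intro g
      obtain ⟨i, j, ζ, hζ, rfl⟩ := F2 g
      have h1 := hZx ζ hζ
      rw [← mem_powers_iff_mem_zpowers] at h1
      obtain ⟨i', hi'⟩ := h1
      have hi'' : x ^ i' = ζ := hi'
      exact ⟨i + i', j, by rw [pow_add, ← hi'']; group⟩

end Cfsg.Agent.Lib.helper68
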