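import Mathlib
import Cfsg.Agent.Lib.helper68.Blk2
import Cfsg.Agent.Lib.helper59.UniqueOrderP

/-!
# `p`-central groups with small `Ω₁`; Suzuki's lemma on centralizers of order `p²`
-/

namespace Cfsg.Agent.Lib.helper68

universe u

open Subgroup

/-- In a `p`-central group, `|R| ≤ |E| · |℧₁(R)|` for `E ⊇ Ω₁(R)`. -/
theorem blk_pcentral_card_mho (p : ℕ) [Fact p.Prime] (hp : p ≠ 2) {R : Type u} [Group R] [Finite R]
    (hR : IsPGroup p R) (hc : ∀ x : R, x ^ p = 1 → x ∈ Subgroup.center R) (E : Subgroup R)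
    (hE : ∀ x : R, x ^ p = 1 → x ∈ E) :
    Nat.card R ≤ Nat.card E * Nat.card (Subgroup.closure {y : R | ∃ g : R, y = g ^ p}) := by
  have h1 := blk_pcentral_card_le p hp hR hc E hE
  have h2 : Set.ncard {y : R | ∃ g : R, y = g ^ p} ≤
      Nat.card (Subgroup.closure {y : R | ∃ g : R, y = g ^ p}) := by
    have h3 : Set.ncard {y : R | ∃ g : R, y = g ^ p} ≤
        Set.ncard ((Subgroup.closure {y : R | ∃ g : R, y = g ^ p} : Subgroup R) : Set R) :=
      Set.ncard_le_ncard Subgroup.subset_closure (Set.toFinite _)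
    exact le_trans h3 (le_of_eq (Nat.card_coe_set_eq _).symm)
  exact le_trans h1 (Nat.mul_le_mul_left _ h2)

/-- In a `p`-central group, `|R : ℧₁(R)| ≤ |E|` for `E ⊇ Ω₁(R)`. -/
theorem blk_pcentral_index_mho (p : ℕ) [Fact p.Prime] (hp : p ≠ 2) {R : Type u} [Group R] [Finite R]
    (hR : IsPGroup p R) (hc : ∀ x : R, x ^ p = 1 → x ∈ Subgroup.center R) (E : Subgroup R)
    (hE : ∀ x : R, x ^ p = 1 → x ∈ E) :
    (Subgroup.closure {y : R | ∃ g : R, y = g ^ p}).index ≤ Nat.card E := by
  have h1 := blk_pcentral_card_mho p hp hR hc E hE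
  have h2 := Subgroup.card_mul_index (Subgroup.closure {y : R | ∃ g : R, y = g ^ p})
  rw [← h2, mul_comm (Nat.card E)] at h1
  exact Nat.le_of_mul_le_mul_left h1 Nat.card_pos

/-- A `p`-central `p`-group (`p` odd) with `|Ω₁| ≤ p²` is metacyclic. -/
theorem blk_pcentral_mcyc (p : ℕ) [Fact p.Prime] (hp : p ≠ 2) {R : Type u} [Group R] [Finite R]
    (hR : IsPGroup p R) (hc : ∀ x : R, x ^ p = 1 → x ∈ Subgroup.center R) (E : Subgroup R)
    (hE : ∀ x : R, x ^ p = 1 → x ∈ E) (hEcard : Nat.card E ≤ p ^ 2) : MCyc R :=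
  blk_huppert p hp _ R rfl hR (le_trans (blk_pcentral_index_mho p hp hR hc E hE) hEcard)

/-- In a non-cyclic `p`-central `p`-group with `|Ω₁| ≤ p²`, every element of `℧₁` is a `p`-th
power. -/
theorem blk_pcentral_mho_pow (p : ℕ) [Fact p.Prime] (hp : p ≠ 2) {R : Type u} [Group R] [Finite R]
    (hR : IsPGroup p R) (hc : ∀ x : R, x ^ p = 1 → x ∈ Subgroup.center R) (E : Subgroup R)
    (hE : ∀ x : R, x ^ p = 1 → x ∈ E) (hEcard : Nat.card E ≤ p ^ 2) (hncyc : ¬ IsCyclic R) :
    ∀ u ∈ Subgroup.closure {y : R | ∃ g : R, y = g ^ p}, ∃ g : R, u = g ^ p := by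
  have hpp : p.Prime := Fact.out
  set V := Subgroup.closure {y : R | ∃ g : R, y = g ^ p} with hV
  have hVfr : V ≤ frattini R := by
    rw [hV, Subgroup.closure_le]
    rintro x ⟨g, rfl⟩
    exact Cfsg.Agent.Lib.helper3.pow_prime_mem_frattini hR g
  have hex : ∃ g : R, g ∉ V := by
    by_contra hcon
    simp only [not_exists, not_not] at hcon
    have hfr : frattini R = ⊤ := top_le_iff.mp (fun g _ => hVfr (hcon g))
    have hbot : (⊥ : Subgroup R) = ⊤ := frattini_nongenerating (by rw [hfr]; simp)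
    have htriv : ∀ g : R, g = 1 := fun g => by
      have : g ∈ (⊥ : Subgroup R) := by rw [hbot]; exact Subgroup.mem_top g
      exact Subgroup.mem_bot.mp this
    have : Subsingleton R := ⟨fun a b => by rw [htriv a, htriv b]⟩
    exact hncyc isCyclic_of_subsingleton
  obtain ⟨g, hg⟩ := hex
  set K₁ := Subgroup.closure {g} ⊔ V with hK₁
  have hgK₁ : g ∈ K₁ := (le_sup_left : Subgroup.closure {g} ≤ K₁) (Subgroup.subset_closure rfl)
  have hlt1 : V < K₁ := lt_of_le_of_ne le_sup_right (fun h => hg (h ▸ hgK₁))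
  have h1 : p * Nat.card V ≤ Nat.card K₁ :=
    Cfsg.Agent.Lib.helper30.pgroup_lt_card p V K₁ (hR.to_subgroup K₁) hlt1
  have hK₁top : K₁ ≠ ⊤ := by
    intro hK
    have h2 : Subgroup.closure {g} ⊔ frattini R = ⊤ :=
      top_le_iff.mp (hK ▸ sup_le_sup_left hVfr _)
    have h3 := frattini_nongenerating h2
    rw [← Subgroup.zpowers_eq_closure] at h3
    exact hncyc (isCyclic_iff_exists_zpowers_eq_top.mpr ⟨g, h3⟩)
  have h2 : p * Nat.card K₁ ≤ Nat.card (⊤ : Subgroup R) :=
    Cfsg.Agent.Lib.helper30.pgroup_lt_card p K₁ ⊤ (hR.to_subgroup ⊤) (lt_top_iff_ne_top.mpr hK₁top)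
  rw [Subgroup.card_top] at h2
  have h3 := blk_pcentral_card_le p hp hR hc E hE
  have h4 : Nat.card V ≤ Set.ncard {y : R | ∃ g : R, y = g ^ p} := by
    have h5 : p ^ 2 * Nat.card V ≤ p ^ 2 * Set.ncard {y : R | ∃ g : R, y = g ^ p} := by
      calc p ^ 2 * Nat.card V = p * (p * Nat.card V) := by ring
        _ ≤ p * Nat.card K₁ := Nat.mul_le_mul_left _ h1
        _ ≤ Nat.card R := h2
        _ ≤ Nat.card E * Set.ncard {y : R | ∃ g : R, y = g ^ p} := h3
        _ ≤ p ^ 2 * Set.ncard {y : R | ∃ g : R, y = g ^ p} := Nat.mul_le_mul_right _ hEcard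
    exact Nat.le_of_mul_le_mul_left h5 (pow_pos hpp.pos 2)
  have h6 : {y : R | ∃ g : R, y = g ^ p} = ((V : Subgroup R) : Set R) := by
    apply Set.eq_of_subset_of_ncard_le Subgroup.subset_closure _ (Set.toFinite _)
    exact le_trans (le_of_eq (Nat.card_coe_set_eq _).symm) h4
  intro u hu
  have : u ∈ ((V : Subgroup R) : Set R) := hu
  rw [← h6] at this
  exact this

/-- If in a `p`-central group `R` (with `Ω₁(R) ⊆ E` central) every `p`-th power lying in `E` lies
in a subgroup `Z` of order `p`, then `R / E` is cyclic: `R = ⟨z⟩E`. -/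
theorem blk_cyclic_mod (p : ℕ) [Fact p.Prime] (hp : p ≠ 2) {R : Type u} [Group R] [Finite R]
    (hR : IsPGroup p R) (E Z : Subgroup R) (hEc : E ≤ Subgroup.center R)
    (hE : ∀ x : R, x ^ p = 1 → x ∈ E) (hZ : Nat.card Z = p)
    (hβ : ∀ c : R, c ^ p ∈ E → c ^ p ∈ Z) :
    ∃ z : R, ∀ c : R, ∃ i : ℕ, ∃ e ∈ E, c = z ^ i * e := by
  have hpp : p.Prime := Fact.out
  have hc : ∀ x : R, x ^ p = 1 → x ∈ Subgroup.center R := fun x hx => hEc (hE x hx)
  have hEn : E.Normal := by
    refine ⟨fun a ha g => ?_⟩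
    have h1 := Subgroup.mem_center_iff.mp (hEc ha) g
    have h2 : g * a * g⁻¹ = a := by rw [h1]; group
    rw [h2]; exact ha
  have hU : Cfsg.Agent.Lib.helper59.UniqueOrderP p (R ⧸ E) := by
    -- each subgroup of order p is generated by the image of an element with p-th power in Z \ 1
    have key : ∀ H K : Subgroup (R ⧸ E), Nat.card H = p → Nat.card K = p → K ≤ H := by
      intro H K hH hK
      have hgen : ∀ L : Subgroup (R ⧸ E), Nat.card L = p →
          ∃ l : R ⧸ E, l ≠ 1 ∧ Subgroup.zpowers l = L ∧ l ^ p = 1 := by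
        intro L hL
        have hLne : L ≠ ⊥ := by
          intro h
          rw [h, Subgroup.card_bot] at hL
          exact hpp.one_lt.ne hL
        obtain ⟨l, hlL, hl1⟩ : ∃ l ∈ L, l ≠ 1 := by
          by_contra hcon
          simp only [not_exists, not_and, not_not] at hcon
          exact hLne ((Subgroup.eq_bot_iff_forall L).mpr hcon)
        have hlp : l ^ p = 1 := by
          have h1 : (⟨l, hlL⟩ : ↥L) ^ p = 1 := by rw [← hL]; exact pow_card_eq_one'
          have := congrArg Subtype.val h1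
          simpa using this
        have hord : orderOf l = p := orderOf_eq_prime hlp hl1
        refine ⟨l, hl1, ?_, hlp⟩
        apply Subgroup.eq_of_le_of_card_ge
        · rw [Subgroup.zpowers_le]; exact hlL
        · rw [Nat.card_zpowers, hord, hL]
      obtain ⟨hb, hb1, hbH, hbp⟩ := hgen H hH
      obtain ⟨kb, kb1, kbK, kbp⟩ := hgen K hK
      obtain ⟨h, rfl⟩ := QuotientGroup.mk_surjective hb
      obtain ⟨k, rfl⟩ := QuotientGroup.mk_surjective kb
      have hhE : h ^ p ∈ E := by
        rw [← QuotientGroup.eq_one_iff, QuotientGroup.mk_pow]; exact hbp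
      have hkE : k ^ p ∈ E := by
        rw [← QuotientGroup.eq_one_iff, QuotientGroup.mk_pow]; exact kbp
      have hh1 : h ^ p ≠ 1 := by
        intro h1
        exact hb1 ((QuotientGroup.eq_one_iff h).mpr (hE h h1))
      obtain ⟨j, -, hj⟩ := blk_prime_gen Z hZ (h ^ p) (hβ h hhE) hh1 (k ^ p) (hβ k hkE)
      have h2 : (h ^ j) ^ p = k ^ p := by rw [hj, ← pow_mul, ← pow_mul, mul_comm]
      have h3 := blk_pcentral_pow_eq' p hp hR hc (h ^ j) k h2
      have h4 : ((k : R) : R ⧸ E) = ((h ^ j : R) : R ⧸ E) := by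
        rw [eq_comm, QuotientGroup.eq]; exact hE _ h3
      rw [← kbK, Subgroup.zpowers_le, h4, QuotientGroup.mk_pow, ← hbH]
      exact Subgroup.pow_mem _ (Subgroup.mem_zpowers _) j
    intro H K hH hK
    exact le_antisymm (key K H hK hH) (key H K hH hK)
  have hcyc : IsCyclic (R ⧸ E) :=
    Cfsg.Agent.Lib.helper59.isCyclic_of_odd_of_uniqueOrderP hp _ (R ⧸ E) rfl (hR.to_quotient E) hU
  obtain ⟨zb, hzb⟩ := hcyc.exists_generator
  obtain ⟨z, rfl⟩ := QuotientGroup.mk_surjective zb
  refine ⟨z, fun c => ?_⟩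
  have h1 := hzb (c : R ⧸ E)
  rw [← mem_powers_iff_mem_zpowers] at h1
  obtain ⟨i, hi⟩ := h1
  have hi' : ((z : R) : R ⧸ E) ^ i = (c : R ⧸ E) := hi
  refine ⟨i, (z ^ i)⁻¹ * c, ?_, by group⟩
  rw [← QuotientGroup.eq, QuotientGroup.mk_pow]
  exact hi'

/-- The relative lower central series of `⊤` maps onto that of a quotient. -/
theorem blk_map_lcs {G H : Type*} [Group G] [Group H] (f : G →* H) (hf : Function.Surjective f)
    (m : ℕ) : ((⊤ : Subgroup G).lowerCentralSeries m).map f = (⊤ : Subgroup H).lowerCentralSeries m := by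
  induction m with
  | zero =>
    rw [Subgroup.lowerCentralSeries_zero, Subgroup.lowerCentralSeries_zero]
    exact Subgroup.map_top_of_surjective f hf
  | succ m ih =>
    rw [Subgroup.lowerCentralSeries_succ, Subgroup.lowerCentralSeries_succ, Subgroup.map_commutator,
      ih, Subgroup.map_top_of_surjective f hf]

/-- **Suzuki's lemma.**  A group of order `p^(m+2)` with an element whose centralizer has order at
most `p²` has nilpotency class `m + 1`. -/
theorem blk_suzuki (p : ℕ) [Fact p.Prime] :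
    ∀ (m : ℕ) (G : Type u) [Group G] [Finite G], Nat.card G = p ^ (m + 2) →
      (∃ s : G, Nat.card (Subgroup.centralizer {s}) ≤ p ^ 2) →
      (⊤ : Subgroup G).lowerCentralSeries m ≠ ⊥ := by
  have hpp : p.Prime := Fact.out
  intro m
  induction m with
  | zero =>
    intro G _ _ hG _
    rw [Subgroup.lowerCentralSeries_zero]
    intro h
    have h1 : Nat.card (⊤ : Subgroup G) = 1 := by rw [h, Subgroup.card_bot]
    rw [Subgroup.card_top, hG] at h1
    have : 1 < p ^ (0 + 2) := Nat.one_lt_pow (by norm_num) hpp.one_lt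
    omega
  | succ m ih =>
    intro G _ _ hG ⟨s, hs⟩
    have hGp : IsPGroup p G := IsPGroup.of_card hG
    have hnt : Nontrivial G := by
      rw [← Finite.one_lt_card_iff_nontrivial, hG]
      exact Nat.one_lt_pow (by omega) hpp.one_lt
    have hZnt : Nontrivial (Subgroup.center G) := hGp.center_nontrivial
    have hZle : Subgroup.center G ≤ Subgroup.centralizer {s} := Subgroup.center_le_centralizer _
    obtain ⟨k, hk⟩ := IsPGroup.iff_card.mp (hGp.to_subgroup (Subgroup.center G))
    have hk1 : k ≠ 0 := by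
      rintro rfl
      rw [pow_zero] at hk
      have := Finite.one_lt_card_iff_nontrivial.mpr hZnt
      omega
    have hk2 : k ≠ 2 := by
      rintro rfl
      have h1 : Subgroup.center G = Subgroup.centralizer {s} :=
        Subgroup.eq_of_le_of_card_ge hZle (by rw [hk]; exact hs)
      have h2 : s ∈ Subgroup.center G := by
        rw [h1]
        exact Subgroup.mem_centralizer_iff.mpr (fun h hh => by rw [Set.mem_singleton_iff.mp hh])
      have h3 : Subgroup.centralizer {s} = ⊤ := by
        rw [eq_top_iff]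
        intro g _
        rw [Subgroup.mem_centralizer_iff]
        intro h hh
        rw [Set.mem_singleton_iff.mp hh]
        exact (Subgroup.mem_center_iff.mp h2 g).symm
      rw [h3, Subgroup.card_top, hG] at hs
      have : p ^ 2 < p ^ (m + 1 + 2) := Nat.pow_lt_pow_right hpp.one_lt (by omega)
      omega
    have hkle : k ≤ 2 := by
      by_contra hcon
      have h1 : Nat.card (Subgroup.center G) ≤ p ^ 2 := le_trans (Subgroup.card_le_of_le hZle) hs
      rw [hk] at h1
      have : p ^ 2 < p ^ k := Nat.pow_lt_pow_right hpp.one_lt (by omega)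
      omega
    have hk' : k = 1 := by omega
    subst hk'
    rw [pow_one] at hk
    set Z := Subgroup.center G with hZ
    have hQcard : Nat.card (G ⧸ Z) = p ^ (m + 2) := by
      have h1 := Subgroup.card_eq_card_quotient_mul_card_subgroup Z
      rw [hG, hk, pow_succ] at h1
      exact (Nat.eq_of_mul_eq_mul_right hpp.pos h1).symm
    -- the centralizer of the image of s
    have hcent : Nat.card (Subgroup.centralizer {(s : G ⧸ Z)}) ≤ p ^ 2 := by
      set D := (Subgroup.centralizer {(s : G ⧸ Z)}).comap (QuotientGroup.mk' Z) with hD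
      have h1 : Nat.card D ≤ Nat.card Z * Nat.card (D ⊓ Subgroup.centralizer {s} : Subgroup G) := by
        apply Cfsg.Agent.Lib.helper30.card_le_mul_card_centralizer D Z s
        · intro x hx
          rw [hD, Subgroup.mem_comap, Subgroup.mem_centralizer_iff] at hx
          have h2 := hx (s : G ⧸ Z) rfl
          rw [← QuotientGroup.eq_one_iff]
          simp only [QuotientGroup.mk_mul, QuotientGroup.mk_inv]
          have h3 : (QuotientGroup.mk' Z) x = (x : G ⧸ Z) := rfl
          rw [h3] at h2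
          rw [h2]; group
        · intro z hz x _
          exact (Subgroup.mem_center_iff.mp hz x).symm
      have h2 : Nat.card (D ⊓ Subgroup.centralizer {s} : Subgroup G) ≤ p ^ 2 :=
        le_trans (Subgroup.card_le_of_le inf_le_right) hs
      have h3 : Nat.card D = Nat.card (Subgroup.centralizer {(s : G ⧸ Z)}) * Nat.card Z := by
        have h4 : Z ≤ D := by
          intro z hz
          rw [hD, Subgroup.mem_comap]
          have : (QuotientGroup.mk' Z) z = 1 := (QuotientGroup.eq_one_iff z).mpr hz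
          rw [this]; exact Subgroup.one_mem _
        have h5 := Subgroup.card_eq_card_quotient_mul_card_subgroup (Z.subgroupOf D)
        have h6 : Nat.card (Z.subgroupOf D) = Nat.card Z :=
          Nat.card_congr (Subgroup.subgroupOfEquivOfLe h4).toEquiv
        rw [h6] at h5
        rw [h5]
        congr 1
        -- D / (Z ∩ D) ≃ centralizer
        have hker : (((QuotientGroup.mk' Z).comp D.subtype)).ker = Z.subgroupOf D := by
          ext x
          rw [MonoidHom.mem_ker, Subgroup.mem_subgroupOf, MonoidHom.comp_apply,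
            QuotientGroup.mk'_apply, QuotientGroup.eq_one_iff]
          rfl
        have hrange : (((QuotientGroup.mk' Z).comp D.subtype)).range
            = Subgroup.centralizer {(s : G ⧸ Z)} := by
          ext y
          constructor
          · rintro ⟨x, rfl⟩
            exact x.2
          · intro hy
            obtain ⟨g, rfl⟩ := QuotientGroup.mk_surjective y
            exact ⟨⟨g, hy⟩, rfl⟩
        rw [← hker, ← hrange]
        exact Nat.card_congr
          (QuotientGroup.quotientKerEquivRange ((QuotientGroup.mk' Z).comp D.subtype)).toEquiv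
      rw [h3, hk] at h1
      have h7 : Nat.card (Subgroup.centralizer {(s : G ⧸ Z)}) * p ≤ p ^ 2 * p := by
        calc Nat.card (Subgroup.centralizer {(s : G ⧸ Z)}) * p
            ≤ p * Nat.card (D ⊓ Subgroup.centralizer {s} : Subgroup G) := h1
          _ ≤ p * p ^ 2 := Nat.mul_le_mul_left _ h2
          _ = p ^ 2 * p := by ring
      exact Nat.le_of_mul_le_mul_right h7 hpp.pos
    have hIH := ih (G ⧸ Z) hQcard ⟨(s : G ⧸ Z), hcent⟩
    intro hbot
    apply hIH
    rw [← blk_map_lcs (QuotientGroup.mk' Z) (QuotientGroup.mk'_surjective Z) m]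
    rw [Subgroup.lowerCentralSeries_succ, Subgroup.commutator_eq_bot_iff_le_centralizer,
      Subgroup.coe_top, Subgroup.centralizer_univ] at hbot
    rw [eq_bot_iff]
    rintro _ ⟨x, hx, rfl⟩
    rw [Subgroup.mem_bot]
    exact (QuotientGroup.eq_one_iff x).mpr (hbot hx)

end Cfsg.Agent.Lib.helper68
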