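import Mathlib
import Cfsg.Agent.Lib.helper68.Blk3
import Cfsg.Agent.Lib.helper38.PGroupNormal
import Cfsg.Agent.Lib.helper59.PairOrderP
import Cfsg.Prelude.Def_CaseTheorems

/-!
# Blackburn rank ≤ 2 : the setup `E`, `C = C_G(E)`, `Z = E ∩ Z(G)`
-/

namespace Cfsg.Agent.Lib.helper68

universe u

open Subgroup

/-- The setup for Blackburn's theorem: `E` normal elementary abelian of order `p²`,
`C = C_G(E)` of index `p`, `Z = E ∩ Z(G)` of order `p`, with the `p`-central facts on `C`. -/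
structure BSetup (p : ℕ) {G : Type*} [Group G] (E C Z : Subgroup G) : Prop where
  EC : E ≤ C
  ZE : Z ≤ E
  Ecomm : ∀ c ∈ C, ∀ e ∈ E, c * e = e * c
  Eexp : ∀ e ∈ E, e ^ p = 1
  Eomega : ∀ c ∈ C, c ^ p = 1 → c ∈ E
  Cnorm : ∀ g : G, ∀ c ∈ C, g * c * g⁻¹ ∈ C
  Zcent : ∀ z ∈ Z, ∀ g : G, g * z = z * g
  Zcomm : ∀ e ∈ E, ∀ g : G, e⁻¹ * (g * e * g⁻¹) ∈ Z
  Zfix : ∀ e ∈ E, ∀ g : G, g ∉ C → g * e = e * g → e ∈ Z
  Zgen : ∀ e ∈ E, e ∉ Z → ∀ f ∈ E, ∃ i : ℕ, ∃ ζ ∈ Z, f = e ^ i * ζ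
  powC : ∀ g : G, g ^ p ∈ C
  cosets : ∀ t : G, t ∉ C → ∀ g : G, ∃ i : ℕ, i < p ∧ ∃ c ∈ C, g = c * t ^ i
  Zcard : Nat.card Z = p
  Ecard : Nat.card E = p ^ 2
  Ccard : p * Nat.card C = Nat.card G
  Cncyc : ¬ IsCyclic ↥C
  pc1 : ∀ x ∈ C, ∀ y ∈ C, x ^ p = y ^ p → (x⁻¹ * y) ^ p = 1
  thompson : ∀ x ∈ C, ∀ g ∈ C, x ^ (p ^ 2) = 1 → (g * x * g⁻¹ * x⁻¹) ^ p = 1
  mhoPow : ∀ u ∈ Subgroup.closure {u : G | ∃ c ∈ C, u = c ^ p}, ∃ c ∈ C, u = c ^ p
  mhoCard : Nat.card C ≤ p ^ 2 * Nat.card (Subgroup.closure {u : G | ∃ c ∈ C, u = c ^ p})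
  cycMod : (∀ c ∈ C, c ^ p ∈ E → c ^ p ∈ Z) →
    ∃ z ∈ C, ∀ c ∈ C, ∃ i : ℕ, ∃ e ∈ E, c = z ^ i * e

/-- In a group of `p`-rank at most 2, the elements of order dividing `p` in the centralizer of an
elementary abelian subgroup `E` of order `p²` lie in `E`. -/
theorem blk_omega_cent (p : ℕ) [Fact p.Prime] {G : Type u} [Group G] [Finite G]
    (hrk : Cfsg.PRankLE p 2 G) (E : Subgroup G) (hEab : ∀ a ∈ E, ∀ b ∈ E, a * b = b * a)
    (hEexp : ∀ a ∈ E, a ^ p = 1) (hEcard : Nat.card E = p ^ 2) :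
    ∀ c ∈ Subgroup.centralizer (E : Set G), c ^ p = 1 → c ∈ E := by
  intro c hc hcp
  set K : Set G := (E : Set G) ∪ {c} with hK
  have hKc : ∀ x ∈ K, ∀ y ∈ K, x * y = y * x := by
    intro x hx y hy
    rcases hx with hx | hx <;> rcases hy with hy | hy
    · exact hEab x hx y hy
    · rw [Set.mem_singleton_iff.mp hy]
      exact Subgroup.mem_centralizer_iff.mp hc x hx
    · rw [Set.mem_singleton_iff.mp hx]
      exact (Subgroup.mem_centralizer_iff.mp hc y hy).symm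
    · rw [Set.mem_singleton_iff.mp hx, Set.mem_singleton_iff.mp hy]
  have hKp : ∀ x ∈ K, x ^ p = 1 := by
    intro x hx
    rcases hx with hx | hx
    · exact hEexp x hx
    · rw [Set.mem_singleton_iff.mp hx]; exact hcp
  obtain ⟨hA1, hA2⟩ := Cfsg.Agent.Lib.helper59.closure_comm_pow p K hKc hKp
  have hAc : IsMulCommutative ↥(Subgroup.closure K) :=
    ⟨⟨fun a b => Subtype.ext (hA1 a.1 a.2 b.1 b.2)⟩⟩
  have hcard := hrk (Subgroup.closure K) hAc hA2
  have hle : E ≤ Subgroup.closure K := fun e he => Subgroup.subset_closure (Or.inl he)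
  have heq : E = Subgroup.closure K := Subgroup.eq_of_le_of_card_ge hle (by rw [hEcard]; exact hcard)
  rw [heq]
  exact Subgroup.subset_closure (Or.inr rfl)

/-- Construction of the setup. -/
theorem blk_setup (p : ℕ) [Fact p.Prime] (hp : p ≠ 2) {G : Type u} [Group G] [Finite G]
    (hG : IsPGroup p G) (hrk : Cfsg.PRankLE p 2 G) (E : Subgroup G) [hEn : E.Normal]
    (hEab : ∀ a ∈ E, ∀ b ∈ E, a * b = b * a) (hEexp : ∀ a ∈ E, a ^ p = 1)
    (hEcard : Nat.card E = p ^ 2) (hCtop : Subgroup.centralizer (E : Set G) ≠ ⊤) :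
    BSetup p E (Subgroup.centralizer (E : Set G)) (E ⊓ Subgroup.center G) := by
  have hpp : p.Prime := Fact.out
  set C := Subgroup.centralizer (E : Set G) with hC
  set Z := E ⊓ Subgroup.center G with hZ
  have hCn : C.Normal := Subgroup.normal_centralizer
  have hZn : Z.Normal := Subgroup.normal_inf_normal E (Subgroup.center G)
  have EC : E ≤ C := fun e he => Subgroup.mem_centralizer_iff.mpr (fun h hh => hEab h hh e he)
  have ZE : Z ≤ E := inf_le_left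
  have Ecomm : ∀ c ∈ C, ∀ e ∈ E, c * e = e * c := fun c hc e he =>
    (Subgroup.mem_centralizer_iff.mp hc e he).symm
  have Eomega : ∀ c ∈ C, c ^ p = 1 → c ∈ E := blk_omega_cent p hrk E hEab hEexp hEcard
  have Zcent : ∀ z ∈ Z, ∀ g : G, g * z = z * g := fun z hz g =>
    Subgroup.mem_center_iff.mp hz.2 g
  -- |Z| = p
  have hEne : E ≠ ⊥ := by
    intro h
    rw [h, Subgroup.card_bot] at hEcard
    have : 1 < p ^ 2 := Nat.one_lt_pow (by norm_num) hpp.one_lt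
    omega
  have hZne : Z ≠ ⊥ := by
    obtain ⟨z, hzE, hzc, hz1, -⟩ := Cfsg.Agent.Lib.helper3.exists_central_of_normal_ne_bot hG E hEne
    intro h
    have : z ∈ Z := ⟨hzE, hzc⟩
    rw [h, Subgroup.mem_bot] at this
    exact hz1 this
  have hZneE : Z ≠ E := by
    intro h
    apply hCtop
    rw [eq_top_iff]
    intro g _
    rw [hC, Subgroup.mem_centralizer_iff]
    intro e he
    have : e ∈ Z := by rw [h]; exact he
    exact (Zcent e this g).symm
  have Zcard : Nat.card Z = p := by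
    have h1 : Nat.card Z ∣ p ^ 2 := hEcard ▸ Subgroup.card_dvd_of_le ZE
    obtain ⟨i, hi, hi'⟩ := (Nat.dvd_prime_pow hpp).mp h1
    interval_cases i
    · exfalso
      rw [pow_zero] at hi'
      exact hZne (Subgroup.eq_bot_of_card_eq Z hi')
    · rw [hi', pow_one]
    · exfalso
      exact hZneE (Subgroup.eq_of_le_of_card_ge ZE (by rw [hi', hEcard]))
  -- E = ⟨e⟩ Z for e ∈ E \ Z
  have Zgen : ∀ e ∈ E, e ∉ Z → ∀ f ∈ E, ∃ i : ℕ, ∃ ζ ∈ Z, f = e ^ i * ζ := by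
    intro e he heZ f hf
    set A := Subgroup.zpowers e ⊔ Z with hA
    have hAE : A ≤ E := sup_le (by rw [Subgroup.zpowers_le]; exact he) ZE
    have heA : e ∈ A := (le_sup_left : Subgroup.zpowers e ≤ A) (Subgroup.mem_zpowers e)
    have hlt : Z < A := lt_of_le_of_ne le_sup_right (fun h => heZ (h ▸ heA))
    have h1 : p * Nat.card Z ≤ Nat.card A :=
      Cfsg.Agent.Lib.helper30.pgroup_lt_card p Z A (hG.to_subgroup A) hlt
    have h2 : A = E := Subgroup.eq_of_le_of_card_ge hAE (by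
      rw [hEcard]
      calc p ^ 2 = p * Nat.card Z := by rw [Zcard]; ring
        _ ≤ Nat.card A := h1)
    have hfA : f ∈ A := by rw [h2]; exact hf
    rw [hA, Subgroup.mem_sup_of_normal_right] at hfA
    obtain ⟨y, hy, ζ, hζ, rfl⟩ := hfA
    rw [← mem_powers_iff_mem_zpowers] at hy
    obtain ⟨i, rfl⟩ := hy
    exact ⟨i, ζ, hζ, rfl⟩
  -- a generator with central commutators
  have hnle : ¬ E ≤ Z := fun h => hZneE (le_antisymm ZE h)
  obtain ⟨e₁, he₁E, he₁Z, he₁c⟩ :=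
    Cfsg.Agent.Lib.helper38.exists_central_mod_of_normal hG Z E hnle
  have Zcomm : ∀ e ∈ E, ∀ g : G, e⁻¹ * (g * e * g⁻¹) ∈ Z := by
    intro e he g
    obtain ⟨i, ζ, hζ, rfl⟩ := Zgen e₁ he₁E he₁Z e he
    have h1 := he₁c g
    set ζ' := e₁⁻¹ * (g * e₁ * g⁻¹) with hζ'
    have h2 : g * e₁ * g⁻¹ = e₁ * ζ' := by rw [hζ']; group
    have h3 : Commute e₁ ζ' := (Zcent ζ' h1 e₁)
    have h4 : g * (e₁ ^ i * ζ) * g⁻¹ = e₁ ^ i * ζ' ^ i * ζ := by
      have h5 : g * ζ * g⁻¹ = ζ := by rw [Zcent ζ hζ g]; group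
      calc g * (e₁ ^ i * ζ) * g⁻¹ = (g * e₁ ^ i * g⁻¹) * (g * ζ * g⁻¹) := by group
        _ = (g * e₁ * g⁻¹) ^ i * ζ := by rw [h5, conj_pow]
        _ = e₁ ^ i * ζ' ^ i * ζ := by rw [h2, h3.mul_pow]
    rw [h4]
    have h6 : (e₁ ^ i * ζ)⁻¹ * (e₁ ^ i * ζ' ^ i * ζ) = ζ⁻¹ * ζ' ^ i * ζ := by group
    rw [h6]
    exact Z.mul_mem (Z.mul_mem (Z.inv_mem hζ) (Z.pow_mem h1 i)) hζ
  have Zfix : ∀ e ∈ E, ∀ g : G, g ∉ C → g * e = e * g → e ∈ Z := by
    intro e he g hg hge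
    by_contra heZ
    apply hg
    rw [hC, Subgroup.mem_centralizer_iff]
    intro f hf
    obtain ⟨i, ζ, hζ, rfl⟩ := Zgen e he heZ f hf
    have h1 : Commute g e := hge
    have h2 : g * ζ = ζ * g := Zcent ζ hζ g
    calc e ^ i * ζ * g = e ^ i * (ζ * g) := by group
      _ = e ^ i * (g * ζ) := by rw [h2]
      _ = (e ^ i * g) * ζ := by group
      _ = (g * e ^ i) * ζ := by rw [(h1.pow_right i).eq]
      _ = g * (e ^ i * ζ) := by group
  -- index p
  have Ccard : p * Nat.card C = Nat.card G := by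
    apply le_antisymm
    · have h1 := Cfsg.Agent.Lib.helper30.pgroup_lt_card p C ⊤ (hG.to_subgroup ⊤)
        (lt_top_iff_ne_top.mpr hCtop)
      rwa [Subgroup.card_top] at h1
    · have h1 := Cfsg.Agent.Lib.helper30.card_le_mul_card_centralizer (⊤ : Subgroup G) Z e₁
        (by
          intro x _
          have h2 := he₁c x
          have h3 : e₁ * x * e₁⁻¹ * x⁻¹ = e₁ * (e₁⁻¹ * (x * e₁ * x⁻¹))⁻¹ * e₁⁻¹ := by group
          rw [h3]
          exact hZn.conj_mem _ (Z.inv_mem h2) e₁)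
        (by
          intro z hz x _
          exact (Zcent z hz x).symm)
      rw [Subgroup.card_top, Zcard] at h1
      have h4 : (⊤ ⊓ Subgroup.centralizer {e₁} : Subgroup G) ≤ C := by
        intro g hg
        by_contra hgC
        have h5 : g * e₁ = e₁ * g := by
          have := Subgroup.mem_centralizer_iff.mp hg.2 e₁ rfl
          exact this.symm
        exact he₁Z (Zfix e₁ he₁E g hgC h5)
      exact le_trans h1 (Nat.mul_le_mul_left _ (Subgroup.card_le_of_le h4))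
  have hQcard : Nat.card (G ⧸ C) = p := by
    have h1 := Subgroup.card_eq_card_quotient_mul_card_subgroup C
    rw [← Ccard] at h1
    have hpos : 0 < Nat.card C := Nat.card_pos
    exact (Nat.eq_of_mul_eq_mul_right hpos h1).symm
  have powC : ∀ g : G, g ^ p ∈ C := by
    intro g
    rw [← QuotientGroup.eq_one_iff, QuotientGroup.mk_pow, ← hQcard]
    exact pow_card_eq_one'
  have cosets : ∀ t : G, t ∉ C → ∀ g : G, ∃ i : ℕ, i < p ∧ ∃ c ∈ C, g = c * t ^ i := by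
    intro t ht g
    have h1 : ((t : G) : G ⧸ C) ≠ 1 := fun h => ht ((QuotientGroup.eq_one_iff t).mp h)
    have h2 : Subgroup.zpowers ((t : G) : G ⧸ C) = ⊤ := zpowers_eq_top_of_prime_card hQcard h1
    have h3 : ((g : G) : G ⧸ C) ∈ Subgroup.zpowers ((t : G) : G ⧸ C) := by
      rw [h2]; exact Subgroup.mem_top _
    rw [← mem_powers_iff_mem_zpowers] at h3
    obtain ⟨i, hi⟩ := h3
    have hi' : ((t : G) : G ⧸ C) ^ i = (g : G ⧸ C) := hi
    have htp : ((t : G) : G ⧸ C) ^ p = 1 := by rw [← hQcard]; exact pow_card_eq_one'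
    have hi'' : ((t : G) : G ⧸ C) ^ (i % p) = (g : G ⧸ C) := by
      rw [← hi']
      conv_rhs => rw [← Nat.div_add_mod i p]
      rw [pow_add, pow_mul, htp, one_pow, one_mul]
    refine ⟨i % p, Nat.mod_lt _ hpp.pos, g * (t ^ (i % p))⁻¹, ?_, by group⟩
    rw [← QuotientGroup.eq_one_iff, QuotientGroup.mk_mul, QuotientGroup.mk_inv,
      QuotientGroup.mk_pow, hi'', mul_inv_cancel]
  -- p-central facts on C
  have hCp : IsPGroup p ↥C := hG.to_subgroup C
  have hcC : ∀ x : ↥C, x ^ p = 1 → x ∈ Subgroup.center ↥C := by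
    intro x hx
    have hx' : (x : G) ^ p = 1 := by
      have := congrArg Subtype.val hx
      simpa using this
    have hxE : (x : G) ∈ E := Eomega x.1 x.2 hx'
    rw [Subgroup.mem_center_iff]
    intro y
    exact Subtype.ext (Ecomm y.1 y.2 x.1 hxE)
  have pc1 : ∀ x ∈ C, ∀ y ∈ C, x ^ p = y ^ p → (x⁻¹ * y) ^ p = 1 := by
    intro x hx y hy hxy
    have h1 := blk_pcentral_pow_eq' p hp hCp hcC ⟨x, hx⟩ ⟨y, hy⟩ (Subtype.ext (by simpa using hxy))
    have := congrArg Subtype.val h1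
    simpa using this
  have thompson : ∀ x ∈ C, ∀ g ∈ C, x ^ (p ^ 2) = 1 → (g * x * g⁻¹ * x⁻¹) ^ p = 1 := by
    intro x hx g hg hx2
    have hnil : Group.IsNilpotent ↥C := hCp.isNilpotent
    have h1 := Cfsg.Agent.Lib.helper30.pcentral_comm_pow p hp hcC ⟨x, hx⟩ ⟨g, hg⟩
      (Subtype.ext (by simpa using hx2))
    have := congrArg Subtype.val h1
    simpa using this
  have hEsub : ∀ x : ↥C, x ^ p = 1 → x ∈ E.subgroupOf C := by
    intro x hx
    rw [Subgroup.mem_subgroupOf]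
    apply Eomega x.1 x.2
    have := congrArg Subtype.val hx
    simpa using this
  have hEsubcard : Nat.card (E.subgroupOf C) = p ^ 2 := by
    rw [← hEcard]
    exact Nat.card_congr (Subgroup.subgroupOfEquivOfLe EC).toEquiv
  have hncyc : ¬ IsCyclic ↥C := by
    intro hcyc
    have : IsCyclic ↥E := Subgroup.isCyclic_of_le EC
    exact Cfsg.Agent.Lib.helper59.not_isCyclic_of_card_sq_of_exp E hEcard hEexp this
  have himg : (C.subtype : ↥C → G) '' {y : ↥C | ∃ g : ↥C, y = g ^ p} = {u : G | ∃ c ∈ C, u = c ^ p} := by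
    ext u
    constructor
    · rintro ⟨y, ⟨g, rfl⟩, rfl⟩
      exact ⟨g.1, g.2, by simp⟩
    · rintro ⟨c, hc, rfl⟩
      exact ⟨⟨c, hc⟩ ^ p, ⟨⟨c, hc⟩, rfl⟩, by simp⟩
  have hmap : (Subgroup.closure {y : ↥C | ∃ g : ↥C, y = g ^ p}).map C.subtype
      = Subgroup.closure {u : G | ∃ c ∈ C, u = c ^ p} := by
    rw [MonoidHom.map_closure, himg]
  have mhoPow : ∀ u ∈ Subgroup.closure {u : G | ∃ c ∈ C, u = c ^ p}, ∃ c ∈ C, u = c ^ p := by
    intro u hu
    rw [← hmap] at hu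
    obtain ⟨v, hv, rfl⟩ := hu
    obtain ⟨g, rfl⟩ := blk_pcentral_mho_pow p hp hCp hcC (E.subgroupOf C) hEsub
      (le_of_eq hEsubcard) hncyc v hv
    exact ⟨g.1, g.2, by simp⟩
  have mhoCard : Nat.card C ≤ p ^ 2 * Nat.card (Subgroup.closure {u : G | ∃ c ∈ C, u = c ^ p}) := by
    have h1 := blk_pcentral_card_mho p hp hCp hcC (E.subgroupOf C) hEsub
    rw [hEsubcard] at h1
    rw [← hmap, Subgroup.card_map_of_injective C.subtype_injective]
    exact h1
  have cycMod : (∀ c ∈ C, c ^ p ∈ E → c ^ p ∈ Z) →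
      ∃ z ∈ C, ∀ c ∈ C, ∃ i : ℕ, ∃ e ∈ E, c = z ^ i * e := by
    intro hβ
    have hEc' : E.subgroupOf C ≤ Subgroup.center ↥C := by
      intro x hx
      rw [Subgroup.mem_subgroupOf] at hx
      rw [Subgroup.mem_center_iff]
      intro y
      exact Subtype.ext (Ecomm y.1 y.2 x.1 hx)
    have hZ' : Nat.card (Z.subgroupOf C) = p := by
      rw [← Zcard]
      exact Nat.card_congr (Subgroup.subgroupOfEquivOfLe (le_trans ZE EC)).toEquiv
    have hβ' : ∀ c : ↥C, c ^ p ∈ E.subgroupOf C → c ^ p ∈ Z.subgroupOf C := by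
      intro c hc
      rw [Subgroup.mem_subgroupOf] at hc ⊢
      rw [Subgroup.coe_pow] at hc ⊢
      exact hβ c.1 c.2 hc
    obtain ⟨z, hz⟩ := blk_cyclic_mod p hp hCp (E.subgroupOf C) (Z.subgroupOf C) hEc' hEsub hZ' hβ'
    refine ⟨z.1, z.2, fun c hc => ?_⟩
    obtain ⟨i, e, he, h⟩ := hz ⟨c, hc⟩
    refine ⟨i, e.1, Subgroup.mem_subgroupOf.mp he, ?_⟩
    have := congrArg Subtype.val h
    simpa using this
  exact
    { EC := EC, ZE := ZE, Ecomm := Ecomm, Eexp := hEexp, Eomega := Eomega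
      Cnorm := fun g c hc => hCn.conj_mem c hc g
      Zcent := Zcent, Zcomm := Zcomm, Zfix := Zfix, Zgen := Zgen, powC := powC, cosets := cosets
      Zcard := Zcard, Ecard := hEcard, Ccard := Ccard, Cncyc := hncyc, pc1 := pc1, thompson := thompson
      mhoPow := mhoPow, mhoCard := mhoCard, cycMod := cycMod }

end Cfsg.Agent.Lib.helper68
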