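import Mathlib
import Cfsg.Agent.Lib.helper68.Blk4

/-!
# Blackburn rank ≤ 2 : Case I (no element of order `p` outside `C`) and Case II.α
-/

namespace Cfsg.Agent.Lib.helper68

universe u

open Subgroup

/-- **Case I.**  If every element of order dividing `p` lies in `C`, then `G` is metacyclic or
`p = 3` and some element has a centralizer of order at most `p²`. -/
theorem blk_case_one (p : ℕ) [Fact p.Prime] (hp : p ≠ 2) {G : Type u} [Group G] [Finite G]
    (hG : IsPGroup p G) {E C Z : Subgroup G} (S : BSetup p E C Z)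
    (hI : ∀ g : G, g ^ p = 1 → g ∈ C) (t : G) (ht : t ∉ C) :
    MCyc G ∨ (p = 3 ∧ ∃ s : G, Nat.card (Subgroup.centralizer {s}) ≤ p ^ 2) := by
  have hpp : p.Prime := Fact.out
  set W := Subgroup.closure {u : G | ∃ c ∈ C, u = c ^ p} with hW
  by_cases htW : t ^ p ∈ W
  · right
    obtain ⟨c, hc, hct⟩ := S.mhoPow _ htW
    have hcinv : c⁻¹ ∈ C := C.inv_mem hc
    have hconj : t * c⁻¹ * t⁻¹ ∈ C := S.Cnorm t _ hcinv
    have hpow : (c⁻¹) ^ p = (t * c⁻¹ * t⁻¹) ^ p := by
      rw [conj_pow, inv_pow, ← hct]; group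
    have he := S.pc1 _ hcinv _ hconj hpow
    set e := c⁻¹⁻¹ * (t * c⁻¹ * t⁻¹) with hedef
    have heC : e ∈ C := C.mul_mem (C.inv_mem hcinv) hconj
    have heE : e ∈ E := S.Eomega e heC he
    have h1 : t * c⁻¹ * t⁻¹ = c⁻¹ * e := by rw [hedef]; group
    set ζ := e⁻¹ * (t * e * t⁻¹) with hζdef
    have hζZ : ζ ∈ Z := S.Zcomm e heE t
    have h2 : t * e * t⁻¹ = e * ζ := by rw [hζdef]; group
    have hde : c⁻¹ * e = e * c⁻¹ := S.Ecomm _ hcinv e heE
    have hdz : c⁻¹ * ζ = ζ * c⁻¹ := S.Zcent ζ hζZ _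
    have hez : e * ζ = ζ * e := S.Zcent ζ hζZ _
    have hsz : t * ζ = ζ * t := S.Zcent ζ hζZ _
    have hform := blk_pow_formula t c⁻¹ e ζ h1 h2 hde hdz hez hsz p
    have he2 : e ^ (p.choose 2) = 1 :=
      blk_pow_eq_one_of_dvd (S.Eexp e heE) (blk_dvd_choose_two hpp hp)
    have hs : (c⁻¹ * t) ^ p = ζ ^ (p.choose 3) := by
      have hcz : c ^ p * ζ ^ (p.choose 3) = ζ ^ (p.choose 3) * c ^ p :=
        S.Zcent _ (Z.pow_mem hζZ _) _
      rw [hform, he2, mul_one, hct, mul_assoc, ← hcz, ← mul_assoc, inv_pow, inv_mul_cancel, one_mul]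
    set s := c⁻¹ * t with hsdef
    have hsC : s ∉ C := by
      intro h
      apply ht
      have h3 : t = c * s := by rw [hsdef]; group
      rw [h3]
      exact C.mul_mem hc h
    have hp3 : p = 3 := by
      by_contra hp3
      have h3 : ζ ^ (p.choose 3) = 1 :=
        blk_pow_eq_one_of_dvd (S.Eexp ζ (S.ZE hζZ)) (blk_dvd_choose_three hpp hp hp3)
      rw [h3] at hs
      exact hsC (hI s hs)
    refine ⟨hp3, s, ?_⟩
    have hspZ : s ^ p ∈ Z := by rw [hs]; exact Z.pow_mem hζZ _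
    have hsp1 : s ^ p ≠ 1 := fun h => hsC (hI s h)
    have hcent : ∀ g ∈ Subgroup.centralizer {s}, ∃ i : ℕ, i < p ∧ ∃ k ∈ Z, g = s ^ i * k := by
      intro g hg
      have hgs : s * g = g * s := Subgroup.mem_centralizer_iff.mp hg s rfl
      obtain ⟨i, hi, c₁, hc₁, rfl⟩ := S.cosets s hsC g
      have hc₁s : Commute s c₁ := by
        have h3 : Commute s (c₁ * s ^ i) := hgs
        have h4 : Commute s ((s ^ i)⁻¹) := ((Commute.refl s).pow_right i).inv_right
        have h5 := h3.mul_right h4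
        rwa [mul_assoc, mul_inv_cancel, mul_one] at h5
      refine ⟨i, hi, c₁, ?_, ((hc₁s.pow_left i).eq).symm⟩
      have hc₁p : c₁ ^ p = 1 := by
        by_contra hne
        obtain ⟨m, hm2, hmp⟩ := blk_exists_order_sq hG c₁ hne
        set c₂ := c₁ ^ m with hc₂
        have hc₂C : c₂ ∈ C := C.pow_mem hc₁ m
        have hc₂s : Commute s c₂ := hc₁s.pow_right m
        have hc₂pE : c₂ ^ p ∈ E :=
          S.Eomega _ (C.pow_mem hc₂C p) (by rw [← pow_mul, ← pow_two]; exact hm2)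
        have hc₂pZ : c₂ ^ p ∈ Z := S.Zfix _ hc₂pE s hsC (hc₂s.pow_right p).eq
        obtain ⟨j, -, hj⟩ := blk_prime_gen Z S.Zcard (s ^ p) hspZ hsp1 (c₂ ^ p) hc₂pZ
        have hcomm : Commute (s ^ j)⁻¹ c₂ := (hc₂s.pow_left j).inv_left
        have h3 : ((s ^ j)⁻¹ * c₂) ^ p = 1 := by
          rw [hcomm.mul_pow, hj, inv_pow, ← pow_mul, ← pow_mul, mul_comm j p, inv_mul_cancel]
        have h4 : (s ^ j)⁻¹ * c₂ ∈ C := hI _ h3
        have h5 : s ^ j ∈ C := by
          have h6 : s ^ j = c₂ * ((s ^ j)⁻¹ * c₂)⁻¹ := by group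
          rw [h6]
          exact C.mul_mem hc₂C (C.inv_mem h4)
        have h6 : ¬ p ∣ j := by
          intro hdvd
          apply hmp
          rw [hj]
          obtain ⟨j', rfl⟩ := hdvd
          rw [pow_mul, S.Eexp _ (S.ZE hspZ), one_pow]
        exact hsC (blk_mem_of_pow_mem C s j h5 (S.powC s) h6)
      exact S.Zfix c₁ (S.Eomega c₁ hc₁ hc₁p) s hsC hc₁s.eq
    have h3 := blk_card_le_of_forall (Subgroup.centralizer {s}) Z s p hcent
    rw [S.Zcard] at h3
    rw [pow_two]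
    exact h3
  · left
    apply blk_huppert p hp _ G rfl hG
    set V := Subgroup.closure {x : G | ∃ g : G, x = g ^ p} with hV
    have hWV : W ≤ V := by
      rw [hW]
      apply Subgroup.closure_mono
      rintro u ⟨c, -, rfl⟩
      exact ⟨c, rfl⟩
    have htV : t ^ p ∈ V := Subgroup.subset_closure ⟨t, rfl⟩
    have hlt : W < V := lt_of_le_of_ne hWV (fun h => htW (h ▸ htV))
    have h1 : p * Nat.card W ≤ Nat.card V :=
      Cfsg.Agent.Lib.helper30.pgroup_lt_card p W V (hG.to_subgroup V) hlt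
    have h2 := S.mhoCard
    have h3 := S.Ccard
    have h4 := Subgroup.card_mul_index V
    have h5 : Nat.card V * V.index ≤ Nat.card V * p ^ 2 := by
      calc Nat.card V * V.index = p * Nat.card C := by rw [h4, h3]
        _ ≤ p * (p ^ 2 * Nat.card W) := Nat.mul_le_mul_left _ h2
        _ = p ^ 2 * (p * Nat.card W) := by ring
        _ ≤ p ^ 2 * Nat.card V := Nat.mul_le_mul_left _ h1
        _ = Nat.card V * p ^ 2 := by ring
    exact Nat.le_of_mul_le_mul_left h5 Nat.card_pos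

/-- **Case II.α.**  An element `b ∉ C` of order `p` together with `d ∈ C` with
`d^p ∈ E \ Z` forces `p = 3` and `|C_G(b)| ≤ p²`. -/
theorem blk_case_two_alpha (p : ℕ) [Fact p.Prime] (hp : p ≠ 2) {G : Type u} [Group G] [Finite G]
    (hG : IsPGroup p G) {E C Z : Subgroup G} (S : BSetup p E C Z) (b : G) (hb : b ∉ C)
    (hbp : b ^ p = 1) (d : G) (hd : d ∈ C) (hdE : d ^ p ∈ E) (hdZ : d ^ p ∉ Z) :
    p = 3 ∧ Nat.card (Subgroup.centralizer {b}) ≤ p ^ 2 := by
  have hpp : p.Prime := Fact.out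
  have hodd : 2 ∣ p - 1 := by
    obtain ⟨j, hj⟩ := hpp.odd_of_ne_two hp
    exact ⟨j, by omega⟩
  set u := d ^ p with hu
  set w := u⁻¹ * (b * u * b⁻¹) with hw
  have hwZ : w ∈ Z := S.Zcomm u hdE b
  have hbu : b * u * b⁻¹ = u * w := by rw [hw]; group
  have hw1 : w ≠ 1 := by
    intro h
    rw [h, mul_one] at hbu
    apply hdZ
    apply S.Zfix u hdE b hb
    calc b * u = (b * u * b⁻¹) * b := by group
      _ = u * b := by rw [hbu]
  have hd2 : d ^ (p ^ 2) = 1 := by rw [pow_two, pow_mul]; exact S.Eexp _ hdE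
  set bd := b * d * b⁻¹ with hbd
  have hbdC : bd ∈ C := S.Cnorm b d hd
  have hbdp : bd ^ p = u * w := by rw [hbd, conj_pow, ← hu, hbu]
  have hmulC : ∀ y ∈ C, (d * y) ^ p = d ^ p * y ^ p := by
    intro y hy
    set c := y * d * y⁻¹ * d⁻¹ with hc
    have hcp : c ^ p = 1 := S.thompson d hd y hy hd2
    have hcC : c ∈ C := C.mul_mem (C.mul_mem (C.mul_mem hy hd) (C.inv_mem hy)) (C.inv_mem hd)
    have hcE : c ∈ E := S.Eomega c hcC hcp
    have hmul : y * d = c * (d * y) := by rw [hc]; group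
    have h1 := Cfsg.Agent.S1443.mul_pow_of_comm_central d y c hmul
      (S.Ecomm d hd c hcE).symm (S.Ecomm y hy c hcE).symm p
    rw [h1, Nat.mul_div_assoc p hodd, pow_mul, hcp, one_pow, mul_one]
  have hbw : b * w⁻¹ * b⁻¹ = w⁻¹ := by
    have h1 := S.Zcent w hwZ b
    have h2 : b * w⁻¹ * b⁻¹ = (b * w * b⁻¹)⁻¹ := by group
    rw [h2, h1]; group
  have hp3 : p = 3 := by
    by_contra hp3
    set v := d * bd⁻¹ with hv
    have hvC : v ∈ C := C.mul_mem hd (C.inv_mem hbdC)
    have hvp : v ^ p = w⁻¹ := by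
      have huw : u * w = w * u := S.Zcent w hwZ u
      rw [hv, hmulC _ (C.inv_mem hbdC), inv_pow, hbdp, ← hu, huw]; group
    have hbv : (b * v * b⁻¹) ^ p = v ^ p := by rw [conj_pow, hvp, hbw]
    have hbvC : b * v * b⁻¹ ∈ C := S.Cnorm b v hvC
    have he := S.pc1 v hvC _ hbvC hbv.symm
    set e := v⁻¹ * (b * v * b⁻¹) with hedef
    have heE : e ∈ E := S.Eomega e (C.mul_mem (C.inv_mem hvC) hbvC) he
    have h1 : b * v * b⁻¹ = v * e := by rw [hedef]; group
    set ζ := e⁻¹ * (b * e * b⁻¹) with hζdef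
    have hζZ : ζ ∈ Z := S.Zcomm e heE b
    have h2 : b * e * b⁻¹ = e * ζ := by rw [hζdef]; group
    have hform := blk_pow_formula b v e ζ h1 h2 (S.Ecomm v hvC e heE) (S.Zcent ζ hζZ v)
      (S.Zcent ζ hζZ e) (S.Zcent ζ hζZ b) p
    have hvb : v * b = d * b * d⁻¹ := by rw [hv, hbd]; group
    have hvbp : (v * b) ^ p = 1 := by rw [hvb, conj_pow, hbp]; group
    rw [hvbp, hvp, blk_pow_eq_one_of_dvd (S.Eexp e heE) (blk_dvd_choose_two hpp hp),
      blk_pow_eq_one_of_dvd (S.Eexp ζ (S.ZE hζZ)) (blk_dvd_choose_three hpp hp hp3), hbp] at hform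
    apply hw1
    simpa using hform.symm
  refine ⟨hp3, ?_⟩
  have hcent : ∀ g ∈ Subgroup.centralizer {b}, ∃ i : ℕ, i < p ∧ ∃ k ∈ Z, g = b ^ i * k := by
    intro g hg
    have hgb : b * g = g * b := Subgroup.mem_centralizer_iff.mp hg b rfl
    obtain ⟨i, hi, c₁, hc₁, rfl⟩ := S.cosets b hb g
    have hc₁b : Commute b c₁ := by
      have h3 : Commute b (c₁ * b ^ i) := hgb
      have h4 : Commute b ((b ^ i)⁻¹) := ((Commute.refl b).pow_right i).inv_right
      have h5 := h3.mul_right h4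
      rwa [mul_assoc, mul_inv_cancel, mul_one] at h5
    refine ⟨i, hi, c₁, ?_, ((hc₁b.pow_left i).eq).symm⟩
    have hc₁p : c₁ ^ p = 1 := by
      by_contra hne
      obtain ⟨m, hm2, hmp⟩ := blk_exists_order_sq hG c₁ hne
      set c₂ := c₁ ^ m with hc₂
      have hc₂C : c₂ ∈ C := C.pow_mem hc₁ m
      have hc₂b : Commute b c₂ := hc₁b.pow_right m
      have hc₂pE : c₂ ^ p ∈ E :=
        S.Eomega _ (C.pow_mem hc₂C p) (by rw [← pow_mul, ← pow_two]; exact hm2)
      have hc₂pZ : c₂ ^ p ∈ Z := S.Zfix _ hc₂pE b hb (hc₂b.pow_right p).eq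
      obtain ⟨κ, -, hκ⟩ := blk_prime_gen Z S.Zcard (c₂ ^ p) hc₂pZ hmp w hwZ
      set y := c₂ ^ κ with hy
      have hyC : y ∈ C := C.pow_mem hc₂C κ
      have hyp : y ^ p = w := by rw [hy, ← pow_mul, mul_comm, pow_mul, ← hκ]
      have hby : b * y * b⁻¹ = y := by
        have h3 : Commute b y := hc₂b.pow_right κ
        rw [h3.eq]; group
      have h1 : (d * y) ^ p = bd ^ p := by rw [hmulC y hyC, hyp, hbdp]
      have he := S.pc1 (d * y) (C.mul_mem hd hyC) bd hbdC h1
      set e := (d * y)⁻¹ * bd with hedef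
      have heE : e ∈ E := S.Eomega e (C.mul_mem (C.inv_mem (C.mul_mem hd hyC)) hbdC) he
      have hbd' : b * d * b⁻¹ = d * y * e := by rw [hedef, hbd]; group
      set f := e⁻¹ * (b * e * b⁻¹) with hfdef
      have hfZ : f ∈ Z := S.Zcomm e heE b
      have hbe : b * e * b⁻¹ = e * f := by rw [hfdef]; group
      have hbf : b * f * b⁻¹ = f := by rw [S.Zcent f hfZ b]; group
      have cef : Commute e f := S.Zcent f hfZ e
      have cey : Commute e y := (S.Ecomm y hyC e heE).symm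
      have hiter : ∀ i : ℕ, b ^ i * d * (b ^ i)⁻¹ = d * y ^ i * e ^ i * f ^ (i.choose 2) := by
        intro i
        induction i with
        | zero => simp
        | succ i ih =>
          have h3 : b ^ (i + 1) * d * (b ^ (i + 1))⁻¹ = b * (b ^ i * d * (b ^ i)⁻¹) * b⁻¹ := by
            rw [pow_succ']; group
          have h4 : b * (d * y ^ i * e ^ i * f ^ (i.choose 2)) * b⁻¹
              = (b * d * b⁻¹) * (b * y * b⁻¹) ^ i * (b * e * b⁻¹) ^ i
                * (b * f * b⁻¹) ^ (i.choose 2) := by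
            simp only [conj_pow]; group
          have hc2 : (i + 1).choose 2 = i + i.choose 2 := by
            rw [Nat.choose_succ_succ' i 1, Nat.choose_one_right]
          have e1 : e * y ^ i = y ^ i * e := (cey.pow_right i).eq
          rw [h3, ih, h4, hbd', hby, hbe, hbf, cef.mul_pow, hc2, pow_succ' y, pow_succ' e, pow_add f]
          calc d * y * e * y ^ i * (e ^ i * f ^ i) * f ^ (i.choose 2)
              = d * y * (e * y ^ i) * e ^ i * f ^ i * f ^ (i.choose 2) := by simp only [mul_assoc]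
            _ = d * y * (y ^ i * e) * e ^ i * f ^ i * f ^ (i.choose 2) := by rw [e1]
            _ = d * (y * y ^ i) * (e * e ^ i) * (f ^ i * f ^ (i.choose 2)) := by
                simp only [mul_assoc]
      have h5 := hiter p
      rw [hbp, one_mul, inv_one, mul_one, hyp, S.Eexp e heE, mul_one,
        blk_pow_eq_one_of_dvd (S.Eexp f (S.ZE hfZ)) (blk_dvd_choose_two hpp hp), mul_one] at h5
      apply hw1
      exact (mul_eq_left).mp h5.symm
    exact S.Zfix c₁ (S.Eomega c₁ hc₁ hc₁p) b hb hc₁b.eq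
  have h3 := blk_card_le_of_forall (Subgroup.centralizer {b}) Z b p hcent
  rw [S.Zcard] at h3
  rw [pow_two]
  exact h3

end Cfsg.Agent.Lib.helper68
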