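import Mathlib
import Cfsg.Agent.Lib.helper68.Blk4
import Cfsg.Agent.Lib.helper59.SelfCentCyclic
import Cfsg.Agent.Lib.helper59.MetaArith

/-!
# Blackburn rank ≤ 2 : Case II.β (`C = ⟨z⟩E` abelian, a complement of order `p`)
-/

namespace Cfsg.Agent.Lib.helper68

universe u

open Subgroup

/-- Normalising a unit `σ` modulo squares. -/
theorem blk_nt (p : ℕ) [Fact p.Prime] (σ : ℕ) (hσ : ¬ p ∣ σ) :
    ∃ j s : ℕ, ¬ p ∣ j ∧ ¬ p ∣ s ∧ (s = 1 ∨ ¬ IsSquare (s : ZMod p)) ∧ σ * j ^ 2 ≡ s [MOD p] := by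
  have hpp : p.Prime := Fact.out
  have h1p : ¬ p ∣ 1 := by
    intro hdvd
    have := Nat.le_of_dvd one_pos hdvd
    have := hpp.two_le
    omega
  by_cases h : IsSquare (σ : ZMod p)
  · obtain ⟨r, hr⟩ := h
    have hr0 : r ≠ 0 := by
      rintro rfl
      rw [mul_zero] at hr
      exact hσ ((ZMod.natCast_eq_zero_iff σ p).mp hr)
    refine ⟨(r⁻¹).val, 1, ?_, h1p, Or.inl rfl, ?_⟩
    · intro hdvd
      have h1 : ((r⁻¹).val : ZMod p) = 0 := (ZMod.natCast_eq_zero_iff _ p).mpr hdvd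
      rw [ZMod.natCast_zmod_val] at h1
      exact hr0 (inv_eq_zero.mp h1)
    · apply (ZMod.natCast_eq_natCast_iff _ _ _).mp
      push_cast
      rw [ZMod.natCast_zmod_val, hr]
      field_simp
  · exact ⟨1, σ, h1p, hσ, Or.inr h, by rw [one_pow, mul_one]⟩

/-- Generation of `G` by `b⁻¹`, `y ∈ E \ Z` and `z` with `C = ⟨z⟩E`, `Z ≤ ⟨z⟩`. -/
theorem blk_gen (p : ℕ) [Fact p.Prime] {G : Type*} [Group G] {E C Z : Subgroup G}
    (S : BSetup p E C Z) (b : G) (hb : b ∉ C) (y z : G) (hyE : y ∈ E) (hyZ : y ∉ Z)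
    (hz : ∀ c ∈ C, ∃ i : ℕ, ∃ e ∈ E, c = z ^ i * e) (k : ℕ) (hk : z ^ k ∈ Z) (hk1 : z ^ k ≠ 1) :
    Subgroup.closure ({b⁻¹, y, z} : Set G) = ⊤ := by
  set K := Subgroup.closure ({b⁻¹, y, z} : Set G) with hK
  have hbK : b ∈ K := by
    have h1 : b⁻¹ ∈ K := Subgroup.subset_closure (by simp)
    have h2 := K.inv_mem h1
    rwa [inv_inv] at h2
  have hyK : y ∈ K := Subgroup.subset_closure (by simp)
  have hzK : z ∈ K := Subgroup.subset_closure (by simp)
  have hZK : ∀ ζ ∈ Z, ζ ∈ K := by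
    intro ζ hζ
    obtain ⟨j, -, rfl⟩ := blk_prime_gen Z S.Zcard (z ^ k) hk hk1 ζ hζ
    exact K.pow_mem (K.pow_mem hzK k) j
  have hEK : ∀ e ∈ E, e ∈ K := by
    intro e he
    obtain ⟨i, ζ, hζ, rfl⟩ := S.Zgen y hyE hyZ e he
    exact K.mul_mem (K.pow_mem hyK i) (hZK ζ hζ)
  have hCK : ∀ c ∈ C, c ∈ K := by
    intro c hc
    obtain ⟨i, e, he, rfl⟩ := hz c hc
    exact K.mul_mem (K.pow_mem hzK i) (hEK e he)
  rw [eq_top_iff]
  intro g _
  obtain ⟨i, -, c, hc, rfl⟩ := S.cosets b hb g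
  exact K.mul_mem (hCK c hc) (K.pow_mem hbK i)

/-- **Claim A.**  An element `b` of order `p` centralizes `z^p` when `b z b⁻¹ = z^a e₀`
with `e₀ ∈ E`. -/
theorem blk_claimA (p : ℕ) [Fact p.Prime] (hp : p ≠ 2) {G : Type u} [Group G] [Finite G]
    (hG : IsPGroup p G) {E C Z : Subgroup G} (S : BSetup p E C Z) (b : G) (hbp : b ^ p = 1)
    (z : G) (hz : z ∈ C) (a : ℕ) (e₀ : G) (he₀ : e₀ ∈ E) (hconj : b * z * b⁻¹ = z ^ a * e₀) :
    b * z ^ p * b⁻¹ = z ^ p := by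
  have hpp : p.Prime := Fact.out
  set y := z ^ p with hy
  have cze : Commute (z ^ a) e₀ := S.Ecomm _ (C.pow_mem hz a) e₀ he₀
  have hby : b * y * b⁻¹ = y ^ a := by
    rw [hy, ← conj_pow, hconj, cze.mul_pow, S.Eexp e₀ he₀, mul_one, ← pow_mul, ← pow_mul, mul_comm]
  by_cases hy1 : y = 1
  · rw [hy1]; group
  have hbyz : b * y * b⁻¹ = y ^ (a : ℤ) := by rw [zpow_natCast]; exact hby
  have h1 := Cfsg.Agent.Lib.helper59.cr_pow_conj hbyz p
  rw [hbp, one_mul, inv_one, mul_one] at h1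
  have h2 : y ^ ((a : ℤ) ^ p - 1) = 1 := by rw [zpow_sub_one, ← h1, mul_inv_cancel]
  have h3 : (orderOf y : ℤ) ∣ (a : ℤ) ^ p - 1 := orderOf_dvd_iff_zpow_eq_one.mpr h2
  obtain ⟨k, hk⟩ := IsPGroup.iff_orderOf.mp hG y
  have hk0 : k ≠ 0 := by
    rintro rfl
    rw [pow_zero, orderOf_eq_one_iff] at hk
    exact hy1 hk
  have h4 : (p : ℤ) ∣ (a : ℤ) ^ p - 1 := by
    refine dvd_trans ?_ h3
    rw [hk]
    push_cast
    exact dvd_pow_self _ hk0
  have h5 : (p : ℤ) ∣ (a : ℤ) - 1 := by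
    rw [← ZMod.intCast_zmod_eq_zero_iff_dvd] at h4 ⊢
    push_cast at h4 ⊢
    rw [ZMod.pow_card] at h4
    exact h4
  obtain ⟨m, hm⟩ := h5
  set f₀ := e₀⁻¹ * (b * e₀ * b⁻¹) with hf₀
  have hf₀Z : f₀ ∈ Z := S.Zcomm e₀ he₀ b
  have hbe : b * e₀ * b⁻¹ = e₀ * f₀ := by rw [hf₀]; group
  have hbf : b * f₀ * b⁻¹ = f₀ * 1 := by rw [mul_one, S.Zcent f₀ hf₀Z b]; group
  have hform := blk_pow_formula b e₀ f₀ 1 hbe hbf (S.Zcent f₀ hf₀Z e₀) (by simp) (by simp)
    (by simp) p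
  have hb'p : (e₀ * b) ^ p = 1 := by
    rw [hform, S.Eexp e₀ he₀,
      blk_pow_eq_one_of_dvd (S.Eexp f₀ (S.ZE hf₀Z)) (blk_dvd_choose_two hpp hp), one_pow, hbp]
    simp
  have hb'y : (e₀ * b) * y * (e₀ * b)⁻¹ = y ^ (a : ℤ) := by
    have h6 : (e₀ * b) * y * (e₀ * b)⁻¹ = e₀ * (b * y * b⁻¹) * e₀⁻¹ := by group
    have h7 : Commute (y ^ a) e₀ := S.Ecomm _ (C.pow_mem (C.pow_mem hz p) a) e₀ he₀
    rw [h6, hby, zpow_natCast, ← h7.eq]; group
  have h8 := Cfsg.Agent.Lib.helper59.cr_pow hb'y m p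
  rw [hb'p, mul_one] at h8
  have h9 : y ^ m * (e₀ * b) = z⁻¹ * b * z⁻¹⁻¹ := by
    have h10 : z⁻¹ * b * z⁻¹⁻¹ = z⁻¹ * (b * z * b⁻¹) * b := by group
    have h11 : y ^ m = z ^ a * z⁻¹ := by
      rw [hy, ← zpow_natCast z p, ← zpow_mul, ← hm, zpow_sub_one, zpow_natCast]
    rw [h10, hconj, h11]; group
  rw [h9, conj_pow, hbp, mul_one, mul_inv_cancel] at h8
  have h12 : (orderOf y : ℤ) ∣ m * Cfsg.Agent.Lib.helper59.gs (a : ℤ) p :=
    orderOf_dvd_iff_zpow_eq_one.mpr h8.symm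
  have hρ : (p : ℤ) ∣ (a : ℤ) - 1 := ⟨m, hm⟩
  have hg2 : ¬ (p : ℤ) ^ 2 ∣ Cfsg.Agent.Lib.helper59.gs (a : ℤ) p := by
    intro h
    have h13 := (Cfsg.Agent.Lib.helper59.gs_dvd_iff hp hρ 2 p).mp h
    have h14 := Nat.le_of_dvd hpp.pos h13
    nlinarith [hpp.two_le]
  rw [hk] at h12
  push_cast at h12
  have h15 := Cfsg.Agent.Lib.helper59.pow_pred_dvd_of_mul_dvd h12 hg2
  have h16 : (orderOf y : ℤ) ∣ (a : ℤ) - 1 := by
    rw [hk, hm]
    push_cast
    have h17 : (p : ℤ) ^ k = p * (p : ℤ) ^ (k - 1) := by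
      rw [← pow_succ', Nat.sub_add_cancel (Nat.one_le_iff_ne_zero.mpr hk0)]
    rw [h17]
    exact mul_dvd_mul_left _ h15
  have h18 : y ^ ((a : ℤ) - 1) = 1 := orderOf_dvd_iff_zpow_eq_one.mp h16
  rw [zpow_sub_one, mul_inv_eq_one] at h18
  rw [hbyz, h18]

/-- **Case II.β.**  An element `b ∉ C` of order `p`, and every `p`-th power of `C` lying in `E`
lies in `Z`: then `G` is in one of the two explicit families. -/
theorem blk_case_two_beta (p : ℕ) [Fact p.Prime] (hp : p ≠ 2) {G : Type u} [Group G] [Finite G]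
    (hG : IsPGroup p G) (n : ℕ) (hGcard : Nat.card G = p ^ n) {E C Z : Subgroup G}
    (S : BSetup p E C Z) (b : G) (hb : b ∉ C) (hbp : b ^ p = 1)
    (hβ : ∀ c ∈ C, c ^ p ∈ E → c ^ p ∈ Z) :
    (3 ≤ n ∧ ∃ x y z : G, Subgroup.closure ({x, y, z} : Set G) = ⊤ ∧ x ^ p = 1 ∧ y ^ p = 1 ∧
        z ^ p ^ (n - 2) = 1 ∧ x * z = z * x ∧ y * z = z * y ∧ x⁻¹ * y * x = y * z ^ p ^ (n - 3)) ∨
    (4 ≤ n ∧ ∃ (s : ℕ) (x y z : G), (s = 1 ∨ ¬ IsSquare (s : ZMod p)) ∧
        Subgroup.closure ({x, y, z} : Set G) = ⊤ ∧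
        x ^ p = 1 ∧ y ^ p = 1 ∧ z ^ p ^ (n - 2) = 1 ∧ y * z = z * y ∧
        x⁻¹ * y * x = y * z ^ (s * p ^ (n - 3)) ∧ x⁻¹ * z * x = y * z) := by
  have hpp : p.Prime := Fact.out
  have hCE : Nat.card E ≤ Nat.card C := Subgroup.card_le_of_le S.EC
  have hn3 : 3 ≤ n := by
    by_contra hcon
    have h1 : p ^ n ≤ p ^ 2 := Nat.pow_le_pow_right hpp.pos (by omega)
    have h2 := S.Ccard
    rw [hGcard] at h2
    rw [S.Ecard] at hCE
    have h3 : 0 < Nat.card C := Nat.card_pos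
    nlinarith [hpp.two_le]
  have hCcard : Nat.card C = p ^ (n - 1) := by
    have h2 := S.Ccard
    rw [hGcard] at h2
    have h3 : p ^ n = p * p ^ (n - 1) := by rw [← pow_succ', Nat.sub_add_cancel (by omega)]
    rw [h3] at h2
    exact Nat.eq_of_mul_eq_mul_left hpp.pos h2
  obtain ⟨z, hzC, hz⟩ := S.cycMod hβ
  obtain ⟨e₁, he₁E, he₁Z⟩ : ∃ e₁ ∈ E, e₁ ∉ Z := by
    by_contra hcon
    simp only [not_exists, not_and, not_not] at hcon
    have h1 : Nat.card E ≤ Nat.card Z := Subgroup.card_le_of_le (fun e he => hcon e he)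
    rw [S.Ecard, S.Zcard] at h1
    nlinarith [hpp.two_le]
  set w := e₁⁻¹ * (b * e₁ * b⁻¹) with hw
  have hwZ : w ∈ Z := S.Zcomm e₁ he₁E b
  have hbe₁ : b * e₁ * b⁻¹ = e₁ * w := by rw [hw]; group
  have hw1 : w ≠ 1 := by
    intro h
    rw [h, mul_one] at hbe₁
    apply he₁Z
    apply S.Zfix e₁ he₁E b hb
    calc b * e₁ = (b * e₁ * b⁻¹) * b := by group
      _ = e₁ * b := by rw [hbe₁]
  have hbinv : (b⁻¹) ^ p = 1 := by rw [inv_pow, hbp, inv_one]
  have cew : Commute e₁ w := S.Zcent w hwZ e₁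
  have hbe₁pow : ∀ i : ℕ, b * e₁ ^ i * b⁻¹ = e₁ ^ i * w ^ i := by
    intro i
    rw [← conj_pow, hbe₁, cew.mul_pow]
  by_cases hn : n = 3
  · left
    refine ⟨hn3, b⁻¹, e₁, w, ?_, hbinv, S.Eexp e₁ he₁E, ?_, ?_, ?_, ?_⟩
    · have hCeqE : E = C := Subgroup.eq_of_le_of_card_ge S.EC (by rw [hCcard, S.Ecard, hn])
      apply blk_gen p S b hb e₁ w he₁E he₁Z _ 1 (by rw [pow_one]; exact hwZ)
        (by rw [pow_one]; exact hw1)
      intro c hc
      exact ⟨0, c, by rw [hCeqE]; exact hc, by simp⟩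
    · have h1 : n - 2 = 1 := by omega
      rw [h1, pow_one]
      exact S.Eexp w (S.ZE hwZ)
    · exact S.Zcent w hwZ b⁻¹
    · exact S.Zcent w hwZ e₁
    · have h1 : n - 3 = 0 := by omega
      rw [h1, pow_zero, pow_one, inv_inv]
      exact hbe₁
  · have hn4 : 4 ≤ n := by omega
    have hzpow2 : z ^ (p ^ (n - 2)) = 1 := by
      have h1 : orderOf z ∣ p ^ (n - 1) := hCcard ▸ Subgroup.orderOf_dvd_natCard C hzC
      obtain ⟨m, hm, hm'⟩ := (Nat.dvd_prime_pow hpp).mp h1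
      have hm2 : m ≤ n - 2 := by
        by_contra hcon
        have hm3 : m = n - 1 := by omega
        apply S.Cncyc
        have h2 : Subgroup.zpowers z = C := by
          apply Subgroup.eq_of_le_of_card_ge
          · rw [Subgroup.zpowers_le]; exact hzC
          · rw [Nat.card_zpowers, hm', hm3, hCcard]
        rw [← h2]
        infer_instance
      rw [← orderOf_dvd_iff_pow_eq_one, hm']
      exact pow_dvd_pow p hm2
    have hz₀1 : z ^ (p ^ (n - 3)) ≠ 1 := by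
      intro h
      set r := p ^ (n - 4) with hr
      have hrpos : 0 < r := pow_pos hpp.pos _
      have hzrE : z ^ r ∈ E := by
        apply S.Eomega _ (C.pow_mem hzC r)
        rw [← pow_mul, hr, ← pow_succ, show n - 4 + 1 = n - 3 by omega]
        exact h
      have hall : ∀ c ∈ C, ∃ i : ℕ, i < r ∧ ∃ k ∈ E, c = z ^ i * k := by
        intro c hc
        obtain ⟨i, e, he, rfl⟩ := hz c hc
        refine ⟨i % r, Nat.mod_lt _ hrpos, (z ^ r) ^ (i / r) * e,
          E.mul_mem (E.pow_mem hzrE _) he, ?_⟩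
        conv_lhs => rw [← Nat.mod_add_div i r]
        rw [pow_add, pow_mul]; group
      have h1 := blk_card_le_of_forall C E z r hall
      rw [hCcard, S.Ecard, hr, ← pow_add] at h1
      have h2 : p ^ (n - 4 + 2) < p ^ (n - 1) := Nat.pow_lt_pow_right hpp.one_lt (by omega)
      omega
    set z₀ := z ^ (p ^ (n - 3)) with hz₀
    have hz₀p : z₀ ^ p = 1 := by
      rw [hz₀, ← pow_mul, ← pow_succ, show n - 3 + 1 = n - 2 by omega]; exact hzpow2
    have hz₀Z : z₀ ∈ Z := by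
      have h1 : z₀ = (z ^ (p ^ (n - 4))) ^ p := by
        rw [hz₀, ← pow_mul, ← pow_succ, show n - 4 + 1 = n - 3 by omega]
      rw [h1]
      apply hβ _ (C.pow_mem hzC _)
      rw [← h1]
      exact S.Eomega z₀ (C.pow_mem hzC _) hz₀p
    obtain ⟨a, e₀, he₀, hconj⟩ := hz (b * z * b⁻¹) (S.Cnorm b z hzC)
    have hA := blk_claimA p hp hG S b hbp z hzC a e₀ he₀ hconj
    set q := z⁻¹ * (b * z * b⁻¹) with hq
    have hqC : q ∈ C := C.mul_mem (C.inv_mem hzC) (S.Cnorm b z hzC)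
    have hqp : q ^ p = 1 := by
      have hcomm : Commute z⁻¹ (b * z * b⁻¹) := by
        rw [hconj]
        have h1 : Commute z (z ^ a * e₀) :=
          ((Commute.refl z).pow_right a).mul_right (S.Ecomm z hzC e₀ he₀)
        exact h1.inv_left
      rw [hq, hcomm.mul_pow, conj_pow, hA, inv_pow, inv_mul_cancel]
    have hqE : q ∈ E := S.Eomega q hqC hqp
    have hbz : b * z * b⁻¹ = z * q := by rw [hq]; group
    by_cases hqZ : q ∈ Z
    · left
      obtain ⟨j, -, hj⟩ := blk_prime_gen Z S.Zcard w hwZ hw1 q⁻¹ (Z.inv_mem hqZ)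
      set e' := e₁ ^ j with he'
      have he'E : e' ∈ E := E.pow_mem he₁E j
      have hbe' : b * e' * b⁻¹ = e' * q⁻¹ := by rw [he', hbe₁pow, ← hj]
      set z' := z * e' with hz'
      have hz'C : z' ∈ C := C.mul_mem hzC (S.EC he'E)
      have cze' : Commute z e' := S.Ecomm z hzC e' he'E
      have hbz' : b * z' * b⁻¹ = z' := by
        have h1 : b * z' * b⁻¹ = (b * z * b⁻¹) * (b * e' * b⁻¹) := by rw [hz']; group
        rw [h1, hbz, hbe']
        calc z * q * (e' * q⁻¹) = z * (q * e') * q⁻¹ := by group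
          _ = z * (e' * q) * q⁻¹ := by rw [← S.Zcent q hqZ e']
          _ = z * e' := by group
      have he'pk : ∀ k : ℕ, 1 ≤ k → e' ^ (p ^ k) = 1 := by
        intro k hk
        exact blk_pow_eq_one_of_dvd (S.Eexp e' he'E) (dvd_pow_self p (by omega))
      have hz'pow2 : z' ^ (p ^ (n - 2)) = 1 := by
        rw [hz', cze'.mul_pow, hzpow2, he'pk _ (by omega), mul_one]
      have hz'pow3 : z' ^ (p ^ (n - 3)) = z₀ := by
        rw [hz', cze'.mul_pow, he'pk _ (by omega), mul_one]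
      obtain ⟨i, -, hi⟩ := blk_prime_gen Z S.Zcard w hwZ hw1 z₀ hz₀Z
      set y := e₁ ^ i with hy
      have hyE : y ∈ E := E.pow_mem he₁E i
      have hby : b * y * b⁻¹ = y * z₀ := by rw [hy, hbe₁pow, ← hi]
      have hyZ : y ∉ Z := by
        intro h
        have h1 : b * y * b⁻¹ = y := by rw [S.Zcent y h b]; group
        rw [h1] at hby
        exact hz₀1 ((mul_eq_left).mp hby.symm)
      refine ⟨hn3, b⁻¹, y, z', ?_, hbinv, S.Eexp y hyE, hz'pow2, ?_, ?_, ?_⟩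
      · apply blk_gen p S b hb y z' hyE hyZ _ (p ^ (n - 3)) (by rw [hz'pow3]; exact hz₀Z)
          (by rw [hz'pow3]; exact hz₀1)
        intro c hc
        obtain ⟨i', e, he, rfl⟩ := hz c hc
        refine ⟨i', (e' ^ i')⁻¹ * e, E.mul_mem (E.inv_mem (E.pow_mem he'E _)) he, ?_⟩
        rw [hz', cze'.mul_pow]; group
      · have h1 : b * z' = z' * b := by
          calc b * z' = (b * z' * b⁻¹) * b := by group
            _ = z' * b := by rw [hbz']
        calc b⁻¹ * z' = b⁻¹ * (z' * b) * b⁻¹ := by group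
          _ = b⁻¹ * (b * z') * b⁻¹ := by rw [h1]
          _ = z' * b⁻¹ := by group
      · exact (S.Ecomm z' hz'C y hyE).symm
      · rw [inv_inv, hz'pow3]; exact hby
    · right
      set wq := q⁻¹ * (b * q * b⁻¹) with hwq
      have hwqZ : wq ∈ Z := S.Zcomm q hqE b
      have hbq : b * q * b⁻¹ = q * wq := by rw [hwq]; group
      have hwq1 : wq ≠ 1 := by
        intro h
        rw [h, mul_one] at hbq
        apply hqZ
        apply S.Zfix q hqE b hb
        calc b * q = (b * q * b⁻¹) * b := by group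
          _ = q * b := by rw [hbq]
      obtain ⟨σ, hσlt, hσ⟩ := blk_prime_gen Z S.Zcard z₀ hz₀Z hz₀1 wq hwqZ
      have hσp : ¬ p ∣ σ := by
        intro hdvd
        apply hwq1
        rw [hσ]
        exact blk_pow_eq_one_of_dvd hz₀p hdvd
      obtain ⟨j, s, hj, hs, hsq, hmod⟩ := blk_nt p σ hσp
      have cqw : Commute q wq := S.Zcent wq hwqZ q
      have hbwq : b * wq * b⁻¹ = wq := by rw [S.Zcent wq hwqZ b]; group
      have hiter : ∀ j : ℕ, b ^ j * z * (b ^ j)⁻¹ = z * q ^ j * wq ^ (j.choose 2) ∧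
          b ^ j * q * (b ^ j)⁻¹ = q * wq ^ j := by
        intro j
        induction j with
        | zero => simp
        | succ j ih =>
          obtain ⟨ih1, ih2⟩ := ih
          have h3 : ∀ g : G, b ^ (j + 1) * g * (b ^ (j + 1))⁻¹
              = b * (b ^ j * g * (b ^ j)⁻¹) * b⁻¹ := by
            intro g
            rw [pow_succ']; group
          constructor
          · have h4 : b * (z * q ^ j * wq ^ (j.choose 2)) * b⁻¹
                = (b * z * b⁻¹) * (b * q * b⁻¹) ^ j * (b * wq * b⁻¹) ^ (j.choose 2) := by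
              simp only [conj_pow]; group
            have hc2 : (j + 1).choose 2 = j + j.choose 2 := by
              rw [Nat.choose_succ_succ' j 1, Nat.choose_one_right]
            rw [h3, ih1, h4, hbz, hbq, hbwq, cqw.mul_pow, hc2, pow_succ' q, pow_add wq]
            simp only [mul_assoc]
          · have h4 : b * (q * wq ^ j) * b⁻¹ = (b * q * b⁻¹) * (b * wq * b⁻¹) ^ j := by
              simp only [conj_pow]; group
            rw [h3, ih2, h4, hbq, hbwq, pow_succ' wq]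
            simp only [mul_assoc]
      obtain ⟨hj1, hj2⟩ := hiter j
      set y := q ^ j * wq ^ (j.choose 2) with hy
      have hyE : y ∈ E := E.mul_mem (E.pow_mem hqE j) (E.pow_mem (S.ZE hwqZ) _)
      have hz₀ord : orderOf z₀ = p := orderOf_eq_prime hz₀p hz₀1
      have hwqjj : wq ^ (j * j) = z₀ ^ s := by
        rw [hσ, ← pow_mul, pow_eq_pow_iff_modEq, hz₀ord]
        have h1 : σ * (j * j) = σ * j ^ 2 := by ring
        rw [h1]
        exact hmod
      have hby : b ^ j * y * (b ^ j)⁻¹ = y * z₀ ^ s := by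
        have h4 : b ^ j * y * (b ^ j)⁻¹
            = (b ^ j * q * (b ^ j)⁻¹) ^ j * (b ^ j * wq * (b ^ j)⁻¹) ^ (j.choose 2) := by
          rw [hy]; simp only [conj_pow]; group
        have h5 : b ^ j * wq * (b ^ j)⁻¹ = wq := by rw [S.Zcent wq hwqZ (b ^ j)]; group
        have h6 : z₀ ^ s * wq ^ (j.choose 2) = wq ^ (j.choose 2) * z₀ ^ s :=
          S.Zcent _ (Z.pow_mem hwqZ _) _
        rw [h4, hj2, h5, (cqw.pow_right j).mul_pow, ← pow_mul, hwqjj, hy, mul_assoc, h6, ← mul_assoc]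
      have hz₀s1 : z₀ ^ s ≠ 1 := by
        intro h
        rw [← orderOf_dvd_iff_pow_eq_one, hz₀ord] at h
        exact hs h
      have hyZ : y ∉ Z := by
        intro h
        have h1 : b ^ j * y * (b ^ j)⁻¹ = y := by rw [S.Zcent y h (b ^ j)]; group
        rw [h1] at hby
        exact hz₀s1 ((mul_eq_left).mp hby.symm)
      have hbjC : b ^ j ∉ C := fun h => hb (blk_mem_of_pow_mem C b j h (S.powC b) hj)
      have hxp : ((b ^ j)⁻¹) ^ p = 1 := by
        rw [inv_pow, ← pow_mul, mul_comm, pow_mul, hbp, one_pow, inv_one]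
      refine ⟨hn4, s, (b ^ j)⁻¹, y, z, hsq, ?_, hxp, S.Eexp y hyE, hzpow2, ?_, ?_, ?_⟩
      · exact blk_gen p S (b ^ j) hbjC y z hyE hyZ hz (p ^ (n - 3)) hz₀Z hz₀1
      · exact (S.Ecomm z hzC y hyE).symm
      · rw [inv_inv, hby, hz₀, ← pow_mul, mul_comm]
      · rw [inv_inv, hj1, mul_assoc]
        exact S.Ecomm z hzC y hyE

end Cfsg.Agent.Lib.helper68
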