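import Mathlib

/-!
# Wielandt's theorem on primitive groups of degree `2p` (S0720): shared definitions

Points are `ZMod p × Fin 2` (two orbits of an element of order `p`).  A `Scheme` is a
shift-invariant colouring of the ordered pairs of points (the orbitals of a transitive group
containing the shift), with the diagonal colour `i0`, the transposition `tr` of colours and the
valencies `n`.  See `tools/S0720_SPEC.md` for the paper proof.
-/

set_option autoImplicit false

namespace Cfsg.Agent.Lib.helper68.W2P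

open Finset
open scoped Classical

/-- A shift-invariant colouring of the ordered pairs of points of `ZMod p × Fin 2`. -/
structure Scheme (p : ℕ) [Fact p.Prime] (ι : Type*) where
  col : ZMod p × Fin 2 → ZMod p × Fin 2 → ι
  i0 : ι
  tr : ι → ι
  n : ι → ℕ
  shift : ∀ (x y : ZMod p) (j k : Fin 2), col (x + 1, j) (y + 1, k) = col (x, j) (y, k)
  diag : ∀ ω ω' : ZMod p × Fin 2, col ω ω' = i0 ↔ ω = ω'
  col_tr : ∀ ω ω' : ZMod p × Fin 2, col ω' ω = tr (col ω ω')
  valency : ∀ (j : ι) (ω : ZMod p × Fin 2), (univ.filter (fun ω' => col ω ω' = j)).card = n j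
  surj : ∀ j : ι, ∃ ω ω' : ZMod p × Fin 2, col ω ω' = j

variable {p : ℕ} [Fact p.Prime] {ι : Type*}

namespace Scheme

/-- differences `s` with `(0,0) → (s,0)` of colour `j` -/
noncomputable def S (D : Scheme p ι) (j : ι) : Finset (ZMod p) :=
  univ.filter (fun s => D.col (0, 0) (s, 0) = j)

/-- differences `s` with `(0,1) → (s,1)` of colour `j` -/
noncomputable def S' (D : Scheme p ι) (j : ι) : Finset (ZMod p) :=
  univ.filter (fun s => D.col (0, 1) (s, 1) = j)

/-- differences `s` with `(0,0) → (s,1)` of colour `j` -/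
noncomputable def R (D : Scheme p ι) (j : ι) : Finset (ZMod p) :=
  univ.filter (fun s => D.col (0, 0) (s, 1) = j)

/-- differences `s` with `(0,1) → (s,0)` of colour `j` -/
noncomputable def R' (D : Scheme p ι) (j : ι) : Finset (ZMod p) :=
  univ.filter (fun s => D.col (0, 1) (s, 0) = j)

/-- the eigenvalue of the colour `j` on the vector `(+1 on side 0, -1 on side 1)` -/
noncomputable def mu (D : Scheme p ι) (j : ι) : ℤ := ((D.S j).card : ℤ) - ((D.R j).card : ℤ)

/-- `c` (the matrix `E ω ω' = c (col ω ω')`) is an eigen-matrix: `B_j E = mu_j E`. -/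
def Eig (D : Scheme p ι) (c : ι → ℚ) : Prop :=
  ∀ (j : ι) (ω ω' : ZMod p × Fin 2),
    ∑ ω'' ∈ univ.filter (fun ω'' => D.col ω ω'' = j), c (D.col ω'' ω') =
      (D.mu j : ℚ) * c (D.col ω ω')

/-- `E` is not constant on the pairs inside side 0. -/
def Prim0 (D : Scheme p ι) (c : ι → ℚ) : Prop :=
  ∃ s : ZMod p, c (D.col (0, 0) (s, 0)) ≠ c D.i0

/-- no colour consists of all pairs of distinct points of side 0 and no pair from side 0 to
side 1 -/
def PrimA (D : Scheme p ι) : Prop :=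
  ¬ ∃ j : ι, (∀ s : ZMod p, s ≠ 0 → D.col (0, 0) (s, 0) = j) ∧
    (∀ s : ZMod p, D.col (0, 0) (s, 1) ≠ j)

/-- every non-diagonal colour has valency at least 2 -/
def PrimB (D : Scheme p ι) : Prop := ∀ j : ι, j ≠ D.i0 → 2 ≤ D.n j

/-- the matrix `E` -/
noncomputable def E (D : Scheme p ι) (c : ι → ℚ) : ZMod p × Fin 2 → ZMod p × Fin 2 → ℂ :=
  fun ω ω' => ((c (D.col ω ω') : ℚ) : ℂ)

/-- the colour matrix `B_j` -/
noncomputable def B (D : Scheme p ι) (j : ι) : ZMod p × Fin 2 → ZMod p × Fin 2 → ℂ :=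
  fun ω ω' => if D.col ω ω' = j then 1 else 0

/-- the eigenvalue of `E` on its image: `E * E = kappa E` -/
noncomputable def kappa [Fintype ι] (D : Scheme p ι) (c : ι → ℚ) : ℚ := ∑ j, c j * (D.mu j : ℚ)

end Scheme

/-- Fourier transform at `ξ` of a (shift-invariant) matrix indexed by the points: a `2 × 2`
matrix. -/
noncomputable def hat (Z : ZMod p × Fin 2 → ZMod p × Fin 2 → ℂ) (ξ : ℂ) :
    Matrix (Fin 2) (Fin 2) ℂ :=
  fun j k => ∑ s : ZMod p, Z (0, j) (s, k) * ξ ^ s.val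

theorem hat_apply (Z : ZMod p × Fin 2 → ZMod p × Fin 2 → ℂ) (ξ : ℂ) (j k : Fin 2) :
    hat Z ξ j k = ∑ s : ZMod p, Z (0, j) (s, k) * ξ ^ s.val := rfl

theorem hatB_00 (D : Scheme p ι) (j : ι) (ξ : ℂ) :
    hat (D.B j) ξ 0 0 = ∑ s ∈ D.S j, ξ ^ s.val := by
  simp [hat, Scheme.B, Scheme.S, Finset.sum_filter]

theorem hatB_11 (D : Scheme p ι) (j : ι) (ξ : ℂ) :
    hat (D.B j) ξ 1 1 = ∑ s ∈ D.S' j, ξ ^ s.val := by
  simp [hat, Scheme.B, Scheme.S', Finset.sum_filter]

theorem hatB_01 (D : Scheme p ι) (j : ι) (ξ : ℂ) :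
    hat (D.B j) ξ 0 1 = ∑ s ∈ D.R j, ξ ^ s.val := by
  simp [hat, Scheme.B, Scheme.R, Finset.sum_filter]

theorem hatB_10 (D : Scheme p ι) (j : ι) (ξ : ℂ) :
    hat (D.B j) ξ 1 0 = ∑ s ∈ D.R' j, ξ ^ s.val := by
  simp [hat, Scheme.B, Scheme.R', Finset.sum_filter]

theorem hatE_apply (D : Scheme p ι) (c : ι → ℚ) (ξ : ℂ) (j k : Fin 2) :
    hat (D.E c) ξ j k = ∑ s : ZMod p, ((c (D.col (0, j) (s, k)) : ℚ) : ℂ) * ξ ^ s.val := rfl

end Cfsg.Agent.Lib.helper68.W2P
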