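import Mathlib

set_option autoImplicit false

namespace Cfsg.Agent.Lib.helper68

open Subgroup

section CentMaxBasic

variable {G : Type*} [Group G]

/-- centralizer of a single element -/
abbrev cz (g : G) : Subgroup G := Subgroup.centralizer ({g} : Set G)

lemma mem_cz {g h : G} : h ∈ cz g ↔ h * g = g * h := Subgroup.mem_centralizer_singleton_iff

lemma self_mem_cz (g : G) : g ∈ cz g := mem_cz.2 rfl

lemma cz_le_cz_pow (g : G) (k : ℕ) : cz g ≤ cz (g ^ k) := by
  intro h hh
  rw [mem_cz] at hh ⊢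
  exact (Commute.pow_right (show Commute h g from hh) k).eq

lemma mem_cz_conj {g a h : G} : h ∈ cz (a * g * a⁻¹) ↔ a⁻¹ * h * a ∈ cz g := by
  rw [mem_cz, mem_cz]
  constructor
  · intro hh
    have : a⁻¹ * (h * (a * g * a⁻¹)) * a = a⁻¹ * (a * g * a⁻¹ * h) * a := by rw [hh]
    simpa [mul_assoc] using this
  · intro hh
    have : a * (a⁻¹ * h * a * g) * a⁻¹ = a * (g * (a⁻¹ * h * a)) * a⁻¹ := by rw [hh]
    simpa [mul_assoc] using this

lemma cz_ne_top_of_not_mem_center {g : G} (hg : g ∉ center G) : cz g ≠ ⊤ := by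
  intro h
  apply hg
  rw [Subgroup.mem_center_iff]
  intro k
  have : k ∈ cz g := by rw [h]; trivial
  exact mem_cz.1 this

lemma cz_eq_top_of_mem_center {g : G} (hg : g ∈ center G) : cz g = ⊤ := by
  rw [eq_top_iff]
  intro k _
  exact mem_cz.2 ((Subgroup.mem_center_iff.1 hg) k)

/-- `N ⊔ ⟨u⟩ = ⊤` for a coatom `N` and `u ∉ N`. -/
lemma coatom_sup_zpowers {N : Subgroup G} (hN : IsCoatom N) {u : G} (hu : u ∉ N) :
    N ⊔ zpowers u = ⊤ := by
  have h1 : N < N ⊔ zpowers u := by
    refine lt_of_le_of_ne le_sup_left ?_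
    intro h
    apply hu
    have : u ∈ N ⊔ zpowers u := mem_sup_right (mem_zpowers u)
    rwa [← h] at this
  exact hN.2 _ h1

lemma coatom_exists_not_mem {N : Subgroup G} (hN : IsCoatom N) : ∃ u, u ∉ N := by
  by_contra hcon
  simp only [not_exists, not_not] at hcon
  exact hN.1 (eq_top_iff.2 fun x _ => hcon x)

/-- Commutators lie in a normal coatom. -/
lemma normal_coatom_comm_mem {N : Subgroup G} [hNn : N.Normal] (hN : IsCoatom N) (a b : G) :
    a * b * a⁻¹ * b⁻¹ ∈ N := by
  obtain ⟨u, hu⟩ := coatom_exists_not_mem hN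
  have htop := coatom_sup_zpowers hN hu
  have key : ∀ g : G, ∃ k : ℤ, (g : G ⧸ N) = (u : G ⧸ N) ^ k := by
    intro g
    have hg : g ∈ N ⊔ zpowers u := by rw [htop]; trivial
    obtain ⟨n, hn, z, hz, rfl⟩ := mem_sup_of_normal_left.1 hg
    obtain ⟨k, rfl⟩ := mem_zpowers_iff.1 hz
    refine ⟨k, ?_⟩
    rw [QuotientGroup.mk_mul, (QuotientGroup.eq_one_iff n).2 hn, one_mul, QuotientGroup.mk_zpow]
  obtain ⟨i, hi⟩ := key a
  obtain ⟨j, hj⟩ := key b
  rw [← QuotientGroup.eq_one_iff]
  simp only [QuotientGroup.mk_mul, QuotientGroup.mk_inv, hi, hj]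
  have hc : Commute ((u : G ⧸ N) ^ i) ((u : G ⧸ N) ^ j) := (Commute.refl _).zpow_zpow i j
  rw [hc.eq]
  group

/-- A finite nontrivial group whose only subgroups are `⊥` and `⊤` has prime order. -/
lemma card_prime_of_subgroups_trivial {Q : Type*} [Group Q] [Finite Q] [Nontrivial Q]
    (h : ∀ H : Subgroup Q, H = ⊥ ∨ H = ⊤) : (Nat.card Q).Prime := by
  have h1 : Nat.card Q ≠ 1 := by
    intro h1
    have := (Nat.card_eq_one_iff_unique.1 h1).1
    exact not_subsingleton Q this
  have hp := Nat.minFac_prime h1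
  have : Fact (Nat.card Q).minFac.Prime := ⟨hp⟩
  obtain ⟨g, hg⟩ := exists_prime_orderOf_dvd_card' (G := Q) (Nat.card Q).minFac
    (Nat.minFac_dvd _)
  have hg1 : g ≠ 1 := by
    rintro rfl
    rw [orderOf_one] at hg
    exact hp.one_lt.ne hg
  rcases h (zpowers g) with h2 | h2
  · exact absurd (zpowers_eq_bot.1 h2) hg1
  · have : Nat.card Q = orderOf g := by
      rw [← Nat.card_zpowers, h2, Subgroup.card_top]
    rw [this, hg]
    exact hp

/-- A normal coatom in a finite group has prime index. -/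
lemma normal_coatom_index_prime [Finite G] {N : Subgroup G} [hNn : N.Normal] (hN : IsCoatom N) :
    N.index.Prime := by
  rw [Subgroup.index_eq_card]
  have : Nontrivial (G ⧸ N) := by
    obtain ⟨u, hu⟩ := coatom_exists_not_mem hN
    exact ⟨⟨(u : G ⧸ N), 1, fun h => hu ((QuotientGroup.eq_one_iff u).1 h)⟩⟩
  apply card_prime_of_subgroups_trivial
  intro H
  have h1 : N ≤ H.comap (QuotientGroup.mk' N) := QuotientGroup.le_comap_mk' N H
  rcases hN.le_iff.1 h1 with h2 | h2
  · right
    apply Subgroup.comap_injective (QuotientGroup.mk'_surjective N)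
    rw [h2, Subgroup.comap_top]
  · left
    apply Subgroup.comap_injective (QuotientGroup.mk'_surjective N)
    rw [h2, MonoidHom.comap_bot, QuotientGroup.ker_mk']

end CentMaxBasic

end Cfsg.Agent.Lib.helper68
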