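import Mathlib
import Cfsg.Agent.Lib.helper68.Blk2

/-!
# The induction step of Huppert's metacyclicity criterion, for all primes

If `G` is a finite `p`-group, `Z` a central subgroup of exponent `p` contained in
`K₃(G)·⟨[a,b]^p⟩`, and `G ⧸ Z` is metacyclic, then `G` is metacyclic.
-/

namespace Cfsg.Agent.Lib.helper68

universe u

open Subgroup

theorem mcyc_step (p : ℕ) [Fact p.Prime] {G : Type u} [Group G] [Finite G] (hG : IsPGroup p G)
    (Z : Subgroup G) [hZn : Z.Normal] (hZc : ∀ ζ ∈ Z, ∀ g : G, ζ * g = g * ζ)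
    (hζp : ∀ ζ ∈ Z, ζ ^ p = 1)
    (hZN : ∀ ζ ∈ Z, ζ ∈ Subgroup.closure
      ({w | ∃ a b g : G, w = (a * b * a⁻¹ * b⁻¹) * g * (a * b * a⁻¹ * b⁻¹)⁻¹ * g⁻¹} ∪
        {w | ∃ a b : G, w = (a * b * a⁻¹ * b⁻¹) ^ p}))
    (hQ : MCyc (G ⧸ Z)) : MCyc G := by
  have hpp : p.Prime := Fact.out
  set N₀ := Subgroup.closure
      ({w | ∃ a b g : G, w = (a * b * a⁻¹ * b⁻¹) * g * (a * b * a⁻¹ * b⁻¹)⁻¹ * g⁻¹} ∪
        {w | ∃ a b : G, w = (a * b * a⁻¹ * b⁻¹) ^ p}) with hN₀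
  obtain ⟨xb, yb, hnb, hgb⟩ := hQ
  obtain ⟨x, rfl⟩ := QuotientGroup.mk_surjective xb
  obtain ⟨y, rfl⟩ := QuotientGroup.mk_surjective yb
  have F1 : ∀ g : G, ∃ k : ℤ, ∃ ζ ∈ Z, g * x * g⁻¹ = x ^ k * ζ := by
    intro g
    have h1 := hnb (g : G ⧸ Z)
    obtain ⟨k, hk⟩ := Subgroup.mem_zpowers_iff.mp h1
    refine ⟨k, (x ^ k)⁻¹ * (g * x * g⁻¹), ?_, by group⟩
    rw [← QuotientGroup.eq]
    simpa using hk
  have F2 : ∀ g : G, ∃ i j : ℕ, ∃ ζ ∈ Z, g = y ^ j * x ^ i * ζ := by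
    intro g
    obtain ⟨i, j, hij⟩ := hgb (g : G ⧸ Z)
    refine ⟨i, j, (y ^ j * x ^ i)⁻¹ * g, ?_, by group⟩
    rw [← QuotientGroup.eq]
    simpa using hij.symm
  obtain ⟨k, ζ₀, hζ₀, hk⟩ := F1 y
  set c := y * x * y⁻¹ * x⁻¹ with hc
  have hcx : c = x ^ (k - 1) * ζ₀ := by
    rw [hc, hk, zpow_sub_one]
    have h1 := hZc ζ₀ hζ₀ x⁻¹
    rw [mul_assoc, h1]; group
  have hcxcomm : c * x = x * c := by
    rw [hcx]
    have h1 := hZc ζ₀ hζ₀ x
    calc x ^ (k - 1) * ζ₀ * x = x ^ (k - 1) * (ζ₀ * x) := by group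
      _ = x ^ (k - 1) * (x * ζ₀) := by rw [h1]
      _ = x * (x ^ (k - 1) * ζ₀) := by group
  have hyc : y * c * y⁻¹ = c ^ k := by
    have h1 : y * x * y⁻¹ = c * x := by rw [hc]; group
    have h2 : y * c * y⁻¹ = (y * x * y⁻¹) ^ (k - 1) * ζ₀ := by
      rw [conj_zpow]
      have h3 := hZc ζ₀ hζ₀ y⁻¹
      calc y * c * y⁻¹ = y * (x ^ (k - 1) * ζ₀) * y⁻¹ := by rw [← hcx]
        _ = y * x ^ (k - 1) * (ζ₀ * y⁻¹) := by group
        _ = y * x ^ (k - 1) * (y⁻¹ * ζ₀) := by rw [h3]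
        _ = y * x ^ (k - 1) * y⁻¹ * ζ₀ := by group
    rw [h2, h1, (show Commute c x from hcxcomm).mul_zpow, mul_assoc, ← hcx, ← zpow_add_one]
    congr 1
    ring
  have hMn : (Subgroup.zpowers c).Normal := by
    refine ⟨fun m hm g => ?_⟩
    obtain ⟨l, rfl⟩ := Subgroup.mem_zpowers_iff.mp hm
    rw [← conj_zpow]
    apply Subgroup.zpow_mem
    obtain ⟨i, j, ζ, hζ, rfl⟩ := F2 g
    have h1 : (y ^ j * x ^ i * ζ) * c * (y ^ j * x ^ i * ζ)⁻¹ = y ^ j * c * (y ^ j)⁻¹ := by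
      have e1 : ζ * c = c * ζ := hZc ζ hζ c
      have e2 : x ^ i * c = c * x ^ i := ((show Commute c x from hcxcomm).pow_right i).eq.symm
      calc (y ^ j * x ^ i * ζ) * c * (y ^ j * x ^ i * ζ)⁻¹
          = y ^ j * x ^ i * (ζ * c) * ζ⁻¹ * (x ^ i)⁻¹ * (y ^ j)⁻¹ := by group
        _ = y ^ j * (x ^ i * c) * (x ^ i)⁻¹ * (y ^ j)⁻¹ := by rw [e1]; group
        _ = y ^ j * c * (y ^ j)⁻¹ := by rw [e2]; group
    rw [h1]
    have h2 : ∀ j : ℕ, y ^ j * c * (y ^ j)⁻¹ ∈ Subgroup.zpowers c := by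
      intro j
      induction j with
      | zero => simp
      | succ j ihj =>
        have h3 : y ^ (j + 1) * c * (y ^ (j + 1))⁻¹ = y * (y ^ j * c * (y ^ j)⁻¹) * y⁻¹ := by
          rw [pow_succ']; group
        rw [h3]
        obtain ⟨l', hl'⟩ := Subgroup.mem_zpowers_iff.mp ihj
        rw [← hl', ← conj_zpow, hyc, ← zpow_mul]
        exact Subgroup.zpow_mem_zpowers c _
    exact h2 j
  have hS : Subgroup.closure ({x, y} ∪ (Z : Set G)) = ⊤ := by
    rw [eq_top_iff]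
    intro g _
    obtain ⟨i, j, ζ, hζ, rfl⟩ := F2 g
    exact Subgroup.mul_mem _ (Subgroup.mul_mem _
      (Subgroup.pow_mem _ (Subgroup.subset_closure (by simp)) j)
      (Subgroup.pow_mem _ (Subgroup.subset_closure (by simp)) i))
      (Subgroup.subset_closure (Or.inr hζ))
  have hcomm : ∀ u v : G, u * v * u⁻¹ * v⁻¹ ∈ Subgroup.zpowers c := by
    apply blk_comm_mem_of_gens (Subgroup.zpowers c) _ hS
    intro a ha b hb
    have hone : (1 : G) ∈ Subgroup.zpowers c := Subgroup.one_mem _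
    rcases ha with ha | ha
    · rcases hb with hb | hb
      · rcases ha with ha | ha <;> rcases hb with hb | hb
        · rw [ha, hb]; simp
        · have hb' : b = y := hb
          have h1 : a * b * a⁻¹ * b⁻¹ = c⁻¹ := by rw [hc, ha, hb']; group
          rw [h1]
          exact Subgroup.inv_mem _ (Subgroup.mem_zpowers c)
        · have ha' : a = y := ha
          rw [ha', hb]
          exact Subgroup.mem_zpowers c
        · have ha' : a = y := ha
          have hb' : b = y := hb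
          rw [ha', hb']; simp
      · have h1 : a * b * a⁻¹ * b⁻¹ = 1 := by rw [← hZc b hb a]; group
        rw [h1]; exact hone
    · have h1 : a * b * a⁻¹ * b⁻¹ = 1 := by rw [hZc a ha b]; group
      rw [h1]; exact hone
  have hgc : ∀ g : G, g * c * g⁻¹ * c⁻¹ ∈ Subgroup.zpowers (c ^ p) := by
    intro g
    by_cases hc1 : c = 1
    · rw [hc1]; simp
    have h1 := hMn.conj_mem c (Subgroup.mem_zpowers c) g
    rw [← mem_powers_iff_mem_zpowers] at h1
    obtain ⟨m, hm⟩ := h1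
    have hm' : c ^ m = g * c * g⁻¹ := hm
    have hiter : ∀ j : ℕ, g ^ j * c * (g ^ j)⁻¹ = c ^ (m ^ j) := by
      intro j
      induction j with
      | zero => simp
      | succ j ihj =>
        have h3 : g ^ (j + 1) * c * (g ^ (j + 1))⁻¹ = g * (g ^ j * c * (g ^ j)⁻¹) * g⁻¹ := by
          rw [pow_succ']; group
        rw [h3, ihj, ← conj_pow, ← hm', ← pow_mul, pow_succ']
    obtain ⟨r, hr⟩ := hG g
    have h2 := hiter (p ^ r)
    rw [hr, one_mul, inv_one, mul_one] at h2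
    have h3 : m ^ (p ^ r) ≡ 1 [MOD orderOf c] := by
      rw [← pow_eq_pow_iff_modEq, pow_one]; exact h2.symm
    have hpord : p ∣ orderOf c := by
      obtain ⟨k', hk'⟩ := IsPGroup.iff_orderOf.mp hG c
      rw [hk']
      apply dvd_pow_self
      rintro rfl
      rw [pow_zero, orderOf_eq_one_iff] at hk'
      exact hc1 hk'
    have h4 : m ^ (p ^ r) ≡ 1 [MOD p] := h3.of_dvd hpord
    have h5 : ∀ r : ℕ, (m : ZMod p) ^ (p ^ r) = (m : ZMod p) := by
      intro r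
      induction r with
      | zero => simp
      | succ r ihr => rw [pow_succ, pow_mul, ihr, ZMod.pow_card]
    have hm1 : (m : ZMod p) = 1 := by
      have h6 := (ZMod.natCast_eq_natCast_iff _ _ _).mpr h4
      rw [Nat.cast_pow, h5, Nat.cast_one] at h6
      exact h6
    have h7 : m ≡ 1 [MOD p] := by
      apply (ZMod.natCast_eq_natCast_iff _ _ _).mp
      rw [hm1, Nat.cast_one]
    have hm0 : 1 ≤ m := by
      rcases Nat.eq_zero_or_pos m with h0 | h0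
      · exfalso
        rw [h0] at h7
        have h8 := (Nat.modEq_zero_iff_dvd.mp h7.symm)
        have := Nat.le_of_dvd (by norm_num) h8
        have := hpp.two_le
        omega
      · exact h0
    obtain ⟨t, ht⟩ := (Nat.modEq_iff_dvd' hm0).mp h7.symm
    have hmt : m = 1 + p * t := by omega
    have h9 : g * c * g⁻¹ * c⁻¹ = (c ^ p) ^ t := by
      rw [← hm', hmt, pow_add, pow_one, pow_mul]; group
    rw [h9]
    exact Subgroup.pow_mem _ (Subgroup.mem_zpowers _) t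
  have hN₀le : N₀ ≤ Subgroup.zpowers (c ^ p) := by
    rw [hN₀, Subgroup.closure_le]
    rintro w (⟨a, b, g, rfl⟩ | ⟨a, b, rfl⟩)
    · obtain ⟨l, hl⟩ := Subgroup.mem_zpowers_iff.mp (hcomm a b)
      rw [SetLike.mem_coe, ← hl]
      obtain ⟨t, ht⟩ := Subgroup.mem_zpowers_iff.mp (hgc g)
      have e1 : g * c * g⁻¹ = (c ^ p) ^ t * c := by rw [ht]; group
      have e2 : g * c ^ l * g⁻¹ = ((c ^ p) ^ t * c) ^ l := by rw [← e1, conj_zpow]
      have e3 : Commute ((c ^ p) ^ t) c := ((Commute.refl c).pow_left p).zpow_left t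
      rw [e3.mul_zpow] at e2
      have e4 : c ^ l * g * (c ^ l)⁻¹ * g⁻¹ = (((c ^ p) ^ t) ^ l)⁻¹ := by
        have e5 : c ^ l * g * (c ^ l)⁻¹ * g⁻¹ = c ^ l * (g * c ^ l * g⁻¹)⁻¹ := by group
        rw [e5, e2]; group
      rw [e4]
      exact Subgroup.inv_mem _ (Subgroup.zpow_mem _ (Subgroup.zpow_mem _ (Subgroup.mem_zpowers _) t) l)
    · obtain ⟨l, hl⟩ := Subgroup.mem_zpowers_iff.mp (hcomm a b)
      have e1 : (c ^ l) ^ p = (c ^ p) ^ l := by
        rw [← zpow_natCast (c ^ l) p, ← zpow_mul, mul_comm, zpow_mul, zpow_natCast]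
      rw [SetLike.mem_coe, ← hl, e1]
      exact Subgroup.zpow_mem_zpowers _ l
  have hZx : ∀ ζ ∈ Z, ζ ∈ Subgroup.zpowers x := by
    intro ζ hζ
    have h1 := hN₀le (hZN ζ hζ)
    have h2 : c ^ p ∈ Subgroup.zpowers x := by
      rw [hcx, (show Commute (x ^ (k - 1)) ζ₀ from (hZc ζ₀ hζ₀ _).symm).mul_pow, hζp ζ₀ hζ₀,
        mul_one]
      exact Subgroup.pow_mem _ (Subgroup.zpow_mem_zpowers x _) p
    exact (Subgroup.zpowers_le.mpr h2) h1
  refine ⟨x, y, ?_, ?_⟩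
  · intro g
    obtain ⟨k', ζ, hζ, hk'⟩ := F1 g
    rw [hk']
    exact Subgroup.mul_mem _ (Subgroup.zpow_mem_zpowers x k') (hZx ζ hζ)
  · intro g
    obtain ⟨i, j, ζ, hζ, rfl⟩ := F2 g
    have h1 := hZx ζ hζ
    rw [← mem_powers_iff_mem_zpowers] at h1
    obtain ⟨i', hi'⟩ := h1
    have hi'' : x ^ i' = ζ := hi'
    exact ⟨i + i', j, by rw [pow_add, ← hi'']; group⟩

end Cfsg.Agent.Lib.helper68
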