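import Mathlib
import Cfsg.Agent.Lib.helper68.McycStep
import Cfsg.Prelude.Def_CaseTheorems

/-!
# A finite 2-group of sectional rank at most 2 is metacyclic
-/

namespace Cfsg.Agent.Lib.helper68

universe u

open Subgroup

/-- Internal form of "sectional 2-rank at most 2". -/
def SecRk (G : Type*) [Group G] : Prop :=
  ∀ N A : Subgroup G, N ≤ A → (∀ a ∈ A, ∀ n ∈ N, a * n * a⁻¹ ∈ N) → (∀ a ∈ A, a ^ 2 ∈ N) →
    N.relIndex A ≤ 4

theorem tm_comm_of_sq {Q : Type*} [Group Q] (h : ∀ q : Q, q ^ 2 = 1) (a b : Q) : a * b = b * a := by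
  have ha : a⁻¹ = a := by rw [inv_eq_iff_mul_eq_one, ← sq]; exact h a
  have hb : b⁻¹ = b := by rw [inv_eq_iff_mul_eq_one, ← sq]; exact h b
  have h1 : b * a = a⁻¹ * ((a * b) * (a * b)) * b⁻¹ := by group
  rw [← sq, h (a * b), mul_one, ha, hb] at h1
  exact h1.symm

theorem secRk_of_sectional {G : Type*} [Group G] (h : Cfsg.SectionalPRankLE 2 2 G) : SecRk G := by
  intro N A hNA hnorm hsq
  have hN' : (N.subgroupOf A).Normal := by
    refine ⟨fun n hn a => ?_⟩
    rw [Subgroup.mem_subgroupOf] at hn ⊢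
    simpa using hnorm a a.2 n hn
  have hq : ∀ q : A ⧸ N.subgroupOf A, q ^ 2 = 1 := by
    intro q
    induction q using QuotientGroup.induction_on with
    | H a =>
      rw [← QuotientGroup.mk_pow, QuotientGroup.eq_one_iff, Subgroup.mem_subgroupOf]
      simpa using hsq a a.2
  have h1 := h A (N.subgroupOf A) (⊤ : Subgroup (A ⧸ N.subgroupOf A))
    ⟨⟨fun a b => Subtype.ext (tm_comm_of_sq hq a.1 b.1)⟩⟩ (fun a _ => hq a)
  rw [Subgroup.card_top] at h1
  have h2 : N.relIndex A = Nat.card (A ⧸ N.subgroupOf A) := by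
    rw [Subgroup.relIndex, Subgroup.index_eq_card]
  rw [h2]
  exact h1

theorem secRk_quot {G : Type*} [Group G] (Z : Subgroup G) [Z.Normal] (h : SecRk G) :
    SecRk (G ⧸ Z) := by
  intro N A hNA hnorm hsq
  have h1 := h (N.comap (QuotientGroup.mk' Z)) (A.comap (QuotientGroup.mk' Z))
    (Subgroup.comap_mono hNA) ?_ ?_
  · rw [Subgroup.relIndex_comap,
      Subgroup.map_comap_eq_self_of_surjective (QuotientGroup.mk'_surjective Z)] at h1
    exact h1
  · intro a ha n hn
    simp only [Subgroup.mem_comap, map_mul, map_inv] at ha hn ⊢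
    exact hnorm _ ha _ hn
  · intro a ha
    simp only [Subgroup.mem_comap, map_pow] at ha ⊢
    exact hsq _ ha

theorem tm_zpow_inv {G : Type*} [Group G] (c : G) (hc : c ^ 2 = 1) (i : ℤ) :
    c ^ i = 1 ∨ c ^ i = c := by
  rcases Int.emod_two_eq_zero_or_one i with h | h
  · left
    have h1 : i = 2 * (i / 2) := by omega
    rw [h1, zpow_mul, zpow_ofNat, hc, one_zpow]
  · right
    have h1 : i = 2 * (i / 2) + 1 := by omega
    rw [h1, zpow_add, zpow_mul, zpow_ofNat, hc, one_zpow, one_mul, zpow_one]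

theorem tm_mul_pow {G : Type*} [Group G] (c : G) (hcc : ∀ g : G, c * g = g * c)
    (hcomm : ∀ u v : G, u * v * u⁻¹ * v⁻¹ ∈ Subgroup.zpowers c) (a b : G) (k : ℕ) :
    ∃ i : ℤ, (a * b) ^ k = a ^ k * b ^ k * c ^ i := by
  have hci : ∀ (i : ℤ) (g : G), c ^ i * g = g * c ^ i := fun i g =>
    ((show Commute c g from hcc g).zpow_left i).eq
  induction k with
  | zero => exact ⟨0, by simp⟩
  | succ k ih =>
    obtain ⟨i, hi⟩ := ih
    obtain ⟨j, hj⟩ := Subgroup.mem_zpowers_iff.mp (hcomm (b ^ k) a)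
    refine ⟨i + j, ?_⟩
    rw [pow_succ, hi, pow_succ, pow_succ, zpow_add]
    have e1 : c ^ i * (a * b) = (a * b) * c ^ i := hci i (a * b)
    have e2 : b ^ k * a = c ^ j * a * b ^ k := by rw [hj]; group
    have e3 : c ^ j * a = a * c ^ j := hci j a
    calc a ^ k * b ^ k * c ^ i * (a * b) = a ^ k * b ^ k * (c ^ i * (a * b)) := by group
      _ = a ^ k * b ^ k * ((a * b) * c ^ i) := by rw [e1]
      _ = a ^ k * (b ^ k * a) * b * c ^ i := by group
      _ = a ^ k * (c ^ j * a * b ^ k) * b * c ^ i := by rw [e2]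
      _ = a ^ k * (c ^ j * a) * b ^ k * b * c ^ i := by group
      _ = a ^ k * (a * c ^ j) * b ^ k * b * c ^ i := by rw [e3]
      _ = a ^ k * a * (c ^ j * (b ^ k * b * c ^ i)) := by group
      _ = a ^ k * a * ((b ^ k * b * c ^ i) * c ^ j) := by rw [hci j]
      _ = a ^ k * a * (b ^ k * b) * (c ^ i * c ^ j) := by group

theorem tm_closure_comm {G : Type*} [Group G] (S : Set G)
    (hS : ∀ a ∈ S, ∀ b ∈ S, a * b = b * a) :
    ∀ g ∈ Subgroup.closure S, ∀ h ∈ Subgroup.closure S, g * h = h * g := by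
  have h1 : ∀ g ∈ Subgroup.closure S, ∀ s ∈ S, g * s = s * g := by
    intro g hg s hs
    induction hg using Subgroup.closure_induction with
    | mem a ha => exact hS a ha s hs
    | one => simp
    | mul a b _ _ iha ihb => rw [mul_assoc, ihb, ← mul_assoc, iha, mul_assoc]
    | inv a _ iha =>
      have : a⁻¹ * s = a⁻¹ * (s * a) * a⁻¹ := by group
      rw [this, ← iha]; group
  intro g hg h hh
  induction hh using Subgroup.closure_induction with
  | mem a ha => exact h1 g hg a ha
  | one => simp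
  | mul a b _ _ iha ihb => rw [← mul_assoc, iha, mul_assoc, ihb, ← mul_assoc]
  | inv a _ iha =>
    have : g * a⁻¹ = a⁻¹ * (a * g) * a⁻¹ := by group
    rw [this, ← iha]; group

theorem tm_closure_sq {G : Type*} [Group G] (S : Set G)
    (hS : ∀ a ∈ S, ∀ b ∈ S, a * b = b * a) (hsq : ∀ a ∈ S, a ^ 2 = 1) :
    ∀ g ∈ Subgroup.closure S, g ^ 2 = 1 := by
  have hcomm := tm_closure_comm S hS
  intro g hg
  induction hg using Subgroup.closure_induction with
  | mem a ha => exact hsq a ha
  | one => simp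
  | mul a b ha hb iha ihb =>
    rw [(show Commute a b from hcomm a ha b hb).mul_pow, iha, ihb, mul_one]
  | inv a _ iha => rw [inv_pow, iha, inv_one]

theorem tm_base {G : Type*} [Group G] [Finite G] (hG : IsPGroup 2 G) (hS : SecRk G)
    (hcent : ∀ a b g : G, (a * b * a⁻¹ * b⁻¹) * g = g * (a * b * a⁻¹ * b⁻¹))
    (hcp : ∀ a b : G, (a * b * a⁻¹ * b⁻¹) ^ 2 = 1)
    (g₀ h₀ : G) (hgh : Subgroup.closure {g₀, h₀} = ⊤) (hc1 : h₀ * g₀ * h₀⁻¹ * g₀⁻¹ ≠ 1) :
    ∃ g h : G, Subgroup.closure {g, h} = ⊤ ∧ h₀ * g₀ * h₀⁻¹ * g₀⁻¹ ∈ Subgroup.zpowers g := by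
  set c := h₀ * g₀ * h₀⁻¹ * g₀⁻¹ with hc
  have hcc : ∀ g : G, c * g = g * c := fun g => hcent h₀ g₀ g
  have hc2 : c ^ 2 = 1 := hcp h₀ g₀
  have hMn : (Subgroup.zpowers c).Normal := by
    refine ⟨fun m hm g => ?_⟩
    obtain ⟨k, rfl⟩ := Subgroup.mem_zpowers_iff.mp hm
    have h1 : Commute c g := hcc g
    have h2 : g * c ^ k * g⁻¹ = c ^ k := by
      rw [← (h1.zpow_left k).eq]; group
    rw [h2]
    exact Subgroup.zpow_mem_zpowers c k
  have hcomm : ∀ u v : G, u * v * u⁻¹ * v⁻¹ ∈ Subgroup.zpowers c := by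
    apply blk_comm_mem_of_gens (Subgroup.zpowers c) {g₀, h₀} hgh
    intro a ha b hb
    rcases ha with ha | ha <;> rcases hb with hb | hb
    · rw [ha, hb]; simp
    · have hb' : b = h₀ := hb
      have : a * b * a⁻¹ * b⁻¹ = c⁻¹ := by rw [hc, ha, hb']; group
      rw [this]
      exact Subgroup.inv_mem _ (Subgroup.mem_zpowers c)
    · have ha' : a = h₀ := ha
      rw [ha', hb]
      exact Subgroup.mem_zpowers c
    · have ha' : a = h₀ := ha
      have hb' : b = h₀ := hb
      rw [ha', hb']; simp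
  have hcomm' : ∀ u v : G, u * v * u⁻¹ * v⁻¹ = 1 ∨ u * v * u⁻¹ * v⁻¹ = c := by
    intro u v
    obtain ⟨i, hi⟩ := Subgroup.mem_zpowers_iff.mp (hcomm u v)
    rw [← hi]
    exact tm_zpow_inv c hc2 i
  by_contra hcon
  simp only [not_exists, not_and] at hcon
  have key : ∀ u v : G, Subgroup.closure {u, v} = ⊤ →
      (∀ u' v' : G, Subgroup.closure {u', v'} = ⊤ →
        orderOf u + orderOf v ≤ orderOf u' + orderOf v') →
      orderOf v ≤ orderOf u → False := by
    intro u v huv hmin hle
    have hcuv : u * v * u⁻¹ * v⁻¹ = c := by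
      rcases hcomm' u v with h | h
      · exfalso
        have h1 : ∀ a b : G, a * b * a⁻¹ * b⁻¹ ∈ (⊥ : Subgroup G) := by
          apply blk_comm_mem_of_gens (⊥ : Subgroup G) {u, v} huv
          intro a ha b hb
          rw [Subgroup.mem_bot]
          rcases ha with ha | ha <;> rcases hb with hb | hb
          · rw [ha, hb]; group
          · have hb' : b = v := hb
            rw [ha, hb']; exact h
          · have ha' : a = v := ha
            rw [ha', hb]
            have : v * u * v⁻¹ * u⁻¹ = (u * v * u⁻¹ * v⁻¹)⁻¹ := by group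
            rw [this, h, inv_one]
          · have ha' : a = v := ha
            have hb' : b = v := hb
            rw [ha', hb']; group
        exact hc1 (Subgroup.mem_bot.mp (h1 h₀ g₀))
      · exact h
    obtain ⟨m, hm⟩ := IsPGroup.iff_orderOf.mp hG u
    obtain ⟨n, hn⟩ := IsPGroup.iff_orderOf.mp hG v
    have hn0 : n ≠ 0 := by
      rintro rfl
      rw [pow_zero, orderOf_eq_one_iff] at hn
      rw [hn] at hcuv
      apply hc1
      rw [← hcuv]; group
    have hnm : n ≤ m := by
      rw [hm, hn] at hle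
      exact (Nat.pow_le_pow_iff_right (by norm_num)).mp hle
    have hcu : c ∉ Subgroup.zpowers u := hcon u v huv
    have hvu : Subgroup.closure {v, u} = ⊤ := by rw [Set.pair_comm]; exact huv
    have hcv : c ∉ Subgroup.zpowers v := hcon v u hvu
    have huvv : Subgroup.closure {u * v, v} = ⊤ := by
      rw [eq_top_iff, ← huv, Subgroup.closure_le]
      rintro a (ha | ha)
      · have : a = (u * v) * v⁻¹ := by rw [ha]; group
        rw [SetLike.mem_coe, this]
        exact Subgroup.mul_mem _ (Subgroup.subset_closure (by simp))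
          (Subgroup.inv_mem _ (Subgroup.subset_closure (by simp)))
      · have ha' : a = v := ha
        rw [ha']
        exact Subgroup.subset_closure (by simp)
    have hcuv' : c ∉ Subgroup.zpowers (u * v) := hcon (u * v) v huvv
    have hu_pow : u ^ (2 ^ m) = 1 := by rw [← hm]; exact pow_orderOf_eq_one u
    have hv_pow : v ^ (2 ^ n) = 1 := by rw [← hn]; exact pow_orderOf_eq_one v
    have hm2 : 2 ≤ m := by
      by_contra hm2
      have hm1 : m = 1 := by omega
      have hn1 : n = 1 := by omega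
      subst hm1; subst hn1
      rw [pow_one] at hu_pow hv_pow
      have hui : u⁻¹ = u := by rw [inv_eq_iff_mul_eq_one, ← sq]; exact hu_pow
      have hvi : v⁻¹ = v := by rw [inv_eq_iff_mul_eq_one, ← sq]; exact hv_pow
      apply hcuv'
      have : c = (u * v) ^ 2 := by
        rw [← hcuv, hui, hvi, sq, mul_assoc (u * v) u v]
      rw [this]
      exact Subgroup.pow_mem _ (Subgroup.mem_zpowers _) 2
    set x := u ^ (2 ^ (m - 1)) with hx
    set y := v ^ (2 ^ (n - 1)) with hy
    have hx2 : x ^ 2 = 1 := by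
      rw [hx, ← pow_mul, ← pow_succ, Nat.sub_add_cancel (by omega)]; exact hu_pow
    have hy2 : y ^ 2 = 1 := by
      rw [hy, ← pow_mul, ← pow_succ, Nat.sub_add_cancel (by omega)]; exact hv_pow
    have hx1 : x ≠ 1 := by
      intro h
      have h1 := orderOf_dvd_of_pow_eq_one h
      rw [hm] at h1
      have h2 := Nat.le_of_dvd (by positivity) h1
      have h3 : 2 ^ (m - 1) < 2 ^ m := Nat.pow_lt_pow_right (by norm_num) (by omega)
      omega
    have hy1 : y ≠ 1 := by
      intro h
      have h1 := orderOf_dvd_of_pow_eq_one h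
      rw [hn] at h1
      have h2 := Nat.le_of_dvd (by positivity) h1
      have h3 : 2 ^ (n - 1) < 2 ^ n := Nat.pow_lt_pow_right (by norm_num) (by omega)
      omega
    have hxu : x ∈ Subgroup.zpowers u := Subgroup.pow_mem _ (Subgroup.mem_zpowers u) _
    have hyv : y ∈ Subgroup.zpowers v := Subgroup.pow_mem _ (Subgroup.mem_zpowers v) _
    have hxc : x ≠ c := fun h => hcu (h ▸ hxu)
    have hyc : y ≠ c := fun h => hcv (h ▸ hyv)
    have hu2v : Commute (u ^ 2) v := by
      set c' := v * u * v⁻¹ * u⁻¹ with hc'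
      have h1 : v * u * v⁻¹ = c' * u := by rw [hc']; group
      have h2 : Commute c' u := hcent v u u
      have h3 : v * u ^ 2 * v⁻¹ = u ^ 2 := by
        rw [← conj_pow, h1, h2.mul_pow, hcp v u, one_mul]
      show u ^ 2 * v = v * u ^ 2
      calc u ^ 2 * v = (v * u ^ 2 * v⁻¹) * v := by rw [h3]
        _ = v * u ^ 2 := by group
    have hxv : Commute x v := by
      have : x = (u ^ 2) ^ (2 ^ (m - 2)) := by
        rw [hx, ← pow_mul, ← pow_succ']; congr 2; omega
      rw [this]
      exact hu2v.pow_left _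
    have hxy : Commute x y := hxv.pow_right _
    by_cases hrel : y = x ∨ y = x * c
    · set w := u ^ (2 ^ (m - n)) with hw
      set v' := w⁻¹ * v with hv'
      obtain ⟨i, hi⟩ := tm_mul_pow c hcc hcomm w⁻¹ v (2 ^ (n - 1))
      have hwx : w ^ (2 ^ (n - 1)) = x := by
        rw [hw, hx, ← pow_mul, ← pow_add]; congr 2; omega
      rw [inv_pow, hwx, ← hy] at hi
      have hv'c : v' ^ (2 ^ (n - 1)) = 1 ∨ v' ^ (2 ^ (n - 1)) = c := by
        rcases hrel with h | h
        · have : v' ^ (2 ^ (n - 1)) = c ^ i := by rw [hv', hi, h]; group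
          rw [this]; exact tm_zpow_inv c hc2 i
        · have : v' ^ (2 ^ (n - 1)) = c ^ (i + 1) := by rw [hv', hi, h]; group
          rw [this]; exact tm_zpow_inv c hc2 (i + 1)
      have huv' : Subgroup.closure {u, v'} = ⊤ := by
        rw [eq_top_iff, ← huv, Subgroup.closure_le]
        rintro a (ha | ha)
        · rw [SetLike.mem_coe, ha]; exact Subgroup.subset_closure (by simp)
        · have ha' : a = v := ha
          have hvmem : w * v' ∈ Subgroup.closure {u, v'} :=
            Subgroup.mul_mem _ (Subgroup.pow_mem _ (Subgroup.subset_closure (by simp)) _)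
              (Subgroup.subset_closure (by simp))
          have hvw : w * v' = v := by rw [hv']; group
          rw [SetLike.mem_coe, ha']
          convert hvmem using 1
          exact hvw.symm
      rcases hv'c with h1 | hc'
      · have h2 := orderOf_dvd_of_pow_eq_one h1
        have h3 := Nat.le_of_dvd (by positivity) h2
        have h4 : 2 ^ (n - 1) < 2 ^ n := Nat.pow_lt_pow_right (by norm_num) (by omega)
        have h5 := hmin u v' huv'
        rw [hn] at h5
        omega
      · apply hcon v' u (by rw [Set.pair_comm]; exact huv')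
        rw [← hc']
        exact Subgroup.pow_mem _ (Subgroup.mem_zpowers _) _
    · simp only [not_or] at hrel
      obtain ⟨hyx, hyxc⟩ := hrel
      set A := Subgroup.closure ({c, x, y} : Set G) with hA
      have hAcomm : ∀ a ∈ ({c, x, y} : Set G), ∀ b ∈ ({c, x, y} : Set G), a * b = b * a := by
        intro a ha b hb
        simp only [Set.mem_insert_iff, Set.mem_singleton_iff] at ha hb
        rcases ha with ha | ha | ha <;> rcases hb with hb | hb | hb <;> rw [ha, hb] <;>
          first | exact hcc _ | exact (hcc _).symm | exact hxy.eq | exact hxy.eq.symm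
      have hAsq : ∀ a ∈ ({c, x, y} : Set G), a ^ 2 = 1 := by
        intro a ha
        simp only [Set.mem_insert_iff, Set.mem_singleton_iff] at ha
        rcases ha with ha | ha | ha <;> rw [ha]
        exacts [hc2, hx2, hy2]
      have hA2 := tm_closure_sq _ hAcomm hAsq
      have hle4 : Nat.card A ≤ 4 := by
        have h1 := hS ⊥ A bot_le
          (fun a _ n hn => by rw [Subgroup.mem_bot] at hn ⊢; rw [hn]; group)
          (fun a ha => by rw [Subgroup.mem_bot]; exact hA2 a ha)
        rwa [Subgroup.relIndex_bot_left] at h1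
      set K1 := Subgroup.zpowers c with hK1
      set K2 := Subgroup.zpowers x ⊔ Subgroup.zpowers c with hK2
      have hcA : c ∈ A := Subgroup.subset_closure (by simp)
      have hxA : x ∈ A := Subgroup.subset_closure (by simp)
      have hyA : y ∈ A := Subgroup.subset_closure (by simp)
      have hK1K2 : K1 ≤ K2 := le_sup_right
      have hK2A : K2 ≤ A := sup_le (Subgroup.zpowers_le.mpr hxA) (Subgroup.zpowers_le.mpr hcA)
      have hxK1 : x ∉ K1 := by
        intro h
        obtain ⟨i, hi⟩ := Subgroup.mem_zpowers_iff.mp h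
        rcases tm_zpow_inv c hc2 i with h1 | h1
        · exact hx1 (by rw [← hi, h1])
        · exact hxc (by rw [← hi, h1])
      have hyK2 : y ∉ K2 := by
        intro h
        rw [hK2, Subgroup.mem_sup_of_normal_right] at h
        obtain ⟨a, ha, b, hb, hab⟩ := h
        obtain ⟨i, hi⟩ := Subgroup.mem_zpowers_iff.mp ha
        obtain ⟨j, hj⟩ := Subgroup.mem_zpowers_iff.mp hb
        rcases tm_zpow_inv x hx2 i with h1 | h1 <;> rcases tm_zpow_inv c hc2 j with h2 | h2
        · exact hy1 (by rw [← hab, ← hi, ← hj, h1, h2, mul_one])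
        · exact hyc (by rw [← hab, ← hi, ← hj, h1, h2, one_mul])
        · exact hyx (by rw [← hab, ← hi, ← hj, h1, h2, mul_one])
        · exact hyxc (by rw [← hab, ← hi, ← hj, h1, h2])
      have hlt0 : (⊥ : Subgroup G) < K1 := by
        rw [bot_lt_iff_ne_bot]; intro h
        have : c ∈ K1 := Subgroup.mem_zpowers c
        rw [h, Subgroup.mem_bot] at this
        exact hc1 this
      have hlt1 : K1 < K2 := lt_of_le_of_ne hK1K2
        (fun h => hxK1 (h ▸ (le_sup_left : Subgroup.zpowers x ≤ K2) (Subgroup.mem_zpowers x)))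
      have hlt2 : K2 < A := lt_of_le_of_ne hK2A (fun h => hyK2 (h ▸ hyA))
      have c0 : Nat.card (⊥ : Subgroup G) = 1 := Subgroup.card_bot
      have c1 := Cfsg.Agent.Lib.helper30.pgroup_lt_card 2 ⊥ K1 (hG.to_subgroup K1) hlt0
      have c2 := Cfsg.Agent.Lib.helper30.pgroup_lt_card 2 K1 K2 (hG.to_subgroup K2) hlt1
      have c3 := Cfsg.Agent.Lib.helper30.pgroup_lt_card 2 K2 A (hG.to_subgroup A) hlt2
      omega
  obtain ⟨q, hq, hqmin⟩ := Set.exists_min_image {q : G × G | Subgroup.closure {q.1, q.2} = ⊤}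
    (fun q => orderOf q.1 + orderOf q.2) (Set.toFinite _) ⟨(g₀, h₀), hgh⟩
  rcases le_total (orderOf q.2) (orderOf q.1) with h | h
  · exact key q.1 q.2 hq (fun u' v' h' => hqmin (u', v') h') h
  · refine key q.2 q.1 (by rw [Set.pair_comm]; exact hq) (fun u' v' h' => ?_) h
    have := hqmin (u', v') h'
    simp only at this
    omega

/-- A finite 2-group of sectional rank at most 2 is metacyclic (internal form). -/
theorem two_meta : ∀ (n : ℕ) (G : Type u) [Group G] [Finite G], Nat.card G = n → IsPGroup 2 G →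
    SecRk G → MCyc G := by
  intro n
  induction n using Nat.strong_induction_on with
  | _ n ih =>
  intro G _ _ hn hG hS
  let T : Set G := {w | ∃ a b g : G, w = (a * b * a⁻¹ * b⁻¹) * g * (a * b * a⁻¹ * b⁻¹)⁻¹ * g⁻¹} ∪
    {w | ∃ a b : G, w = (a * b * a⁻¹ * b⁻¹) ^ 2}
  by_cases hT : ∀ w ∈ T, w = 1
  · have hcent : ∀ a b g : G, (a * b * a⁻¹ * b⁻¹) * g = g * (a * b * a⁻¹ * b⁻¹) := by
      intro a b g
      have h1 := hT _ (Or.inl ⟨a, b, g, rfl⟩)
      have h2 : (a * b * a⁻¹ * b⁻¹) * g * (a * b * a⁻¹ * b⁻¹)⁻¹ * g⁻¹ * (g * (a * b * a⁻¹ * b⁻¹))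
          = (a * b * a⁻¹ * b⁻¹) * g := by group
      rw [h1, one_mul] at h2
      exact h2.symm
    have hcp : ∀ a b : G, (a * b * a⁻¹ * b⁻¹) ^ 2 = 1 := fun a b => hT _ (Or.inr ⟨a, b, rfl⟩)
    set V := Subgroup.closure {x : G | ∃ g : G, x = g ^ 2} with hV
    have hVn : V.Normal := by
      apply Cfsg.Agent.Lib.helper30.closure_normal_of_conj_mem
      rintro g x ⟨a, rfl⟩
      apply Subgroup.subset_closure
      exact ⟨g * a * g⁻¹, by rw [conj_pow]⟩
    have hVfr : V ≤ frattini G := by
      rw [hV, Subgroup.closure_le]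
      rintro x ⟨g, rfl⟩
      exact Cfsg.Agent.Lib.helper3.pow_prime_mem_frattini hG g
    have hidx : V.index ≤ 2 ^ 2 := by
      have h1 := hS V ⊤ le_top (fun a _ n hn => hVn.conj_mem n hn a)
        (fun a _ => Subgroup.subset_closure ⟨a, rfl⟩)
      rw [Subgroup.relIndex_top_right] at h1
      norm_num
      exact h1
    by_cases hVtop : ∀ g : G, g ∈ V
    · have hfr : frattini G = ⊤ := top_le_iff.mp (fun g _ => hVfr (hVtop g))
      have hbot : (⊥ : Subgroup G) = ⊤ := frattini_nongenerating (by rw [hfr]; simp)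
      have htriv : ∀ g : G, g = 1 := fun g => by
        have : g ∈ (⊥ : Subgroup G) := by rw [hbot]; exact Subgroup.mem_top g
        exact Subgroup.mem_bot.mp this
      exact ⟨1, 1, fun g => by simp, fun g => ⟨0, 0, by rw [htriv g]; simp⟩⟩
    · simp only [not_forall] at hVtop
      obtain ⟨g₀, hg₀⟩ := hVtop
      obtain ⟨h₀, hgh⟩ := blk_exists_gen_pair 2 hG hidx g₀ hg₀
      set c := h₀ * g₀ * h₀⁻¹ * g₀⁻¹ with hc
      have hccent : ∀ g : G, c * g = g * c := fun g => hcent h₀ g₀ g
      have hMn : (Subgroup.zpowers c).Normal := by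
        refine ⟨fun m hm g => ?_⟩
        obtain ⟨k, rfl⟩ := Subgroup.mem_zpowers_iff.mp hm
        have h1 : Commute c g := hccent g
        have h2 : g * c ^ k * g⁻¹ = c ^ k := by
          rw [← (h1.zpow_left k).eq]; group
        rw [h2]
        exact Subgroup.zpow_mem_zpowers c k
      have hcomm : ∀ u v : G, u * v * u⁻¹ * v⁻¹ ∈ Subgroup.zpowers c := by
        apply blk_comm_mem_of_gens (Subgroup.zpowers c) {g₀, h₀} hgh
        intro a ha b hb
        rcases ha with ha | ha <;> rcases hb with hb | hb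
        · rw [ha, hb]; simp
        · have hb' : b = h₀ := hb
          have : a * b * a⁻¹ * b⁻¹ = c⁻¹ := by rw [hc, ha, hb']; group
          rw [this]
          exact Subgroup.inv_mem _ (Subgroup.mem_zpowers c)
        · have ha' : a = h₀ := ha
          rw [ha', hb]
          exact Subgroup.mem_zpowers c
        · have ha' : a = h₀ := ha
          have hb' : b = h₀ := hb
          rw [ha', hb']; simp
      by_cases hc1 : c = 1
      · have hab : ∀ u v : G, u * v = v * u := by
          intro u v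
          have h1 := hcomm u v
          rw [hc1, Subgroup.zpowers_one_eq_bot, Subgroup.mem_bot] at h1
          calc u * v = (u * v * u⁻¹ * v⁻¹) * (v * u) := by group
            _ = v * u := by rw [h1, one_mul]
        have hnorm : ∀ g : G, g * g₀ * g⁻¹ ∈ Subgroup.zpowers g₀ := by
          intro g
          rw [hab g g₀, mul_assoc, mul_inv_cancel, mul_one]
          exact Subgroup.mem_zpowers g₀
        exact ⟨g₀, h₀, hnorm, blk_mcyc_of_closure g₀ h₀ hnorm hgh⟩
      · obtain ⟨g', h', hgh', hg'c⟩ := tm_base hG hS hcent hcp g₀ h₀ hgh hc1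
        have hnorm : ∀ g : G, g * g' * g⁻¹ ∈ Subgroup.zpowers g' := by
          intro g
          have h1 : g * g' * g⁻¹ = (g * g' * g⁻¹ * g'⁻¹) * g' := by group
          rw [h1]
          have h2 : Subgroup.zpowers c ≤ Subgroup.zpowers g' := by
            rw [Subgroup.zpowers_le]; exact hg'c
          exact Subgroup.mul_mem _ (h2 (hcomm g g')) (Subgroup.mem_zpowers g')
        exact ⟨g', h', hnorm, blk_mcyc_of_closure g' h' hnorm hgh'⟩
  · simp only [not_forall] at hT
    obtain ⟨w₀, hw₀T, hw₀⟩ := hT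
    set N₀ := Subgroup.closure T with hN₀
    have hN₀n : N₀.Normal := by
      apply Cfsg.Agent.Lib.helper30.closure_normal_of_conj_mem
      intro g x hx
      apply Subgroup.subset_closure
      rcases hx with ⟨a, b, k, rfl⟩ | ⟨a, b, rfl⟩
      · left
        exact ⟨g * a * g⁻¹, g * b * g⁻¹, g * k * g⁻¹, by group⟩
      · right
        refine ⟨g * a * g⁻¹, g * b * g⁻¹, ?_⟩
        rw [← conj_pow]
        congr 1
        group
    have hN₀ne : N₀ ≠ ⊥ := by
      intro h
      have h1 : w₀ ∈ N₀ := Subgroup.subset_closure hw₀T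
      rw [h, Subgroup.mem_bot] at h1
      exact hw₀ h1
    obtain ⟨z, hzN, hzc, hz1, hzp⟩ :=
      Cfsg.Agent.Lib.helper3.exists_central_of_normal_ne_bot hG N₀ hN₀ne
    set Z := Subgroup.zpowers z with hZ
    have hZc : ∀ ζ ∈ Z, ∀ g : G, ζ * g = g * ζ := by
      intro ζ hζ g
      obtain ⟨k, rfl⟩ := Subgroup.mem_zpowers_iff.mp hζ
      have h1 : Commute z g := (Subgroup.mem_center_iff.mp hzc g).symm
      exact (h1.zpow_left k).eq
    have hZn : Z.Normal := by
      refine ⟨fun m hm g => ?_⟩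
      have h1 : g * m * g⁻¹ = m := by rw [← hZc m hm g]; group
      rw [h1]; exact hm
    have hZcard : Nat.card Z = 2 := by
      rw [hZ, Nat.card_zpowers]; exact orderOf_eq_prime hzp hz1
    have hζp : ∀ ζ ∈ Z, ζ ^ 2 = 1 := by
      intro ζ hζ
      obtain ⟨k, rfl⟩ := Subgroup.mem_zpowers_iff.mp hζ
      rw [← zpow_natCast, ← zpow_mul, mul_comm, zpow_mul, zpow_natCast, hzp, one_zpow]
    have hcardQ : Nat.card (G ⧸ Z) < n := by
      have h1 := Subgroup.card_eq_card_quotient_mul_card_subgroup Z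
      rw [hn, hZcard] at h1
      have hpos : 0 < Nat.card (G ⧸ Z) := Nat.card_pos
      omega
    have hQ := ih _ hcardQ (G ⧸ Z) rfl (hG.to_quotient Z) (secRk_quot Z hS)
    exact mcyc_step 2 hG Z hZc hζp (fun ζ hζ => (Subgroup.zpowers_le.mpr hzN) hζ) hQ

end Cfsg.Agent.Lib.helper68
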