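import Mathlib
import Cfsg.Agent.Lib.helper68.TwoMeta
import Cfsg.Prelude.Def_CaseTheorems

/-!
# Sectional 2-rank: cardinality form, transfer along injective maps and products
-/

namespace Cfsg.Agent.Lib.helper68

open Subgroup

/-- Internal form of "sectional 2-rank ≤ k" via cardinalities. -/
def SecRkC (k : ℕ) (G : Type*) [Group G] : Prop :=
  ∀ N A : Subgroup G, N ≤ A → (∀ a ∈ A, ∀ n ∈ N, a * n * a⁻¹ ∈ N) → (∀ a ∈ A, a ^ 2 ∈ N) →
    Nat.card A ≤ 2 ^ k * Nat.card N

theorem secRkC_of_sectional {G : Type*} [Group G] (k : ℕ) (h : Cfsg.SectionalPRankLE 2 k G) :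
    SecRkC k G := by
  intro N A hNA hnorm hsq
  have hN' : (N.subgroupOf A).Normal := by
    refine ⟨fun n hn a => ?_⟩
    rw [Subgroup.mem_subgroupOf] at hn ⊢
    simpa using hnorm a a.2 n hn
  have hq : ∀ q : A ⧸ N.subgroupOf A, q ^ 2 = 1 := by
    intro q
    induction q using QuotientGroup.induction_on with
    | H a =>
      rw [← QuotientGroup.mk_pow, QuotientGroup.eq_one_iff, Subgroup.mem_subgroupOf]
      simpa using hsq a a.2
  have h1 := h A (N.subgroupOf A) (⊤ : Subgroup (A ⧸ N.subgroupOf A))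
    ⟨⟨fun a b => Subtype.ext (tm_comm_of_sq hq a.1 b.1)⟩⟩ (fun a _ => hq a)
  rw [Subgroup.card_top] at h1
  have h2 := Subgroup.card_eq_card_quotient_mul_card_subgroup (N.subgroupOf A)
  have h3 : Nat.card (N.subgroupOf A) = Nat.card N :=
    Nat.card_congr (Subgroup.subgroupOfEquivOfLe hNA).toEquiv
  rw [h2, h3]
  exact Nat.mul_le_mul_right _ h1

theorem sectional_of_secRkC {G : Type*} [Group G] [Finite G] (k : ℕ) (h : SecRkC k G) :
    Cfsg.SectionalPRankLE 2 k G := by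
  intro H N hN B hBc hB2
  set f := QuotientGroup.mk' N with hf
  have hfs : Function.Surjective f := QuotientGroup.mk'_surjective N
  have hNle : N ≤ B.comap f := by
    intro n hn
    rw [Subgroup.mem_comap]
    have : f n = 1 := by rw [hf, QuotientGroup.mk'_apply, QuotientGroup.eq_one_iff]; exact hn
    rw [this]; exact B.one_mem
  have h1 := h (N.map H.subtype) ((B.comap f).map H.subtype) (Subgroup.map_mono hNle) ?_ ?_
  · rw [Subgroup.card_map_of_injective H.subtype_injective,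
      Subgroup.card_map_of_injective H.subtype_injective] at h1
    have h2 : Nat.card N * Nat.card B = Nat.card (B.comap f) := by
      have e1 := Subgroup.relIndex_mul_relIndex (⊥ : Subgroup H) N (B.comap f) bot_le hNle
      rw [Subgroup.relIndex_bot_left, Subgroup.relIndex_bot_left] at e1
      have e2 : (⊥ : Subgroup (H ⧸ N)).comap f = N := by
        rw [MonoidHom.comap_bot, hf, QuotientGroup.ker_mk']
      have e3 : ((⊥ : Subgroup (H ⧸ N)).comap f).relIndex (B.comap f) = Nat.card B := by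
        rw [Subgroup.relIndex_comap, Subgroup.map_comap_eq_self_of_surjective hfs,
          Subgroup.relIndex_bot_left]
      rw [e2] at e3
      rw [e3] at e1
      exact e1
    rw [← h2] at h1
    have hpos : 0 < Nat.card N := Nat.card_pos
    have h3 : Nat.card N * Nat.card B ≤ Nat.card N * 2 ^ k := by
      rw [mul_comm (Nat.card N) (2 ^ k)]; exact h1
    exact Nat.le_of_mul_le_mul_left h3 hpos
  · rintro _ ⟨a, ha, rfl⟩ _ ⟨n, hn, rfl⟩
    refine ⟨a * n * a⁻¹, hN.conj_mem n hn a, by simp⟩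
  · rintro _ ⟨a, ha, rfl⟩
    refine ⟨a ^ 2, ?_, by simp⟩
    have h3 : f a ∈ B := ha
    have h4 := hB2 (f a) h3
    rw [← map_pow, hf, QuotientGroup.mk'_apply, QuotientGroup.eq_one_iff] at h4
    exact h4

theorem secRkC_of_injective {G S : Type*} [Group G] [Group S] (k : ℕ) (f : G →* S)
    (hf : Function.Injective f) (h : SecRkC k S) : SecRkC k G := by
  intro N A hNA hnorm hsq
  have h1 := h (N.map f) (A.map f) (Subgroup.map_mono hNA) ?_ ?_
  · rwa [Subgroup.card_map_of_injective hf, Subgroup.card_map_of_injective hf] at h1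
  · rintro _ ⟨a, ha, rfl⟩ _ ⟨n, hn, rfl⟩
    exact ⟨a * n * a⁻¹, hnorm a ha n hn, by simp⟩
  · rintro _ ⟨a, ha, rfl⟩
    exact ⟨a ^ 2, hsq a ha, by simp⟩

theorem secRkC_prod2 {G : Type*} [Group G] [Finite G] (h : SecRkC 4 (G × G)) : SecRkC 2 G := by
  intro N A hNA hnorm hsq
  have h1 := h (N.prod N) (A.prod A) (Subgroup.prod_mono hNA hNA) ?_ ?_
  · have e1 : Nat.card (A.prod A) = Nat.card A * Nat.card A := by
      rw [Nat.card_congr (Subgroup.prodEquiv A A).toEquiv, Nat.card_prod]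
    have e2 : Nat.card (N.prod N) = Nat.card N * Nat.card N := by
      rw [Nat.card_congr (Subgroup.prodEquiv N N).toEquiv, Nat.card_prod]
    rw [e1, e2] at h1
    by_contra hcon
    have h2 : 2 ^ 2 * Nat.card N + 1 ≤ Nat.card A := by omega
    nlinarith [h1, h2]
  · rintro ⟨a₁, a₂⟩ ha ⟨n₁, n₂⟩ hn
    rw [Subgroup.mem_prod] at ha hn ⊢
    exact ⟨hnorm a₁ ha.1 n₁ hn.1, hnorm a₂ ha.2 n₂ hn.2⟩
  · rintro ⟨a₁, a₂⟩ ha
    rw [Subgroup.mem_prod] at ha ⊢
    exact ⟨hsq a₁ ha.1, hsq a₂ ha.2⟩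

theorem secRkC_prod3 {G : Type*} [Group G] [Finite G] (h : SecRkC 4 (G × (G × G)))
    (N A : Subgroup G) (hNA : N ≤ A) (hnorm : ∀ a ∈ A, ∀ n ∈ N, a * n * a⁻¹ ∈ N)
    (hsq : ∀ a ∈ A, a ^ 2 ∈ N) :
    Nat.card A * (Nat.card A * Nat.card A) ≤ 16 * (Nat.card N * (Nat.card N * Nat.card N)) := by
  have h1 := h (N.prod (N.prod N)) (A.prod (A.prod A))
    (Subgroup.prod_mono hNA (Subgroup.prod_mono hNA hNA)) ?_ ?_
  · have e1 : Nat.card (A.prod (A.prod A)) = Nat.card A * (Nat.card A * Nat.card A) := by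
      rw [Nat.card_congr (Subgroup.prodEquiv A (A.prod A)).toEquiv, Nat.card_prod,
        Nat.card_congr (Subgroup.prodEquiv A A).toEquiv, Nat.card_prod]
    have e2 : Nat.card (N.prod (N.prod N)) = Nat.card N * (Nat.card N * Nat.card N) := by
      rw [Nat.card_congr (Subgroup.prodEquiv N (N.prod N)).toEquiv, Nat.card_prod,
        Nat.card_congr (Subgroup.prodEquiv N N).toEquiv, Nat.card_prod]
    rw [e1, e2] at h1
    norm_num at h1
    exact h1
  · rintro ⟨a₁, a₂, a₃⟩ ha ⟨n₁, n₂, n₃⟩ hn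
    rw [Subgroup.mem_prod, Subgroup.mem_prod] at ha hn ⊢
    exact ⟨hnorm a₁ ha.1 n₁ hn.1, hnorm a₂ ha.2.1 n₂ hn.2.1, hnorm a₃ ha.2.2 n₃ hn.2.2⟩
  · rintro ⟨a₁, a₂, a₃⟩ ha
    rw [Subgroup.mem_prod, Subgroup.mem_prod] at ha ⊢
    exact ⟨hsq a₁ ha.1, hsq a₂ ha.2.1, hsq a₃ ha.2.2⟩

/-- In a non-commutative finite 2-group the subgroup generated by the squares has index
at least 4. -/
theorem noncomm_sq_index {G : Type*} [Group G] [Finite G] (hG : IsPGroup 2 G)
    (hnc : ∃ a b : G, a * b ≠ b * a) :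
    4 * Nat.card (Subgroup.closure {x : G | ∃ g : G, x = g ^ 2}) ≤ Nat.card G := by
  set V := Subgroup.closure {x : G | ∃ g : G, x = g ^ 2} with hV
  have hVfr : V ≤ frattini G := by
    rw [hV, Subgroup.closure_le]
    rintro x ⟨g, rfl⟩
    exact Cfsg.Agent.Lib.helper3.pow_prime_mem_frattini hG g
  by_contra hlt
  obtain ⟨a, b, hab⟩ := hnc
  have hcyc : ∃ x : G, Subgroup.closure {x} ⊔ V = ⊤ := by
    by_cases hVt : V = ⊤
    · exact ⟨1, by rw [hVt]; simp⟩
    · obtain ⟨x, hx⟩ : ∃ x, x ∉ V := by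
        by_contra hcon
        simp only [not_exists, not_not] at hcon
        exact hVt (top_le_iff.mp (fun x _ => hcon x))
      refine ⟨x, ?_⟩
      set K := Subgroup.closure {x} ⊔ V with hK
      have hxK : x ∈ K := (le_sup_left : Subgroup.closure {x} ≤ K) (Subgroup.subset_closure rfl)
      have hlt1 : V < K := lt_of_le_of_ne le_sup_right (fun h => hx (h ▸ hxK))
      have h1 := Cfsg.Agent.Lib.helper30.pgroup_lt_card 2 V K (hG.to_subgroup K) hlt1
      by_contra hKt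
      have hlt2 : K < ⊤ := lt_top_iff_ne_top.mpr hKt
      have h2 := Cfsg.Agent.Lib.helper30.pgroup_lt_card 2 K ⊤ (hG.to_subgroup ⊤) hlt2
      rw [Subgroup.card_top] at h2
      omega
  obtain ⟨x, hx⟩ := hcyc
  have h3 : Subgroup.closure {x} ⊔ frattini G = ⊤ :=
    top_le_iff.mp (hx ▸ sup_le_sup_left hVfr _)
  have h4 := frattini_nongenerating h3
  rw [← Subgroup.zpowers_eq_closure] at h4
  have ha : a ∈ Subgroup.zpowers x := by rw [h4]; exact Subgroup.mem_top a
  have hb : b ∈ Subgroup.zpowers x := by rw [h4]; exact Subgroup.mem_top b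
  obtain ⟨i, rfl⟩ := Subgroup.mem_zpowers_iff.mp ha
  obtain ⟨j, rfl⟩ := Subgroup.mem_zpowers_iff.mp hb
  apply hab
  rw [← zpow_add, ← zpow_add, add_comm]

/-- Two commuting injective copies of `G` with trivial intersection inside `S`. -/
theorem core2 {S : Type*} [Group S] (hr : SecRkC 4 S) {G : Type*} [Group G] [Finite G]
    (φ₁ φ₂ : G →* S) (h12 : ∀ a b, Commute (φ₁ a) (φ₂ b))
    (hinj : ∀ a b, φ₁ a * φ₂ b = 1 → a = 1 ∧ b = 1) : SecRkC 2 G := by
  apply secRkC_prod2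
  apply secRkC_of_injective 4 (φ₁.noncommCoprod φ₂ h12) _ hr
  rw [injective_iff_map_eq_one]
  rintro ⟨a, b⟩ hab
  rw [MonoidHom.noncommCoprod_apply] at hab
  obtain ⟨h1, h2⟩ := hinj a b hab
  rw [h1, h2]; rfl

/-- Three pairwise commuting independent copies of a non-commutative 2-group cannot live in a
group of sectional 2-rank at most 4. -/
theorem core3 {S : Type*} [Group S] (hr : SecRkC 4 S) {G : Type*} [Group G] [Finite G]
    (hG : IsPGroup 2 G) (hnc : ∃ a b : G, a * b ≠ b * a)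
    (φ₁ φ₂ φ₃ : G →* S) (h12 : ∀ a b, Commute (φ₁ a) (φ₂ b)) (h13 : ∀ a c, Commute (φ₁ a) (φ₃ c))
    (h23 : ∀ b c, Commute (φ₂ b) (φ₃ c))
    (hinj : ∀ a b c, φ₁ a * φ₂ b * φ₃ c = 1 → a = 1 ∧ b = 1 ∧ c = 1) : False := by
  have hcomm : ∀ (a : G) (bc : G × G), Commute (φ₁ a) ((φ₂.noncommCoprod φ₃ h23) bc) := by
    rintro a ⟨b, c⟩
    rw [MonoidHom.noncommCoprod_apply]
    exact (h12 a b).mul_right (h13 a c)
  have hΨ : Function.Injective (φ₁.noncommCoprod (φ₂.noncommCoprod φ₃ h23) hcomm) := by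
    rw [injective_iff_map_eq_one]
    rintro ⟨a, b, c⟩ habc
    rw [MonoidHom.noncommCoprod_apply, MonoidHom.noncommCoprod_apply] at habc
    simp only at habc
    rw [← mul_assoc] at habc
    obtain ⟨h1, h2, h3⟩ := hinj a b c habc
    rw [h1, h2, h3]; rfl
  have h3 := secRkC_of_injective 4 _ hΨ hr
  set V := Subgroup.closure {x : G | ∃ g : G, x = g ^ 2} with hV
  have hVn : V.Normal := by
    apply Cfsg.Agent.Lib.helper30.closure_normal_of_conj_mem
    rintro g x ⟨a, rfl⟩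
    apply Subgroup.subset_closure
    exact ⟨g * a * g⁻¹, by rw [conj_pow]⟩
  have h4 := secRkC_prod3 h3 V ⊤ le_top (fun a _ n hn => hVn.conj_mem n hn a)
    (fun a _ => Subgroup.subset_closure ⟨a, rfl⟩)
  rw [Subgroup.card_top] at h4
  have h5 := noncomm_sq_index hG hnc
  have hpos : 0 < Nat.card V := Nat.card_pos
  have h6 : 4 * Nat.card V * (4 * Nat.card V * (4 * Nat.card V)) ≤
      Nat.card G * (Nat.card G * Nat.card G) :=
    Nat.mul_le_mul h5 (Nat.mul_le_mul h5 h5)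
  have h7 : 0 < Nat.card V * (Nat.card V * Nat.card V) := by positivity
  nlinarith [h4, h6, h7]

end Cfsg.Agent.Lib.helper68
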