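import Mathlib
import Cfsg.Agent.Lib.helper95.APDefs

/-!
S2276 piece INTV, part A (racer copy by helper68): the interval model.
`h68_icyc M s l` is the forward cycle `x ↦ x + 1` on `[s, s + l)` (last ↦ first) of `Fin M`,
`h68_B M s L k` the product of the cycles on consecutive intervals of lengths `L` starting at `s`,
the first `k` forward and the others reversed.
-/

set_option autoImplicit false

namespace Cfsg.Agent.Lib.helper95.AP

open Equiv

/-- forward cycle on `[s, s + l)`, on naturals -/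
def h68_cf (s l x : ℕ) : ℕ :=
  if s ≤ x ∧ x < s + l then (if x + 1 < s + l then x + 1 else s) else x

/-- its inverse -/
def h68_ci (s l x : ℕ) : ℕ :=
  if s ≤ x ∧ x < s + l then (if s < x then x - 1 else s + l - 1) else x

theorem h68_cf_lt {M s l x : ℕ} (h : s + l ≤ M) (hx : x < M) : h68_cf s l x < M := by
  unfold h68_cf; split_ifs <;> omega

theorem h68_ci_lt {M s l x : ℕ} (h : s + l ≤ M) (hx : x < M) : h68_ci s l x < M := by
  unfold h68_ci; split_ifs <;> omega

theorem h68_ci_cf (s l x : ℕ) : h68_ci s l (h68_cf s l x) = x := by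
  unfold h68_ci h68_cf; split_ifs <;> omega

theorem h68_cf_ci (s l x : ℕ) : h68_cf s l (h68_ci s l x) = x := by
  unfold h68_ci h68_cf; split_ifs <;> omega

/-- the forward cycle on the interval `[s, s + l)` of `Fin M` (identity if it does not fit) -/
def h68_icyc (M s l : ℕ) : Perm (Fin M) :=
  if h : s + l ≤ M then
    { toFun := fun x => ⟨h68_cf s l x.1, h68_cf_lt h x.2⟩
      invFun := fun x => ⟨h68_ci s l x.1, h68_ci_lt h x.2⟩
      left_inv := fun x => Fin.ext (h68_ci_cf s l x.1)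
      right_inv := fun x => Fin.ext (h68_cf_ci s l x.1) }
  else 1

theorem h68_icyc_val {M s l : ℕ} (h : s + l ≤ M) (x : Fin M) :
    (h68_icyc M s l x).1 = h68_cf s l x.1 := by
  unfold h68_icyc; rw [dif_pos h]; rfl

theorem h68_icyc_inv_val {M s l : ℕ} (h : s + l ≤ M) (x : Fin M) :
    ((h68_icyc M s l)⁻¹ x).1 = h68_ci s l x.1 := by
  unfold h68_icyc; rw [dif_pos h]; rfl

theorem h68_icyc_out {M s l : ℕ} (h : s + l ≤ M) (z : Fin M)
    (hz : ¬ (s ≤ z.1 ∧ z.1 < s + l)) : h68_icyc M s l z = z := by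
  apply Fin.ext; rw [h68_icyc_val h]; unfold h68_cf; rw [if_neg hz]

theorem h68_icyc_inv_out {M s l : ℕ} (h : s + l ≤ M) (z : Fin M)
    (hz : ¬ (s ≤ z.1 ∧ z.1 < s + l)) : (h68_icyc M s l)⁻¹ z = z := by
  apply Fin.ext; rw [h68_icyc_inv_val h]; unfold h68_ci; rw [if_neg hz]

theorem h68_icyc_in {M s l : ℕ} (h : s + l ≤ M) (z : Fin M)
    (hz : s ≤ z.1 ∧ z.1 < s + l) :
    s ≤ (h68_icyc M s l z).1 ∧ (h68_icyc M s l z).1 < s + l := by
  rw [h68_icyc_val h]; unfold h68_cf; split_ifs <;> omega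

theorem h68_icyc_inv_in {M s l : ℕ} (h : s + l ≤ M) (z : Fin M)
    (hz : s ≤ z.1 ∧ z.1 < s + l) :
    s ≤ ((h68_icyc M s l)⁻¹ z).1 ∧ ((h68_icyc M s l)⁻¹ z).1 < s + l := by
  rw [h68_icyc_inv_val h]; unfold h68_ci; split_ifs <;> omega

theorem h68_card_Ico_fin (M s u : ℕ) (hu : u ≤ M) :
    (Finset.univ.filter (fun x : Fin M => s ≤ x.1 ∧ x.1 < u)).card = u - s := by
  rw [← Finset.card_image_of_injective _ Fin.val_injective]
  have : (Finset.univ.filter (fun x : Fin M => s ≤ x.1 ∧ x.1 < u)).image Fin.val =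
      Finset.Ico s u := by
    ext y
    simp only [Finset.mem_image, Finset.mem_filter, Finset.mem_univ, true_and, Finset.mem_Ico]
    constructor
    · rintro ⟨x, hx, rfl⟩; exact hx
    · intro hy; exact ⟨⟨y, by omega⟩, hy, rfl⟩
  rw [this, Nat.card_Ico]

theorem h68_icyc_pow {M s l : ℕ} (h : s + l ≤ M) (i : ℕ) (hi : i < l) :
    (((h68_icyc M s l) ^ i) ⟨s, by omega⟩).1 = s + i := by
  induction i with
  | zero => simp
  | succ i ih =>
    rw [pow_succ', Perm.mul_apply, h68_icyc_val h, ih (by omega)]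
    unfold h68_cf; split_ifs <;> omega

theorem h68_icyc_isCycle {M s l : ℕ} (h : s + l ≤ M) (hl : 2 ≤ l) :
    (h68_icyc M s l).IsCycle := by
  refine ⟨⟨s, by omega⟩, ?_, ?_⟩
  · intro hfix
    have h1 := congrArg Fin.val hfix
    rw [h68_icyc_val h] at h1
    simp only [h68_cf] at h1
    split_ifs at h1 <;> omega
  · intro y hy
    have hy' : s ≤ y.1 ∧ y.1 < s + l := by
      by_contra hcon
      exact hy (h68_icyc_out h y hcon)
    refine ⟨((y.1 - s : ℕ) : ℤ), ?_⟩
    rw [zpow_natCast]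
    apply Fin.ext
    rw [h68_icyc_pow h _ (by omega)]
    omega

theorem h68_icyc_support {M s l : ℕ} (h : s + l ≤ M) (hl : 2 ≤ l) :
    (h68_icyc M s l).support.card = l := by
  have h1 : (h68_icyc M s l).support =
      Finset.univ.filter (fun x : Fin M => s ≤ x.1 ∧ x.1 < s + l) := by
    ext x
    simp only [Perm.mem_support, Finset.mem_filter, Finset.mem_univ, true_and, ne_eq]
    rw [Fin.ext_iff, h68_icyc_val h]
    unfold h68_cf
    split_ifs <;> omega
  rw [h1, h68_card_Ico_fin M s (s + l) h]; omega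

theorem h68_icyc_cycleType {M s l : ℕ} (h : s + l ≤ M) (hl : 2 ≤ l) :
    (h68_icyc M s l).cycleType = {l} := by
  rw [(h68_icyc_isCycle h hl).cycleType, h68_icyc_support h hl]

/-- the interval model: cycles on consecutive intervals, the first `k` forward, the rest reversed -/
def h68_B (M : ℕ) : ℕ → List ℕ → ℕ → Perm (Fin M)
  | _, [], _ => 1
  | s, l :: L, 0 => h68_B M (s + l) L 0 * (h68_icyc M s l)⁻¹
  | s, l :: L, k + 1 => h68_B M (s + l) L k * h68_icyc M s l

theorem h68_B_fix {M : ℕ} : ∀ (L : List ℕ) (s k : ℕ) (z : Fin M),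
    (z.1 < s ∨ s + L.sum ≤ z.1) → s + L.sum ≤ M → h68_B M s L k z = z := by
  intro L
  induction L with
  | nil => intro s k z _ _; rfl
  | cons l L ih =>
    intro s k z hz hM
    rw [List.sum_cons] at hz hM
    have hout : ¬ (s ≤ z.1 ∧ z.1 < s + l) := by omega
    cases k with
    | zero =>
      show h68_B M (s + l) L 0 ((h68_icyc M s l)⁻¹ z) = z
      rw [h68_icyc_inv_out (by omega) z hout]
      exact ih (s + l) 0 z (by omega) (by omega)
    | succ k =>
      show h68_B M (s + l) L k (h68_icyc M s l z) = z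
      rw [h68_icyc_out (by omega) z hout]
      exact ih (s + l) k z (by omega) (by omega)

theorem h68_B_in_zero {M : ℕ} (L : List ℕ) (s l : ℕ) (z : Fin M)
    (hz : s ≤ z.1 ∧ z.1 < s + l) (hM : s + (l :: L).sum ≤ M) :
    h68_B M s (l :: L) 0 z = (h68_icyc M s l)⁻¹ z := by
  rw [List.sum_cons] at hM
  show h68_B M (s + l) L 0 ((h68_icyc M s l)⁻¹ z) = _
  have := h68_icyc_inv_in (M := M) (by omega) z hz
  exact h68_B_fix L (s + l) 0 _ (Or.inl this.2) (by omega)

theorem h68_B_in_succ {M : ℕ} (L : List ℕ) (s l k : ℕ) (z : Fin M)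
    (hz : s ≤ z.1 ∧ z.1 < s + l) (hM : s + (l :: L).sum ≤ M) :
    h68_B M s (l :: L) (k + 1) z = h68_icyc M s l z := by
  rw [List.sum_cons] at hM
  show h68_B M (s + l) L k (h68_icyc M s l z) = _
  have := h68_icyc_in (M := M) (by omega) z hz
  exact h68_B_fix L (s + l) k _ (Or.inl this.2) (by omega)

theorem h68_B_out_zero {M : ℕ} (L : List ℕ) (s l : ℕ) (z : Fin M)
    (hz : ¬ (s ≤ z.1 ∧ z.1 < s + l)) (hM : s + (l :: L).sum ≤ M) :
    h68_B M s (l :: L) 0 z = h68_B M (s + l) L 0 z := by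
  rw [List.sum_cons] at hM
  show h68_B M (s + l) L 0 ((h68_icyc M s l)⁻¹ z) = _
  rw [h68_icyc_inv_out (by omega) z hz]

theorem h68_B_out_succ {M : ℕ} (L : List ℕ) (s l k : ℕ) (z : Fin M)
    (hz : ¬ (s ≤ z.1 ∧ z.1 < s + l)) (hM : s + (l :: L).sum ≤ M) :
    h68_B M s (l :: L) (k + 1) z = h68_B M (s + l) L k z := by
  rw [List.sum_cons] at hM
  show h68_B M (s + l) L k (h68_icyc M s l z) = _
  rw [h68_icyc_out (by omega) z hz]

theorem h68_B_cycleType {M : ℕ} : ∀ (L : List ℕ) (s k : ℕ), (∀ l ∈ L, 2 ≤ l) →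
    s + L.sum ≤ M → (h68_B M s L k).cycleType = (L : Multiset ℕ) := by
  intro L
  induction L with
  | nil => intro s k _ _; simp [h68_B]
  | cons l L ih =>
    intro s k hL hM
    rw [List.sum_cons] at hM
    have hl : 2 ≤ l := hL l (by simp)
    have hL' : ∀ l' ∈ L, 2 ≤ l' := fun l' hl' => hL l' (by simp [hl'])
    have hfin : (l ::ₘ (L : Multiset ℕ)) = ((l :: L : List ℕ) : Multiset ℕ) := Multiset.cons_coe l L
    cases k with
    | zero =>
      have hd : Perm.Disjoint (h68_B M (s + l) L 0) (h68_icyc M s l)⁻¹ := by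
        intro z
        by_cases hz : s ≤ z.1 ∧ z.1 < s + l
        · exact Or.inl (h68_B_fix L (s + l) 0 z (Or.inl hz.2) (by omega))
        · exact Or.inr (h68_icyc_inv_out (by omega) z hz)
      show (h68_B M (s + l) L 0 * (h68_icyc M s l)⁻¹).cycleType = _
      rw [hd.cycleType_mul, ih (s + l) 0 hL' (by omega), Perm.cycleType_inv,
        h68_icyc_cycleType (by omega) hl, add_comm, Multiset.singleton_add, hfin]
    | succ k =>
      have hd : Perm.Disjoint (h68_B M (s + l) L k) (h68_icyc M s l) := by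
        intro z
        by_cases hz : s ≤ z.1 ∧ z.1 < s + l
        · exact Or.inl (h68_B_fix L (s + l) k z (Or.inl hz.2) (by omega))
        · exact Or.inr (h68_icyc_out (by omega) z hz)
      show (h68_B M (s + l) L k * h68_icyc M s l).cycleType = _
      rw [hd.cycleType_mul, ih (s + l) k hL' (by omega),
        h68_icyc_cycleType (by omega) hl, add_comm, Multiset.singleton_add, hfin]

end Cfsg.Agent.Lib.helper95.AP
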