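import Mathlib
import Cfsg.Agent.Lib.helper95.APDefs
import Cfsg.Agent.Lib.helper68.APINTVa

/-!
S2276 piece INTV, part B (racer copy by helper68): fixed points of `rotation * b`, residues of
`b`, and the core statement with GPC as a hypothesis.
-/

set_option autoImplicit false

namespace Cfsg.Agent.Lib.helper95.AP

open Equiv

theorem h68_finRotate_val (M : ℕ) (z : Fin M) :
    (finRotate M z).1 = if z.1 + 1 = M then 0 else z.1 + 1 := by
  cases M with
  | zero => exact z.elim0
  | succ n =>
    rw [coe_finRotate]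
    by_cases h : z = Fin.last n
    · subst h; simp
    · rw [if_neg h, if_neg]
      intro h'
      exact h (Fin.ext (by simpa using h'))

/-- sum of `l - 1` over the reversed parts (those after the first `k`) -/
def h68_rsum : List ℕ → ℕ → ℕ
  | [], _ => 0
  | l :: L, 0 => (l - 1) + h68_rsum L 0
  | _ :: L, k + 1 => h68_rsum L k

theorem h68_count {M : ℕ} (hM2 : 2 ≤ M) (a : Perm (Fin M))
    (ha : ∀ z : Fin M, (a z).1 = if z.1 + 1 = M then 0 else z.1 + 1) :
    ∀ (L : List ℕ) (s k : ℕ), (∀ l ∈ L, 3 ≤ l ∧ l < M) → s + L.sum ≤ M →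
    (Finset.univ.filter (fun z : Fin M => s ≤ z.1 ∧ a (h68_B M s L k z) = z)).card =
      h68_rsum L k := by
  intro L
  induction L with
  | nil =>
    intro s k _ _
    have h0 : h68_rsum [] k = 0 := by cases k <;> rfl
    rw [h0, Finset.card_eq_zero, Finset.filter_eq_empty_iff]
    intro z _ hz
    have h1 := congrArg Fin.val hz.2
    rw [show h68_B M s [] k = 1 from rfl, Perm.one_apply, ha] at h1
    split_ifs at h1 <;> omega
  | cons l L ih =>
    intro s k hL hM
    have hl := hL l (by simp)
    have hL' : ∀ l' ∈ L, 3 ≤ l' ∧ l' < M := fun l' hl' => hL l' (by simp [hl'])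
    have hM' := hM
    rw [List.sum_cons] at hM'
    rw [← Finset.card_filter_add_card_filter_not (fun z : Fin M => z.1 < s + l),
      Finset.filter_filter, Finset.filter_filter]
    cases k with
    | zero =>
      have e1 : (Finset.univ.filter (fun z : Fin M =>
          (s ≤ z.1 ∧ a (h68_B M s (l :: L) 0 z) = z) ∧ z.1 < s + l)) =
          Finset.univ.filter (fun z : Fin M => s + 1 ≤ z.1 ∧ z.1 < s + l) := by
        apply Finset.filter_congr
        intro z _
        constructor
        · rintro ⟨⟨h1, h2⟩, h3⟩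
          rw [h68_B_in_zero L s l z ⟨h1, h3⟩ hM] at h2
          have h4 := congrArg Fin.val h2
          rw [ha, h68_icyc_inv_val (by omega)] at h4
          unfold h68_ci at h4
          split_ifs at h4 <;> omega
        · rintro ⟨h1, h3⟩
          refine ⟨⟨by omega, ?_⟩, h3⟩
          rw [h68_B_in_zero L s l z ⟨by omega, h3⟩ hM]
          apply Fin.ext
          rw [ha, h68_icyc_inv_val (by omega)]
          unfold h68_ci
          split_ifs <;> omega
      have e2 : (Finset.univ.filter (fun z : Fin M =>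
          (s ≤ z.1 ∧ a (h68_B M s (l :: L) 0 z) = z) ∧ ¬ z.1 < s + l)) =
          Finset.univ.filter (fun z : Fin M =>
            s + l ≤ z.1 ∧ a (h68_B M (s + l) L 0 z) = z) := by
        apply Finset.filter_congr
        intro z _
        constructor
        · rintro ⟨⟨h1, h2⟩, h3⟩
          rw [h68_B_out_zero L s l z (by omega) hM] at h2
          exact ⟨by omega, h2⟩
        · rintro ⟨h1, h2⟩
          refine ⟨⟨by omega, ?_⟩, by omega⟩
          rw [h68_B_out_zero L s l z (by omega) hM]
          exact h2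
      rw [e1, e2, h68_card_Ico_fin M (s + 1) (s + l) (by omega), ih (s + l) 0 hL' (by omega)]
      show _ = (l - 1) + h68_rsum L 0
      omega
    | succ k =>
      have e1 : (Finset.univ.filter (fun z : Fin M =>
          (s ≤ z.1 ∧ a (h68_B M s (l :: L) (k + 1) z) = z) ∧ z.1 < s + l)) = ∅ := by
        rw [Finset.filter_eq_empty_iff]
        rintro z _ ⟨⟨h1, h2⟩, h3⟩
        rw [h68_B_in_succ L s l k z ⟨h1, h3⟩ hM] at h2
        have h4 := congrArg Fin.val h2
        rw [ha, h68_icyc_val (by omega)] at h4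
        unfold h68_cf at h4
        split_ifs at h4 <;> omega
      have e2 : (Finset.univ.filter (fun z : Fin M =>
          (s ≤ z.1 ∧ a (h68_B M s (l :: L) (k + 1) z) = z) ∧ ¬ z.1 < s + l)) =
          Finset.univ.filter (fun z : Fin M =>
            s + l ≤ z.1 ∧ a (h68_B M (s + l) L k z) = z) := by
        apply Finset.filter_congr
        intro z _
        constructor
        · rintro ⟨⟨h1, h2⟩, h3⟩
          rw [h68_B_out_succ L s l k z (by omega) hM] at h2
          exact ⟨by omega, h2⟩
        · rintro ⟨h1, h2⟩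
          refine ⟨⟨by omega, ?_⟩, by omega⟩
          rw [h68_B_out_succ L s l k z (by omega) hM]
          exact h2
      rw [e1, e2, Finset.card_empty, zero_add, ih (s + l) k hL' (by omega)]
      rfl

theorem h68_B_mod {M : ℕ} (p : ℕ) : ∀ (L : List ℕ) (s k : ℕ) (z : Fin M),
    (∀ l ∈ L, p ∣ l ∧ 1 ≤ l) → s + L.sum ≤ M → s + (L.take k).sum ≤ z.1 →
    ((h68_B M s L k z).1 + 1 ≡ z.1 [MOD p]) ∨ ((h68_B M s L k z).1 ≡ z.1 [MOD p]) := by
  intro L
  induction L with
  | nil => intro s k z _ _ _; right; exact Nat.ModEq.refl _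
  | cons l L ih =>
    intro s k z hL hM hz
    have hl := hL l (by simp)
    have hL' : ∀ l' ∈ L, p ∣ l' ∧ 1 ≤ l' := fun l' hl' => hL l' (by simp [hl'])
    have hM' := hM
    rw [List.sum_cons] at hM'
    cases k with
    | zero =>
      have hz0 : s ≤ z.1 := by simpa using hz
      by_cases hin : s ≤ z.1 ∧ z.1 < s + l
      · left
        rw [h68_B_in_zero L s l z hin hM, h68_icyc_inv_val (by omega)]
        unfold h68_ci
        rw [if_pos hin]
        by_cases hs : s < z.1
        · rw [if_pos hs]
          have h1 : z.1 - 1 + 1 = z.1 := by omega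
          rw [h1]
        · rw [if_neg hs]
          have hzs : z.1 = s := by omega
          have h1 : s + l - 1 + 1 = s + l := by omega
          rw [h1, hzs]
          simpa using (Nat.modEq_zero_iff_dvd.mpr hl.1).add_left s
      · rw [h68_B_out_zero L s l z hin hM]
        exact ih (s + l) 0 z hL' (by omega) (by simp; omega)
    | succ k =>
      have hz' : s + l + (L.take k).sum ≤ z.1 := by
        rw [List.take_succ_cons, List.sum_cons] at hz; omega
      have hout : ¬ (s ≤ z.1 ∧ z.1 < s + l) := by omega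
      rw [h68_B_out_succ L s l k z hout hM]
      exact ih (s + l) k z hL' (by omega) hz'

theorem h68_rsum_prop (p : ℕ) : ∀ (L : List ℕ) (k : ℕ), (∀ l ∈ L, p ∣ l ∧ 3 ≤ l) →
    k ≤ L.length →
    p ∣ h68_rsum L k + (L.length - k) ∧ (k < L.length → 2 ≤ h68_rsum L k) := by
  intro L
  induction L with
  | nil =>
    intro k _ hk
    simp at hk
    subst hk
    simp [h68_rsum]
  | cons l L ih =>
    intro k hL hk
    have hl := hL l (by simp)
    have hL' : ∀ l' ∈ L, p ∣ l' ∧ 3 ≤ l' := fun l' hl' => hL l' (by simp [hl'])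
    cases k with
    | zero =>
      obtain ⟨h1, _⟩ := ih 0 hL' (Nat.zero_le _)
      constructor
      · show p ∣ (l - 1) + h68_rsum L 0 + ((l :: L).length - 0)
        have h2 : (l - 1) + h68_rsum L 0 + ((l :: L).length - 0) =
            l + (h68_rsum L 0 + (L.length - 0)) := by
          simp only [List.length_cons]; omega
        rw [h2]; exact dvd_add hl.1 h1
      · intro _
        show 2 ≤ (l - 1) + h68_rsum L 0
        omega
    | succ k =>
      simp only [List.length_cons] at hk ⊢
      obtain ⟨h1, h2⟩ := ih k hL' (by omega)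
      constructor
      · show p ∣ h68_rsum L k + (L.length + 1 - (k + 1))
        have h3 : L.length + 1 - (k + 1) = L.length - k := by omega
        rw [h3]; exact h1
      · intro hk'
        exact h2 (by omega)

theorem h68_not_nodup (p : ℕ) (hp : p.Prime) (e : ℕ) (L : List ℕ) (hL0 : L ≠ [])
    (hsort : L.Pairwise (· ≥ ·)) (hpow : ∀ l ∈ L, ∃ j : ℕ, 1 ≤ j ∧ l = p ^ j ∧ l < p ^ e)
    (hsum : L.sum = p ^ e) (hnd : ∀ i, L.count i ≤ 1) : False := by
  have hp1 : 1 < p := hp.one_lt
  obtain ⟨L₀, l, rfl⟩ : ∃ L₀ l, L = L₀ ++ [l] :=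
    ⟨L.dropLast, L.getLast hL0, (List.dropLast_append_getLast hL0).symm⟩
  obtain ⟨j, hj1, rfl, hjlt⟩ := hpow l (by simp)
  have hje : j < e := (Nat.pow_lt_pow_iff_right hp1).mp hjlt
  rw [List.pairwise_append] at hsort
  have hnot : p ^ j ∉ L₀ := by
    intro hmem
    have hc := hnd (p ^ j)
    rw [List.count_append, List.count_singleton_self] at hc
    have := List.count_pos_iff.mpr hmem
    omega
  have hall : ∀ x ∈ L₀, p ^ (j + 1) ∣ x := by
    intro x hx
    obtain ⟨i, _, rfl, _⟩ := hpow x (by simp [hx])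
    have hge : p ^ i ≥ p ^ j := hsort.2.2 _ hx _ (by simp)
    have hne : p ^ i ≠ p ^ j := fun heq => hnot (heq ▸ hx)
    have hlt : p ^ j < p ^ i := lt_of_le_of_ne hge (Ne.symm hne)
    have hji : j < i := (Nat.pow_lt_pow_iff_right hp1).mp hlt
    exact pow_dvd_pow p (by omega)
  have h1 : p ^ (j + 1) ∣ L₀.sum := List.dvd_sum hall
  have h2 : p ^ (j + 1) ∣ p ^ e := pow_dvd_pow p (by omega)
  rw [List.sum_append, List.sum_singleton] at hsum
  rw [← hsum] at h2
  have h3 : p ^ (j + 1) ∣ p ^ j := (Nat.dvd_add_right h1).mp h2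
  have h4 := Nat.le_of_dvd (pow_pos hp.pos j) h3
  have h5 : p ^ j < p ^ (j + 1) := Nat.pow_lt_pow_right hp1 (by omega)
  omega

end Cfsg.Agent.Lib.helper95.AP
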