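import Mathlib
import Cfsg.Agent.Lib.helper95.APDefs
import Cfsg.Agent.Lib.helper68.APINTVa
import Cfsg.Agent.Lib.helper68.APINTVb

/-!
S2276 piece INTV, core (racer copy by helper68): the statement of INTV with GPC as a hypothesis.
-/

set_option autoImplicit false

namespace Cfsg.Agent.Lib.helper95.AP

open Equiv

/-- the data needed for the good pair criterion, for a general modulus `M = p * P`, `p ∣ P` -/
theorem h68_intv_data (p M P : ℕ) (hp : p.Prime) (hp3 : 3 ≤ p) (hMP : M = p * P)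
    (hpP : p ∣ P) (hP3 : 3 ≤ P) (L : List ℕ) (hL0 : L ≠ [])
    (hparts : ∀ l ∈ L, p ∣ l ∧ 3 ≤ l ∧ l < M ∧ l ≤ P) (hsum : L.sum ≤ M) :
    ∃ (b : Perm (Fin M)) (x y : Fin M) (f : ℕ), b.cycleType = (L : Multiset ℕ) ∧
      ((P : ℕ) : ℤ) ∣ ((x : ℕ) : ℤ) - ((y : ℕ) : ℤ) ∧
      (¬ (p : ℤ) ∣ (((b x : Fin M) : ℕ) : ℤ) - (((b y : Fin M) : ℕ) : ℤ)) ∧
      (Finset.univ.filter (fun z : Fin M => (finRotate M * b) z = z)).card = f ∧
      2 ≤ f ∧ ¬ p ∣ f := by
  classical
  obtain ⟨l₁, L', rfl⟩ : ∃ l₁ L', L = l₁ :: L' := List.exists_cons_of_ne_nil hL0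
  have h4 : 2 * P ≤ (p - 1) * P := Nat.mul_le_mul_right _ (by omega)
  have hMlow : 1 + (p - 1) * P < M := by
    rw [hMP]
    have h5 : p * P = (p - 1) * P + P := by
      have h6 : p = (p - 1) + 1 := by omega
      calc p * P = ((p - 1) + 1) * P := by rw [← h6]
        _ = (p - 1) * P + P := by ring
    omega
  have hM2 : 2 ≤ M := by omega
  -- choice of k
  obtain ⟨t, ht⟩ : ∃ t, t = (l₁ :: L').length := ⟨_, rfl⟩
  have ht1 : 1 ≤ t := by rw [ht]; simp
  obtain ⟨k, hkt, hk2, hkdiv, hk0⟩ :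
      ∃ k, k < t ∧ k ≤ 2 ∧ ¬ p ∣ (t - k) ∧ (k = 0 → t = 1) := by
    by_cases h1 : t = 1
    · refine ⟨0, by omega, by omega, ?_, fun _ => h1⟩
      rw [h1]
      intro h
      have := Nat.le_of_dvd (by norm_num) h
      omega
    · by_cases h2 : t % p = 1
      · have ht4 : 4 ≤ t := by
          by_contra hcon
          rcases Nat.lt_or_ge t p with hlt | hge
          · rw [Nat.mod_eq_of_lt hlt] at h2; omega
          · have h3 : t = p := by omega
            rw [h3, Nat.mod_self] at h2; omega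
        refine ⟨2, by omega, le_refl 2, ?_, by omega⟩
        rintro ⟨c, hc⟩
        have h3 : t = p * c + 2 := by omega
        rw [h3, Nat.mul_add_mod, Nat.mod_eq_of_lt (by omega)] at h2
        omega
      · refine ⟨1, by omega, by omega, ?_, by omega⟩
        rintro ⟨c, hc⟩
        have h3 : t = p * c + 1 := by omega
        apply h2
        rw [h3, Nat.mul_add_mod, Nat.mod_eq_of_lt (by omega)]
  have hsum0 : 0 + (l₁ :: L').sum ≤ M := by simpa using hsum
  have hl₁ := hparts l₁ (by simp)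
  have hl₁M : 0 + l₁ ≤ M := by
    have := hsum0
    rw [List.sum_cons] at this
    omega
  -- cycle type
  have hct : (h68_B M 0 (l₁ :: L') k).cycleType = ((l₁ :: L' : List ℕ) : Multiset ℕ) :=
    h68_B_cycleType _ 0 k (fun l hl => by have := (hparts l hl).2.1; omega) hsum0
  -- fixed point count
  have hcount := h68_count hM2 (finRotate M) (h68_finRotate_val M) (l₁ :: L') 0 k
    (fun l hl => ⟨(hparts l hl).2.1, (hparts l hl).2.2.1⟩) hsum0
  have hf : (Finset.univ.filter (fun z : Fin M =>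
      (finRotate M * h68_B M 0 (l₁ :: L') k) z = z)).card = h68_rsum (l₁ :: L') k := by
    rw [← hcount]
    congr 1
    apply Finset.filter_congr
    intro z _
    simp
  obtain ⟨hr1, hr2⟩ := h68_rsum_prop p (l₁ :: L') k
    (fun l hl => ⟨(hparts l hl).1, (hparts l hl).2.1⟩) (by omega)
  have hf2 : 2 ≤ h68_rsum (l₁ :: L') k := hr2 (by omega)
  have hfp : ¬ p ∣ h68_rsum (l₁ :: L') k := by
    intro h
    rw [← ht] at hr1
    exact hkdiv ((Nat.dvd_add_right h).mp hr1)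
  -- witnesses
  obtain ⟨x, hxv⟩ : ∃ x : Fin M, x.1 = 1 := ⟨⟨1, by omega⟩, rfl⟩
  obtain ⟨y, hyv⟩ : ∃ y : Fin M, y.1 = 1 + (p - 1) * P := ⟨⟨1 + (p - 1) * P, hMlow⟩, rfl⟩
  have hxy : ((P : ℕ) : ℤ) ∣ ((x : ℕ) : ℤ) - ((y : ℕ) : ℤ) := by
    refine ⟨-(((p - 1 : ℕ)) : ℤ), ?_⟩
    rw [hxv, hyv]
    push_cast
    ring
  have hy1 : (y : ℕ) ≡ 1 [MOD p] := by
    rw [hyv]
    have h5 : p ∣ (p - 1) * P := Dvd.dvd.mul_left hpP _
    simpa using (Nat.modEq_zero_iff_dvd.mpr h5).add_left 1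
  have htake : (0 : ℕ) + ((l₁ :: L').take k).sum ≤ (y : ℕ) := by
    have h1 : ((l₁ :: L').take k).sum ≤ ((l₁ :: L').take k).length • P :=
      List.sum_le_card_nsmul _ _ (fun l hl => (hparts l (List.mem_of_mem_take hl)).2.2.2)
    have h2 : ((l₁ :: L').take k).length ≤ k := List.length_take_le _ _
    have h3 : ((l₁ :: L').take k).length * P ≤ 2 * P := Nat.mul_le_mul_right _ (by omega)
    rw [smul_eq_mul] at h1
    rw [hyv]
    omega
  have hbxy : ¬ (p : ℤ) ∣ (((h68_B M 0 (l₁ :: L') k x : Fin M) : ℕ) : ℤ) -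
      (((h68_B M 0 (l₁ :: L') k y : Fin M) : ℕ) : ℤ) := by
    intro hd
    have hmod : ((h68_B M 0 (l₁ :: L') k y : Fin M) : ℕ) ≡
        ((h68_B M 0 (l₁ :: L') k x : Fin M) : ℕ) [MOD p] :=
      Int.natCast_modEq_iff.mp (Int.modEq_iff_dvd.mpr hd)
    have hxin : 0 ≤ x.1 ∧ x.1 < 0 + l₁ := ⟨Nat.zero_le _, by omega⟩
    cases k with
    | zero =>
      have ht1' : t = 1 := hk0 rfl
      have hL'nil : L' = [] := by
        rw [ht] at ht1'
        simpa using ht1'
      subst hL'nil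
      have hbx : ((h68_B M 0 [l₁] 0 x : Fin M) : ℕ) = 0 := by
        rw [h68_B_in_zero [] 0 l₁ x hxin hsum0, h68_icyc_inv_val hl₁M]
        unfold h68_ci
        rw [hxv]
        split_ifs <;> omega
      have hbyv : h68_B M 0 [l₁] 0 y = y := by
        apply h68_B_fix [l₁] 0 0 y _ hsum0
        right
        rw [hyv]
        simp only [List.sum_cons, List.sum_nil]
        omega
      rw [hbyv, hbx] at hmod
      have h5 : 1 ≡ 0 [MOD p] := hy1.symm.trans hmod
      have h6 : p ∣ 1 := Nat.modEq_zero_iff_dvd.mp h5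
      have := Nat.le_of_dvd (by norm_num) h6
      omega
    | succ k =>
      have hbx : ((h68_B M 0 (l₁ :: L') (k + 1) x : Fin M) : ℕ) = 2 := by
        rw [h68_B_in_succ L' 0 l₁ k x hxin hsum0, h68_icyc_val hl₁M]
        unfold h68_cf
        rw [hxv]
        split_ifs <;> omega
      rw [hbx] at hmod
      have hby := h68_B_mod p (l₁ :: L') 0 (k + 1) y
        (fun l hl => ⟨(hparts l hl).1, by have := (hparts l hl).2.1; omega⟩) hsum0 htake
      rcases hby with h | h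
      · have h5 : 2 + 1 ≡ 1 [MOD p] := (hmod.symm.add_right 1).trans (h.trans hy1)
        have h6 : p ∣ 2 := by
          have := (Nat.modEq_iff_dvd' (by norm_num : 1 ≤ 2 + 1)).mp h5.symm
          simpa using this
        have := Nat.le_of_dvd (by norm_num) h6
        omega
      · have h5 : 2 ≡ 1 [MOD p] := hmod.symm.trans (h.trans hy1)
        have h6 : p ∣ 1 := by
          have := (Nat.modEq_iff_dvd' (by norm_num : 1 ≤ 2)).mp h5.symm
          simpa using this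
        have := Nat.le_of_dvd (by norm_num) h6
        omega
  exact ⟨h68_B M 0 (l₁ :: L') k, x, y, h68_rsum (l₁ :: L') k, hct, hxy, hbxy, hf, hf2, hfp⟩

/-- INTV with GPC as a hypothesis. -/
theorem h68_intv_core
    (hgpc : ∀ (p : ℕ) (_ : p.Prime) (_ : 3 ≤ p) (e : ℕ) (_ : 1 ≤ e) (b : Perm (Fin (p ^ e)))
      (x y : Fin (p ^ e)) (_ : ((p ^ (e - 1) : ℕ) : ℤ) ∣ ((x : ℕ) : ℤ) - ((y : ℕ) : ℤ))
      (_ : ¬ (p : ℤ) ∣ (((b x : Fin (p ^ e)) : ℕ) : ℤ) - (((b y : Fin (p ^ e)) : ℕ) : ℤ))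
      (f : ℕ)
      (_ : (Finset.univ.filter (fun z : Fin (p ^ e) => (finRotate (p ^ e) * b) z = z)).card = f)
      (_ : 2 ≤ f) (_ : ¬ p ∣ f), Good p (finRotate (p ^ e)) b)
    (p : ℕ) (hp : p.Prime) (hp3 : 3 ≤ p) (e : ℕ) (L : List ℕ) (hL0 : L ≠ [])
    (hsort : L.Pairwise (· ≥ ·)) (hpow : ∀ l ∈ L, ∃ j : ℕ, 1 ≤ j ∧ l = p ^ j ∧ l < p ^ e)
    (hsum : L.sum ≤ p ^ e) :
    ∃ b : Perm (Fin (p ^ e)), b.cycleType = (L : Multiset ℕ) ∧
      GoodBoth p (finRotate (p ^ e)) b := by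
  classical
  have hp1 : 1 < p := hp.one_lt
  have he2 : 2 ≤ e := by
    obtain ⟨l₁, L', rfl⟩ := List.exists_cons_of_ne_nil hL0
    obtain ⟨j, hj1, rfl, hlt⟩ := hpow l₁ (by simp)
    have := (Nat.pow_lt_pow_iff_right hp1).mp hlt
    omega
  have hparts : ∀ l ∈ L, p ∣ l ∧ 3 ≤ l ∧ l < p ^ e ∧ l ≤ p ^ (e - 1) := by
    intro l hl
    obtain ⟨j, hj1, rfl, hlt⟩ := hpow l hl
    have hje : j < e := (Nat.pow_lt_pow_iff_right hp1).mp hlt
    refine ⟨dvd_pow_self p (by omega), ?_, hlt, Nat.pow_le_pow_right hp.pos (by omega)⟩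
    calc 3 ≤ p := hp3
      _ = p ^ 1 := (pow_one p).symm
      _ ≤ p ^ j := Nat.pow_le_pow_right hp.pos hj1
  have hMP : p ^ e = p * p ^ (e - 1) := by
    rw [← pow_succ']
    congr 1
    omega
  have hpP : p ∣ p ^ (e - 1) := dvd_pow_self p (by omega)
  have hP3 : 3 ≤ p ^ (e - 1) := by
    calc 3 ≤ p := hp3
      _ = p ^ 1 := (pow_one p).symm
      _ ≤ p ^ (e - 1) := Nat.pow_le_pow_right hp.pos (by omega)
  obtain ⟨b, x, y, f, hct, hxy, hbxy, hf, hf2, hfp⟩ :=
    h68_intv_data p (p ^ e) (p ^ (e - 1)) hp hp3 hMP hpP hP3 L hL0 hparts hsum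
  have hgood : Good p (finRotate (p ^ e)) b :=
    hgpc p hp hp3 e (by omega) b x y hxy hbxy f hf hf2 hfp
  -- an odd permutation commuting with `b`
  have hnot : ¬ Subgroup.centralizer {b} ≤ alternatingGroup (Fin (p ^ e)) := by
    rw [Equiv.Perm.centralizer_le_alternating_iff]
    rintro ⟨_, hcard, hcnt⟩
    rw [hct] at hcard hcnt
    simp only [Multiset.sum_coe, Multiset.coe_count, Fintype.card_fin] at hcard hcnt
    have hsumeq : L.sum = p ^ e := by
      have h1 : p ∣ L.sum := List.dvd_sum (fun l hl => (hparts l hl).1)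
      have h2 : p ∣ p ^ e := dvd_pow_self p (by omega)
      by_contra hne
      have h3 : p ^ e = L.sum + 1 := by omega
      rw [h3] at h2
      have h4 : p ∣ 1 := (Nat.dvd_add_right h1).mp h2
      have := Nat.le_of_dvd (by norm_num) h4
      omega
    exact h68_not_nodup p hp e L hL0 hsort hpow hsumeq hcnt
  obtain ⟨τ, hτc, hτa⟩ := SetLike.not_le_iff_exists.mp hnot
  have hsign : Perm.sign τ = -1 := by
    rcases Int.units_eq_one_or (Perm.sign τ) with h | h
    · exact absurd (Equiv.Perm.mem_alternatingGroup.mpr h) hτa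
    · exact h
  have hcomm : τ * b * τ⁻¹ = b := by
    have h1 := Subgroup.mem_centralizer_iff.mp hτc b (Set.mem_singleton b)
    rw [mul_inv_eq_iff_eq_mul]
    exact h1.symm
  exact ⟨b, hct, hgood, τ, hsign, by rw [hcomm]; exact hgood⟩

end Cfsg.Agent.Lib.helper95.AP
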