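import Mathlib
import Cfsg.Agent.Lib.helper68.BGJcore

/-!
# S4504 (helper2 split), piece C : `central_scalar` (helper68, spare copy)
-/

set_option autoImplicit false

open Cfsg
open scoped ComplexConjugate

namespace Cfsg.Agent.Lib.helper2.BG

variable {G : Type*} [Group G] [Fintype G]

/-- C. -/
theorem helper68_BGC_central_scalar (χ : IrrCharacter G) (z : G) (hz : z ∈ Subgroup.center G) :
    ∃ μ : ℂ, ‖μ‖ = 1 ∧ ∀ g : G, (χ : G → ℂ) (g * z) = μ * (χ : G → ℂ) g :=
  helper68_central_scalar χ z hz (orderOf_pos z)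

end Cfsg.Agent.Lib.helper2.BG
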