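import Mathlib
import Cfsg.Agent.Lib.helper68.BGJcore

/-!
# S4504 (helper2 split), pieces J1 / J2 : `central_orth_same`, `central_orth_ne` (helper68)
-/

set_option autoImplicit false

open Cfsg
open scoped ComplexConjugate

namespace Cfsg.Agent.Lib.helper2.BG

variable {G : Type*} [Group G] [Fintype G]

theorem helper68_J12_aux (χ ψ : IrrCharacter G) (h : G) :
    (∀ z ∈ Subgroup.center G, ∀ z' ∈ Subgroup.center G,
      helper68_cc (ψ : G → ℂ) (z * z') * conj (helper68_cc (χ : G → ℂ) (z * z')) =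
        (helper68_cc (ψ : G → ℂ) z * conj (helper68_cc (χ : G → ℂ) z)) *
          (helper68_cc (ψ : G → ℂ) z' * conj (helper68_cc (χ : G → ℂ) z'))) ∧
    (∀ z ∈ Subgroup.center G,
      (ψ : G → ℂ) (h * z) * conj ((χ : G → ℂ) (h * z)) =
        (helper68_cc (ψ : G → ℂ) z * conj (helper68_cc (χ : G → ℂ) z)) *
          ((ψ : G → ℂ) h * conj ((χ : G → ℂ) h))) := by
  constructor
  · intro z hz z' hz'
    rw [helper68_cc_mul ψ z z' hz hz', helper68_cc_mul χ z z' hz hz', map_mul]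
    ring
  · intro z hz
    rw [(helper68_cc_spec ψ z hz).2 h, (helper68_cc_spec χ z hz).2 h, map_mul]
    ring

/-- J1. -/
theorem central_orth_same (χ ψ : IrrCharacter G) (h : G)
    (hs : SameCentral (χ : G → ℂ) (ψ : G → ℂ)) :
    ∑ z : G, Set.indicator ((Subgroup.center G : Subgroup G) : Set G)
        (fun z => (ψ : G → ℂ) (h * z) * conj ((χ : G → ℂ) (h * z))) z
      = (Nat.card (Subgroup.center G) : ℂ) * ((ψ : G → ℂ) h * conj ((χ : G → ℂ) h)) := by
  obtain ⟨hmul, hF⟩ := helper68_J12_aux χ ψ h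
  refine (helper68_center_sum (fun g => (ψ : G → ℂ) g * conj ((χ : G → ℂ) g))
    (fun z => helper68_cc (ψ : G → ℂ) z * conj (helper68_cc (χ : G → ℂ) z)) h hmul hF).1 ?_
  intro z hz
  have hχ1 : (χ : G → ℂ) 1 ≠ 0 := Cfsg.Agent.Lib.helper4.irr_degree_ne_zero χ.2
  have hψ1 : (ψ : G → ℂ) 1 ≠ 0 := Cfsg.Agent.Lib.helper4.irr_degree_ne_zero ψ.2
  have heq : helper68_cc (ψ : G → ℂ) z = helper68_cc (χ : G → ℂ) z := by
    unfold helper68_cc
    rw [div_eq_div_iff hψ1 hχ1]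
    exact (hs z hz).symm
  show helper68_cc (ψ : G → ℂ) z * conj (helper68_cc (χ : G → ℂ) z) = 1
  rw [heq]
  exact helper68_cc_mul_conj χ z hz

/-- J2. -/
theorem central_orth_ne (χ ψ : IrrCharacter G) (h : G)
    (hs : ¬ SameCentral (χ : G → ℂ) (ψ : G → ℂ)) :
    ∑ z : G, Set.indicator ((Subgroup.center G : Subgroup G) : Set G)
        (fun z => (ψ : G → ℂ) (h * z) * conj ((χ : G → ℂ) (h * z))) z = 0 := by
  obtain ⟨hmul, hF⟩ := helper68_J12_aux χ ψ h
  refine (helper68_center_sum (fun g => (ψ : G → ℂ) g * conj ((χ : G → ℂ) g))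
    (fun z => helper68_cc (ψ : G → ℂ) z * conj (helper68_cc (χ : G → ℂ) z)) h hmul hF).2 ?_
  unfold SameCentral at hs
  push_neg at hs
  obtain ⟨z₀, hz₀, hne⟩ := hs
  refine ⟨z₀, hz₀, ?_⟩
  have hχ1 : (χ : G → ℂ) 1 ≠ 0 := Cfsg.Agent.Lib.helper4.irr_degree_ne_zero χ.2
  have hψ1 : (ψ : G → ℂ) 1 ≠ 0 := Cfsg.Agent.Lib.helper4.irr_degree_ne_zero ψ.2
  intro h1
  have h2 := helper68_cc_mul_conj χ z₀ hz₀
  have hc0 : conj (helper68_cc (χ : G → ℂ) z₀) ≠ 0 := by
    intro h0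
    rw [h0, mul_zero] at h2
    exact zero_ne_one h2
  have heq : helper68_cc (ψ : G → ℂ) z₀ = helper68_cc (χ : G → ℂ) z₀ :=
    mul_right_cancel₀ hc0 (h1.trans h2.symm)
  apply hne
  unfold helper68_cc at heq
  rw [div_eq_div_iff hψ1 hχ1] at heq
  exact heq.symm

end Cfsg.Agent.Lib.helper2.BG
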