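import Mathlib
import Cfsg.Agent.Lib.helper68.BGJcore

/-!
# S4504 (helper2 split), pieces J3 / J4 : `central_sum_triv`, `central_sum_ne` (helper68)
-/

set_option autoImplicit false

open Cfsg
open scoped ComplexConjugate

namespace Cfsg.Agent.Lib.helper2.BG

variable {G : Type*} [Group G] [Fintype G]

theorem helper68_J34_aux (χ : IrrCharacter G) (h : G) :
    (∀ z ∈ Subgroup.center G, ∀ z' ∈ Subgroup.center G,
      conj (helper68_cc (χ : G → ℂ) (z * z')) =
        conj (helper68_cc (χ : G → ℂ) z) * conj (helper68_cc (χ : G → ℂ) z')) ∧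
    (∀ z ∈ Subgroup.center G,
      conj ((χ : G → ℂ) (h * z)) =
        conj (helper68_cc (χ : G → ℂ) z) * conj ((χ : G → ℂ) h)) := by
  constructor
  · intro z hz z' hz'
    rw [helper68_cc_mul χ z z' hz hz', map_mul]
  · intro z hz
    rw [(helper68_cc_spec χ z hz).2 h, map_mul]

/-- J3. -/
theorem central_sum_triv (χ : IrrCharacter G) (h : G)
    (hs : ∀ z ∈ Subgroup.center G, (χ : G → ℂ) z = (χ : G → ℂ) 1) :
    ∑ z : G, Set.indicator ((Subgroup.center G : Subgroup G) : Set G)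
        (fun z => conj ((χ : G → ℂ) (h * z))) z
      = (Nat.card (Subgroup.center G) : ℂ) * conj ((χ : G → ℂ) h) := by
  obtain ⟨hmul, hF⟩ := helper68_J34_aux χ h
  refine (helper68_center_sum (fun g => conj ((χ : G → ℂ) g))
    (fun z => conj (helper68_cc (χ : G → ℂ) z)) h hmul hF).1 ?_
  intro z hz
  have hχ1 : (χ : G → ℂ) 1 ≠ 0 := Cfsg.Agent.Lib.helper4.irr_degree_ne_zero χ.2
  show conj (helper68_cc (χ : G → ℂ) z) = 1
  unfold helper68_cc
  rw [hs z hz, div_self hχ1, map_one]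

/-- J4. -/
theorem central_sum_ne (χ : IrrCharacter G) (h : G)
    (hs : ¬ ∀ z ∈ Subgroup.center G, (χ : G → ℂ) z = (χ : G → ℂ) 1) :
    ∑ z : G, Set.indicator ((Subgroup.center G : Subgroup G) : Set G)
        (fun z => conj ((χ : G → ℂ) (h * z))) z = 0 := by
  obtain ⟨hmul, hF⟩ := helper68_J34_aux χ h
  refine (helper68_center_sum (fun g => conj ((χ : G → ℂ) g))
    (fun z => conj (helper68_cc (χ : G → ℂ) z)) h hmul hF).2 ?_
  push_neg at hs
  obtain ⟨z₀, hz₀, hne⟩ := hs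
  refine ⟨z₀, hz₀, ?_⟩
  have hχ1 : (χ : G → ℂ) 1 ≠ 0 := Cfsg.Agent.Lib.helper4.irr_degree_ne_zero χ.2
  intro h1
  apply hne
  have h2 : helper68_cc (χ : G → ℂ) z₀ = 1 := by
    have := congrArg (starRingEnd ℂ) h1
    simpa using this
  unfold helper68_cc at h2
  rw [div_eq_one_iff_eq hχ1] at h2
  exact h2

end Cfsg.Agent.Lib.helper2.BG
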