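import Mathlib
import Cfsg.Agent.Lib.helper2.BGDefs
import Cfsg.Agent.Lib.helper82.CharQuot
import Cfsg.Agent.Lib.helper81.CharOrtho

set_option autoImplicit false

open Cfsg
open scoped commutatorElement

namespace Cfsg.Agent.Lib.helper2.BG

universe u

/-- R1 (V0): `p ≥ 5`. -/
theorem helper68_R_p_ge_five {G : Type u} [Group G] [Finite G] (p : ℕ) [Fact p.Prime]
    (hdiv : p ∣ Nat.card G) (hsq : ¬ p ^ 2 ∣ Nat.card G)
    (hnn : ∀ H : Subgroup G, H.Normal → Nat.card H ≠ p) (χ : G → ℂ)
    (hχ : Cfsg.IsCharacter G χ) (hfaith : ∀ g : G, χ g = χ 1 → g = 1)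
    (hdeg : 2 * Cfsg.charDegree χ + 1 = p) : 5 ≤ p := by
  have hp : p.Prime := Fact.out
  by_contra hlt
  have hd1 : Cfsg.charDegree χ = 1 := by
    have h2 := hp.two_le
    rcases Nat.lt_or_ge (Cfsg.charDegree χ) 2 with h | h
    · interval_cases hh : Cfsg.charDegree χ
      · exfalso; omega
      · rfl
    · exfalso; omega
  have h1 : χ 1 = 1 := by
    rw [Cfsg.Agent.Lib.helper81.isCharacter_one_eq_charDegree hχ, hd1]; simp
  have hcomm : ∀ a b : G, a * b = b * a := by
    intro a b
    have hmem : ⁅a, b⁆ ∈ commutator G := by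
      rw [commutator_def]
      exact Subgroup.commutator_mem_commutator (Subgroup.mem_top a) (Subgroup.mem_top b)
    have h2 := Cfsg.Agent.Lib.helper82.linear_commutator hχ h1 ⁅a, b⁆ hmem
    have h3 := hfaith _ h2
    exact commutatorElement_eq_one_iff_mul_comm.mp h3
  obtain ⟨x, hx⟩ := exists_prime_orderOf_dvd_card' p hdiv
  have hN : (Subgroup.zpowers x).Normal := by
    constructor
    intro n hn g
    have : g * n * g⁻¹ = n := by
      rw [hcomm g n, mul_assoc, mul_inv_cancel, mul_one]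
    rw [this]; exact hn
  apply hnn (Subgroup.zpowers x) hN
  rw [Nat.card_zpowers, hx]

end Cfsg.Agent.Lib.helper2.BG
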