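import Mathlib

/-! S4471 split (helper68), piece A: normal closure of an element commuting with its conjugates. -/

set_option autoImplicit false

namespace Cfsg.Agent.Lib.helper68.BL

universe u

/-- A : if `z` commutes with all its conjugates, its normal closure is commutative. -/
theorem normalClosure_comm {G : Type u} [Group G] (z : G)
    (h : ∀ g : G, z * (g * z * g⁻¹) = (g * z * g⁻¹) * z) :
    ∀ a ∈ Subgroup.normalClosure ({z} : Set G), ∀ b ∈ Subgroup.normalClosure ({z} : Set G),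
      a * b = b * a := by
  have hconj : ∀ x ∈ Group.conjugatesOfSet ({z} : Set G), ∀ y ∈ Group.conjugatesOfSet ({z} : Set G),
      x * y = y * x := by
    intro x hx y hy
    rw [Group.mem_conjugatesOfSet_iff] at hx hy
    obtain ⟨a, ha, hxa⟩ := hx
    obtain ⟨b, hb, hyb⟩ := hy
    rw [Set.mem_singleton_iff] at ha hb
    rw [ha] at hxa
    rw [hb] at hyb
    obtain ⟨g, rfl⟩ := isConj_iff.mp hxa
    obtain ⟨k, rfl⟩ := isConj_iff.mp hyb
    have h1 := h (g⁻¹ * k)
    have h2 : g * z * g⁻¹ * (k * z * k⁻¹) = g * (z * (g⁻¹ * k * z * (g⁻¹ * k)⁻¹)) * g⁻¹ := by group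
    have h3 : k * z * k⁻¹ * (g * z * g⁻¹) = g * ((g⁻¹ * k * z * (g⁻¹ * k)⁻¹) * z) * g⁻¹ := by group
    rw [h2, h3, h1]
  intro a ha b hb
  unfold Subgroup.normalClosure at ha hb
  induction ha, hb using Subgroup.closure_induction₂ with
  | mem x y hx hy => exact hconj x hx y hy
  | one_left x hx => simp
  | one_right x hx => simp
  | mul_left x y z' hx hy hz h₁ h₂ => rw [mul_assoc, h₂, ← mul_assoc, h₁, mul_assoc]
  | mul_right x y z' hx hy hz h₁ h₂ => rw [← mul_assoc, h₁, mul_assoc, h₂, ← mul_assoc]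
  | inv_left x y hx hy h₁ =>
    rw [inv_mul_eq_iff_eq_mul, ← mul_assoc, h₁, mul_assoc, mul_inv_cancel, mul_one]
  | inv_right x y hx hy h₁ =>
    rw [eq_inv_mul_iff_mul_eq, ← mul_assoc, ← h₁, mul_assoc, mul_inv_cancel, mul_one]

end Cfsg.Agent.Lib.helper68.BL
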