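import Mathlib
import Cfsg.Prelude.Def_Characters
import Cfsg.Prelude.Def_Blocks
import Cfsg.Agent.Lib.helper4.CharDecomp
import Cfsg.Agent.Lib.helper81.CharOrtho
import Cfsg.Agent.Lib.helper82.CharQuot
import Cfsg.Agent.Lib.helper28.Fitting
import Cfsg.Agent.Lib.helper68.BGJcore

/-! S4471 split (helper68), piece Z: the special central element of a nonabelian `p`-group with a
faithful character of degree `< 2p`. -/

set_option autoImplicit false

namespace Cfsg.Agent.Lib.helper68.BL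

open Cfsg
open scoped ComplexConjugate commutatorElement

universe u

theorem helper68_list_eval {P : Type u} [Group P] (l : List (IrrCharacter P)) (g : P) :
    (l.map Subtype.val).sum g = (l.map (fun ψ : IrrCharacter P => (ψ : P → ℂ) g)).sum := by
  induction l with
  | nil => simp
  | cons a l ih =>
    rw [List.map_cons, List.sum_cons, List.map_cons, List.sum_cons, Pi.add_apply, ih]

theorem helper68_list_sum_const {α : Type*} (l : List α) (f : α → ℂ) (c : ℂ) (h : ∀ a ∈ l, f a = c) :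
    (l.map f).sum = l.length * c := by
  induction l with
  | nil => simp
  | cons a l ih =>
    rw [List.map_cons, List.sum_cons, h a (by simp), ih (fun b hb => h b (by simp [hb])),
      List.length_cons]
    push_cast
    ring

/-- Z : a nonabelian `p`-group with a faithful character `Θ` of degree `< 2p` has an element `z`
(in `Z(P) ∩ P'`, of order `p`) with `Θ(z^k) = (Θ(1) - p) + p ω^k`, `ω ≠ 1` a `p`-th root of unity. -/
theorem pgroup_z {P : Type u} [Group P] [Finite P] (p : ℕ) [Fact p.Prime] (hP : IsPGroup p P)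
    (Θ : P → ℂ) (hΘ : IsCharacter P Θ) (hfaith : ∀ g : P, Θ g = Θ 1 → g = 1)
    (hdeg : charDegree Θ < 2 * p) (hna : ∃ x y : P, x * y ≠ y * x) :
    ∃ z : P, z ^ p = 1 ∧ ∃ ω : ℂ, ω ^ p = 1 ∧ ω ≠ 1 ∧
      ∀ k : ℕ, Θ (z ^ k) = ((charDegree Θ : ℂ) - p) + p * ω ^ k := by
  classical
  have hp : p.Prime := Fact.out
  haveI : Fintype P := Fintype.ofFinite P
  obtain ⟨l, hl⟩ := Cfsg.Agent.Lib.helper4.exists_irr_list_of_isCharacter hΘ
  have hev : ∀ g : P, Θ g = (l.map (fun ψ : IrrCharacter P => (ψ : P → ℂ) g)).sum := by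
    intro g
    rw [hl]
    exact helper68_list_eval l g
  -- degrees are powers of p
  obtain ⟨N, hN⟩ := hP.exists_card_eq
  have hpow : ∀ ψ : IrrCharacter P, ∃ a : ℕ, charDegree (ψ : P → ℂ) = p ^ a := by
    intro ψ
    have h1 := Cfsg.Agent.Lib.helper81.irr_degree_dvd_card ψ
    rw [hN] at h1
    obtain ⟨a, -, ha⟩ := (Nat.dvd_prime_pow hp).mp h1
    exact ⟨a, ha⟩
  have hone : ∀ ψ : IrrCharacter P, (ψ : P → ℂ) 1 = (charDegree (ψ : P → ℂ) : ℂ) :=
    Cfsg.Agent.Lib.helper81.irr_one_eq_charDegree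
  -- linear characters are trivial on commutators
  have hlin : ∀ ψ : IrrCharacter P, charDegree (ψ : P → ℂ) = 1 → ∀ x ∈ commutator P,
      (ψ : P → ℂ) x = 1 := by
    intro ψ h1 x hx
    have h2 : (ψ : P → ℂ) 1 = 1 := by rw [hone, h1]; simp
    rw [Cfsg.Agent.Lib.helper82.linear_commutator (Cfsg.Agent.Lib.helper81.irr_isCharacter ψ) h2 x hx,
      h2]
  -- a nonlinear constituent exists
  have hex : ∃ ψ₀ ∈ l, charDegree (ψ₀ : P → ℂ) ≠ 1 := by
    by_contra hcon
    push Not at hcon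
    obtain ⟨x, y, hxy⟩ := hna
    apply hxy
    have hmem : ⁅x, y⁆ ∈ commutator P := by
      rw [commutator_def]
      exact Subgroup.commutator_mem_commutator (Subgroup.mem_top x) (Subgroup.mem_top y)
    have h1 : Θ ⁅x, y⁆ = Θ 1 := by
      rw [hev, hev]
      congr 1
      apply List.map_congr_left
      intro ψ hψ
      rw [hlin ψ (hcon ψ hψ) _ hmem, hone, hcon ψ hψ]
      simp
    exact commutatorElement_eq_one_iff_mul_comm.mp (hfaith _ h1)
  obtain ⟨ψ₀, hmem, hψ₀⟩ := hex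
  obtain ⟨l₁, l₂, rfl⟩ := List.append_of_mem hmem
  -- Θ g = Σ_{l₁ ++ l₂} + ψ₀ g
  have hev' : ∀ g : P, Θ g = ((l₁ ++ l₂).map (fun ψ : IrrCharacter P => (ψ : P → ℂ) g)).sum +
      (ψ₀ : P → ℂ) g := by
    intro g
    rw [hev]
    simp only [List.map_append, List.map_cons, List.sum_append, List.sum_cons]
    ring
  -- degree of ψ₀
  obtain ⟨a, ha⟩ := hpow ψ₀
  have ha1 : 1 ≤ a := by
    rcases Nat.eq_zero_or_pos a with h | h
    · exfalso; apply hψ₀; rw [ha, h, pow_zero]
    · exact h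
  have hΘ1 : Θ 1 = (charDegree Θ : ℂ) := Cfsg.Agent.Lib.helper81.isCharacter_one_eq_charDegree hΘ
  -- natural number degree identity
  have hdegsum : charDegree Θ = ((l₁ ++ l₂).map (fun ψ : IrrCharacter P => charDegree (ψ : P → ℂ))).sum +
      charDegree (ψ₀ : P → ℂ) := by
    have h1 := hev' 1
    rw [hΘ1, hone] at h1
    have h2 : ((l₁ ++ l₂).map (fun ψ : IrrCharacter P => (ψ : P → ℂ) 1)).sum =
        ((((l₁ ++ l₂).map (fun ψ : IrrCharacter P => charDegree (ψ : P → ℂ))).sum : ℕ) : ℂ) := by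
      rw [Nat.cast_list_sum, List.map_map]
      congr 1
      apply List.map_congr_left
      intro ψ _
      exact hone ψ
    rw [h2] at h1
    exact_mod_cast h1
  have hp_le : p ≤ charDegree (ψ₀ : P → ℂ) := by
    rw [ha]
    calc p = p ^ 1 := (pow_one p).symm
      _ ≤ p ^ a := Nat.pow_le_pow_right hp.pos ha1
  -- all other constituents are linear
  have hothers : ∀ ψ ∈ l₁ ++ l₂, charDegree (ψ : P → ℂ) = 1 := by
    intro ψ hψ
    by_contra hne
    obtain ⟨b, hb⟩ := hpow ψ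
    have hb1 : 1 ≤ b := by
      rcases Nat.eq_zero_or_pos b with h | h
      · exfalso; apply hne; rw [hb, h, pow_zero]
      · exact h
    have h1 : p ≤ charDegree (ψ : P → ℂ) := by
      rw [hb]
      calc p = p ^ 1 := (pow_one p).symm
        _ ≤ p ^ b := Nat.pow_le_pow_right hp.pos hb1
    have h2 : charDegree (ψ : P → ℂ) ≤
        ((l₁ ++ l₂).map (fun ψ : IrrCharacter P => charDegree (ψ : P → ℂ))).sum :=
      List.single_le_sum (fun _ _ => Nat.zero_le _) _ (List.mem_map_of_mem hψ)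
    omega
  have hothersum : ((l₁ ++ l₂).map (fun ψ : IrrCharacter P => charDegree (ψ : P → ℂ))).sum =
      (l₁ ++ l₂).length := by
    rw [List.sum_eq_card_nsmul _ 1]
    · simp
    · intro x hx
      obtain ⟨ψ, hψ, rfl⟩ := List.mem_map.mp hx
      exact hothers ψ hψ
  have hψ₀p : charDegree (ψ₀ : P → ℂ) = p := by
    rcases Nat.lt_or_ge a 2 with h | h
    · have : a = 1 := by omega
      rw [ha, this, pow_one]
    · exfalso
      have h1 : p ^ 2 ≤ p ^ a := Nat.pow_le_pow_right hp.pos h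
      have h2 : 2 * p ≤ p ^ 2 := by
        rw [sq]; exact Nat.mul_le_mul_right p hp.two_le
      omega
  -- the element z
  haveI : Group.IsNilpotent P := hP.isNilpotent
  have hcomm_ne : commutator P ≠ ⊥ := by
    intro h
    obtain ⟨x, y, hxy⟩ := hna
    apply hxy
    have hmem : ⁅x, y⁆ ∈ commutator P := by
      rw [commutator_def]
      exact Subgroup.commutator_mem_commutator (Subgroup.mem_top x) (Subgroup.mem_top y)
    rw [h, Subgroup.mem_bot] at hmem
    exact commutatorElement_eq_one_iff_mul_comm.mp hmem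
  have hinf := Cfsg.Agent.Lib.helper28.normal_inf_center_ne_bot (commutator P) hcomm_ne
  obtain ⟨⟨z₀, hz₀mem⟩, hz₀ne⟩ := (Subgroup.ne_bot_iff_exists_ne_one).mp hinf
  have hz₀ne' : z₀ ≠ 1 := fun h => hz₀ne (Subtype.ext h)
  obtain ⟨j, hj⟩ := (IsPGroup.iff_orderOf.mp hP) z₀
  have hj1 : 1 ≤ j := by
    rcases Nat.eq_zero_or_pos j with h | h
    · exfalso; apply hz₀ne'; rw [h, pow_zero, orderOf_eq_one_iff] at hj; exact hj
    · exact h
  set z : P := z₀ ^ (p ^ (j - 1)) with hzdef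
  have hzp : z ^ p = 1 := by
    rw [hzdef, ← pow_mul, ← pow_succ, Nat.sub_add_cancel hj1, ← hj, pow_orderOf_eq_one]
  have hzne : z ≠ 1 := by
    rw [hzdef]
    apply pow_ne_one_of_lt_orderOf (pow_pos hp.pos _).ne'
    rw [hj]
    exact Nat.pow_lt_pow_right hp.one_lt (by omega)
  have hzmem : z ∈ commutator P ⊓ Subgroup.center P := Subgroup.pow_mem _ hz₀mem _
  have hzcomm : ∀ k : ℕ, z ^ k ∈ commutator P := fun k => Subgroup.pow_mem _ hzmem.1 k
  have hzord : 0 < orderOf z := orderOf_pos z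
  obtain ⟨μ, -, hμ⟩ := Cfsg.Agent.Lib.helper2.BG.helper68_central_scalar ψ₀ z hzmem.2 hzord
  have hψ₀1 : (ψ₀ : P → ℂ) 1 = (p : ℂ) := by rw [hone, hψ₀p]
  have hψ₀z : ∀ k : ℕ, (ψ₀ : P → ℂ) (z ^ k) = μ ^ k * p := by
    intro k
    induction k with
    | zero => rw [pow_zero, pow_zero, one_mul, hψ₀1]
    | succ k ih => rw [pow_succ, hμ, ih, pow_succ]; ring
  have hp0 : (p : ℂ) ≠ 0 := by exact_mod_cast hp.ne_zero
  have hval : ∀ k : ℕ, Θ (z ^ k) = ((charDegree Θ : ℂ) - p) + p * μ ^ k := by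
    intro k
    rw [hev' (z ^ k), hψ₀z k,
      helper68_list_sum_const (l₁ ++ l₂) (fun ψ : IrrCharacter P => (ψ : P → ℂ) (z ^ k)) 1
        (fun ψ hψ => hlin ψ (hothers ψ hψ) _ (hzcomm k)),
      hdegsum, hothersum, hψ₀p]
    push_cast
    ring
  refine ⟨z, hzp, μ, ?_, ?_, hval⟩
  · have h1 := hψ₀z p
    rw [hzp, hψ₀1] at h1
    have h2 : (μ ^ p - 1) * (p : ℂ) = 0 := by rw [sub_mul, one_mul, ← h1, sub_self]
    rcases mul_eq_zero.mp h2 with h | h
    · exact sub_eq_zero.mp h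
    · exact absurd h hp0
  · intro hμ1
    apply hzne
    apply hfaith
    have h1 := hval 1
    rw [pow_one, hμ1, pow_one, mul_one, sub_add_cancel] at h1
    rw [h1, hΘ1]

end Cfsg.Agent.Lib.helper68.BL
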