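import Mathlib
import Cfsg.Prelude.Def_Characters
import Cfsg.Prelude.Def_Blocks
import Cfsg.Prelude.Def_Solvable
import Cfsg.Prelude.Def_CaseTheorems
import Cfsg.Agent.Lib.helper4.CharDecomp
import Cfsg.Agent.Lib.helper81.CharOrtho
import Cfsg.Agent.Lib.helper68.BLZ
import Cfsg.Agent.Lib.helper68.BLA
import Cfsg.Agent.Lib.helper77.BLW1
import Cfsg.Agent.Lib.helper77.BLW2
import Cfsg.Agent.Lib.helper21.BLE
import Cfsg.Agent.Lib.helper82.BLC1
import Cfsg.Agent.Lib.helper27.BLC2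
import Cfsg.Agent.Lib.helper28.BLC3
import Cfsg.Agent.Lib.helper67.BLC4
import Cfsg.Agent.Lib.helper27.BLQ1
import Cfsg.Agent.Lib.helper30.BLQ2
import Cfsg.Agent.Lib.helper47.BLT

/-! S4471 (Brauer: faithful irreducible character of degree `n < 2p`, `n ≠ p`, `p ≥ 7`):
assembly of the split project (architect helper68; spec `tools/S4471_SPEC.md`). -/

set_option autoImplicit false

namespace Cfsg.Agent.Lib.helper68.BL

open Cfsg
open scoped ComplexConjugate Matrix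

universe u

/-- Step C: a commutative normal subgroup `A` containing the special element `z`. -/
theorem helper68_monomial_step {G : Type u} [Group G] [Finite G] (χ : IrrCharacter G)
    (hfaith : ∀ g : G, (χ : G → ℂ) g = (χ : G → ℂ) 1 → g = 1) (p : ℕ) (hp : p.Prime)
    (hn2 : charDegree (χ : G → ℂ) < 2 * p) (hnp : charDegree (χ : G → ℂ) ≠ p)
    (A : Subgroup G) [hAn : A.Normal] (hA : ∀ a ∈ A, ∀ b ∈ A, a * b = b * a)
    (z : G) (hzA : z ∈ A) (hzp : z ^ p = 1) (ω : ℂ) (hω1 : ω ≠ 1) (hωp : ω ^ p = 1)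
    (hval : ∀ k : ℕ, (χ : G → ℂ) (z ^ k) = ((charDegree (χ : G → ℂ) : ℂ) - p) + p * ω ^ k) :
    ¬ p ^ 2 ∣ (Cfsg.pCore p G).index := by
  obtain ⟨Λ, T, hcard, hT, hsum, hfix⟩ :=
    clifford_mult_free χ p hp hn2 hnp A hA z hzA hzp ω hω1 hωp hval
  have h1 := centralizer_index_dvd χ hfaith A hA Λ T hcard hsum hfix
  rw [hT] at h1
  have h2 := centralizer_comm χ hfaith A hA Λ hcard hsum
  exact helper67_pcore_index_of_comm_normal p _ hp hn2 (Subgroup.centralizer (A : Set G)) h2 h1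

/-- S4471, with an explicit universe. -/
theorem helper68_s4471 {G : Type u} [Group G] [Finite G] (χ : Cfsg.IrrCharacter G)
    (hfaith : ∀ g : G, (χ : G → ℂ) g = (χ : G → ℂ) 1 → g = 1) (n : ℕ)
    (hn : Cfsg.charDegree (χ : G → ℂ) = n) (p : ℕ) (hp : p.Prime) (h7 : 7 ≤ p) (hn2 : n < 2 * p)
    (hnp : n ≠ p) :
    ((∃ P : Sylow p G, ∃ x ∈ (P : Subgroup G), ∃ y ∈ (P : Subgroup G), x * y ≠ y * x) →
      ¬ p ^ 2 ∣ (Cfsg.pCore p G).index) ∧
    ∀ Q : Sylow p (G ⧸ Cfsg.pCore p G), ∀ x ∈ (Q : Subgroup (G ⧸ Cfsg.pCore p G)),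
      ∀ y ∈ (Q : Subgroup (G ⧸ Cfsg.pCore p G)), x * y = y * x := by
  have key : (∃ P : Sylow p G, ∃ x ∈ (P : Subgroup G), ∃ y ∈ (P : Subgroup G), x * y ≠ y * x) →
      ¬ p ^ 2 ∣ (Cfsg.pCore p G).index := by
    rintro ⟨P, x, hx, y, hy, hxy⟩
    have hfact : Fact p.Prime := ⟨hp⟩
    subst hn
    have hΘ : IsCharacter (P : Subgroup G) (fun g : (P : Subgroup G) => (χ : G → ℂ) g) :=
      Cfsg.Agent.Lib.helper4.isCharacter_restrict (P : Subgroup G)
        (Cfsg.Agent.Lib.helper81.irr_isCharacter χ)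
    have hΘf : ∀ g : (P : Subgroup G), (fun g : (P : Subgroup G) => (χ : G → ℂ) g) g =
        (fun g : (P : Subgroup G) => (χ : G → ℂ) g) 1 → g = 1 := by
      intro g hg
      exact Subtype.ext (hfaith (g : G) hg)
    have hdeg : charDegree (fun g : (P : Subgroup G) => (χ : G → ℂ) g) =
        charDegree (χ : G → ℂ) := rfl
    obtain ⟨z0, hz0p, ω, hωp, hω1, hval0⟩ :=
      pgroup_z p P.isPGroup' _ hΘ hΘf (by rw [hdeg]; exact hn2)
        ⟨⟨x, hx⟩, ⟨y, hy⟩, fun h => hxy (congrArg Subtype.val h)⟩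
    rw [hdeg] at hval0
    obtain ⟨k, hk⟩ := exists_pow_eq_exp p hp ω hωp hω1
    obtain ⟨hζp, hζ1, hζs, hζr⟩ := exp_facts p h7
    set ζ := Complex.exp (2 * Real.pi * Complex.I / p) with hζ
    have hzp : ((z0 : G) ^ k) ^ p = 1 := by
      rw [← pow_mul, mul_comm, pow_mul]
      have h1 : (z0 : G) ^ p = 1 := by
        have h2 := congrArg Subtype.val hz0p
        simpa using h2
      rw [h1, one_pow]
    have hval : ∀ j : ℕ, (χ : G → ℂ) (((z0 : G) ^ k) ^ j) =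
        ((charDegree (χ : G → ℂ) : ℂ) - p) + p * ζ ^ j := by
      intro j
      have h1 := hval0 (k * j)
      simp only [Subgroup.coe_pow] at h1
      rw [← pow_mul, h1, pow_mul, hk]
    obtain ⟨m, ρ, hirr, hρ⟩ := χ.2
    have hE := two_eig ρ ((z0 : G) ^ k) p hp hzp ζ hζp hζ1 ((charDegree (χ : G → ℂ) : ℂ) - p)
      (by intro j; rw [hρ]; exact hval j)
    have hcomm := helper47_commute_of_rep ρ (by rw [hρ]; exact hfaith) ((z0 : G) ^ k) ζ hζs hζ1 hζr hE
    have hAcomm := normalClosure_comm ((z0 : G) ^ k) hcomm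
    exact helper68_monomial_step χ hfaith p hp hn2 hnp (Subgroup.normalClosure {(z0 : G) ^ k})
      hAcomm ((z0 : G) ^ k) (Subgroup.subset_normalClosure rfl) hzp ζ hζ1 hζp hval
  refine ⟨key, ?_⟩
  intro Q
  by_cases hna : ∃ P : Sylow p G, ∃ x ∈ (P : Subgroup G), ∃ y ∈ (P : Subgroup G), x * y ≠ y * x
  · have h1 := key hna
    apply sylow_comm_of_not_sq p hp _ Q
    rwa [← Subgroup.index_eq_card]
  · push Not at hna
    exact sylow_quot_comm p hp _ hna Q

end Cfsg.Agent.Lib.helper68.BL
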