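import Mathlib
import Cfsg.Prelude.Def_Characters
import Cfsg.Prelude.Def_Blocks
import Cfsg.Agent.Lib.helper61.BT_BURN
import Cfsg.Agent.Lib.helper81.CharTools

/-! S4501 split (helper17), piece BV: Burnside vanishing + abelian Sylow subgroup. -/

set_option autoImplicit false

namespace Cfsg.Agent.Lib.helper68.BW

open Cfsg

universe u

variable {G : Type u} [Group G] [Finite G]

/-- BV : Burnside vanishing + abelian Sylow `r`-subgroup: an irreducible character of degree
`r^i` forces `r^(i+1) ∤ |G|`. -/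
theorem full_power_of_comm_sylow [IsSimpleGroup G] (hna : ∃ x y : G, x * y ≠ y * x) (r : ℕ)
    [Fact r.Prime] (Q : Sylow r G)
    (hab : ∀ x ∈ (Q : Subgroup G), ∀ y ∈ (Q : Subgroup G), x * y = y * x) (χ : IrrCharacter G)
    (hχ : (χ : G → ℂ) ≠ fun _ => 1) (i : ℕ) (hdeg : charDegree (χ : G → ℂ) = r ^ i) :
    ¬ r ^ (i + 1) ∣ Nat.card G := by
  classical
  have hr : r.Prime := Fact.out
  haveI : Fintype G := Fintype.ofFinite G
  have hG : ¬ IsCyclic G := by
    intro hc
    obtain ⟨x, y, hxy⟩ := hna
    haveI := hc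
    exact hxy ((IsCyclic.isMulCommutative (α := G)).is_comm.comm x y)
  have hχ' : χ ≠ Cfsg.Agent.Lib.helper81.trivChar G := by
    intro h
    apply hχ
    rw [h]
    rfl
  haveI : Fintype (Q : Subgroup G) := Fintype.ofFinite _
  obtain ⟨m, hm⟩ := Cfsg.Agent.Lib.helper81.sum_subgroup_char
    (Cfsg.Agent.Lib.helper81.irr_isCharacter χ) (Q : Subgroup G)
  have hsum : ∑ u : (Q : Subgroup G), (χ : G → ℂ) (u : G) = (χ : G → ℂ) 1 := by
    rw [Finset.sum_eq_single (1 : (Q : Subgroup G))]
    · rfl
    · intro u _ hu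
      have hu1 : (u : G) ≠ 1 := by
        intro h
        apply hu
        exact Subtype.ext h
      apply Cfsg.Agent.Lib.helper61.BT.burnside_vanish hG χ hχ' (u : G) hu1
      rw [hdeg]
      apply Nat.Coprime.pow_left
      rw [Nat.Prime.coprime_iff_not_dvd hr]
      intro hdvd
      have hle : (Q : Subgroup G) ≤ Subgroup.centralizer ({(u : G)} : Set G) := by
        intro y hy
        rw [Subgroup.mem_centralizer_iff]
        intro z hz
        rw [Set.mem_singleton_iff] at hz
        subst hz
        exact hab _ u.2 _ hy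
      have h2 : (Subgroup.centralizer ({(u : G)} : Set G)).index ∣ (Q : Subgroup G).index :=
        Subgroup.index_dvd_of_le hle
      exact Q.not_dvd_index (hdvd.trans h2)
    · intro h1
      exact absurd (Finset.mem_univ _) h1
  rw [hsum, Cfsg.Agent.Lib.helper81.irr_one_eq_charDegree, Sylow.card_eq_multiplicity, hdeg] at hm
  have hm' : r ^ i = r ^ (Nat.card G).factorization r * m := by
    exact_mod_cast hm
  intro hdvd
  have hcard : Nat.card G ≠ 0 := Nat.card_pos.ne'
  have h1 : i + 1 ≤ (Nat.card G).factorization r :=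
    (hr.pow_dvd_iff_le_factorization hcard).mp hdvd
  have h2 : r ^ (Nat.card G).factorization r ∣ r ^ i := Dvd.intro _ hm'.symm
  have h3 : (Nat.card G).factorization r ≤ i := (Nat.pow_dvd_pow_iff_le_right hr.one_lt).mp h2
  omega

end Cfsg.Agent.Lib.helper68.BW
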