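import Mathlib

set_option autoImplicit false

namespace Cfsg.Agent.Lib.helper68.BrAl

open MulAction

variable {G : Type*} [Group G] [Finite G] {p : ℕ} [Fact p.Prime] (P : Sylow p G)

omit [Finite G] in
theorem al_zp (hP : Nat.card P = p) (x : G) (hx : x ∈ (P : Subgroup G)) (hx1 : x ≠ 1)
    (y : G) (hy : y ∈ (P : Subgroup G)) : ∃ k : ℤ, x ^ k = y := by
  have hz : Subgroup.zpowers (⟨x, hx⟩ : (P : Subgroup G)) = ⊤ := by
    apply zpowers_eq_top_of_prime_card (p := p) hP
    intro h
    apply hx1
    simpa using congrArg Subtype.val h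
  have hy' : (⟨y, hy⟩ : (P : Subgroup G)) ∈ Subgroup.zpowers (⟨x, hx⟩ : (P : Subgroup G)) := by
    rw [hz]; trivial
  obtain ⟨k, hk⟩ := Subgroup.mem_zpowers_iff.mp hy'
  exact ⟨k, by simpa using congrArg Subtype.val hk⟩

/-- ALPHA-A: a non-identity element of `P` fixes only the point `P`. -/
theorem al_fix (hP : Nat.card P = p) (x : G) (hx : x ∈ (P : Subgroup G)) (hx1 : x ≠ 1)
    (Q : Sylow p G) (hQ : x • Q = Q) : Q = P := by
  have hxN := Sylow.smul_eq_iff_mem_normalizer.mp hQ
  have hxQ : x ∈ (Q : Subgroup G) := by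
    have h := IsPGroup.inf_normalizer_sylow P.isPGroup' Q
    have h' := Subgroup.mem_inf.mpr ⟨hx, hxN⟩
    rw [h] at h'
    exact h'.2
  have hle : (P : Subgroup G) ≤ Q := by
    intro y hy
    obtain ⟨k, hk⟩ := al_zp P hP x hx hx1 y hy
    rw [← hk]
    exact Subgroup.zpow_mem _ hxQ k
  have := P.is_maximal' Q.isPGroup' hle
  exact Sylow.ext this

omit [Finite G] [Fact p.Prime] in
theorem al_smul_self (u : G) (hu : u ∈ (P : Subgroup G)) : u • P = P :=
  Sylow.smul_eq_iff_mem_normalizer.mpr (Subgroup.le_normalizer hu)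

/-- ALPHA-B: `P` is regular on the other points. -/
theorem al_reg (hP : Nat.card P = p) (hn : Nat.card (Sylow p G) = 1 + p) (Q R : Sylow p G)
    (hQ : Q ≠ P) (hR : R ≠ P) : ∃! u : (P : Subgroup G), (u : G) • Q = R := by
  classical
  let f : Option (P : Subgroup G) → Sylow p G := fun o =>
    match o with
    | none => P
    | some u => (u : G) • Q
  have hinj : Function.Injective f := by
    intro a b hab
    match a, b with
    | none, none => rfl
    | none, some u =>
      exfalso
      apply hQ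
      have h1 : (u : G) • Q = P := hab.symm
      have h2 : Q = (u : G)⁻¹ • P := eq_inv_smul_iff.mpr h1
      rw [h2]
      exact al_smul_self P _ (Subgroup.inv_mem _ u.2)
    | some u, none =>
      exfalso
      apply hQ
      have h1 : (u : G) • Q = P := hab
      have h2 : Q = (u : G)⁻¹ • P := eq_inv_smul_iff.mpr h1
      rw [h2]
      exact al_smul_self P _ (Subgroup.inv_mem _ u.2)
    | some u, some v =>
      have h1 : (u : G) • Q = (v : G) • Q := hab
      have h2 : ((v : G)⁻¹ * (u : G)) • Q = Q := by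
        rw [mul_smul, h1, inv_smul_smul]
      by_cases h3 : (v : G)⁻¹ * (u : G) = 1
      · have : (u : G) = v := by
          have := inv_mul_eq_one.mp h3
          exact this.symm
        rw [Subtype.ext this]
      · exact absurd (al_fix P hP _ (Subgroup.mul_mem _ (Subgroup.inv_mem _ v.2) u.2) h3 Q h2) hQ
  have hbij : Function.Bijective f := by
    apply hinj.bijective_of_nat_card_le
    rw [Finite.card_option, hn]
    have : Nat.card (P : Subgroup G) = p := hP
    omega
  obtain ⟨o, ho⟩ := hbij.2 R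
  match o, ho with
  | none, ho => exact absurd ho.symm hR
  | some u, ho =>
    refine ⟨u, ho, ?_⟩
    intro v hv
    have : f (some v) = f (some u) := by
      change (v : G) • Q = (u : G) • Q
      rw [hv]; exact ho.symm
    exact Option.some_injective _ (hinj this)

/-- ALPHA-C: double transitivity. -/
theorem al_two
    (hreg : ∀ Q R : Sylow p G, Q ≠ P → R ≠ P → ∃ u : (P : Subgroup G), (u : G) • Q = R) :
    IsMultiplyPretransitive G (Sylow p G) 2 := by
  rw [MulAction.is_two_pretransitive_iff]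
  intro a b c d hab hcd
  obtain ⟨g₁, hg₁⟩ := MulAction.exists_smul_eq G a P
  obtain ⟨g₂, hg₂⟩ := MulAction.exists_smul_eq G c P
  have h1 : g₁ • b ≠ P := by
    intro h
    apply hab
    have : g₁ • a = g₁ • b := by rw [hg₁, h]
    exact MulAction.injective g₁ this
  have h2 : g₂ • d ≠ P := by
    intro h
    apply hcd
    have : g₂ • c = g₂ • d := by rw [hg₂, h]
    exact MulAction.injective g₂ this
  obtain ⟨u, hu⟩ := hreg _ _ h1 h2
  refine ⟨g₂⁻¹ * (u : G) * g₁, ?_, ?_⟩
  · rw [mul_smul, mul_smul, hg₁, al_smul_self P _ u.2, ← hg₂, inv_smul_smul]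
  · rw [mul_smul, mul_smul, hu, inv_smul_smul]

/-- `al_three` when the first point is `P`. -/
theorem al_three_aux (hP : Nat.card P = p)
    (hC : Subgroup.centralizer ((P : Subgroup G) : Set G) = (P : Subgroup G))
    (hn : Nat.card (Sylow p G) = 1 + p) (g : G) (b c : Sylow p G) (hab : P ≠ b) (hbc : b ≠ c)
    (hac : P ≠ c) (ha : g • P = P) (hb : g • b = b) (hc : g • c = c) : g = 1 := by
  obtain ⟨u, hu, -⟩ := al_reg P hP hn b c (Ne.symm hab) (Ne.symm hac)
  have hu1 : (u : G) ≠ 1 := by
    intro h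
    rw [h, one_smul] at hu
    exact hbc hu
  have hgN : g ∈ Subgroup.normalizer ((P : Subgroup G) : Set G) :=
    Sylow.smul_eq_iff_mem_normalizer.mp ha
  have hgN' : g⁻¹ ∈ Subgroup.normalizer ((P : Subgroup G) : Set G) := Subgroup.inv_mem _ hgN
  have hcP : g⁻¹ * (u : G)⁻¹ * g * (u : G) ∈ (P : Subgroup G) := by
    apply Subgroup.mul_mem _ _ u.2
    have := (Subgroup.mem_normalizer_iff.mp hgN' (u : G)⁻¹).mp (Subgroup.inv_mem _ u.2)
    simpa using this
  have hcb : (g⁻¹ * (u : G)⁻¹ * g * (u : G)) • b = b := by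
    rw [mul_smul, mul_smul, mul_smul, hu, hc]
    have : (u : G)⁻¹ • c = b := by rw [← hu, inv_smul_smul]
    rw [this]
    rw [inv_smul_eq_iff, hb]
  have hc1 : g⁻¹ * (u : G)⁻¹ * g * (u : G) = 1 := by
    by_contra h
    exact hab (al_fix P hP _ hcP h b hcb).symm
  have hcomm : (u : G) * g = g * (u : G) := by
    have h1 : g⁻¹ * (u : G)⁻¹ * (g * (u : G)) = 1 := by rw [← hc1]; group
    have h2 : ((u : G) * g)⁻¹ * (g * (u : G)) = 1 := by rw [mul_inv_rev]; exact h1
    exact (inv_mul_eq_one.mp h2)
  have hgC : g ∈ Subgroup.centralizer ((P : Subgroup G) : Set G) := by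
    rw [Subgroup.mem_centralizer_iff]
    intro y hy
    obtain ⟨k, hk⟩ := al_zp P hP (u : G) u.2 hu1 y hy
    rw [← hk]
    have : Commute ((u : G)) g := hcomm
    exact (this.zpow_left k).eq
  rw [hC] at hgC
  by_contra h
  exact hab (al_fix P hP g hgC h b hb).symm

/-- ALPHA-E: an element fixing three points is the identity. -/
theorem al_three (hP : Nat.card P = p)
    (hC : Subgroup.centralizer ((P : Subgroup G) : Set G) = (P : Subgroup G))
    (hn : Nat.card (Sylow p G) = 1 + p) (g : G) (a b c : Sylow p G) (hab : a ≠ b) (hbc : b ≠ c)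
    (hac : a ≠ c) (ha : g • a = a) (hb : g • b = b) (hc : g • c = c) : g = 1 := by
  obtain ⟨h, hh⟩ := MulAction.exists_smul_eq G a P
  have key : h * g * h⁻¹ = 1 := by
    apply al_three_aux P hP hC hn (h * g * h⁻¹) (h • b) (h • c)
    · rw [← hh]; exact fun e => hab (MulAction.injective h e)
    · exact fun e => hbc (MulAction.injective h e)
    · rw [← hh]; exact fun e => hac (MulAction.injective h e)
    · rw [mul_smul, mul_smul, ← hh, inv_smul_smul, ha]
    · rw [mul_smul, mul_smul, inv_smul_smul, hb]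
    · rw [mul_smul, mul_smul, inv_smul_smul, hc]
  have : g = h⁻¹ * (h * g * h⁻¹) * h := by group
  rw [this, key]; group

end Cfsg.Agent.Lib.helper68.BrAl
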