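import Cfsg.Agent.Lib.helper68.CentMax

set_option autoImplicit false

namespace Cfsg.Agent.Lib.helper68

open Subgroup

section CentMaxA

variable {G : Type*} [Group G]

lemma cz_eq_of_le (hG : ∀ g : G, g ≠ 1 → IsCoatom (cz g)) {g h : G} (hg : g ≠ 1) (hh : h ≠ 1)
    (hle : cz g ≤ cz h) : cz h = cz g := by
  rcases (hG g hg).le_iff.1 hle with h1 | h1
  · exact absurd h1 (hG h hh).1
  · exact h1

/-- If a member `C(x)` is normal, then it is abelian. -/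
theorem normal_member_abelian (hG : ∀ g : G, g ≠ 1 → IsCoatom (cz g)) {x : G} (hx : x ≠ 1)
    (hn : (cz x).Normal) : ∀ a ∈ cz x, ∀ b ∈ cz x, a * b = b * a := by
  by_contra hcon
  simp only [not_forall] at hcon
  obtain ⟨h₁, hh₁, h₂, hh₂, hne⟩ := hcon
  obtain ⟨M, hM⟩ : ∃ M, M = cz x := ⟨_, rfl⟩
  rw [← hM] at hh₁ hh₂ hn
  have hMco : IsCoatom M := hM ▸ hG x hx
  obtain ⟨A, hA⟩ : ∃ A, A = Subgroup.centralizer (M : Set G) := ⟨_, rfl⟩
  have hAn : A.Normal := hA ▸ Subgroup.normal_centralizer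
  have hAc : ∀ a ∈ A, ∀ m ∈ M, m * a = a * m := by
    intro a ha m hm
    rw [hA, Subgroup.mem_centralizer_iff] at ha
    exact ha m hm
  have hxM : x ∈ M := hM ▸ self_mem_cz x
  have hxA : x ∈ A := by
    rw [hA, Subgroup.mem_centralizer_iff]
    intro m hm
    rw [hM] at hm
    exact mem_cz.1 hm
  have hAM : A ≤ M := by
    intro a ha
    have := hAc a ha x hxM
    rw [hM]
    exact mem_cz.2 this.symm
  have hAcz : ∀ a ∈ A, a ≠ 1 → cz a = M := by
    intro a ha ha1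
    have hle : cz x ≤ cz a := by
      intro m hm
      rw [← hM] at hm
      exact mem_cz.2 (hAc a ha m hm)
    rw [hM]
    exact cz_eq_of_le hG hx ha1 hle
  obtain ⟨g, hg⟩ := coatom_exists_not_mem hMco
  have hg1 : g ≠ 1 := by rintro rfl; exact hg (one_mem _)
  obtain ⟨Mg, hMg⟩ : ∃ Mg, Mg = cz g := ⟨_, rfl⟩
  have hMgco : IsCoatom Mg := hMg ▸ hG g hg1
  have hAMg : ∀ a ∈ A, a ∈ Mg → a = 1 := by
    intro a ha hag
    by_contra ha1
    have h1 := hAcz a ha ha1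
    rw [hMg] at hag
    have hga : g ∈ cz a := mem_cz.2 (mem_cz.1 hag).symm
    rw [h1] at hga
    exact hg hga
  have hxMg : x ∉ Mg := fun hxg => hx (hAMg x hxA hxg)
  have htop : A ⊔ Mg = ⊤ := by
    have h1 : Mg < A ⊔ Mg := by
      refine lt_of_le_of_ne le_sup_right ?_
      intro h
      apply hxMg
      have : x ∈ A ⊔ Mg := mem_sup_left hxA
      rwa [← h] at this
    exact hMgco.2 _ h1
  have hdec : ∀ h : G, ∃ a ∈ A, ∃ m ∈ Mg, a * m = h := by
    intro h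
    have hh : h ∈ A ⊔ Mg := by rw [htop]; trivial
    exact mem_sup_of_normal_left.1 hh
  obtain ⟨a₁, ha₁, d₁, hd₁, rfl⟩ := hdec h₁
  obtain ⟨a₂, ha₂, d₂, hd₂, rfl⟩ := hdec h₂
  have hd₁M : d₁ ∈ M := by
    have := M.mul_mem (M.inv_mem (hAM ha₁)) hh₁
    simpa using this
  have hd₂M : d₂ ∈ M := by
    have := M.mul_mem (M.inv_mem (hAM ha₂)) hh₂
    simpa using this
  have hdne : d₁ * d₂ ≠ d₂ * d₁ := by
    intro hd
    apply hne
    calc a₁ * d₁ * (a₂ * d₂) = a₁ * (d₁ * a₂) * d₂ := by group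
      _ = a₁ * (a₂ * d₁) * d₂ := by rw [hAc a₂ ha₂ d₁ hd₁M]
      _ = a₁ * a₂ * (d₁ * d₂) := by group
      _ = a₁ * a₂ * (d₂ * d₁) := by rw [hd]
      _ = a₂ * a₁ * (d₂ * d₁) := by rw [hAc a₂ ha₂ a₁ (hAM ha₁)]
      _ = a₂ * (a₁ * d₂) * d₁ := by group
      _ = a₂ * (d₂ * a₁) * d₁ := by rw [← hAc a₁ ha₁ d₂ hd₂M]
      _ = a₂ * d₂ * (a₁ * d₁) := by group
  have hd_notA : d₁ ∉ A := fun hdA => hdne (hAc d₁ hdA d₂ hd₂M).symm
  have hy1 : x * d₁ ≠ 1 := by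
    intro h
    apply hd_notA
    have : d₁ = x⁻¹ := by
      calc d₁ = x⁻¹ * (x * d₁) := by group
        _ = x⁻¹ := by rw [h, mul_one]
    rw [this]
    exact A.inv_mem hxA
  have hle : cz (x * d₁) ≤ cz x ⊓ cz d₁ := by
    intro h hh
    obtain ⟨a, ha, m, hm, rfl⟩ := hdec h
    have e1 := mem_cz.1 hh
    have hu : (a * m) * x * (a * m)⁻¹ ∈ A := hAn.conj_mem x hxA (a * m)
    have hmdm : m * d₁ * m⁻¹ ∈ M := hn.conj_mem d₁ hd₁M m
    have hmdmg : m * d₁ * m⁻¹ ∈ Mg := Mg.mul_mem (Mg.mul_mem hm hd₁) (Mg.inv_mem hm)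
    have hv : (a * m) * d₁ * (a * m)⁻¹ = m * d₁ * m⁻¹ := by
      have := hAc a ha (m * d₁ * m⁻¹) hmdm
      calc (a * m) * d₁ * (a * m)⁻¹ = a * (m * d₁ * m⁻¹) * a⁻¹ := by group
        _ = (m * d₁ * m⁻¹) * a * a⁻¹ := by rw [this]
        _ = m * d₁ * m⁻¹ := by group
    have e2 : ((a * m) * x * (a * m)⁻¹) * ((a * m) * d₁ * (a * m)⁻¹) = x * d₁ := by
      calc ((a * m) * x * (a * m)⁻¹) * ((a * m) * d₁ * (a * m)⁻¹)
          = (a * m * (x * d₁)) * (a * m)⁻¹ := by group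
        _ = x * d₁ * (a * m) * (a * m)⁻¹ := by rw [e1]
        _ = x * d₁ := by group
    rw [hv] at e2
    have e3 : x⁻¹ * ((a * m) * x * (a * m)⁻¹) = d₁ * (m * d₁ * m⁻¹)⁻¹ := by
      have : (a * m) * x * (a * m)⁻¹ = x * d₁ * (m * d₁ * m⁻¹)⁻¹ := by
        rw [← e2]; group
      rw [this]; group
    have e4 : x⁻¹ * ((a * m) * x * (a * m)⁻¹) = 1 := by
      apply hAMg
      · exact A.mul_mem (A.inv_mem hxA) hu
      · rw [e3]; exact Mg.mul_mem hd₁ (Mg.inv_mem hmdmg)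
    have e5 : (a * m) * x * (a * m)⁻¹ = x := by
      have := congrArg (fun t => x * t) e4
      simpa using this
    have e6 : m * d₁ * m⁻¹ = d₁ := by
      rw [e3] at e4
      exact (mul_inv_eq_one.1 e4).symm
    refine Subgroup.mem_inf.2 ⟨?_, ?_⟩
    · rw [mem_cz]
      exact mul_inv_eq_iff_eq_mul.1 e5
    · rw [mem_cz]
      rw [← hv] at e6
      exact mul_inv_eq_iff_eq_mul.1 e6
  have heq : cz x = cz (x * d₁) := cz_eq_of_le hG hy1 hx (hle.trans inf_le_left)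
  have h3 : cz x ≤ cz d₁ := by
    rw [heq]
    exact hle.trans inf_le_right
  rw [hM] at hd₂M
  exact hdne (mem_cz.1 (h3 hd₂M)).symm

/-- A normal member is an abelian normal coatom and is the centralizer of each of its
nonidentity elements. -/
theorem normal_member_props (hG : ∀ g : G, g ≠ 1 → IsCoatom (cz g)) {x : G} (hx : x ≠ 1)
    (hn : (cz x).Normal) : ∀ b ∈ cz x, b ≠ 1 → cz b = cz x := by
  intro b hb hb1
  have hab := normal_member_abelian hG hx hn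
  have hle : cz x ≤ cz b := by
    intro m hm
    exact mem_cz.2 (hab m hm b hb)
  exact cz_eq_of_le hG hx hb1 hle

end CentMaxA

end Cfsg.Agent.Lib.helper68
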