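import Cfsg.Agent.Lib.helper68.CentMaxA

set_option autoImplicit false

namespace Cfsg.Agent.Lib.helper68

open Subgroup

section CentMaxB

variable {G : Type*} [Group G]

/-- (b1a) -/
lemma pow_orderOf_eq_one_of_commute [Finite G] (hG : ∀ g : G, g ≠ 1 → IsCoatom (cz g))
    {x u : G} (hx : x ≠ 1) (hu : u ≠ 1) (hc : x * u = u * x) (hne : cz x ≠ cz u) :
    u ^ orderOf x = 1 := by
  by_contra hum
  have hpow : (x * u) ^ orderOf x = u ^ orderOf x := by
    rw [(show Commute x u from hc).mul_pow, pow_orderOf_eq_one, one_mul]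
  have hxu : x * u ≠ 1 := by
    intro h
    rw [h, one_pow] at hpow
    exact hum hpow.symm
  have h1 : cz (u ^ orderOf x) = cz (x * u) := by
    apply cz_eq_of_le hG hxu hum
    rw [← hpow]
    exact cz_le_cz_pow _ _
  have h2 : cz (u ^ orderOf x) = cz u := cz_eq_of_le hG hu hum (cz_le_cz_pow _ _)
  have h3 : cz u ≤ cz x := by
    intro h hh
    have hh' : h ∈ cz (x * u) := by rw [← h1, h2]; exact hh
    rw [mem_cz] at hh hh' ⊢
    calc h * x = h * (x * u) * u⁻¹ := by group
      _ = x * u * h * u⁻¹ := by rw [hh']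
      _ = x * (u * h) * u⁻¹ := by group
      _ = x * (h * u) * u⁻¹ := by rw [hh]
      _ = x * h := by group
  exact hne (cz_eq_of_le hG hu hx h3)

/-- (b1) commuting nonidentity elements with different centralizers have the same prime order. -/
lemma orderOf_eq_prime_of_commute [Finite G] (hG : ∀ g : G, g ≠ 1 → IsCoatom (cz g))
    {x u : G} (hx : x ≠ 1) (hu : u ≠ 1) (hc : x * u = u * x) (hne : cz x ≠ cz u) :
    orderOf x = orderOf u ∧ (orderOf x).Prime := by
  have key : ∀ {x u : G}, x ≠ 1 → u ≠ 1 → x * u = u * x → cz x ≠ cz u →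
      orderOf x = orderOf u := by
    intro x u hx hu hc hne
    apply Nat.dvd_antisymm
    · exact orderOf_dvd_of_pow_eq_one
        (pow_orderOf_eq_one_of_commute hG hu hx hc.symm (Ne.symm hne))
    · exact orderOf_dvd_of_pow_eq_one (pow_orderOf_eq_one_of_commute hG hx hu hc hne)
  have heq := key hx hu hc hne
  refine ⟨heq, ?_⟩
  have hm1 : orderOf x ≠ 1 := fun h => hx (orderOf_eq_one_iff.1 h)
  have hr := Nat.minFac_prime hm1
  by_contra hnp
  have hrd : (orderOf x).minFac ∣ orderOf x := Nat.minFac_dvd _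
  have hrlt : (orderOf x).minFac < orderOf x := by
    rcases (Nat.le_of_dvd (orderOf_pos x) hrd).lt_or_eq with h | h
    · exact h
    · exact absurd (h ▸ hr) hnp
  have hxr : x ^ (orderOf x).minFac ≠ 1 := by
    intro h
    exact absurd (Nat.le_of_dvd hr.pos (orderOf_dvd_of_pow_eq_one h)) (not_le.2 hrlt)
  have h1 : cz (x ^ (orderOf x).minFac) = cz x := cz_eq_of_le hG hx hxr (cz_le_cz_pow _ _)
  have hc' : x ^ (orderOf x).minFac * u = u * x ^ (orderOf x).minFac :=
    ((show Commute x u from hc).pow_left _).eq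
  have h2 := key hxr hu hc' (by rw [h1]; exact hne)
  have h3 : orderOf (x ^ (orderOf x).minFac) = orderOf x / (orderOf x).minFac :=
    orderOf_pow_of_dvd hr.ne_zero hrd
  rw [h3, ← heq] at h2
  have h4 : orderOf x / (orderOf x).minFac < orderOf x :=
    Nat.div_lt_self (orderOf_pos x) hr.one_lt
  omega

/-- (b2) a nonabelian member has prime exponent. -/
lemma member_exponent_prime [Finite G] (hG : ∀ g : G, g ≠ 1 → IsCoatom (cz g))
    {x : G} (hx : x ≠ 1) (hnab : ¬ ∀ a ∈ cz x, ∀ b ∈ cz x, a * b = b * a) :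
    (orderOf x).Prime ∧ ∀ u ∈ cz x, u ≠ 1 → orderOf u = orderOf x := by
  simp only [not_forall] at hnab
  obtain ⟨w, hw, b, hb, hwb⟩ := hnab
  have hw1 : w ≠ 1 := by
    rintro rfl
    exact hwb (by simp)
  have hczw : cz x ≠ cz w := by
    intro h
    rw [h] at hb
    exact hwb (mem_cz.1 hb).symm
  have hxw : x * w = w * x := (mem_cz.1 hw).symm
  have h1 := orderOf_eq_prime_of_commute hG hx hw1 hxw hczw
  refine ⟨h1.2, ?_⟩
  intro u hu hu1
  by_cases hcu : cz x = cz u
  · have huw : u * w = w * u := by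
      have : w ∈ cz u := hcu ▸ hw
      exact (mem_cz.1 this).symm
    have h2 := orderOf_eq_prime_of_commute hG hu1 hw1 huw (hcu ▸ hczw)
    rw [h2.1, h1.1]
  · exact (orderOf_eq_prime_of_commute hG hx hu1 (mem_cz.1 hu).symm hcu).1.symm

open scoped IsMulCommutative in
/-- (b3) if some member is abelian then some member is normal. -/
theorem exists_normal_member_of_abelian [Finite G] (hG : ∀ g : G, g ≠ 1 → IsCoatom (cz g))
    {x : G} (hx : x ≠ 1) (hab : ∀ a ∈ cz x, ∀ b ∈ cz x, a * b = b * a) :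
    ∃ y : G, y ≠ 1 ∧ (cz y).Normal := by
  by_cases hn : (cz x).Normal
  · exact ⟨x, hx, hn⟩
  obtain ⟨M, hM⟩ : ∃ M, M = cz x := ⟨_, rfl⟩
  rw [← hM] at hab hn
  have hMco : IsCoatom M := hM ▸ hG x hx
  have hxM : x ∈ M := hM ▸ self_mem_cz x
  have hcz : ∀ b ∈ M, b ≠ 1 → cz b = M := by
    intro b hb hb1
    have hle : cz x ≤ cz b := by
      intro m hm
      rw [← hM] at hm
      exact mem_cz.2 (hab m hm b hb)
    rw [hM]
    exact cz_eq_of_le hG hx hb1 hle
  have hnorm : Subgroup.normalizer (M : Set G) = M := by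
    rcases hMco.le_iff.1 (Subgroup.le_normalizer : M ≤ Subgroup.normalizer (M : Set G))
      with h1 | h1
    · exact absurd (Subgroup.normalizer_eq_top_iff.1 h1) hn
    · exact h1
  have hTI : ∀ g : G, ∀ b ∈ M, b ≠ 1 → g⁻¹ * b * g ∈ M → g ∈ M := by
    intro g b hb hb1 hgb
    have h1 := hcz b hb hb1
    have hb1' : g⁻¹ * b * g ≠ 1 := by
      intro h
      apply hb1
      have : b = g * (g⁻¹ * b * g) * g⁻¹ := by group
      rw [this, h]
      group
    have h2 := hcz _ hgb hb1'
    rw [← hnorm, Subgroup.mem_normalizer_iff]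
    intro h
    have h3 : h ∈ cz (g⁻¹ * b * g) ↔ g * h * g⁻¹ ∈ cz b := by
      have := mem_cz_conj (g := b) (a := g⁻¹) (h := h)
      simpa using this
    rw [h1, h2] at h3
    exact h3
  have hMc : IsMulCommutative M := ⟨⟨fun a b => Subtype.ext (hab a a.2 b b.2)⟩⟩
  obtain ⟨τ, hτdef⟩ : ∃ τ : G →* M, τ = MonoidHom.transfer (MonoidHom.id M) := ⟨_, rfl⟩
  have hτ : ∀ m : G, m ∈ M → (τ m : G) = m ^ M.index := by
    intro m hm
    have key : ∀ (k : ℕ) (g₀ : G), g₀⁻¹ * m ^ k * g₀ ∈ M → g₀⁻¹ * m ^ k * g₀ = m ^ k := by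
      intro k g₀ hk
      by_cases h1 : m ^ k = 1
      · rw [h1]; group
      · have hg₀ := hTI g₀ (m ^ k) (M.pow_mem hm k) h1 hk
        have := hab g₀ hg₀ (m ^ k) (M.pow_mem hm k)
        calc g₀⁻¹ * m ^ k * g₀ = g₀⁻¹ * (m ^ k * g₀) := by group
          _ = g₀⁻¹ * (g₀ * m ^ k) := by rw [this]
          _ = m ^ k := by group
    have := MonoidHom.transfer_eq_pow (MonoidHom.id M) m key
    rw [hτdef, this]
    rfl
  have hcop : ∀ m ∈ M, m ^ M.index = 1 → m = 1 := by
    intro m hm hpow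
    by_contra hm1
    have ho : orderOf m ≠ 1 := fun h => hm1 (orderOf_eq_one_iff.1 h)
    obtain ⟨r, hr, hrd⟩ := Nat.exists_prime_and_dvd ho
    have hr_idx : r ∣ M.index := hrd.trans (orderOf_dvd_of_pow_eq_one hpow)
    obtain ⟨c, hc⟩ : ∃ c, c = m ^ (orderOf m / r) := ⟨_, rfl⟩
    have hcM : c ∈ M := hc ▸ M.pow_mem hm _
    have hdiv0 : orderOf m / r ≠ 0 := by
      have := Nat.div_pos (Nat.le_of_dvd (orderOf_pos m) hrd) hr.pos
      omega
    have hco : orderOf c = r := by
      rw [hc, orderOf_pow_of_dvd hdiv0 (Nat.div_dvd_of_dvd hrd)]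
      exact Nat.div_div_self hrd (orderOf_pos m).ne'
    have hc1 : c ≠ 1 := by
      intro h
      rw [h, orderOf_one] at hco
      exact hr.one_lt.ne hco
    have : Fact r.Prime := ⟨hr⟩
    have hp : IsPGroup r (zpowers c) := by
      apply IsPGroup.of_card (n := 1)
      rw [Nat.card_zpowers, hco, pow_one]
    have hfix := hp.card_modEq_card_fixedPoints (G ⧸ M)
    have hfp : MulAction.fixedPoints (zpowers c) (G ⧸ M) = {((1 : G) : G ⧸ M)} := by
      ext q
      induction q using QuotientGroup.induction_on with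
      | H g =>
        simp only [MulAction.mem_fixedPoints, Set.mem_singleton_iff]
        constructor
        · intro hq
          have h2 : ((c * g : G) : G ⧸ M) = (g : G ⧸ M) := hq ⟨c, mem_zpowers c⟩
          rw [QuotientGroup.eq] at h2
          have h3 : g⁻¹ * c * g ∈ M := by
            have := M.inv_mem h2
            simpa [mul_assoc] using this
          have hgM := hTI g c hcM hc1 h3
          exact QuotientGroup.eq.2 (by simpa using hgM)
        · intro hq z
          have hzM : (z : G) ∈ M := by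
            obtain ⟨k, hk⟩ := mem_zpowers_iff.1 z.2
            rw [← hk]
            exact M.zpow_mem hcM k
          have hgM : g ∈ M := by
            have := QuotientGroup.eq.1 hq
            simpa using this
          have h2 : z • (g : G ⧸ M) = (((z : G) * g : G) : G ⧸ M) := rfl
          rw [h2]
          exact QuotientGroup.eq.2 (by
            have := M.mul_mem (M.inv_mem (M.mul_mem hzM hgM)) hgM
            simpa [mul_assoc] using this)
    have hcard1 : Nat.card (MulAction.fixedPoints (zpowers c) (G ⧸ M)) = 1 := by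
      rw [hfp]
      simp
    rw [hcard1, ← Subgroup.index_eq_card] at hfix
    have h0 : M.index % r = 0 := Nat.mod_eq_zero_of_dvd hr_idx
    have h1 : M.index % r = 1 % r := hfix
    rw [h0, Nat.mod_eq_of_lt hr.one_lt] at h1
    exact absurd h1 (by norm_num)
  obtain ⟨T, hT⟩ : ∃ T, T = τ.ker := ⟨_, rfl⟩
  have hTn : T.Normal := hT ▸ MonoidHom.normal_ker τ
  have hTM : ∀ t ∈ T, t ∈ M → t = 1 := by
    intro t ht htM
    apply hcop t htM
    rw [hT, MonoidHom.mem_ker] at ht
    have := hτ t htM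
    rw [ht] at this
    simpa using this.symm
  have hinj : Function.Injective (fun m : M => τ (m : G)) := by
    intro m₁ m₂ h
    have h' : τ (m₁ : G) = τ (m₂ : G) := h
    have : (m₁ : G) * (m₂ : G)⁻¹ ∈ T := by
      rw [hT, MonoidHom.mem_ker, map_mul, map_inv, h']
      exact mul_inv_cancel _
    have h2 := hTM _ this (M.mul_mem m₁.2 (M.inv_mem m₂.2))
    exact Subtype.ext (mul_inv_eq_one.1 h2)
  have hsurj : Function.Surjective (fun m : M => τ (m : G)) :=
    Finite.injective_iff_surjective.1 hinj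
  have hdec : ∀ g : G, ∃ t ∈ T, ∃ m ∈ M, t * m = g := by
    intro g
    obtain ⟨m, hm⟩ := hsurj (τ g)
    have hm' : τ (m : G) = τ g := hm
    refine ⟨g * (m : G)⁻¹, ?_, m, m.2, by group⟩
    rw [hT, MonoidHom.mem_ker, map_mul, map_inv, hm']
    exact mul_inv_cancel _
  obtain ⟨g, hg⟩ := coatom_exists_not_mem hMco
  obtain ⟨a, ha, m₀, hm₀, hgam⟩ := hdec g
  have ha1 : a ≠ 1 := by
    rintro rfl
    apply hg
    rw [← hgam]
    simpa using hm₀
  refine ⟨a, ha1, ?_⟩
  have hle : cz a ≤ T := by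
    intro b hb
    obtain ⟨t, ht, m, hm, rfl⟩ := hdec b
    by_cases hm1 : m = 1
    · subst hm1
      simpa using ht
    exfalso
    let φ : T → T := fun s =>
      ⟨(s : G)⁻¹ * (m * s * m⁻¹), T.mul_mem (T.inv_mem s.2) (hTn.conj_mem _ s.2 m)⟩
    have hφ : Function.Injective φ := by
      intro s₁ s₂ h
      have h' : (s₁ : G)⁻¹ * (m * s₁ * m⁻¹) = (s₂ : G)⁻¹ * (m * s₂ * m⁻¹) :=
        congrArg Subtype.val h
      have h2 : (s₂ : G) * (s₁ : G)⁻¹ ∈ cz m := by
        rw [mem_cz]
        have : (s₁ : G)⁻¹ * m * s₁ = (s₂ : G)⁻¹ * m * s₂ := by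
          have := congrArg (fun t => t * m) h'
          simpa [mul_assoc] using this
        calc (s₂ : G) * (s₁ : G)⁻¹ * m
            = s₂ * ((s₁ : G)⁻¹ * m * s₁) * (s₁ : G)⁻¹ := by group
          _ = s₂ * ((s₂ : G)⁻¹ * m * s₂) * (s₁ : G)⁻¹ := by rw [this]
          _ = m * (s₂ * (s₁ : G)⁻¹) := by group
      rw [hcz m hm hm1] at h2
      have h3 := hTM _ (T.mul_mem s₂.2 (T.inv_mem s₁.2)) h2
      exact Subtype.ext (mul_inv_eq_one.1 h3).symm
    obtain ⟨s, hs⟩ := (Finite.injective_iff_surjective.1 hφ) ⟨t, ht⟩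
    have hs' : (s : G)⁻¹ * (m * s * m⁻¹) = t := congrArg Subtype.val hs
    have htm : t * m = (s : G)⁻¹ * m * s := by
      rw [← hs']; group
    have h5 : (s : G) * a * (s : G)⁻¹ ∈ cz m := by
      rw [mem_cz]
      have := mem_cz.1 hb
      rw [htm] at this
      calc (s : G) * a * (s : G)⁻¹ * m
          = s * (a * ((s : G)⁻¹ * m * s)) * (s : G)⁻¹ := by group
        _ = s * ((s : G)⁻¹ * m * s * a) * (s : G)⁻¹ := by rw [this]
        _ = m * (s * a * (s : G)⁻¹) := by group
    rw [hcz m hm hm1] at h5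
    have h6 := hTM _ (hTn.conj_mem a ha s) h5
    apply ha1
    have : a = (s : G)⁻¹ * (s * a * (s : G)⁻¹) * s := by group
    rw [this, h6]
    group
  have hTtop : T ≠ ⊤ := by
    intro h
    exact hx (hTM x (by rw [h]; trivial) hxM)
  rcases (hG a ha1).le_iff.1 hle with h1 | h1
  · exact absurd h1 hTtop
  · rw [← h1]
    exact hTn

end CentMaxB

end Cfsg.Agent.Lib.helper68
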