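import Cfsg.Agent.Lib.helper68.CentMaxB

set_option autoImplicit false

namespace Cfsg.Agent.Lib.helper68

open Subgroup

section CentMaxC

lemma sum_inv_sq_le (n : ℕ) (hn : 1 ≤ n) :
    ∑ k ∈ Finset.Icc 2 n, (1 : ℚ) / (k : ℚ) ^ 2 ≤ 1 - 1 / (n : ℚ) := by
  induction n, hn using Nat.le_induction with
  | base => simp
  | succ n hn ih =>
    rw [Finset.sum_Icc_succ_top (by omega)]
    have hn0 : (0 : ℚ) < n := by exact_mod_cast hn
    have h1 : (1 : ℚ) / ((n + 1 : ℕ) : ℚ) ^ 2 ≤ 1 / (n : ℚ) - 1 / ((n + 1 : ℕ) : ℚ) := by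
      push_cast
      rw [div_sub_div _ _ hn0.ne' (by positivity), div_le_div_iff₀ (by positivity) (by positivity)]
      nlinarith
    linarith

/-- In a finite nonabelian `p`-group, `|Z(P)| * p^2 ≤ |P|`. -/
lemma card_center_mul_sq_le {P : Type*} [Group P] [Finite P] {p : ℕ} [hp : Fact p.Prime]
    (hP : IsPGroup p P) (hnab : ¬ ∀ a b : P, a * b = b * a) :
    Nat.card (center P) * p ^ 2 ≤ Nat.card P := by
  have h1 : Nat.card (center P) * (center P).index = Nat.card P := Subgroup.card_mul_index _
  obtain ⟨k, hk⟩ : ∃ k, (center P).index = p ^ k := by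
    obtain ⟨n, hn⟩ := IsPGroup.iff_card.1 hP
    have : (center P).index ∣ p ^ n := hn ▸ Subgroup.index_dvd_card _
    obtain ⟨k, -, hk⟩ := (Nat.dvd_prime_pow hp.out).1 this
    exact ⟨k, hk⟩
  have hk2 : 2 ≤ k := by
    by_contra hlt
    have : k = 0 ∨ k = 1 := by omega
    rcases this with rfl | rfl
    · rw [pow_zero, Subgroup.index_eq_one] at hk
      apply hnab
      intro a b
      have : a ∈ center P := by rw [hk]; trivial
      exact ((Subgroup.mem_center_iff.1 this) b).symm
    · rw [pow_one] at hk
      have hcard : Nat.card (P ⧸ center P) = p := by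
        rw [← Subgroup.index_eq_card]; exact hk
      have : IsCyclic (P ⧸ center P) := isCyclic_of_prime_card hcard
      have h2 := (QuotientGroup.mk' (center P)).isMulCommutative_of_isCyclic_of_ker_le_center
        (by rw [QuotientGroup.ker_mk'])
      apply hnab
      intro a b
      exact h2.is_comm.comm a b
  rw [← h1, hk]
  exact Nat.mul_le_mul_left _ (Nat.pow_le_pow_right hp.out.pos hk2)

variable {G : Type*} [Group G]

/-- (b4) it is impossible that all members are nonabelian. -/
theorem no_all_nonabelian [Finite G] [Nontrivial G] (hG : ∀ g : G, g ≠ 1 → IsCoatom (cz g))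
    (hnab : ∀ x : G, x ≠ 1 → ¬ ∀ a ∈ cz x, ∀ b ∈ cz x, a * b = b * a) : False := by
  classical
  let _ : Fintype G := Fintype.ofFinite G
  obtain ⟨n, hn⟩ : ∃ n, n = Nat.card G := ⟨_, rfl⟩
  have hn1 : 1 < n := hn ▸ Finite.one_lt_card
  have hprime : ∀ g : G, g ≠ 1 → (orderOf g).Prime :=
    fun g hg => (member_exponent_prime hG hg (hnab g hg)).1
  have hexp : ∀ g : G, g ≠ 1 → ∀ u ∈ cz g, u ≠ 1 → orderOf u = orderOf g :=
    fun g hg => (member_exponent_prime hG hg (hnab g hg)).2
  have hcen : ∀ z ∈ center G, z = 1 := by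
    intro z hz
    by_contra hz1
    exact (hG z hz1).1 (cz_eq_top_of_mem_center hz)
  have hsyl : ∀ g : G, g ≠ 1 → ∀ p, orderOf g = p →
      ∃ Q : Sylow p G, (Q : Subgroup G) = cz g := by
    intro g hg p hp
    have hpp : p.Prime := hp ▸ hprime g hg
    have : Fact p.Prime := ⟨hpp⟩
    have hPG : IsPGroup p (cz g) := by
      intro u
      refine ⟨1, ?_⟩
      by_cases hu : (u : G) = 1
      · apply Subtype.ext
        simp [hu]
      · have := hexp g hg u u.2 hu
        apply Subtype.ext
        simp only [pow_one, Subgroup.coe_pow, Subgroup.coe_one]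
        rw [← hp, ← this]
        exact pow_orderOf_eq_one _
    obtain ⟨Q, hQ⟩ := hPG.exists_le_sylow
    rcases (hG g hg).le_iff.1 hQ with h1 | h1
    · exfalso
      have hGp : IsPGroup p G := by
        intro y
        obtain ⟨k, hk⟩ := Q.isPGroup' ⟨y, by rw [h1]; trivial⟩
        exact ⟨k, by simpa [Subtype.ext_iff] using hk⟩
      have hnt : Nontrivial (center G) := hGp.center_nontrivial
      obtain ⟨z, hz⟩ := exists_ne (1 : center G)
      exact hz (Subtype.ext (hcen z z.2))
    · exact ⟨Q, h1⟩
  have hbound : ∀ p : ℕ, p.Prime →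
      p ^ 2 * (Finset.univ.filter (fun g : G => orderOf g = p)).card < n := by
    intro p hp
    have : Fact p.Prime := ⟨hp⟩
    obtain ⟨E, hE⟩ : ∃ E : Finset G, E = Finset.univ.filter (fun g : G => orderOf g = p) :=
      ⟨_, rfl⟩
    rw [← hE]
    have hEmem : ∀ g, g ∈ E ↔ orderOf g = p := by
      intro g
      rw [hE]
      simp
    have hE1 : ∀ g, g ∈ E → g ≠ 1 := by
      intro g hg
      rintro rfl
      have := (hEmem 1).1 hg
      rw [orderOf_one] at this
      exact hp.one_lt.ne this
    obtain ⟨s, hs⟩ : ∃ s, s = p ^ (Nat.card G).factorization p := ⟨_, rfl⟩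
    have hfib : ∀ b ∈ E.image cz, ((E.filter (fun x => cz x = b)).card + 1) * p ^ 2 ≤ s := by
      intro b hb
      obtain ⟨g₀, hg₀, rfl⟩ := Finset.mem_image.1 hb
      have hg₀p : orderOf g₀ = p := (hEmem g₀).1 hg₀
      have hg₀1 : g₀ ≠ 1 := hE1 g₀ hg₀
      obtain ⟨Q, hQ⟩ := hsyl g₀ hg₀1 p hg₀p
      have hcardQ : Nat.card (cz g₀) = s := by
        rw [hs, ← hQ]
        exact Q.card_eq_multiplicity
      have hPG : IsPGroup p (cz g₀) := hQ ▸ Q.isPGroup'
      have hnabP : ¬ ∀ a b : cz g₀, a * b = b * a := by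
        intro h
        apply hnab g₀ hg₀1
        intro a ha b hb
        exact congrArg Subtype.val (h ⟨a, ha⟩ ⟨b, hb⟩)
      have hcenb := card_center_mul_sq_le hPG hnabP
      have hsub : ((insert 1 (E.filter (fun x => cz x = cz g₀)) : Finset G) : Set G) ⊆
          (((center (cz g₀)).map (cz g₀).subtype : Subgroup G) : Set G) := by
        intro y hy
        rw [Finset.mem_coe, Finset.mem_insert, Finset.mem_filter] at hy
        rcases hy with rfl | ⟨hyE, hycz⟩
        · exact one_mem _
        · have hyP : y ∈ cz g₀ := hycz ▸ self_mem_cz y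
          refine ⟨⟨y, hyP⟩, ?_, rfl⟩
          rw [SetLike.mem_coe, Subgroup.mem_center_iff]
          intro z
          apply Subtype.ext
          have hz : (z : G) ∈ cz y := by rw [hycz]; exact z.2
          exact mem_cz.1 hz
      have hcard_le : (E.filter (fun x => cz x = cz g₀)).card + 1 ≤
          Nat.card (center (cz g₀)) := by
        have h1 : (insert 1 (E.filter (fun x => cz x = cz g₀)) : Finset G).card =
            (E.filter (fun x => cz x = cz g₀)).card + 1 := by
          apply Finset.card_insert_of_notMem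
          rw [Finset.mem_filter]
          rintro ⟨h, -⟩
          exact hE1 1 h rfl
        have hc : Nat.card ((center (cz g₀)).map (cz g₀).subtype : Subgroup G) =
            Nat.card (center (cz g₀)) :=
          Subgroup.card_map_of_injective (cz g₀).subtype_injective
        rw [← h1, ← Set.ncard_coe_finset, ← hc]
        change _ ≤ Nat.card ((((center (cz g₀)).map (cz g₀).subtype : Subgroup G) : Set G))
        rw [Nat.card_coe_set_eq]
        exact Set.ncard_le_ncard hsub (Set.toFinite _)
      calc ((E.filter (fun x => cz x = cz g₀)).card + 1) * p ^ 2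
          ≤ Nat.card (center (cz g₀)) * p ^ 2 := Nat.mul_le_mul_right _ hcard_le
        _ ≤ Nat.card (cz g₀) := hcenb
        _ = s := hcardQ
    have himg : (E.image cz).card ≤ Nat.card (Sylow p G) := by
      let _ : Fintype (Sylow p G) := Fintype.ofFinite _
      have hsub : E.image cz ⊆ Finset.univ.image (fun Q : Sylow p G => (Q : Subgroup G)) := by
        intro b hb
        obtain ⟨g₀, hg₀, rfl⟩ := Finset.mem_image.1 hb
        obtain ⟨Q, hQ⟩ := hsyl g₀ (hE1 g₀ hg₀) p ((hEmem g₀).1 hg₀)
        exact Finset.mem_image.2 ⟨Q, Finset.mem_univ _, hQ⟩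
      calc (E.image cz).card
          ≤ (Finset.univ.image (fun Q : Sylow p G => (Q : Subgroup G))).card :=
            Finset.card_le_card hsub
        _ ≤ (Finset.univ : Finset (Sylow p G)).card := Finset.card_image_le
        _ = Nat.card (Sylow p G) := by rw [Finset.card_univ, Nat.card_eq_fintype_card]
    have hsyl_cnt : Nat.card (Sylow p G) * s ≤ n := by
      obtain ⟨Q⟩ : Nonempty (Sylow p G) := inferInstance
      have h1 : Nat.card (Sylow p G) ∣ (Q : Subgroup G).index := Q.card_dvd_index
      have h2 : Nat.card (Q : Subgroup G) * (Q : Subgroup G).index = Nat.card G :=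
        Subgroup.card_mul_index _
      have h3 : Nat.card (Q : Subgroup G) = s := by
        rw [hs]
        exact Q.card_eq_multiplicity
      have h4 : Nat.card (Sylow p G) ≤ (Q : Subgroup G).index :=
        Nat.le_of_dvd (Nat.pos_of_ne_zero Subgroup.index_ne_zero_of_finite) h1
      calc Nat.card (Sylow p G) * s ≤ (Q : Subgroup G).index * s := Nat.mul_le_mul_right _ h4
        _ = n := by rw [hn, ← h2, h3, mul_comm]
    have h1 : E.card = ∑ b ∈ E.image cz, (E.filter (fun x => cz x = b)).card :=
      Finset.card_eq_sum_card_image cz E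
    have h2 : ∑ b ∈ E.image cz, ((E.filter (fun x => cz x = b)).card + 1) * p ^ 2 ≤
        ∑ b ∈ E.image cz, s := Finset.sum_le_sum hfib
    have h3 : ∑ b ∈ E.image cz, ((E.filter (fun x => cz x = b)).card + 1) * p ^ 2 =
        (E.card + (E.image cz).card) * p ^ 2 := by
      rw [← Finset.sum_mul, Finset.sum_add_distrib, ← h1]
      simp
    rw [h3, Finset.sum_const, smul_eq_mul] at h2
    by_cases hE0 : E.card = 0
    · rw [hE0]
      omega
    · have himg_pos : 0 < (E.image cz).card := by
        rw [Finset.card_pos, Finset.image_nonempty, ← Finset.card_pos]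
        omega
      have hp2 : 0 < p ^ 2 := pow_pos hp.pos 2
      calc p ^ 2 * E.card < (E.card + (E.image cz).card) * p ^ 2 := by nlinarith
        _ ≤ (E.image cz).card * s := h2
        _ ≤ Nat.card (Sylow p G) * s := Nat.mul_le_mul_right _ himg
        _ ≤ n := hsyl_cnt
  have hcount : (Finset.univ.filter (fun g : G => g ≠ 1)).card = n - 1 := by
    rw [Finset.filter_ne', Finset.card_erase_of_mem (Finset.mem_univ _), Finset.card_univ, hn,
      Nat.card_eq_fintype_card]
  have hfiber := Finset.card_eq_sum_card_fiberwise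
    (s := Finset.univ.filter (fun g : G => g ≠ 1)) (t := n.primeFactors) (f := orderOf) (by
      intro g hg
      have hg' : g ≠ 1 := by simpa using hg
      have := hprime g hg'
      simp only [Finset.mem_coe, Nat.mem_primeFactors]
      exact ⟨this, hn ▸ orderOf_dvd_natCard g, by omega⟩)
  have hle : ∀ p ∈ n.primeFactors,
      ((((Finset.univ.filter (fun g : G => g ≠ 1)).filter
        (fun g => orderOf g = p)).card : ℕ) : ℚ) ≤ ((n : ℚ) - 1) / (p : ℚ) ^ 2 := by
    intro p hp
    have hpp := (Nat.mem_primeFactors.1 hp).1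
    have h1 := hbound p hpp
    have h2 : ((Finset.univ.filter (fun g : G => g ≠ 1)).filter
        (fun g => orderOf g = p)).card ≤
        (Finset.univ.filter (fun g : G => orderOf g = p)).card :=
      Finset.card_le_card (by
        intro g hg
        simp only [Finset.mem_filter, Finset.mem_univ, true_and] at hg ⊢
        exact hg.2)
    have hp0 : (0 : ℚ) < (p : ℚ) ^ 2 := by
      have : (0 : ℚ) < p := by exact_mod_cast hpp.pos
      positivity
    rw [le_div_iff₀ hp0]
    have h3 : ((Finset.univ.filter (fun g : G => g ≠ 1)).filter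
        (fun g => orderOf g = p)).card * p ^ 2 ≤ n - 1 := by
      have := Nat.mul_le_mul_left (p ^ 2) h2
      have h5 : ((Finset.univ.filter (fun g : G => g ≠ 1)).filter
        (fun g => orderOf g = p)).card * p ^ 2 < n := by
        rw [mul_comm]
        exact lt_of_le_of_lt this h1
      omega
    have h4 : (n : ℚ) - 1 = ((n - 1 : ℕ) : ℚ) := by
      rw [Nat.cast_sub (by omega)]
      simp
    rw [h4]
    exact_mod_cast h3
  have hsum : ∑ p ∈ n.primeFactors, (1 : ℚ) / (p : ℚ) ^ 2 ≤ 1 - 1 / (n : ℚ) := by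
    refine le_trans ?_ (sum_inv_sq_le n (by omega))
    apply Finset.sum_le_sum_of_subset_of_nonneg
    · intro p hp
      have := Nat.mem_primeFactors.1 hp
      rw [Finset.mem_Icc]
      exact ⟨this.1.two_le, Nat.le_of_dvd (by omega) this.2.1⟩
    · intro k _ _
      positivity
  have hq : ((n : ℚ) - 1) = ∑ p ∈ n.primeFactors,
      ((((Finset.univ.filter (fun g : G => g ≠ 1)).filter
        (fun g => orderOf g = p)).card : ℕ) : ℚ) := by
    rw [← Nat.cast_sum, ← hfiber, hcount, Nat.cast_sub (by omega)]
    simp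
  have hn1q : (1 : ℚ) < n := by exact_mod_cast hn1
  have hfinal : ((n : ℚ) - 1) ≤ ((n : ℚ) - 1) * (1 - 1 / (n : ℚ)) := by
    calc ((n : ℚ) - 1) = ∑ p ∈ n.primeFactors,
          ((((Finset.univ.filter (fun g : G => g ≠ 1)).filter
            (fun g => orderOf g = p)).card : ℕ) : ℚ) := hq
      _ ≤ ∑ p ∈ n.primeFactors, ((n : ℚ) - 1) / (p : ℚ) ^ 2 := Finset.sum_le_sum hle
      _ = ((n : ℚ) - 1) * ∑ p ∈ n.primeFactors, (1 : ℚ) / (p : ℚ) ^ 2 := by
          rw [Finset.mul_sum]
          apply Finset.sum_congr rfl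
          intros
          ring
      _ ≤ ((n : ℚ) - 1) * (1 - 1 / (n : ℚ)) := by
          apply mul_le_mul_of_nonneg_left hsum
          linarith
  have hpos : (0 : ℚ) < 1 / (n : ℚ) := by positivity
  nlinarith

/-- **T0**: a nontrivial finite group in which the centralizer of every nonidentity element is
a maximal subgroup has a normal abelian maximal subgroup `K` which is the centralizer of each
of its nonidentity elements. -/
theorem exists_normal_abelian_coatom [Finite G] [Nontrivial G]
    (hG : ∀ g : G, g ≠ 1 → IsCoatom (cz g)) :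
    ∃ K : Subgroup G, K.Normal ∧ IsCoatom K ∧ (∀ a ∈ K, ∀ b ∈ K, a * b = b * a) ∧
      ∀ b ∈ K, b ≠ 1 → cz b = K := by
  have h1 : ∃ x : G, x ≠ 1 ∧ ∀ a ∈ cz x, ∀ b ∈ cz x, a * b = b * a := by
    by_contra hcon
    simp only [not_exists, not_and] at hcon
    exact no_all_nonabelian hG hcon
  obtain ⟨x, hx, hab⟩ := h1
  obtain ⟨y, hy, hyn⟩ := exists_normal_member_of_abelian hG hx hab
  exact ⟨cz y, hyn, hG y hy, normal_member_abelian hG hy hyn, normal_member_props hG hy hyn⟩

end CentMaxC

end Cfsg.Agent.Lib.helper68
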