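import Cfsg.Agent.Lib.helper68.CentMaxC

set_option autoImplicit false

namespace Cfsg.Agent.Lib.helper68

open Subgroup

section CentMaxD

variable {G : Type*} [Group G]

/-- elements commuting with `x` modulo the centre -/
def starC (x : G) : Subgroup G :=
  (cz ((x : G) : G ⧸ center G)).comap (QuotientGroup.mk' (center G))

lemma mem_starC' {x g : G} : g ∈ starC x ↔
    (g : G ⧸ center G) * (x : G ⧸ center G) = (x : G ⧸ center G) * (g : G ⧸ center G) := by
  unfold starC
  rw [Subgroup.mem_comap, mem_cz]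
  rfl

lemma mem_starC {x g : G} : g ∈ starC x ↔ g * x * g⁻¹ * x⁻¹ ∈ center G := by
  rw [mem_starC', ← QuotientGroup.eq_one_iff]
  simp only [QuotientGroup.mk_mul, QuotientGroup.mk_inv]
  rw [mul_inv_eq_one, mul_inv_eq_iff_eq_mul]

lemma cz_le_starC (x : G) : cz x ≤ starC x := by
  intro g hg
  rw [mem_starC']
  have := mem_cz.1 hg
  rw [← QuotientGroup.mk_mul, ← QuotientGroup.mk_mul, this]

lemma starC_eq_top_iff {x : G} :
    starC x = ⊤ ↔ (x : G ⧸ center G) ∈ center (G ⧸ center G) := by
  constructor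
  · intro h
    rw [Subgroup.mem_center_iff]
    intro q
    obtain ⟨g, rfl⟩ := QuotientGroup.mk_surjective q
    have : g ∈ starC x := by rw [h]; trivial
    exact mem_starC'.1 this
  · intro h
    rw [eq_top_iff]
    intro g _
    rw [mem_starC']
    exact (Subgroup.mem_center_iff.1 h) _

lemma cz_normal_of_starC_eq_top {x : G} (h : starC x = ⊤) : (cz x).Normal := by
  constructor
  intro k hk g
  have hz : g⁻¹ * x * g⁻¹⁻¹ * x⁻¹ ∈ center G := by
    apply mem_starC.1
    rw [h]
    trivial
  rw [inv_inv] at hz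
  have hzc : ∀ y, y * (g⁻¹ * x * g * x⁻¹) = (g⁻¹ * x * g * x⁻¹) * y :=
    fun y => (Subgroup.mem_center_iff.1 hz) y
  have hkx : k * x = x * k := mem_cz.1 hk
  rw [mem_cz]
  calc g * k * g⁻¹ * x = (g * k * (g⁻¹ * x * g * x⁻¹)) * x * g⁻¹ := by group
    _ = ((g⁻¹ * x * g * x⁻¹) * (g * k)) * x * g⁻¹ := by rw [hzc (g * k)]
    _ = (g⁻¹ * x * g * x⁻¹) * g * (k * x) * g⁻¹ := by group
    _ = (g⁻¹ * x * g * x⁻¹) * g * (x * k) * g⁻¹ := by rw [hkx]
    _ = ((g⁻¹ * x * g * x⁻¹) * g) * x * k * g⁻¹ := by group
    _ = (g * (g⁻¹ * x * g * x⁻¹)) * x * k * g⁻¹ := by rw [hzc g]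
    _ = x * (g * k * g⁻¹) := by group

/-- Case I: if the second centre is bigger than the centre, all `C(x)` are normal. -/
theorem cz_normal_of_second_center (h : ∀ x : G, x ∉ center G → IsCoatom (cz x)) {a : G}
    (ha : a ∉ center G) (hac : (a : G ⧸ center G) ∈ center (G ⧸ center G)) {x : G}
    (hx : x ∉ center G) : (cz x).Normal := by
  by_cases hxs : starC x = ⊤
  · exact cz_normal_of_starC_eq_top hxs
  have hstar : starC x = cz x := by
    rcases (h x hx).le_iff.1 (cz_le_starC x) with h1 | h1
    · exact absurd h1 hxs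
    · exact h1
  have hac' : ∀ q : G ⧸ center G, q * (a : G ⧸ center G) = (a : G ⧸ center G) * q :=
    fun q => (Subgroup.mem_center_iff.1 hac) q
  have hax : a ∈ cz x := by
    rw [← hstar, mem_starC']
    exact (hac' _).symm
  have hy : x * a ∉ center G := by
    intro hyZ
    apply hxs
    rw [starC_eq_top_iff]
    have h1 : ((x * a : G) : G ⧸ center G) = 1 := (QuotientGroup.eq_one_iff _).2 hyZ
    have h2 : (x : G ⧸ center G) = (a : G ⧸ center G)⁻¹ := by
      rw [QuotientGroup.mk_mul] at h1
      exact eq_inv_of_mul_eq_one_left h1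
    rw [h2]
    exact (center _).inv_mem hac
  have hle1 : cz (x * a) ≤ cz x := by
    intro g hg
    rw [← hstar, mem_starC']
    have e := mem_cz.1 hg
    have e' : (g : G ⧸ center G) * ((x : G ⧸ center G) * (a : G ⧸ center G)) =
        (x : G ⧸ center G) * (a : G ⧸ center G) * (g : G ⧸ center G) := by
      have e0 := congrArg (fun t : G => (t : G ⧸ center G)) e
      simp only [QuotientGroup.mk_mul] at e0
      exact e0
    have e2 : (g : G ⧸ center G) * (x : G ⧸ center G) * (a : G ⧸ center G) =
        (x : G ⧸ center G) * (g : G ⧸ center G) * (a : G ⧸ center G) := by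
      rw [mul_assoc, e', mul_assoc, mul_assoc, hac' (g : G ⧸ center G)]
    exact mul_right_cancel e2
  have hle2 : cz (x * a) ≤ cz a := by
    intro g hg
    have hgx := mem_cz.1 (hle1 hg)
    have e := mem_cz.1 hg
    rw [mem_cz]
    apply mul_left_cancel (a := x)
    calc x * (g * a) = (x * g) * a := by group
      _ = g * x * a := by rw [hgx]
      _ = g * (x * a) := by group
      _ = x * a * g := e
      _ = x * (a * g) := by group
  have hyco := h (x * a) hy
  have h1 : cz (x * a) = cz x := by
    rcases hyco.le_iff.1 hle1 with h2 | h2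
    · exact absurd h2 (h x hx).1
    · exact h2.symm
  have h2 : cz (x * a) = cz a := by
    rcases hyco.le_iff.1 hle2 with h3 | h3
    · exact absurd h3 (h a ha).1
    · exact h3.symm
  rw [← h1, h2]
  exact cz_normal_of_starC_eq_top (starC_eq_top_iff.2 hac)

theorem comm_mem_center_of_normal (h : ∀ x : G, x ∉ center G → IsCoatom (cz x))
    (hn : ∀ x : G, x ∉ center G → (cz x).Normal) (g k : G) :
    g * k * g⁻¹ * k⁻¹ ∈ center G := by
  rw [Subgroup.mem_center_iff]
  intro x
  by_cases hx : x ∈ center G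
  · exact ((Subgroup.mem_center_iff.1 hx) _).symm
  · have := hn x hx
    have h1 := normal_coatom_comm_mem (h x hx) g k
    exact (mem_cz.1 h1).symm

theorem quotient_comm_of_normal (h : ∀ x : G, x ∉ center G → IsCoatom (cz x))
    (hn : ∀ x : G, x ∉ center G → (cz x).Normal) (q₁ q₂ : G ⧸ center G) :
    q₁ * q₂ = q₂ * q₁ := by
  obtain ⟨g, rfl⟩ := QuotientGroup.mk_surjective q₁
  obtain ⟨k, rfl⟩ := QuotientGroup.mk_surjective q₂
  have := (QuotientGroup.eq_one_iff _).2 (comm_mem_center_of_normal h hn g k)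
  simp only [QuotientGroup.mk_mul, QuotientGroup.mk_inv] at this
  rw [mul_inv_eq_one, mul_inv_eq_iff_eq_mul] at this
  exact this

/-- Case II: the quotient by the centre has all nonidentity centralizers maximal. -/
theorem quotient_coatom (h : ∀ x : G, x ∉ center G → IsCoatom (cz x))
    (hZ2 : ∀ a : G, a ∉ center G → (a : G ⧸ center G) ∉ center (G ⧸ center G)) :
    ∀ q : G ⧸ center G, q ≠ 1 → IsCoatom (cz q) := by
  intro q hq
  obtain ⟨x, rfl⟩ := QuotientGroup.mk_surjective q
  have hx : x ∉ center G := fun hx => hq ((QuotientGroup.eq_one_iff x).2 hx)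
  have hne : starC x ≠ ⊤ := fun h1 => hZ2 x hx (starC_eq_top_iff.1 h1)
  have hstar : starC x = cz x := by
    rcases (h x hx).le_iff.1 (cz_le_starC x) with h1 | h1
    · exact absurd h1 hne
    · exact h1
  constructor
  · intro htop
    apply hne
    unfold starC
    rw [htop, Subgroup.comap_top]
  · intro L hL
    have h1 : starC x < L.comap (QuotientGroup.mk' (center G)) := by
      unfold starC
      exact (Subgroup.comap_lt_comap_of_surjective (QuotientGroup.mk'_surjective _)).2 hL
    rw [hstar] at h1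
    have h2 := (h x hx).2 _ h1
    apply Subgroup.comap_injective (QuotientGroup.mk'_surjective (center G))
    rw [h2, Subgroup.comap_top]

/-- **S4262**: a finite group in which all centralizers of noncentral elements are maximal
is solvable. -/
theorem isSolvable_of_centralizers_coatom [Finite G]
    (h : ∀ x : G, x ∉ center G → IsCoatom (cz x)) : Group.IsSolvable G := by
  suffices hQ : Group.IsSolvable (G ⧸ center G) by
    have hZs : Group.IsSolvable (center G) :=
      Group.isSolvable_of_comm (fun a b => Subtype.ext ((Subgroup.mem_center_iff.1 b.2) a.1))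
    exact Group.isSolvable_of_ker_le_range (center G).subtype (QuotientGroup.mk' (center G))
      (by rw [QuotientGroup.ker_mk', Subgroup.range_subtype])
  by_cases hZ2 : ∃ a : G, a ∉ center G ∧ (a : G ⧸ center G) ∈ center (G ⧸ center G)
  · obtain ⟨a, ha, hac⟩ := hZ2
    have hn : ∀ x : G, x ∉ center G → (cz x).Normal :=
      fun x hx => cz_normal_of_second_center h ha hac hx
    exact Group.isSolvable_of_comm (quotient_comm_of_normal h hn)
  · simp only [not_exists, not_and] at hZ2
    by_cases hsub : Subsingleton (G ⧸ center G)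
    · infer_instance
    rw [not_subsingleton_iff_nontrivial] at hsub
    have hQ := quotient_coatom h hZ2
    obtain ⟨K, hKn, hKco, hKab, hKcz⟩ := exists_normal_abelian_coatom hQ
    have hKs : Group.IsSolvable K := Group.isSolvable_of_comm (fun a b => Subtype.ext (hKab a a.2 b b.2))
    have hQs : Group.IsSolvable ((G ⧸ center G) ⧸ K) := by
      apply Group.isSolvable_of_comm
      intro q₁ q₂
      obtain ⟨g, rfl⟩ := QuotientGroup.mk_surjective q₁
      obtain ⟨k, rfl⟩ := QuotientGroup.mk_surjective q₂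
      have := (QuotientGroup.eq_one_iff _).2 (normal_coatom_comm_mem hKco g k)
      simp only [QuotientGroup.mk_mul, QuotientGroup.mk_inv] at this
      rw [mul_inv_eq_one, mul_inv_eq_iff_eq_mul] at this
      exact this
    exact Group.isSolvable_of_ker_le_range K.subtype (QuotientGroup.mk' K)
      (by rw [QuotientGroup.ker_mk', Subgroup.range_subtype])

lemma pow_index_mem_center [Finite G] {x : G} (hn : (cz x).Normal)
    (hc : ∀ g k : G, g * k * g⁻¹ * k⁻¹ ∈ center G) : x ^ (cz x).index ∈ center G := by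
  rw [Subgroup.mem_center_iff]
  intro g
  obtain ⟨c, hcdef⟩ : ∃ c, c = g * x * g⁻¹ * x⁻¹ := ⟨_, rfl⟩
  have hcZ : c ∈ center G := hcdef ▸ hc g x
  have hcc : ∀ y, y * c = c * y := fun y => (Subgroup.mem_center_iff.1 hcZ) y
  have hgx : g * x * g⁻¹ = c * x := by
    rw [hcdef]; group
  have hpow : ∀ k : ℕ, g ^ k * x * (g ^ k)⁻¹ = c ^ k * x := by
    intro k
    induction k with
    | zero => simp
    | succ k ih =>
      calc g ^ (k + 1) * x * (g ^ (k + 1))⁻¹ = g * (g ^ k * x * (g ^ k)⁻¹) * g⁻¹ := by
            rw [pow_succ']; group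
        _ = g * (c ^ k * x) * g⁻¹ := by rw [ih]
        _ = (g * c ^ k) * x * g⁻¹ := by group
        _ = (c ^ k * g) * x * g⁻¹ := by
            rw [(Commute.pow_right (show Commute g c from hcc g) k).eq]
        _ = c ^ k * (g * x * g⁻¹) := by group
        _ = c ^ k * (c * x) := by rw [hgx]
        _ = c ^ (k + 1) * x := by rw [pow_succ]; group
  have hq : g ^ (cz x).index ∈ cz x := Subgroup.pow_index_mem (cz x) g
  have hcq : c ^ (cz x).index = 1 := by
    have h1 := hpow (cz x).index
    have h2 : g ^ (cz x).index * x * (g ^ (cz x).index)⁻¹ = x := by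
      rw [mem_cz.1 hq]; group
    rw [h2] at h1
    exact mul_eq_right.1 h1.symm
  have h3 : g * x ^ (cz x).index * g⁻¹ = x ^ (cz x).index := by
    rw [← conj_pow, hgx, (show Commute c x from (hcc x).symm).mul_pow, hcq, one_mul]
  exact mul_inv_eq_iff_eq_mul.1 h3

lemma exists_prime_exponent_of_comm {A : Type*} [Group A] [Finite A]
    (hc : ∀ a b : A, a * b = b * a) (ho : ∀ a : A, a ≠ 1 → (orderOf a).Prime) :
    ∃ p : ℕ, p.Prime ∧ ∀ a : A, a ^ p = 1 := by
  by_cases hall : ∀ a : A, a = 1
  · exact ⟨2, Nat.prime_two, fun a => by rw [hall a, one_pow]⟩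
  simp only [not_forall] at hall
  obtain ⟨a₀, ha₀⟩ := hall
  refine ⟨orderOf a₀, ho a₀ ha₀, ?_⟩
  intro b
  by_cases hb : b = 1
  · rw [hb, one_pow]
  by_cases hr : orderOf b = orderOf a₀
  · rw [← hr]
    exact pow_orderOf_eq_one b
  exfalso
  have hcop : (orderOf a₀).Coprime (orderOf b) :=
    (Nat.coprime_primes (ho a₀ ha₀) (ho b hb)).2 (Ne.symm hr)
  have h1 := (show Commute a₀ b from hc a₀ b).orderOf_mul_eq_mul_orderOf_of_coprime hcop
  have hab : a₀ * b ≠ 1 := by
    intro h
    rw [h, orderOf_one] at h1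
    have := (ho a₀ ha₀).one_lt
    have := (ho b hb).one_lt
    nlinarith
  have h2 := ho (a₀ * b) hab
  rw [h1] at h2
  exact Nat.not_prime_mul (ho a₀ ha₀).one_lt.ne' (ho b hb).one_lt.ne' h2

/-- Case I of S3904. -/
theorem elementary_of_second_center [Finite G] (h : ∀ x : G, x ∉ center G → IsCoatom (cz x))
    {a : G} (ha : a ∉ center G) (hac : (a : G ⧸ center G) ∈ center (G ⧸ center G)) :
    ∃ p : ℕ, p.Prime ∧ (∀ q₁ q₂ : G ⧸ center G, q₁ * q₂ = q₂ * q₁) ∧
      ∀ q : G ⧸ center G, q ^ p = 1 := by
  have hn : ∀ x : G, x ∉ center G → (cz x).Normal :=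
    fun x hx => cz_normal_of_second_center h ha hac hx
  have hc := comm_mem_center_of_normal h hn
  have hcomm := quotient_comm_of_normal h hn
  have hord : ∀ q : G ⧸ center G, q ≠ 1 → (orderOf q).Prime := by
    intro q hq
    obtain ⟨x, rfl⟩ := QuotientGroup.mk_surjective q
    have hx : x ∉ center G := fun hx => hq ((QuotientGroup.eq_one_iff x).2 hx)
    have hxn := hn x hx
    have hpr := normal_coatom_index_prime (h x hx)
    have hpow : (x : G ⧸ center G) ^ (cz x).index = 1 := by
      rw [← QuotientGroup.mk_pow]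
      exact (QuotientGroup.eq_one_iff _).2 (pow_index_mem_center (hn x hx) hc)
    have := orderOf_dvd_of_pow_eq_one hpow
    rcases (Nat.dvd_prime hpr).1 this with h1 | h1
    · exact absurd (orderOf_eq_one_iff.1 h1) hq
    · rw [h1]
      exact hpr
  obtain ⟨p, hp, hpp⟩ := exists_prime_exponent_of_comm hcomm hord
  exact ⟨p, hp, hcomm, hpp⟩

end CentMaxD

end Cfsg.Agent.Lib.helper68
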