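import Cfsg.Agent.Lib.helper68.CentMaxD

set_option autoImplicit false

namespace Cfsg.Agent.Lib.helper68

open Subgroup

section CentMaxE

/-- Structure of a nontrivial finite group in which all centralizers of nonidentity elements
are maximal. -/
theorem structure_of_coatom_centralizers {H : Type*} [Group H] [Finite H] [Nontrivial H]
    (hH : ∀ g : H, g ≠ 1 → IsCoatom (cz g)) :
    ¬ IsMulCommutative H ∧ (∀ L : Subgroup H, L ≠ ⊤ → IsMulCommutative L) ∧
      ∃ p q a : ℕ, p.Prime ∧ q.Prime ∧ p ≠ q ∧ Nat.card H = p ^ a * q ∧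
        ∀ P : Subgroup H, Nat.card P = p ^ a → P.Normal := by
  obtain ⟨K, hKn, hKco, hKab, hKcz⟩ := exists_normal_abelian_coatom hH
  have hcen : ∀ z ∈ center H, z = 1 := by
    intro z hz
    by_contra hz1
    exact (hH z hz1).1 (cz_eq_top_of_mem_center hz)
  have hnc : ¬ IsMulCommutative H := by
    intro hc
    obtain ⟨g, hg⟩ := exists_ne (1 : H)
    apply hg
    apply hcen
    rw [Subgroup.mem_center_iff]
    intro k
    exact hc.is_comm.comm k g
  have hKbot : K ≠ ⊥ := by
    intro hK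
    obtain ⟨g, hg⟩ := exists_ne (1 : H)
    have h1 : (⊥ : Subgroup H) < cz g := by
      rw [bot_lt_iff_ne_bot]
      intro h
      have := self_mem_cz g
      rw [h, Subgroup.mem_bot] at this
      exact hg this
    rw [← hK] at h1
    exact (hH g hg).1 (hKco.2 _ h1)
  obtain ⟨g, hg⟩ := coatom_exists_not_mem hKco
  have hg1 : g ≠ 1 := by
    rintro rfl
    exact hg (one_mem _)
  have hCK : ∀ b ∈ cz g, b ∈ K → b = 1 := by
    intro b hb hbK
    by_contra hb1
    have := hKcz b hbK hb1
    apply hg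
    rw [← this]
    exact mem_cz.2 (mem_cz.1 hb).symm
  have hmin : ∀ B : Subgroup H, B.Normal → B ≤ K → B ≠ ⊥ → B = K := by
    intro B hBn hBK hB
    have hlt : cz g < cz g ⊔ B := by
      refine lt_of_le_of_ne le_sup_left ?_
      intro h
      apply hB
      rw [eq_bot_iff]
      intro b hb
      have hbC : b ∈ cz g := by
        rw [h]
        exact mem_sup_right hb
      exact (Subgroup.mem_bot).2 (hCK b hbC (hBK hb))
    have htop := (hH g hg1).2 _ hlt
    apply le_antisymm hBK
    intro k hk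
    have hk' : k ∈ cz g ⊔ B := by rw [htop]; trivial
    obtain ⟨c, hc, b, hb, rfl⟩ := (mem_sup_of_normal_right (ht := hBn)).1 hk'
    have hcK : c ∈ K := by
      have := K.mul_mem hk (K.inv_mem (hBK hb))
      simpa using this
    have := hCK c hc hcK
    rw [this, one_mul]
    exact hb
  have hKcard : Nat.card K ≠ 1 := fun h => hKbot (Subgroup.card_eq_one.1 h)
  obtain ⟨p, hp, hpd⟩ := Nat.exists_prime_and_dvd hKcard
  have hpf : Fact p.Prime := ⟨hp⟩
  let B : Subgroup H :=
    { carrier := {k | k ∈ K ∧ k ^ p = 1}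
      one_mem' := ⟨K.one_mem, one_pow p⟩
      mul_mem' := by
        rintro a b ⟨ha, ha'⟩ ⟨hb, hb'⟩
        refine ⟨K.mul_mem ha hb, ?_⟩
        rw [(show Commute a b from hKab a ha b hb).mul_pow, ha', hb', one_mul]
      inv_mem' := by
        rintro a ⟨ha, ha'⟩
        exact ⟨K.inv_mem ha, by rw [inv_pow, ha', inv_one]⟩ }
  have hBn : B.Normal := ⟨by
    rintro k ⟨hk, hk'⟩ h
    refine ⟨hKn.conj_mem k hk h, ?_⟩
    rw [conj_pow, hk']
    simp⟩
  have hBK : B ≤ K := fun k hk => hk.1
  have hBbot : B ≠ ⊥ := by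
    obtain ⟨k, hk⟩ := exists_prime_orderOf_dvd_card' (G := K) p hpd
    intro hB
    have hkB : (k : H) ∈ B := by
      refine ⟨k.2, ?_⟩
      rw [← Subgroup.coe_pow, ← hk, pow_orderOf_eq_one]
      rfl
    rw [hB, Subgroup.mem_bot] at hkB
    have hk1 : k = 1 := Subtype.ext hkB
    rw [hk1, orderOf_one] at hk
    exact hp.one_lt.ne hk
  have hBeq := hmin B hBn hBK hBbot
  have hKp : ∀ k ∈ K, k ^ p = 1 := by
    intro k hk
    rw [← hBeq] at hk
    exact hk.2
  have hKpg : IsPGroup p K := by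
    intro k
    refine ⟨1, ?_⟩
    apply Subtype.ext
    simp [hKp k k.2]
  obtain ⟨a, ha⟩ := IsPGroup.iff_card.1 hKpg
  have hq := normal_coatom_index_prime hKco
  have hcard : Nat.card H = p ^ a * K.index := by
    rw [← ha]
    exact (Subgroup.card_mul_index K).symm
  have hpq : p ≠ K.index := by
    intro hpq
    rw [← hpq] at hcard
    have hHp : IsPGroup p H := IsPGroup.of_card (n := a + 1) (by rw [hcard, pow_succ])
    have hnt : Nontrivial (center H) := hHp.center_nontrivial
    obtain ⟨z, hz⟩ := exists_ne (1 : center H)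
    exact hz (Subtype.ext (hcen z z.2))
  refine ⟨hnc, ?_, p, K.index, a, hp, hq, hpq, hcard, ?_⟩
  · intro L hL
    by_cases hLK : L ≤ K
    · exact ⟨⟨fun a b => Subtype.ext (hKab a (hLK a.2) b (hLK b.2))⟩⟩
    have htop : K ⊔ L = ⊤ := by
      have hlt : K < K ⊔ L := by
        refine lt_of_le_of_ne le_sup_left ?_
        intro h
        apply hLK
        rw [h]
        exact le_sup_right
      exact hKco.2 _ hlt
    have hDn : (L ⊓ K).Normal := ⟨by
      intro n hn h
      have hh : h ∈ K ⊔ L := by rw [htop]; trivial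
      obtain ⟨k, hk, l, hl, rfl⟩ := (mem_sup_of_normal_left (hs := hKn)).1 hh
      have h1 : l * n * l⁻¹ ∈ L := L.mul_mem (L.mul_mem hl hn.1) (L.inv_mem hl)
      have h2 : l * n * l⁻¹ ∈ K := hKn.conj_mem n hn.2 l
      have h3 : k * l * n * (k * l)⁻¹ = l * n * l⁻¹ := by
        have := hKab k hk (l * n * l⁻¹) h2
        calc k * l * n * (k * l)⁻¹ = k * (l * n * l⁻¹) * k⁻¹ := by group
          _ = (l * n * l⁻¹) * k * k⁻¹ := by rw [this]
          _ = l * n * l⁻¹ := by group
      rw [h3]
      exact ⟨h1, h2⟩⟩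
    have hD : L ⊓ K = ⊥ := by
      by_contra hD
      have := hmin (L ⊓ K) hDn inf_le_right hD
      have hKL : K ≤ L := by
        rw [← this]
        exact inf_le_left
      rcases hKco.le_iff.1 hKL with h1 | h1
      · exact hL h1
      · exact hLK (le_of_eq h1)
    refine ⟨⟨fun a b => ?_⟩⟩
    have h1 : (a : H) * b * (a : H)⁻¹ * (b : H)⁻¹ ∈ L ⊓ K := by
      refine ⟨?_, normal_coatom_comm_mem hKco _ _⟩
      exact L.mul_mem (L.mul_mem (L.mul_mem a.2 b.2) (L.inv_mem a.2)) (L.inv_mem b.2)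
    rw [hD, Subgroup.mem_bot] at h1
    apply Subtype.ext
    have h2 : (a : H) * b * (a : H)⁻¹ = b := mul_inv_eq_one.1 h1
    exact mul_inv_eq_iff_eq_mul.1 h2
  · intro P hP
    have hPK : P ≤ K := by
      intro x hx
      have h1 : x ^ (p ^ a) = 1 := by
        have := pow_card_eq_one' (G := P) (x := ⟨x, hx⟩)
        rw [hP] at this
        exact congrArg Subtype.val this
      have h2 : x ^ K.index ∈ K := Subgroup.pow_index_mem K x
      rw [← QuotientGroup.eq_one_iff]
      have h3 : (x : H ⧸ K) ^ (p ^ a) = 1 := by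
        rw [← QuotientGroup.mk_pow, h1]
        rfl
      have h4 : (x : H ⧸ K) ^ K.index = 1 := by
        rw [← QuotientGroup.mk_pow]
        exact (QuotientGroup.eq_one_iff _).2 h2
      have h5 : orderOf (x : H ⧸ K) ∣ Nat.gcd (p ^ a) K.index :=
        Nat.dvd_gcd (orderOf_dvd_of_pow_eq_one h3) (orderOf_dvd_of_pow_eq_one h4)
      have h6 : Nat.gcd (p ^ a) K.index = 1 :=
        Nat.Coprime.pow_left a ((Nat.coprime_primes hp hq).2 hpq)
      rw [h6, Nat.dvd_one] at h5
      exact orderOf_eq_one_iff.1 h5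
    have hPeq : P = K := Subgroup.eq_of_le_of_card_ge hPK (by rw [hP, ha])
    rw [hPeq]
    exact hKn

end CentMaxE

end Cfsg.Agent.Lib.helper68
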