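import Mathlib

/-!
# Free modules over a Frobenius complement: basic bookkeeping

`FreeSub ρH U` says that the subspace `U` is spanned by the `H`-translates of a subspace `W`
with `|H| · dim W ≤ dim U` (so that the sum is direct).
-/

namespace Cfsg.Agent.Lib.helper68.FF

open Module

variable {k : Type*} [Field k]
variable {V : Type*} [AddCommGroup V] [Module k V] {H : Type*} [Group H]

/-- `U` is a free `k[H]`-module, in dimension-count form. -/
def FreeSub (ρH : H →* (V →ₗ[k] V)) (U : Submodule k V) : Prop :=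
  ∃ W : Submodule k V, (⨆ h : H, W.map (ρH h)) = U ∧
    Nat.card H * finrank k W ≤ finrank k U

theorem isInternal_of_freeSub [FiniteDimensional k V] [Finite H] [DecidableEq H]
    (ρH : H →* (V →ₗ[k] V)) (h : FreeSub ρH ⊤) :
    ∃ W : Submodule k V, DirectSum.IsInternal (fun h : H => W.map (ρH h)) := by
  obtain ⟨W, hsup, hdim⟩ := h
  refine ⟨W, ?_⟩
  have := Fintype.ofFinite H
  set A : H → Submodule k V := fun h => W.map (ρH h) with hA
  have hsurj : Function.Surjective (DirectSum.coeLinearMap A) := by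
    rw [← LinearMap.range_eq_top, DirectSum.range_coeLinearMap]
    exact hsup
  have hfin : finrank k (DirectSum H fun h => A h) ≤ finrank k V := by
    rw [Module.finrank_directSum]
    calc ∑ h, finrank k (A h) ≤ ∑ _h : H, finrank k W :=
          Finset.sum_le_sum (fun h _ => Submodule.finrank_map_le _ _)
      _ = Nat.card H * finrank k W := by simp [Nat.card_eq_fintype_card]
      _ ≤ finrank k (⊤ : Submodule k V) := hdim
      _ = finrank k V := finrank_top k V
  have hle : finrank k V ≤ finrank k (DirectSum H fun h => A h) :=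
    LinearMap.finrank_le_finrank_of_surjective hsurj
  have hinj : Function.Injective (DirectSum.coeLinearMap A) :=
    (LinearMap.injective_iff_surjective_of_finrank_eq_finrank (le_antisymm hfin hle)).mpr hsurj
  exact ⟨hinj, hsurj⟩

/-- restriction of a representation to an invariant subspace -/
def restrictRep {G : Type*} [Group G] (ρ : G →* (V →ₗ[k] V)) (U : Submodule k V)
    (hU : ∀ g, ∀ v ∈ U, ρ g v ∈ U) : G →* (U →ₗ[k] U) where
  toFun g := (ρ g).restrict (hU g)
  map_one' := by ext u; simp
  map_mul' := by intro a b; ext u; simp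

@[simp] theorem restrictRep_apply {G : Type*} [Group G] (ρ : G →* (V →ₗ[k] V)) (U : Submodule k V)
    (hU : ∀ g, ∀ v ∈ U, ρ g v ∈ U) (g : G) (u : U) :
    ((restrictRep ρ U hU g u : U) : V) = ρ g u := rfl

theorem freeSub_of_restrict [FiniteDimensional k V] (ρH : H →* (V →ₗ[k] V)) (U : Submodule k V)
    (ρH' : H →* (U →ₗ[k] U)) (hρ' : ∀ h (u : U), ((ρH' h u : U) : V) = ρH h u)
    (h : FreeSub ρH' ⊤) : FreeSub ρH U := by
  obtain ⟨W', hsup, hdim⟩ := h
  refine ⟨W'.map U.subtype, ?_, ?_⟩
  · have key : ∀ h : H, (W'.map U.subtype).map (ρH h) = (W'.map (ρH' h)).map U.subtype := by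
      intro h
      rw [← Submodule.map_comp, ← Submodule.map_comp]
      congr 1
      ext u
      simp [hρ']
    simp_rw [key]
    rw [← Submodule.map_iSup, hsup, Submodule.map_subtype_top]
  · rw [finrank_top] at hdim
    have e : finrank k (W'.map U.subtype) = finrank k W' :=
      (LinearEquiv.finrank_eq (Submodule.equivMapOfInjective U.subtype
        (Submodule.injective_subtype U) W')).symm
    rw [e]; exact hdim

theorem freeSub_sup [FiniteDimensional k V] (ρH : H →* (V →ₗ[k] V)) (U₁ U₂ : Submodule k V)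
    (hdisj : U₁ ⊓ U₂ = ⊥) (h1 : FreeSub ρH U₁) (h2 : FreeSub ρH U₂) :
    FreeSub ρH (U₁ ⊔ U₂) := by
  obtain ⟨W₁, hs1, hd1⟩ := h1
  obtain ⟨W₂, hs2, hd2⟩ := h2
  refine ⟨W₁ ⊔ W₂, ?_, ?_⟩
  · simp_rw [Submodule.map_sup]
    rw [iSup_sup_eq, hs1, hs2]
  · have h3 : finrank k (W₁ ⊔ W₂ : Submodule k V) ≤ finrank k W₁ + finrank k W₂ :=
      Submodule.finrank_add_le_finrank_add_finrank W₁ W₂
    have hU : finrank k (U₁ ⊔ U₂ : Submodule k V) = finrank k U₁ + finrank k U₂ := by
      have h4 := Submodule.finrank_sup_add_finrank_inf_eq U₁ U₂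
      rw [hdisj] at h4; simpa using h4
    rw [hU]
    calc Nat.card H * finrank k (W₁ ⊔ W₂ : Submodule k V)
        ≤ Nat.card H * (finrank k W₁ + finrank k W₂) := Nat.mul_le_mul_left _ h3
      _ = Nat.card H * finrank k W₁ + Nat.card H * finrank k W₂ := by ring
      _ ≤ _ := Nat.add_le_add hd1 hd2

theorem range_sup_range_one_sub {ε : V →ₗ[k] V} :
    LinearMap.range ε ⊔ LinearMap.range (1 - ε) = ⊤ := by
  rw [eq_top_iff]
  intro v _
  have : v = ε v + (1 - ε) v := by simp
  rw [this]
  exact Submodule.add_mem_sup (LinearMap.mem_range_self _ _) (LinearMap.mem_range_self _ _)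

theorem range_inf_range_one_sub {ε : V →ₗ[k] V} (hε : ε * ε = ε) :
    LinearMap.range ε ⊓ LinearMap.range (1 - ε) = ⊥ := by
  rw [eq_bot_iff]
  rintro x ⟨⟨a, rfl⟩, ⟨b, hb⟩⟩
  have h1 : ε (ε a) = ε a := by
    have := congrArg (fun f : V →ₗ[k] V => f a) hε
    simpa using this
  have h2 : ε (ε a) = 0 := by
    rw [← hb]
    have := congrArg (fun f : V →ₗ[k] V => f b) hε
    simp only [Module.End.mul_apply] at this
    simp [this]
  rw [Submodule.mem_bot, ← h1, h2]

/-- split along an idempotent commuting with the `H`-action -/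
theorem freeSub_top_of_idem [FiniteDimensional k V] (ρH : H →* (V →ₗ[k] V)) {ε : V →ₗ[k] V}
    (hε : ε * ε = ε) (h1 : FreeSub ρH (LinearMap.range ε))
    (h2 : FreeSub ρH (LinearMap.range (1 - ε))) : FreeSub ρH ⊤ := by
  have := freeSub_sup ρH _ _ (range_inf_range_one_sub hε) h1 h2
  rwa [range_sup_range_one_sub] at this

theorem freeSub_top_of_subsingleton [Subsingleton V] (ρH : H →* (V →ₗ[k] V)) : FreeSub ρH ⊤ := by
  refine ⟨⊥, ?_, ?_⟩
  · exact Subsingleton.elim _ _
  · simp

/-- a finite `p`-group acting linearly in characteristic `p` on a nonzero space fixes a nonzero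
vector -/
theorem exists_fixed_of_pgroup {P : Type*} [Group P] [Finite P] {p : ℕ} [Fact p.Prime]
    (hP : IsPGroup p P) (hp : (p : k) = 0) (ρP : P →* (V →ₗ[k] V)) [Nontrivial V] :
    ∃ v : V, v ≠ 0 ∧ ∀ x, ρP x v = v := by
  obtain ⟨v₀, hv₀⟩ := exists_ne (0 : V)
  let M : AddSubgroup V := AddSubgroup.closure (Set.range fun x : P => ρP x v₀)
  have hinv : ∀ y : P, ∀ m ∈ M, ρP y m ∈ M := by
    intro y m hm
    induction hm using AddSubgroup.closure_induction with
    | mem m hm =>
      obtain ⟨x, rfl⟩ := hm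
      apply AddSubgroup.subset_closure
      exact ⟨y * x, by simp [map_mul]⟩
    | zero => rw [map_zero]; exact M.zero_mem
    | add a b _ _ ha hb => rw [map_add]; exact M.add_mem ha hb
    | neg a _ ha => rw [map_neg]; exact M.neg_mem ha
  have hpm : ∀ m : V, p • m = 0 := by
    intro m; rw [← Nat.cast_smul_eq_nsmul k, hp, zero_smul]
  have hfg : AddGroup.FG M := AddGroup.closure_finite_fg _
  have htor : IsAddTorsion M := by
    intro m
    rw [isOfFinAddOrder_iff_nsmul_eq_zero]
    exact ⟨p, (Fact.out : p.Prime).pos, Subtype.ext (by simpa using hpm m)⟩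
  have hfin : Finite M := AddCommGroup.finite_of_fg_isAddTorsion M htor
  let iS : SMul P M := ⟨fun y m => ⟨ρP y m, hinv y m m.2⟩⟩
  have smul_def : ∀ (y : P) (m : M), ((y • m : M) : V) = ρP y m := fun _ _ => rfl
  let _iM : MulAction P M :=
    { one_smul := fun m => Subtype.ext (by rw [smul_def]; simp)
      mul_smul := fun a b m => Subtype.ext (by
        rw [smul_def, smul_def, smul_def, map_mul]; rfl) }
  have hv₀M : v₀ ∈ M := AddSubgroup.subset_closure ⟨1, by simp⟩
  have hcard : p ∣ Nat.card M := by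
    have h1 : addOrderOf (⟨v₀, hv₀M⟩ : M) = p := by
      apply addOrderOf_eq_prime
      · exact Subtype.ext (by simpa using hpm v₀)
      · intro h; exact hv₀ (congrArg Subtype.val h)
    rw [← h1]; exact addOrderOf_dvd_natCard _
  obtain ⟨b, hb, hne⟩ := hP.exists_fixed_point_of_prime_dvd_card_of_fixed_point M hcard (a := 0)
    (by intro y; exact Subtype.ext (map_zero _))
  refine ⟨b, ?_, ?_⟩
  · intro h; exact hne (Subtype.ext h.symm)
  · intro x
    have := hb x
    exact congrArg Subtype.val this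

end Cfsg.Agent.Lib.helper68.FF
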