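import Mathlib

/-!
# Normal basis with a trace-dual family, for a finite group acting faithfully on a field
-/

namespace Cfsg.Agent.Lib.helper68.FF

open Module

theorem exists_normal_dual {K : Type*} [Field K] {H : Type*} [Group H] [Fintype H]
    [DecidableEq H] [MulSemiringAction H K] [FaithfulSMul H K] :
    ∃ (θ : K) (y : H → K), ∀ g g' : H,
      ∑ t : H, (t • y g) * ((t * g') • θ) = if g = g' then 1 else 0 := by
  let L := FixedPoints.subfield H K
  have : FiniteDimensional L K := inferInstance
  have : IsGalois L K := inferInstance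
  let e : H ≃* (K ≃ₐ[L] K) := FixedPoints.toAlgAutMulEquiv H K
  have he : ∀ (h : H) (x : K), e h x = h • x := fun h x => rfl
  obtain ⟨θ, hθ⟩ := exists_linearIndependent_algEquiv_apply L K
  have hli : LinearIndependent L (fun h : H => h • θ) := by
    have h1 := hθ.comp e e.injective
    exact h1
  have hcard : Fintype.card H = finrank L K := (FixedPoints.finrank_eq_card H K).symm
  let b : Basis H L K := basisOfLinearIndependentOfCardEqFinrank hli hcard
  have hb : ∀ h, b h = h • θ := fun h => by
    simp [b]
  have hnd := traceForm_nondegenerate L K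
  let d := (Algebra.traceForm L K).dualBasis hnd b
  refine ⟨θ, fun g => d g, ?_⟩
  intro g g'
  have h1 : Algebra.traceForm L K (d g) (b g') = if g' = g then 1 else 0 :=
    LinearMap.BilinForm.apply_dualBasis_left hnd b g g'
  rw [Algebra.traceForm_apply] at h1
  have h2 := trace_eq_sum_automorphisms (K := L) (d g * b g')
  rw [h1] at h2
  have h3 : ∑ σ : K ≃ₐ[L] K, σ (d g * b g') = ∑ t : H, (t • d g) * ((t * g') • θ) := by
    rw [← Equiv.sum_comp e.toEquiv]
    apply Finset.sum_congr rfl
    intro t _
    show e t (d g * b g') = _
    rw [he, hb, smul_mul', mul_smul]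
  rw [← h3, ← h2]
  by_cases hgg : g = g'
  · subst hgg; simp
  · have : ¬ g' = g := fun h => hgg h.symm
    simp [hgg, this]

end Cfsg.Agent.Lib.helper68.FF
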