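import Mathlib
import Cfsg.Agent.Lib.helper68.FrobFreeA
import Cfsg.Agent.Lib.helper68.FrobFreeB

/-!
# Free modules over a Frobenius complement: the abelian coprime case, operator algebra part
-/

namespace Cfsg.Agent.Lib.helper68.FF

open Module

variable {k : Type*} [Field k]
variable {V : Type*} [AddCommGroup V] [Module k V]

/-- Maschke by averaging: an equivariant projection onto an invariant subspace. -/
theorem exists_equivariant_proj {G : Type*} [Group G] [Finite G] (hG : (Nat.card G : k) ≠ 0)
    (ρG : G →* (V →ₗ[k] V)) (N : Submodule k V) (hN : ∀ g, ∀ v ∈ N, ρG g v ∈ N) :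
    ∃ P : V →ₗ[k] V, (∀ v, P v ∈ N) ∧ (∀ v ∈ N, P v = v) ∧ ∀ g, P * ρG g = ρG g * P := by
  classical
  have := Fintype.ofFinite G
  obtain ⟨C, hC⟩ := Submodule.exists_isCompl N
  let P₀ : V →ₗ[k] V := N.subtype ∘ₗ Submodule.projectionOnto N C hC
  have hP₀N : ∀ v, P₀ v ∈ N := fun v => (Submodule.projectionOnto N C hC v).2
  have hP₀id : ∀ v ∈ N, P₀ v = v := by
    intro v hv
    have h0 := Submodule.projectionOnto_apply_left hC ⟨v, hv⟩
    show ((Submodule.projectionOnto N C hC v : N) : V) = v
    have h1 := congrArg Subtype.val h0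
    exact h1
  have hinv : ∀ (g : G) (v : V), ρG g (ρG g⁻¹ v) = v := by
    intro g v
    rw [← Module.End.mul_apply, ← map_mul, mul_inv_cancel, map_one]; rfl
  have hinv' : ∀ (g : G) (v : V), ρG g⁻¹ (ρG g v) = v := by
    intro g v
    rw [← Module.End.mul_apply, ← map_mul, inv_mul_cancel, map_one]; rfl
  let P : V →ₗ[k] V := (Nat.card G : k)⁻¹ • ∑ g : G, ρG g * P₀ * ρG g⁻¹
  have hPapp : ∀ v, P v = (Nat.card G : k)⁻¹ • ∑ g : G, ρG g (P₀ (ρG g⁻¹ v)) := by
    intro v
    simp [P, LinearMap.sum_apply]
  refine ⟨P, ?_, ?_, ?_⟩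
  · intro v
    rw [hPapp]
    apply N.smul_mem
    apply N.sum_mem
    intro g _
    exact hN g _ (hP₀N _)
  · intro v hv
    rw [hPapp]
    have : ∀ g : G, ρG g (P₀ (ρG g⁻¹ v)) = v := by
      intro g
      rw [hP₀id _ (hN g⁻¹ v hv), hinv]
    simp only [this, Finset.sum_const, Finset.card_univ, ← Nat.card_eq_fintype_card]
    rw [← Nat.cast_smul_eq_nsmul k, smul_smul, inv_mul_cancel₀ hG, one_smul]
  · intro g
    ext v
    simp only [Module.End.mul_apply, hPapp, map_smul, map_sum]
    congr 1
    rw [← Equiv.sum_comp (Equiv.mulLeft g)]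
    apply Finset.sum_congr rfl
    intro x _
    simp only [Equiv.coe_mulLeft, mul_inv_rev, map_mul, Module.End.mul_apply, hinv']

variable {G : Type*} [CommGroup G]

/-- the algebra map from the group algebra -/
noncomputable abbrev piG (ρG : G →* (V →ₗ[k] V)) : MonoidAlgebra k G →ₐ[k] (Module.End k V) :=
  MonoidAlgebra.lift k (Module.End k V) G ρG

theorem comm_piG (ρG : G →* (V →ₗ[k] V)) (P : V →ₗ[k] V) (hP : ∀ g, P * ρG g = ρG g * P)
    (r : MonoidAlgebra k G) : P * piG ρG r = piG ρG r * P := by
  induction r using MonoidAlgebra.induction_on with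
  | of m => simpa [MonoidAlgebra.lift_of] using hP m
  | add x y hx hy => rw [map_add, mul_add, add_mul, hx, hy]
  | smul c x hx => rw [map_smul, mul_smul_comm, smul_mul_assoc, hx]

theorem conj_piG {H : Type*} [Group H] (ρG : G →* (V →ₗ[k] V)) (ρH : H →* (V →ₗ[k] V))
    (c : H → G →* G) (compat : ∀ h g, ρH h * ρG g = ρG (c h g) * ρH h) (h : H)
    (r : MonoidAlgebra k G) :
    ρH h * piG ρG r = piG ρG (MonoidAlgebra.mapDomainAlgHom k k (c h) r) * ρH h := by
  induction r using MonoidAlgebra.induction_on with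
  | of m =>
    simpa [MonoidAlgebra.of_apply, MonoidAlgebra.mapDomain_single] using compat h m
  | add x y hx hy => rw [map_add, mul_add, hx, hy, map_add, map_add, add_mul]
  | smul c x hx => rw [map_smul, mul_smul_comm, hx, map_smul, map_smul, smul_mul_assoc]

theorem piG_comm (ρG : G →* (V →ₗ[k] V)) (r s : MonoidAlgebra k G) :
    piG ρG r * piG ρG s = piG ρG s * piG ρG r := by
  rw [← map_mul, ← map_mul, mul_comm]

/-- no nilpotents in the image of the group algebra (coprime case) -/
theorem piG_eq_zero_of_sq [Finite G] (hG : (Nat.card G : k) ≠ 0) (ρG : G →* (V →ₗ[k] V))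
    (r : MonoidAlgebra k G) (hsq : piG ρG r * piG ρG r = 0) : piG ρG r = 0 := by
  set b := piG ρG r with hb
  have hbg : ∀ g, b * ρG g = ρG g * b := by
    intro g
    have := piG_comm ρG r (MonoidAlgebra.of k G g)
    simpa [MonoidAlgebra.lift_of] using this
  have hN : ∀ g, ∀ v ∈ LinearMap.range b, ρG g v ∈ LinearMap.range b := by
    rintro g _ ⟨w, rfl⟩
    refine ⟨ρG g w, ?_⟩
    have := congrArg (fun f : V →ₗ[k] V => f w) (hbg g)
    simpa using this
  obtain ⟨P, hPN, hPid, hPc⟩ := exists_equivariant_proj hG ρG (LinearMap.range b) hN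
  have hPb : P * b = b * P := comm_piG ρG P hPc r
  ext v
  have h1 : P (b v) = b v := hPid _ ⟨v, rfl⟩
  have h2 : b (P v) = 0 := by
    obtain ⟨w, hw⟩ := hPN v
    rw [← hw]
    have := congrArg (fun f : V →ₗ[k] V => f w) hsq
    simpa using this
  have h3 := congrArg (fun f : V →ₗ[k] V => f v) hPb
  simp only [Module.End.mul_apply] at h3
  rw [LinearMap.zero_apply, ← h1, h3, h2]

/-- Galois descent: a field `K` of operators normalised by a faithfully acting finite group `H`
makes the space a free `k[H]`-module. -/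
theorem freeSub_of_field_action [FiniteDimensional k V] {H : Type*} [Group H] [Finite H]
    (ρH : H →* (V →ₗ[k] V)) {K : Type*} [Field K] [Algebra k K]
    [MulSemiringAction H K] [FaithfulSMul H K]
    (ι : K →ₐ[k] Module.End k V)
    (hσ : ∀ (h : H) (x : K), ρH h * ι x = ι (h • x) * ρH h) : FreeSub ρH ⊤ := by
  classical
  have := Fintype.ofFinite H
  obtain ⟨θ, y, hθy⟩ := exists_normal_dual (K := K) (H := H)
  let Xm : Matrix H H K := Matrix.of fun t g => (t * g) • θ
  let Ym : Matrix H H K := Matrix.of fun g t => t • y g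
  have hYX : Ym * Xm = 1 := by
    ext g g'
    simp only [Matrix.mul_apply, Xm, Ym, Matrix.one_apply, Matrix.of_apply]
    exact hθy g g'
  have hXY : Xm * Ym = 1 := mul_eq_one_comm.mp hYX
  have hXY' : ∀ t r : H, ∑ g, ((t * g) • θ) * (r • y g) = if t = r then 1 else 0 := by
    intro t r
    have h1 := congrFun (congrFun hXY t) r
    simp only [Matrix.mul_apply, Xm, Ym, Matrix.one_apply, Matrix.of_apply] at h1
    exact h1
  let Θ : H → Module.End k V := fun g => ι (g • θ)
  let Y : H → H → Module.End k V := fun s g => ι (s • y g)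
  have hΘ : ∀ (s g : H) (v : V), ρH s (Θ g v) = Θ (s * g) (ρH s v) := by
    intro s g v
    have h1 := congrArg (fun f : Module.End k V => f v) (hσ s (g • θ))
    simp only [Module.End.mul_apply] at h1
    rw [← mul_smul] at h1
    exact h1
  have hY : ∀ (s g : H) (v : V), ρH s (ι (y g) v) = Y s g (ρH s v) := by
    intro s g v
    have h1 := congrArg (fun f : Module.End k V => f v) (hσ s (y g))
    simpa only [Module.End.mul_apply] using h1
  let VH : Submodule k V := ⨅ h : H, LinearMap.ker (ρH h - 1)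
  have hVH : ∀ v, v ∈ VH ↔ ∀ h, ρH h v = v := by
    intro v
    simp [VH, Submodule.mem_iInf, LinearMap.mem_ker, sub_eq_zero]
  let W : Submodule k V := VH.map (Θ 1)
  refine ⟨W, ?_, ?_⟩
  · rw [eq_top_iff]
    intro v _
    let u : H → V := fun g => ∑ s, ρH s (ι (y g) v)
    have hu : ∀ g, u g ∈ VH := by
      intro g
      rw [hVH]
      intro t
      simp only [u, map_sum]
      rw [← Equiv.sum_comp (Equiv.mulLeft t) (fun s => ρH s (ι (y g) v))]
      apply Finset.sum_congr rfl
      intro s _
      simp only [Equiv.coe_mulLeft, map_mul, Module.End.mul_apply]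
    have hv : v = ∑ g, ρH g (Θ 1 (u g)) := by
      have h1 : ∀ g, ρH g (Θ 1 (u g)) = ∑ s, ι ((g • θ) * (s • y g)) (ρH s v) := by
        intro g
        rw [hΘ, mul_one, (hVH _).mp (hu g) g]
        simp only [u, map_sum]
        apply Finset.sum_congr rfl
        intro s _
        rw [hY, map_mul]
        rfl
      simp only [h1]
      rw [Finset.sum_comm]
      have h2 : ∀ s : H, ∑ g, ι ((g • θ) * (s • y g)) (ρH s v)
          = ι (if (1 : H) = s then 1 else 0) (ρH s v) := by
        intro s
        rw [← hXY' 1 s, map_sum, LinearMap.sum_apply]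
        simp only [one_mul]
      simp only [h2]
      rw [Finset.sum_eq_single (1 : H)]
      · simp
      · intro s _ hs
        have : ¬ (1 : H) = s := fun h => hs h.symm
        simp [this]
      · intro h; exact absurd (Finset.mem_univ _) h
    rw [hv]
    apply Submodule.sum_mem
    intro g _
    apply Submodule.mem_iSup_of_mem g
    exact Submodule.mem_map_of_mem (Submodule.mem_map_of_mem (hu g))
  · rw [finrank_top]
    have h1 : finrank k W ≤ finrank k VH := Submodule.finrank_map_le _ _
    let Λ : (H → VH) →ₗ[k] V := ∑ g : H, (Θ g ∘ₗ VH.subtype) ∘ₗ LinearMap.proj g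
    have hΛ : ∀ w : H → VH, Λ w = ∑ g, Θ g (w g) := by
      intro w
      simp [Λ, LinearMap.sum_apply]
    have hinj : Function.Injective Λ := by
      rw [← LinearMap.ker_eq_bot, LinearMap.ker_eq_bot']
      intro w hw
      have h2 : ∀ s : H, ∑ g, Θ (s * g) (w g : V) = 0 := by
        intro s
        have h3 := congrArg (ρH s) hw
        rw [hΛ, map_sum, map_zero] at h3
        rw [← h3]
        apply Finset.sum_congr rfl
        intro g _
        rw [hΘ, (hVH _).mp (w g).2 s]
      funext g'
      have h4 : (w g' : V) = ∑ s, Y s g' (∑ g, Θ (s * g) (w g : V)) := by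
        simp only [map_sum]
        rw [Finset.sum_comm]
        have h5 : ∀ g : H, ∑ s, Y s g' (Θ (s * g) (w g : V))
            = ι (if g' = g then 1 else 0) (w g : V) := by
          intro g
          rw [← hθy g' g, map_sum, LinearMap.sum_apply]
          apply Finset.sum_congr rfl
          intro s _
          rw [map_mul]
          rfl
        simp only [h5]
        rw [Finset.sum_eq_single g']
        · simp
        · intro g _ hg
          have : ¬ g' = g := fun h => hg h.symm
          simp [this]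
        · intro h; exact absurd (Finset.mem_univ _) h
      apply Subtype.ext
      rw [h4]
      simp [h2]
    have h5 := LinearMap.finrank_le_finrank_of_injective hinj
    rw [Module.finrank_pi_fintype] at h5
    simp only [Finset.sum_const, Finset.card_univ, smul_eq_mul] at h5
    calc Nat.card H * finrank k W ≤ Nat.card H * finrank k VH := Nat.mul_le_mul_left _ h1
      _ ≤ finrank k V := by rw [Nat.card_eq_fintype_card]; exact h5

/-- the commutator map `g ↦ g⁻¹ c(g)` of a fixed-point-free endomorphism is onto -/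
theorem comm_map_surjective [Finite G] (c : G →* G) (fpf : ∀ g, c g = g → g = 1) :
    Function.Surjective (fun g : G => g⁻¹ * c g) := by
  have hinj : Function.Injective (fun g : G => g⁻¹ * c g) := by
    intro x y hxy
    simp only at hxy
    have h1 : c (x * y⁻¹) = x * y⁻¹ := by
      rw [map_mul, map_inv]
      have h2 : c x = x * (y⁻¹ * c y) := by rw [← hxy]; group
      rw [h2]; group
    exact mul_inv_eq_one.mp (fpf _ h1)
  exact Finite.injective_iff_surjective.mp hinj

/-- field case: the kernel of the group algebra action is a maximal ideal -/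
theorem freeSub_field_case [FiniteDimensional k V] [Nontrivial V] [Finite G]
    {H : Type*} [Group H] [Finite H]
    (ρG : G →* (V →ₗ[k] V)) (ρH : H →* (V →ₗ[k] V))
    (c : H → G →* G) (compat : ∀ h g, ρH h * ρG g = ρG (c h g) * ρH h)
    (fpf : ∀ h, h ≠ 1 → ∀ g, c h g = g → g = 1)
    (hfix : ∀ v : V, (∀ g, ρG g v = v) → v = 0)
    (hmax : (RingHom.ker (piG ρG)).IsMaximal) : FreeSub ρH ⊤ := by
  classical
  let _iF : Field (MonoidAlgebra k G ⧸ RingHom.ker (piG ρG)) :=
    Ideal.Quotient.field (RingHom.ker (piG ρG))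
  have hι : Function.Injective (Ideal.kerLiftAlg (piG ρG)) := Ideal.kerLiftAlg_injective _
  have hιmk : ∀ r, Ideal.kerLiftAlg (piG ρG) (Ideal.Quotient.mk (RingHom.ker (piG ρG)) r)
      = piG ρG r := fun r => rfl
  have hHinv : ∀ h : H, ρH h * ρH h⁻¹ = 1 := fun h => by
    rw [← map_mul, mul_inv_cancel, map_one]
  have hcancel : ∀ (h : H) (X Y : Module.End k V), X * ρH h = Y * ρH h → X = Y := by
    intro h X Y hXY
    have h1 : X = X * ρH h * ρH h⁻¹ := by rw [mul_assoc, hHinv, mul_one]
    rw [h1, hXY, mul_assoc, hHinv, mul_one]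
  have hct : ∀ h r, ρH h * piG ρG r
      = piG ρG (MonoidAlgebra.mapDomainAlgHom k k (c h) r) * ρH h :=
    conj_piG ρG ρH c compat
  have hker : ∀ h : H, RingHom.ker (piG ρG) ≤ (RingHom.ker (piG ρG)).comap
      (MonoidAlgebra.mapDomainAlgHom k k (c h) : MonoidAlgebra k G →+* MonoidAlgebra k G) := by
    intro h r hr
    rw [Ideal.mem_comap, RingHom.mem_ker]
    have h1 := hct h r
    rw [RingHom.mem_ker.mp hr, mul_zero] at h1
    have h2 : piG ρG (MonoidAlgebra.mapDomainAlgHom k k (c h) r)
        = piG ρG (MonoidAlgebra.mapDomainAlgHom k k (c h) r) * ρH h * ρH h⁻¹ := by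
      rw [mul_assoc, hHinv, mul_one]
    show piG ρG (MonoidAlgebra.mapDomainAlgHom k k (c h) r) = 0
    rw [h2, ← h1, zero_mul]
  let σ : H → (MonoidAlgebra k G ⧸ RingHom.ker (piG ρG)) →+*
      (MonoidAlgebra k G ⧸ RingHom.ker (piG ρG)) := fun h =>
    Ideal.quotientMap (RingHom.ker (piG ρG))
      (MonoidAlgebra.mapDomainAlgHom k k (c h) : MonoidAlgebra k G →+* MonoidAlgebra k G) (hker h)
  have hσ : ∀ h x, ρH h * Ideal.kerLiftAlg (piG ρG) x
      = Ideal.kerLiftAlg (piG ρG) (σ h x) * ρH h := by
    intro h x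
    obtain ⟨r, rfl⟩ := Ideal.Quotient.mk_surjective x
    simp only [σ, Ideal.quotientMap_mk, hιmk]
    exact hct h r
  have hσ_one : ∀ x, σ 1 x = x := by
    intro x
    apply hι
    have h1 := hσ 1 x
    simpa using h1.symm
  have hσ_mul : ∀ a b x, σ (a * b) x = σ a (σ b x) := by
    intro a b x
    apply hι
    have h1 := hσ (a * b) x
    have h2 : ρH (a * b) * Ideal.kerLiftAlg (piG ρG) x
        = Ideal.kerLiftAlg (piG ρG) (σ a (σ b x)) * ρH (a * b) := by
      rw [map_mul, mul_assoc, hσ b x, ← mul_assoc, hσ a, mul_assoc]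
    have h3 : Ideal.kerLiftAlg (piG ρG) (σ (a * b) x) * ρH (a * b)
        = Ideal.kerLiftAlg (piG ρG) (σ a (σ b x)) * ρH (a * b) := by rw [← h1, h2]
    exact hcancel _ _ _ h3
  let _iA : MulSemiringAction H (MonoidAlgebra k G ⧸ RingHom.ker (piG ρG)) :=
    { smul := fun h x => σ h x
      one_smul := hσ_one
      mul_smul := hσ_mul
      smul_zero := fun h => map_zero _
      smul_add := fun h => map_add _
      smul_one := fun h => map_one _
      smul_mul := fun h => map_mul _ }
  have hsmul : ∀ (h : H) (x : MonoidAlgebra k G ⧸ RingHom.ker (piG ρG)), h • x = σ h x :=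
    fun _ _ => rfl
  have _iFa : FaithfulSMul H (MonoidAlgebra k G ⧸ RingHom.ker (piG ρG)) := by
    constructor
    intro a b hab
    by_contra hne
    have hu1 : b⁻¹ * a ≠ 1 := by
      intro h
      exact hne (by rw [← mul_one b, ← h]; group)
    have hux : ∀ x, σ (b⁻¹ * a) x = x := by
      intro x
      have h1 : σ a x = σ b x := hab x
      rw [hσ_mul, h1, ← hσ_mul, inv_mul_cancel, hσ_one]
    have hcomm : ∀ g, ρG (c (b⁻¹ * a) g) = ρG g := by
      intro g
      have h1 := hσ (b⁻¹ * a) (Ideal.Quotient.mk _ (MonoidAlgebra.of k G g))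
      rw [hux, hιmk, MonoidAlgebra.lift_of] at h1
      have h2 := compat (b⁻¹ * a) g
      have h3 : ρG (c (b⁻¹ * a) g) * ρH (b⁻¹ * a) = ρG g * ρH (b⁻¹ * a) := by rw [← h2, h1]
      exact hcancel _ _ _ h3
    have htriv : ∀ g', ρG g' = 1 := by
      intro g'
      obtain ⟨g, rfl⟩ := comm_map_surjective (c (b⁻¹ * a)) (fpf _ hu1) g'
      rw [map_mul, hcomm, ← map_mul, inv_mul_cancel, map_one]
    obtain ⟨v, hv⟩ := exists_ne (0 : V)
    exact hv (hfix v (fun g => by rw [htriv]; rfl))
  exact freeSub_of_field_action ρH (Ideal.kerLiftAlg (piG ρG)) (fun h x => hσ h x)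

theorem exists_min_idem [FiniteDimensional k V] [Nontrivial V] (ρG : G →* (V →ₗ[k] V)) :
    ∃ r : MonoidAlgebra k G, piG ρG r * piG ρG r = piG ρG r ∧ piG ρG r ≠ 0 ∧
      ∀ s : MonoidAlgebra k G, piG ρG s * piG ρG s = piG ρG s → piG ρG s ≠ 0 →
        finrank k (LinearMap.range (piG ρG r)) ≤ finrank k (LinearMap.range (piG ρG s)) := by
  classical
  let S : Set ℕ := {n | ∃ s : MonoidAlgebra k G, piG ρG s * piG ρG s = piG ρG s ∧
    piG ρG s ≠ 0 ∧ finrank k (LinearMap.range (piG ρG s)) = n}
  have hS : S.Nonempty := ⟨_, 1, by simp, by simp, rfl⟩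
  obtain ⟨r, hr1, hr2, hr3⟩ := Nat.sInf_mem hS
  refine ⟨r, hr1, hr2, ?_⟩
  intro s hs1 hs2
  rw [hr3]
  exact Nat.sInf_le ⟨s, hs1, hs2, rfl⟩

theorem min_idem_orth [FiniteDimensional k V] (ρG : G →* (V →ₗ[k] V)) (r s : MonoidAlgebra k G)
    (hr : piG ρG r * piG ρG r = piG ρG r) (hs : piG ρG s * piG ρG s = piG ρG s)
    (hrmin : ∀ t, piG ρG t * piG ρG t = piG ρG t → piG ρG t ≠ 0 →
      finrank k (LinearMap.range (piG ρG r)) ≤ finrank k (LinearMap.range (piG ρG t)))
    (hsmin : ∀ t, piG ρG t * piG ρG t = piG ρG t → piG ρG t ≠ 0 →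
      finrank k (LinearMap.range (piG ρG s)) ≤ finrank k (LinearMap.range (piG ρG t))) :
    piG ρG r * piG ρG s = 0 ∨ piG ρG r = piG ρG s := by
  by_cases h0 : piG ρG r * piG ρG s = 0
  · exact Or.inl h0
  · right
    have hpq : piG ρG r * piG ρG s = piG ρG s * piG ρG r := piG_comm ρG r s
    have hpq' : piG ρG r * piG ρG s = piG ρG (r * s) := (map_mul _ _ _).symm
    have hidem : piG ρG (r * s) * piG ρG (r * s) = piG ρG (r * s) := by
      have h1 : (r * s) * (r * s) = (r * r) * (s * s) := by ring
      rw [← map_mul, h1, map_mul, map_mul, map_mul, hr, hs, ← map_mul]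
    have key : ∀ (a b : Module.End k V), a * b = b * a →
        finrank k (LinearMap.range a) ≤ finrank k (LinearMap.range (a * b)) →
        b * b = b → b * a = a := by
      intro a b hab hfin hb
      have hle : LinearMap.range (a * b) ≤ LinearMap.range a := by
        rintro _ ⟨w, rfl⟩; exact ⟨b w, rfl⟩
      have heq : LinearMap.range (a * b) = LinearMap.range a :=
        Submodule.eq_of_le_of_finrank_le hle hfin
      ext v
      obtain ⟨w, hw⟩ : a v ∈ LinearMap.range (a * b) := heq ▸ ⟨v, rfl⟩
      simp only [Module.End.mul_apply] at hw ⊢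
      rw [← hw]
      have h1 := congrArg (fun f : Module.End k V => f (b w)) hab
      have h2 := congrArg (fun f : Module.End k V => f w) hb
      simp only [Module.End.mul_apply] at h1 h2
      rw [← h1, h2]
    have h1 : piG ρG s * piG ρG r = piG ρG r :=
      key _ _ hpq (by rw [hpq']; exact hrmin _ hidem (by rw [← hpq']; exact h0)) hs
    have h2 : piG ρG r * piG ρG s = piG ρG s :=
      key _ _ hpq.symm (by rw [← hpq, hpq']; exact hsmin _ hidem (by rw [← hpq']; exact h0)) hr
    rw [← h1, ← hpq, h2]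

theorem sum_finrank_range_le [FiniteDimensional k V] (T : Finset (Module.End k V))
    (hidem : ∀ e ∈ T, e * e = e) (horth : ∀ e ∈ T, ∀ e' ∈ T, e ≠ e' → e * e' = 0) :
    ∑ e ∈ T, finrank k (LinearMap.range e) ≤ finrank k V := by
  classical
  let Ψ : V →ₗ[k] (∀ e : T, LinearMap.range (e : Module.End k V)) :=
    LinearMap.pi (fun e => LinearMap.rangeRestrict (e : Module.End k V))
  have hsurj : Function.Surjective Ψ := by
    intro x
    refine ⟨∑ e : T, (x e : V), ?_⟩
    funext e₀
    apply Subtype.ext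
    show (e₀ : Module.End k V) (∑ e : T, (x e : V)) = x e₀
    rw [map_sum, Finset.sum_eq_single e₀]
    · obtain ⟨w, hw⟩ := (x e₀).2
      rw [← hw]
      have := congrArg (fun f : Module.End k V => f w) (hidem e₀ e₀.2)
      simpa using this
    · intro e _ hne
      obtain ⟨w, hw⟩ := (x e).2
      rw [← hw]
      have h1 : (e₀ : Module.End k V) * (e : Module.End k V) = 0 :=
        horth _ e₀.2 _ e.2 (fun h => hne (Subtype.ext h.symm))
      have := congrArg (fun f : Module.End k V => f w) h1
      simpa using this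
    · intro h; exact absurd (Finset.mem_univ _) h
  have h1 := LinearMap.finrank_le_finrank_of_surjective hsurj
  rw [Module.finrank_pi_fintype] at h1
  rw [← Finset.sum_coe_sort T (fun e => finrank k (LinearMap.range e))]
  exact h1

theorem piG_pow_eq_zero [Finite G] (hG : (Nat.card G : k) ≠ 0) (ρG : G →* (V →ₗ[k] V)) :
    ∀ (n : ℕ) (s : MonoidAlgebra k G), piG ρG s ^ n = 0 → piG ρG s = 0 := by
  intro n
  induction n using Nat.strong_induction_on with
  | _ n ih =>
    intro s hs
    rcases Nat.lt_or_ge n 2 with hn | hn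
    · interval_cases n
      · rw [pow_zero] at hs
        rw [← mul_one (piG ρG s), hs, mul_zero]
      · simpa using hs
    · have hm : (n + 1) / 2 < n := by omega
      apply ih _ hm s
      rw [← map_pow]
      apply piG_eq_zero_of_sq hG
      rw [map_pow, ← pow_add]
      have h2 : (n + 1) / 2 + (n + 1) / 2 = n + ((n + 1) / 2 + (n + 1) / 2 - n) := by omega
      rw [h2, pow_add, hs, zero_mul]

theorem ker_isMaximal_of_min_one [FiniteDimensional k V] [Nontrivial V] [Finite G]
    (hG : (Nat.card G : k) ≠ 0) (ρG : G →* (V →ₗ[k] V))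
    (hmin : ∀ s, piG ρG s * piG ρG s = piG ρG s → piG ρG s ≠ 0 →
      finrank k V ≤ finrank k (LinearMap.range (piG ρG s))) :
    (RingHom.ker (piG ρG)).IsMaximal := by
  apply Ideal.Quotient.maximal_of_isField
  have htriv : ∀ s, piG ρG s * piG ρG s = piG ρG s → piG ρG s = 0 ∨ piG ρG s = 1 := by
    intro s hs
    by_cases h0 : piG ρG s = 0
    · exact Or.inl h0
    · right
      have h1 := hmin s hs h0
      have h2 : LinearMap.range (piG ρG s) = ⊤ :=
        Submodule.eq_top_of_finrank_eq (le_antisymm (Submodule.finrank_le _) h1)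
      ext v
      obtain ⟨w, hw⟩ : v ∈ LinearMap.range (piG ρG s) := h2 ▸ Submodule.mem_top
      rw [← hw]
      have := congrArg (fun f : Module.End k V => f w) hs
      simpa using this
  have : IsArtinianRing (MonoidAlgebra k G) := IsArtinianRing.of_finite k (MonoidAlgebra k G)
  refine ⟨⟨0, 1, ?_⟩, mul_comm, ?_⟩
  · intro h01
    have h1 : (1 : MonoidAlgebra k G) ∈ RingHom.ker (piG ρG) := by
      rw [← Ideal.Quotient.eq_zero_iff_mem]; exact h01.symm
    rw [RingHom.mem_ker, map_one] at h1
    exact one_ne_zero h1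
  · intro x hx
    obtain ⟨r, rfl⟩ := Ideal.Quotient.mk_surjective x
    have hr0 : piG ρG r ≠ 0 := by
      intro h; apply hx; rw [Ideal.Quotient.eq_zero_iff_mem, RingHom.mem_ker]; exact h
    obtain ⟨n, y, hy⟩ := IsArtinian.exists_pow_succ_smul_dvd r (1 : MonoidAlgebra k G)
    have hy' : r ^ n = r ^ (n + 1) * y := by simpa using hy.symm
    have hpow : ∀ j, r ^ n = r ^ (n + j) * y ^ j := by
      intro j
      induction j with
      | zero => simp
      | succ j ih =>
        calc r ^ n = r ^ (n + j) * y ^ j := ih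
          _ = r ^ j * r ^ n * y ^ j := by ring
          _ = r ^ j * (r ^ (n + 1) * y) * y ^ j := by rw [← hy']
          _ = r ^ (n + (j + 1)) * y ^ (j + 1) := by ring
    have he : (r ^ n * y ^ n) * (r ^ n * y ^ n) = r ^ n * y ^ n := by
      have h1 := hpow n
      calc (r ^ n * y ^ n) * (r ^ n * y ^ n) = (r ^ (n + n) * y ^ n) * y ^ n := by ring
        _ = r ^ n * y ^ n := by rw [← h1]
    have he' := congrArg (piG ρG) he
    rw [map_mul] at he'
    rcases htriv _ he' with h0 | h1
    · exfalso
      have h2 : piG ρG r ^ n = 0 := by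
        rw [← map_pow]
        conv_lhs => rw [hpow n]
        rw [show r ^ (n + n) * y ^ n = r ^ n * (r ^ n * y ^ n) by ring, map_mul, h0, mul_zero]
      exact hr0 (piG_pow_eq_zero hG ρG n r h2)
    · cases n with
      | zero =>
        refine ⟨Ideal.Quotient.mk _ y, ?_⟩
        rw [← map_mul, ← map_one (Ideal.Quotient.mk _)]
        congr 1
        simpa using hy'.symm
      | succ m =>
        refine ⟨Ideal.Quotient.mk _ (r ^ m * y ^ (m + 1)), ?_⟩
        rw [← map_mul, ← map_one (Ideal.Quotient.mk _), Ideal.Quotient.eq, RingHom.mem_ker,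
          map_sub, map_one, sub_eq_zero, ← h1]
        congr 1
        ring

end Cfsg.Agent.Lib.helper68.FF
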