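import Mathlib
import Cfsg.Agent.Lib.helper68.FrobFreeC

/-!
# Free modules over a Frobenius complement: the abelian coprime case (induction on dimension)
-/

namespace Cfsg.Agent.Lib.helper68.FF

open Module

universe v w

variable {k : Type*} [Field k]
variable {G : Type*} [CommGroup G]

theorem idem_eq_one_of_range_top {V : Type*} [AddCommGroup V] [Module k V] {ε : Module.End k V}
    (hε : ε * ε = ε) (htop : LinearMap.range ε = ⊤) : ε = 1 := by
  ext v
  obtain ⟨w, hw⟩ : v ∈ LinearMap.range ε := htop ▸ Submodule.mem_top
  rw [← hw]
  have := congrArg (fun f : Module.End k V => f w) hε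
  simpa using this

theorem main_ab [Finite G] (hG : (Nat.card G : k) ≠ 0) :
    ∀ (n : ℕ) (V : Type v) [AddCommGroup V] [Module k V] [FiniteDimensional k V]
      (H : Type w) [Group H] [Finite H]
      (ρG : G →* (V →ₗ[k] V)) (ρH : H →* (V →ₗ[k] V))
      (c : H → G →* G) (_ : ∀ h g, ρH h * ρG g = ρG (c h g) * ρH h)
      (_ : ∀ h, h ≠ 1 → ∀ g, c h g = g → g = 1)
      (_ : ∀ v : V, (∀ g, ρG g v = v) → v = 0),
      finrank k V = n → FreeSub ρH ⊤ := by
  intro n
  induction n using Nat.strong_induction_on with
  | _ n ih =>
  intro V _ _ _ H _ _ ρG ρH c compat fpf hfix hn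
  classical
  rcases subsingleton_or_nontrivial V with hV | hV
  · exact freeSub_top_of_subsingleton ρH
  have := Fintype.ofFinite H
  obtain ⟨r, hr1, hr0, hrmin⟩ := exists_min_idem ρG
  by_cases he1 : piG ρG r = 1
  · -- field case
    apply freeSub_field_case ρG ρH c compat fpf hfix
    apply ker_isMaximal_of_min_one hG ρG
    intro s hs hs0
    have h1 := hrmin s hs hs0
    rw [he1] at h1
    have h2 : LinearMap.range (1 : Module.End k V) = ⊤ := LinearMap.range_id
    rw [h2, finrank_top] at h1
    exact h1
  · -- a proper minimal idempotent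
    have hHinv : ∀ h : H, ρH h * ρH h⁻¹ = 1 := fun h => by
      rw [← map_mul, mul_inv_cancel, map_one]
    have hHinv' : ∀ h : H, ρH h⁻¹ * ρH h = 1 := fun h => by
      rw [← map_mul, inv_mul_cancel, map_one]
    have hHinj : ∀ h : H, Function.Injective (ρH h) := by
      intro h
      apply Function.LeftInverse.injective (g := ρH h⁻¹)
      intro v
      have := congrArg (fun f : Module.End k V => f v) (hHinv' h)
      simpa using this
    -- generic splitting along invariant idempotents
    have hsplit : ∀ ε : Module.End k V, (∀ g, ε * ρG g = ρG g * ε) →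
        (∀ h, ρH h * ε = ε * ρH h) → LinearMap.range ε ≠ ⊤ →
        FreeSub ρH (LinearMap.range ε) := by
      intro ε hεG hεH hne
      have hUG : ∀ g, ∀ v ∈ LinearMap.range ε, ρG g v ∈ LinearMap.range ε := by
        rintro g _ ⟨w, rfl⟩
        refine ⟨ρG g w, ?_⟩
        have := congrArg (fun f : Module.End k V => f w) (hεG g)
        simpa using this
      have hUH : ∀ h, ∀ v ∈ LinearMap.range ε, ρH h v ∈ LinearMap.range ε := by
        rintro h _ ⟨w, rfl⟩
        refine ⟨ρH h w, ?_⟩
        have := congrArg (fun f : Module.End k V => f w) (hεH h)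
        simpa using this.symm
      have hlt : finrank k (LinearMap.range ε) < n := by
        rw [← hn]; exact Submodule.finrank_lt hne
      apply freeSub_of_restrict ρH (LinearMap.range ε) (restrictRep ρH _ hUH) (fun h u => rfl)
      apply ih _ hlt (LinearMap.range ε) H (restrictRep ρG _ hUG) (restrictRep ρH _ hUH) c
      · intro h g
        ext u
        have := congrArg (fun f : Module.End k V => f (u : V)) (compat h g)
        simpa using this
      · exact fpf
      · intro u hu
        apply Subtype.ext
        apply hfix
        intro g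
        have := congrArg Subtype.val (hu g)
        simpa using this
      · rfl
    -- conjugation
    let cj : H → Module.End k V → Module.End k V := fun h b => ρH h * b * ρH h⁻¹
    have hcj_mul : ∀ a b x, cj (a * b) x = cj a (cj b x) := by
      intro a b x; simp only [cj, map_mul, mul_inv_rev, mul_assoc]
    have hcj_one : ∀ x, cj 1 x = x := by intro x; simp [cj]
    have hcj_pi : ∀ h s, cj h (piG ρG s)
        = piG ρG (MonoidAlgebra.mapDomainAlgHom k k (c h) s) := by
      intro h s
      simp only [cj]
      rw [conj_piG ρG ρH c compat h s, mul_assoc, hHinv, mul_one]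
    have hcj_comm : ∀ h x, ρH h * x = cj h x * ρH h := by
      intro h x; simp only [cj, mul_assoc, hHinv', mul_one]
    have hcj_idem : ∀ h, cj h (piG ρG r) * cj h (piG ρG r) = cj h (piG ρG r) := by
      intro h
      simp only [cj]
      calc ρH h * piG ρG r * ρH h⁻¹ * (ρH h * piG ρG r * ρH h⁻¹)
          = ρH h * (piG ρG r * (ρH h⁻¹ * ρH h) * piG ρG r) * ρH h⁻¹ := by
            simp only [mul_assoc]
        _ = ρH h * piG ρG r * ρH h⁻¹ := by rw [hHinv', mul_one, hr1]
    have hcj_range : ∀ h x, LinearMap.range (cj h x) = (LinearMap.range x).map (ρH h) := by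
      intro h x
      ext v
      constructor
      · rintro ⟨w, rfl⟩
        exact ⟨x (ρH h⁻¹ w), ⟨_, rfl⟩, rfl⟩
      · rintro ⟨_, ⟨w, rfl⟩, rfl⟩
        refine ⟨ρH h w, ?_⟩
        show ρH h (x (ρH h⁻¹ (ρH h w))) = ρH h (x w)
        have := congrArg (fun f : Module.End k V => f w) (hHinv' h)
        simp only [Module.End.mul_apply, Module.End.one_apply] at this
        rw [this]
    have hcj_rank : ∀ h, finrank k (LinearMap.range (cj h (piG ρG r)))
        = finrank k (LinearMap.range (piG ρG r)) := by
      intro h
      rw [hcj_range]
      exact (LinearEquiv.finrank_eq (Submodule.equivMapOfInjective (ρH h) (hHinj h) _)).symm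
    have hcj_ne : ∀ h, cj h (piG ρG r) ≠ 0 := by
      intro h h0
      apply hr0
      have h1 : piG ρG r = cj h⁻¹ (cj h (piG ρG r)) := by
        rw [← hcj_mul, inv_mul_cancel, hcj_one]
      rw [h1, h0]
      simp [cj]
    have horth : ∀ a b, cj a (piG ρG r) ≠ cj b (piG ρG r) →
        cj a (piG ρG r) * cj b (piG ρG r) = 0 := by
      intro a b hne
      have ha1 := hcj_idem a
      have hb1 := hcj_idem b
      have hmin : ∀ x : H, ∀ t, piG ρG t * piG ρG t = piG ρG t → piG ρG t ≠ 0 →
          finrank k (LinearMap.range (piG ρG (MonoidAlgebra.mapDomainAlgHom k k (c x) r)))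
            ≤ finrank k (LinearMap.range (piG ρG t)) := by
        intro x t ht ht0
        rw [← hcj_pi, hcj_rank]
        exact hrmin t ht ht0
      simp only [hcj_pi] at ha1 hb1 hne ⊢
      rcases min_idem_orth ρG _ _ ha1 hb1 (hmin a) (hmin b) with h | h
      · exact h
      · exact absurd h hne
    let T : Finset (Module.End k V) := Finset.univ.image (fun h => cj h (piG ρG r))
    have hT : ∀ x, x ∈ T ↔ ∃ h, cj h (piG ρG r) = x := by
      intro x; simp [T]
    let eO : Module.End k V := ∑ x ∈ T, x
    have hTidem : ∀ x ∈ T, x * x = x := by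
      intro x hx; obtain ⟨h, rfl⟩ := (hT x).mp hx; exact hcj_idem h
    have hTorth : ∀ x ∈ T, ∀ y ∈ T, x ≠ y → x * y = 0 := by
      intro x hx y hy hne
      obtain ⟨a, rfl⟩ := (hT x).mp hx; obtain ⟨b, rfl⟩ := (hT y).mp hy
      exact horth a b hne
    have hTG : ∀ x ∈ T, ∀ g, x * ρG g = ρG g * x := by
      intro x hx g
      obtain ⟨a, rfl⟩ := (hT x).mp hx
      rw [hcj_pi]
      have := piG_comm ρG (MonoidAlgebra.mapDomainAlgHom k k (c a) r) (MonoidAlgebra.of k G g)
      simpa [MonoidAlgebra.lift_of] using this
    have heO_idem : eO * eO = eO := by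
      simp only [eO, Finset.sum_mul, Finset.mul_sum]
      apply Finset.sum_congr rfl
      intro x hx
      rw [Finset.sum_eq_single x]
      · exact hTidem x hx
      · intro y hy hne; exact hTorth _ hy _ hx hne
      · intro h; exact absurd hx h
    have hcj_eO : ∀ h, cj h eO = eO := by
      intro h
      simp only [cj, eO, Finset.mul_sum, Finset.sum_mul]
      apply Finset.sum_bij (fun x _ => ρH h * x * ρH h⁻¹)
      · intro x hx
        obtain ⟨a, rfl⟩ := (hT x).mp hx
        exact (hT _).mpr ⟨h * a, hcj_mul h a _⟩
      · intro x _ y _ hxy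
        have h1 : ∀ z, z = cj h⁻¹ (cj h z) := by
          intro z; rw [← hcj_mul, inv_mul_cancel, hcj_one]
        rw [h1 x, h1 y]
        exact congrArg (cj h⁻¹) hxy
      · intro y hy
        obtain ⟨a, rfl⟩ := (hT y).mp hy
        refine ⟨cj (h⁻¹ * a) (piG ρG r), (hT _).mpr ⟨_, rfl⟩, ?_⟩
        show cj h (cj (h⁻¹ * a) (piG ρG r)) = cj a (piG ρG r)
        rw [← hcj_mul, mul_inv_cancel_left]
      · intro x _; rfl
    have heO_comm : ∀ h, ρH h * eO = eO * ρH h := by
      intro h
      rw [hcj_comm, hcj_eO]
    have heO_G : ∀ g, eO * ρG g = ρG g * eO := by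
      intro g
      simp only [eO, Finset.sum_mul, Finset.mul_sum]
      exact Finset.sum_congr rfl (fun x hx => hTG x hx g)
    have he_mem : piG ρG r ∈ T := (hT _).mpr ⟨1, hcj_one _⟩
    have heO_e : eO * piG ρG r = piG ρG r := by
      simp only [eO, Finset.sum_mul]
      rw [Finset.sum_eq_single (piG ρG r)]
      · exact hr1
      · intro y hy hne; exact hTorth y hy _ he_mem hne
      · intro h; exact absurd he_mem h
    by_cases heO1 : eO = 1
    · -- induce from the stabiliser
      let He : Subgroup H :=
        { carrier := {h | cj h (piG ρG r) = piG ρG r}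
          mul_mem' := by
            intro a b ha hb
            simp only [Set.mem_ofPred_eq] at *
            rw [hcj_mul, hb, ha]
          one_mem' := hcj_one _
          inv_mem' := by
            intro a ha
            simp only [Set.mem_ofPred_eq] at *
            calc cj a⁻¹ (piG ρG r) = cj a⁻¹ (cj a (piG ρG r)) := by rw [ha]
              _ = cj (a⁻¹ * a) (piG ρG r) := (hcj_mul _ _ _).symm
              _ = piG ρG r := by rw [inv_mul_cancel, hcj_one] }
      have hHe : ∀ h, h ∈ He ↔ cj h (piG ρG r) = piG ρG r := fun h => Iff.rfl
      have hXG : ∀ g, ∀ v ∈ LinearMap.range (piG ρG r), ρG g v ∈ LinearMap.range (piG ρG r) := by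
        rintro g _ ⟨w, rfl⟩
        refine ⟨ρG g w, ?_⟩
        have := congrArg (fun f : Module.End k V => f w) (hTG _ he_mem g)
        simpa using this
      have hXH : ∀ h : He, ∀ v ∈ LinearMap.range (piG ρG r),
          (ρH.comp He.subtype) h v ∈ LinearMap.range (piG ρG r) := by
        rintro ⟨h, hh⟩ _ ⟨w, rfl⟩
        refine ⟨ρH h w, ?_⟩
        have h1 := hcj_comm h (piG ρG r)
        rw [(hHe h).mp hh] at h1
        have := congrArg (fun f : Module.End k V => f w) h1
        simpa using this.symm
      have hne : LinearMap.range (piG ρG r) ≠ ⊤ := fun h => he1 (idem_eq_one_of_range_top hr1 h)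
      have hlt : finrank k (LinearMap.range (piG ρG r)) < n := by
        rw [← hn]; exact Submodule.finrank_lt hne
      have hfree : FreeSub (ρH.comp He.subtype) (LinearMap.range (piG ρG r)) := by
        apply freeSub_of_restrict (ρH.comp He.subtype) (LinearMap.range (piG ρG r))
          (restrictRep (ρH.comp He.subtype) _ hXH) (fun h u => rfl)
        apply ih _ hlt (LinearMap.range (piG ρG r)) He (restrictRep ρG _ hXG)
          (restrictRep (ρH.comp He.subtype) _ hXH) (fun h => c h.1)
        · intro h g
          ext u
          have := congrArg (fun f : Module.End k V => f (u : V)) (compat h.1 g)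
          simpa using this
        · intro h hh g hg
          exact fpf h.1 (fun h1 => hh (Subtype.ext h1)) g hg
        · intro u hu
          apply Subtype.ext
          apply hfix
          intro g
          have := congrArg Subtype.val (hu g)
          simpa using this
        · rfl
      obtain ⟨W, hsup, hdim⟩ := hfree
      refine ⟨W, ?_, ?_⟩
      · rw [eq_top_iff]
        have h1 : ∀ t : H, LinearMap.range (cj t (piG ρG r)) ≤ ⨆ h : H, W.map (ρH h) := by
          intro t
          rw [hcj_range, ← hsup, Submodule.map_iSup]
          apply iSup_le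
          intro s
          rw [← Submodule.map_comp]
          have h2 : (ρH t) ∘ₗ ((ρH.comp He.subtype) s) = ρH (t * s) := by
            rw [map_mul]; rfl
          rw [h2]
          exact le_iSup (fun h : H => W.map (ρH h)) (t * s)
        intro v _
        have hv : v = eO v := by rw [heO1]; rfl
        rw [hv]
        simp only [eO, LinearMap.sum_apply]
        apply Submodule.sum_mem
        intro x hx
        obtain ⟨t, rfl⟩ := (hT x).mp hx
        exact h1 t ⟨v, rfl⟩
      · rw [finrank_top]
        have hHe_card : Nat.card He = (Finset.univ.filter (fun h : H => cj h (piG ρG r) = piG ρG r)).card := by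
          rw [Nat.card_eq_fintype_card]
          exact Fintype.card_subtype _
        have hT_card : Nat.card H = T.card * Nat.card He := by
          rw [Nat.card_eq_fintype_card, ← Finset.card_univ,
            Finset.card_eq_sum_card_image (fun h => cj h (piG ρG r)) Finset.univ]
          rw [Finset.sum_const_nat]
          intro x hx
          obtain ⟨t, rfl⟩ := (hT x).mp hx
          rw [hHe_card]
          have h3 : Finset.univ.filter (fun h => cj h (piG ρG r) = cj t (piG ρG r))
              = (Finset.univ.filter (fun h : H => cj h (piG ρG r) = piG ρG r)).image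
                (fun s => t * s) := by
            ext h
            simp only [Finset.mem_filter, Finset.mem_univ, true_and, Finset.mem_image]
            constructor
            · intro hh
              refine ⟨t⁻¹ * h, ?_, by group⟩
              rw [hcj_mul, hh, ← hcj_mul, inv_mul_cancel, hcj_one]
            · rintro ⟨s, hs, rfl⟩
              rw [hcj_mul, hs]
          rw [h3, Finset.card_image_of_injective _ (mul_right_injective t)]
        have h2 : ∑ x ∈ T, finrank k (LinearMap.range x) ≤ finrank k V :=
          sum_finrank_range_le T hTidem hTorth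
        have h3 : ∑ x ∈ T, finrank k (LinearMap.range x)
            = T.card * finrank k (LinearMap.range (piG ρG r)) := by
          rw [Finset.sum_const_nat]
          intro x hx
          obtain ⟨t, rfl⟩ := (hT x).mp hx
          exact hcj_rank t
        calc Nat.card H * finrank k W = T.card * (Nat.card He * finrank k W) := by
              rw [hT_card]; ring
          _ ≤ T.card * finrank k (LinearMap.range (piG ρG r)) := Nat.mul_le_mul_left _ hdim
          _ ≤ finrank k V := by rw [← h3]; exact h2
    · -- split along the orbit idempotent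
      have hne1 : LinearMap.range eO ≠ ⊤ := fun h => heO1 (idem_eq_one_of_range_top heO_idem h)
      have hidem2 : (1 - eO) * (1 - eO) = 1 - eO := by
        rw [mul_sub, sub_mul, sub_mul, heO_idem]; simp
      have hne2 : LinearMap.range (1 - eO) ≠ ⊤ := by
        intro h
        have h1 := idem_eq_one_of_range_top hidem2 h
        have h2 : eO = 0 := by
          have : eO = 1 - (1 - eO) := by abel
          rw [this, h1, sub_self]
        apply hr0
        rw [← heO_e, h2, zero_mul]
      apply freeSub_top_of_idem ρH heO_idem
      · exact hsplit eO heO_G heO_comm hne1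
      · apply hsplit (1 - eO) _ _ hne2
        · intro g; rw [sub_mul, mul_sub, heO_G, one_mul, mul_one]
        · intro h; rw [sub_mul, mul_sub, heO_comm, one_mul, mul_one]

end Cfsg.Agent.Lib.helper68.FF
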