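import Mathlib
import Cfsg.Agent.Lib.helper68.FrobFreeD

/-!
# Free modules over a Frobenius complement: reduction of a nilpotent kernel to the abelian
coprime case
-/

namespace Cfsg.Agent.Lib.helper68.FF

open Module

universe v w w'

variable {k : Type*} [Field k]

/-- averaging over a finite group of operators of invertible order -/
theorem avg_props {V : Type*} [AddCommGroup V] [Module k V]
    (Z : Subgroup (Module.End k V)ˣ) [Finite Z] (hZ : (Nat.card Z : k) ≠ 0) :
    ∃ E : Module.End k V, E * E = E ∧ (∀ z ∈ Z, (z : Module.End k V) * E = E) ∧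
      (∀ v : V, (∀ z ∈ Z, (z : Module.End k V) v = v) → E v = v) ∧
      (∀ u : (Module.End k V)ˣ, (∀ z ∈ Z, u * z * u⁻¹ ∈ Z) →
        (u : Module.End k V) * E = E * u) := by
  classical
  have := Fintype.ofFinite Z
  let S : Module.End k V := ∑ z : Z, ((z : (Module.End k V)ˣ) : Module.End k V)
  let E : Module.End k V := (Nat.card Z : k)⁻¹ • S
  have hzS : ∀ z ∈ Z, (z : Module.End k V) * S = S := by
    intro z hz
    simp only [S, Finset.mul_sum]
    rw [← Equiv.sum_comp (Equiv.mulLeft (⟨z, hz⟩ : Z))
      (fun x : Z => ((x : (Module.End k V)ˣ) : Module.End k V))]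
    apply Finset.sum_congr rfl
    intro x _
    simp
  have hSS : S * S = (Nat.card Z : k) • S := by
    have h1 : S * S = ∑ z : Z, ((z : (Module.End k V)ˣ) : Module.End k V) * S :=
      Finset.sum_mul _ _ _
    rw [h1, Finset.sum_congr rfl (fun (z : Z) _ => hzS z z.2)]
    simp only [Finset.sum_const, Finset.card_univ, ← Nat.card_eq_fintype_card]
    rw [Nat.cast_smul_eq_nsmul]
  refine ⟨E, ?_, ?_, ?_, ?_⟩
  · simp only [E, smul_mul_assoc, mul_smul_comm, hSS, smul_smul]
    rw [inv_mul_cancel₀ hZ, mul_one]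
  · intro z hz
    simp only [E, mul_smul_comm, hzS z hz]
  · intro v hv
    simp only [E, S, LinearMap.smul_apply, LinearMap.sum_apply]
    rw [Finset.sum_congr rfl (fun (z : Z) _ => hv z z.2)]
    simp only [Finset.sum_const, Finset.card_univ, ← Nat.card_eq_fintype_card]
    rw [← Nat.cast_smul_eq_nsmul k, smul_smul, inv_mul_cancel₀ hZ, one_smul]
  · intro u hu
    have h1 : (u : Module.End k V) * S = S * u := by
      simp only [S, Finset.mul_sum, Finset.sum_mul]
      let κ : Z → Z := fun z => ⟨u * z * u⁻¹, hu z z.2⟩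
      have hκ : Function.Bijective κ := by
        rw [← Finite.injective_iff_bijective]
        intro a b hab
        have h2 := congrArg Subtype.val hab
        simp only [κ] at h2
        exact Subtype.ext (by simpa using h2)
      rw [← hκ.sum_comp (fun z : Z => ((z : (Module.End k V)ˣ) : Module.End k V) * u)]
      apply Finset.sum_congr rfl
      intro z _
      simp [κ, mul_assoc]
    simp only [E, mul_smul_comm, smul_mul_assoc, h1]

theorem conj_mem_center_like {M : Type*} [Group M] (S : Subgroup M) (u : M)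
    (hu : u ∈ Subgroup.normalizer (S : Set M))
    (z : M) (hz : z ∈ S ⊓ Subgroup.centralizer (S : Set M)) :
    u * z * u⁻¹ ∈ S ⊓ Subgroup.centralizer (S : Set M) := by
  obtain ⟨hz1, hz2⟩ := Subgroup.mem_inf.mp hz
  refine Subgroup.mem_inf.mpr ⟨(Subgroup.mem_normalizer_iff.mp hu z).mp hz1, ?_⟩
  rw [Subgroup.mem_centralizer_iff]
  intro s hs
  have hs' : u⁻¹ * s * u ∈ S := by
    apply (Subgroup.mem_normalizer_iff.mp hu (u⁻¹ * s * u)).mpr
    have h0 : u * (u⁻¹ * s * u) * u⁻¹ = s := by group
    rw [h0]; exact hs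
  have h1 := (Subgroup.mem_centralizer_iff.mp hz2) (u⁻¹ * s * u) hs'
  calc s * (u * z * u⁻¹) = u * ((u⁻¹ * s * u) * z) * u⁻¹ := by group
    _ = u * (z * (u⁻¹ * s * u)) * u⁻¹ := by rw [h1]
    _ = u * z * u⁻¹ * s := by group

theorem mem_of_comm_mem {F : Type*} [Group F] [Finite F] (K : Subgroup F) (c : F ≃* F)
    (fpf : ∀ f, c f = f → f = 1) (hK : ∀ x ∈ K, c x ∈ K) (x : F) (hx : x⁻¹ * c x ∈ K) :
    x ∈ K := by
  let φ : K → K := fun y => ⟨(y : F)⁻¹ * c y, K.mul_mem (K.inv_mem y.2) (hK y y.2)⟩
  have hinjF : ∀ a b : F, a⁻¹ * c a = b⁻¹ * c b → a = b := by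
    intro a b hab
    have h1 : c (b * a⁻¹) = b * a⁻¹ := by
      rw [map_mul, map_inv]
      have h2 : c b = b * (a⁻¹ * c a) := by rw [hab]; group
      rw [h2]; group
    have h3 := fpf _ h1
    exact (mul_inv_eq_one.mp h3).symm
  have hφ : Function.Injective φ := by
    intro a b hab
    exact Subtype.ext (hinjF _ _ (congrArg Subtype.val hab))
  obtain ⟨y, hy⟩ := (Finite.injective_iff_surjective.mp hφ) ⟨x⁻¹ * c x, hx⟩
  have h4 := hinjF _ _ (congrArg Subtype.val hy)
  rw [← h4]; exact y.2

theorem eq_top_of_sylow_le {F : Type*} [Group F] [Finite F] (St : Subgroup F)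
    (h : ∀ q : ℕ, q.Prime → ∃ Q : Sylow q F, (Q : Subgroup F) ≤ St) : St = ⊤ := by
  apply Subgroup.eq_top_of_card_eq
  apply Nat.dvd_antisymm (Subgroup.card_subgroup_dvd_card St)
  rw [← Nat.factorization_prime_le_iff_dvd Nat.card_pos.ne' Nat.card_pos.ne']
  intro q hq
  obtain ⟨Q, hQ⟩ := h q hq
  have : Fact q.Prime := ⟨hq⟩
  have h1 : Nat.card Q ∣ Nat.card St := Subgroup.card_dvd_of_le hQ
  rw [Sylow.card_eq_multiplicity] at h1
  exact (hq.pow_dvd_iff_le_factorization Nat.card_pos.ne').mp h1

theorem prime_eq_of_cast_zero {p q : ℕ} (hp : p.Prime) (hq : q.Prime) (h1 : (p : k) = 0)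
    (h2 : (q : k) = 0) : p = q := by
  by_contra hne
  have hc : Nat.Coprime p q := (Nat.coprime_primes hp hq).mpr hne
  obtain ⟨a, b, hab⟩ := Nat.isCoprime_iff_coprime.mpr hc
  have h3 := congrArg (Int.cast : ℤ → k) hab
  push_cast at h3
  rw [h1, h2] at h3
  simp at h3

theorem main_gen {F : Type w} [Group F] [Finite F] (hnil : Group.IsNilpotent F)
    {H : Type w'} [Group H] [Finite H] (c : H →* MulAut F)
    (fpf : ∀ h, h ≠ 1 → ∀ f, c h f = f → f = 1) :
    ∀ (n : ℕ) (V : Type v) [AddCommGroup V] [Module k V] [FiniteDimensional k V]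
      (ρF : F →* (V →ₗ[k] V)) (ρH : H →* (V →ₗ[k] V))
      (_ : ∀ h f, ρH h * ρF f = ρF (c h f) * ρH h)
      (_ : ∀ v : V, (∀ f, ρF f v = v) → v = 0),
      finrank k V = n → FreeSub ρH ⊤ := by
  intro n
  induction n using Nat.strong_induction_on with
  | _ n ih =>
  intro V _ _ _ ρF ρH compat hfix hn
  classical
  rcases subsingleton_or_nontrivial V with hV | hV
  · exact freeSub_top_of_subsingleton ρH
  by_cases hA : ∃ (q : ℕ) (_ : q.Prime) (P : Sylow q F) (x : F),
      (q : k) ≠ 0 ∧ x ∈ P ∧ ρF x ≠ 1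
  · obtain ⟨q, hq, P, x₀, hqk, hx₀P, hx₀⟩ := hA
    have : Fact q.Prime := ⟨hq⟩
    have hPn : (P : Subgroup F).Normal := inferInstance
    have hPc : (P : Subgroup F).Characteristic := Sylow.characteristic_of_normal P hPn
    have hPc' : ∀ (ϕ : MulAut F) (x : F), x ∈ P → ϕ x ∈ P := by
      intro ϕ x hx
      exact (Subgroup.characteristic_iff_map_le.mp hPc ϕ) ⟨x, hx, rfl⟩
    let ρu : F →* (Module.End k V)ˣ := ρF.toHomUnits
    let ρHu : H →* (Module.End k V)ˣ := ρH.toHomUnits
    have hρu : ∀ f, ((ρu f : (Module.End k V)ˣ) : Module.End k V) = ρF f := fun f => rfl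
    have hρHu : ∀ h, ((ρHu h : (Module.End k V)ˣ) : Module.End k V) = ρH h := fun h => rfl
    have hconjF : ∀ f x, ρu f * ρu x * (ρu f)⁻¹ = ρu (f * x * f⁻¹) := by
      intro f x; simp [map_mul]
    have hconjH : ∀ h x, ρHu h * ρu x * (ρHu h)⁻¹ = ρu (c h x) := by
      intro h x
      rw [mul_inv_eq_iff_eq_mul]
      apply Units.ext
      simp only [Units.val_mul, hρu, hρHu]
      exact compat h x
    let Sq : Subgroup (Module.End k V)ˣ := (P : Subgroup F).map ρu
    have hnormF : ∀ f, ρu f ∈ Subgroup.normalizer (Sq : Set (Module.End k V)ˣ) := by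
      intro f
      rw [Subgroup.mem_normalizer_iff]
      intro s
      constructor
      · rintro ⟨x, hx, rfl⟩
        rw [hconjF]
        exact ⟨_, hPn.conj_mem x hx f, rfl⟩
      · rintro ⟨y, hy, hys⟩
        refine ⟨f⁻¹ * y * f, ?_, ?_⟩
        · have h1 := hPn.conj_mem y hy f⁻¹
          rw [inv_inv] at h1
          exact h1
        · rw [map_mul, map_mul, hys, map_inv]; group
    have hnormH : ∀ h, ρHu h ∈ Subgroup.normalizer (Sq : Set (Module.End k V)ˣ) := by
      intro h
      rw [Subgroup.mem_normalizer_iff]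
      intro s
      constructor
      · rintro ⟨x, hx, rfl⟩
        rw [hconjH]
        exact ⟨_, hPc' (c h) x hx, rfl⟩
      · rintro ⟨y, hy, hys⟩
        refine ⟨c h⁻¹ y, hPc' _ y hy, ?_⟩
        rw [← hconjH h⁻¹ y, hys, map_inv]; group
    let Z : Subgroup (Module.End k V)ˣ := Sq ⊓ Subgroup.centralizer (Sq : Set (Module.End k V)ˣ)
    have hfinR : (Set.range ρu).Finite := Set.finite_range ρu
    have hSqfin : Finite Sq := by
      apply Set.Finite.to_subtype
      exact hfinR.subset (fun z hz => by obtain ⟨x, -, rfl⟩ := hz; exact ⟨x, rfl⟩)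
    have hZfin : Finite Z := by
      apply Set.Finite.to_subtype
      exact hfinR.subset (fun z hz => by obtain ⟨x, -, rfl⟩ := (Subgroup.mem_inf.mp hz).1; exact ⟨x, rfl⟩)
    have hSqp : IsPGroup q Sq := P.isPGroup'.map ρu
    have hZp : IsPGroup q Z := hSqp.to_le inf_le_left
    have hZk : (Nat.card Z : k) ≠ 0 := by
      obtain ⟨j, hj⟩ := (IsPGroup.iff_card).mp hZp
      rw [hj]; push_cast; exact pow_ne_zero _ hqk
    -- a nontrivial element of `Z`
    have hZne : ∃ z₁ ∈ Z, z₁ ≠ 1 := by
      have hnt : Nontrivial Sq := by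
        refine ⟨⟨1, ⟨ρu x₀, ⟨x₀, hx₀P, rfl⟩⟩, ?_⟩⟩
        intro h
        have h1 := congrArg (fun s : Sq => ((s : (Module.End k V)ˣ) : Module.End k V)) h
        simp only [hρu] at h1
        exact hx₀ h1.symm
      have hcn := hSqp.center_nontrivial
      obtain ⟨z, hz⟩ := exists_ne (1 : Subgroup.center Sq)
      refine ⟨((z : Sq) : (Module.End k V)ˣ), Subgroup.mem_inf.mpr ⟨(z : Sq).2, ?_⟩, ?_⟩
      · rw [Subgroup.mem_centralizer_iff]
        intro s hs
        have h1 := Subgroup.mem_center_iff.mp z.2 ⟨s, hs⟩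
        exact congrArg Subtype.val h1
      · intro h
        apply hz
        apply Subtype.ext
        apply Subtype.ext
        exact h
    obtain ⟨z₁, hz₁Z, hz₁⟩ := hZne
    obtain ⟨E, hEE, hzE, hEfix, hEu⟩ := avg_props Z hZk
    have hEF : ∀ f, E * ρF f = ρF f * E := by
      intro f
      have h1 := hEu (ρu f) (fun z hz => conj_mem_center_like Sq _ (hnormF f) z hz)
      rw [hρu] at h1
      exact h1.symm
    have hEH : ∀ h, ρH h * E = E * ρH h := by
      intro h
      have h1 := hEu (ρHu h) (fun z hz => conj_mem_center_like Sq _ (hnormH h) z hz)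
      rw [hρHu] at h1
      exact h1
    by_cases hE0 : E = 0
    · -- the abelian coprime case applies to `Z`
      letI iC : CommGroup Z :=
        { (inferInstance : Group Z) with
          mul_comm := fun a b => Subtype.ext (by
            have h1 := (Subgroup.mem_centralizer_iff.mp (Subgroup.mem_inf.mp b.2).2) a
              (Subgroup.mem_inf.mp a.2).1
            exact h1) }
      let ρG : Z →* Module.End k V := (Units.coeHom (Module.End k V)).comp Z.subtype
      let c' : H → Z →* Z := fun h =>
        ((MulAut.conj (ρHu h)).toMonoidHom.comp Z.subtype).codRestrict Z (fun z => by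
          show ρHu h * (z : (Module.End k V)ˣ) * (ρHu h)⁻¹ ∈ Z
          exact conj_mem_center_like Sq _ (hnormH h) z z.2)
      have hc' : ∀ h (z : Z), ((c' h z : Z) : (Module.End k V)ˣ) = ρHu h * z * (ρHu h)⁻¹ :=
        fun h z => rfl
      apply main_ab (G := Z) hZk n V H ρG ρH c'
      · intro h z
        show ρH h * ((z : (Module.End k V)ˣ) : Module.End k V)
          = (((c' h z : Z) : (Module.End k V)ˣ) : Module.End k V) * ρH h
        rw [hc', Units.val_mul, Units.val_mul, hρHu, mul_assoc, ← hρHu h, Units.inv_mul, mul_one]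
      · intro h hh z hz
        obtain ⟨x, hxP, hxz⟩ := (Subgroup.mem_inf.mp z.2).1
        have h1 : ρHu h * z * (ρHu h)⁻¹ = z := by
          rw [← hc']; exact congrArg Subtype.val hz
        rw [← hxz, hconjH] at h1
        have h2 : x⁻¹ * c h x ∈ ρu.ker := by
          rw [MonoidHom.mem_ker, map_mul, map_inv, h1, inv_mul_cancel]
        have h3 := mem_of_comm_mem ρu.ker (c h) (fpf h hh) (fun y hy => by
          rw [MonoidHom.mem_ker] at hy ⊢
          rw [← hconjH h y, hy]; group) x h2
        apply Subtype.ext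
        rw [← hxz]
        exact MonoidHom.mem_ker.mp h3
      · intro v hv
        have h1 := hEfix v (fun z hz => hv ⟨z, hz⟩)
        rw [hE0] at h1
        exact h1.symm
      · exact hn
    · -- split along `E`
      have hsplit : ∀ ε : Module.End k V, (∀ f, ε * ρF f = ρF f * ε) →
          (∀ h, ρH h * ε = ε * ρH h) → LinearMap.range ε ≠ ⊤ →
          FreeSub ρH (LinearMap.range ε) := by
        intro ε hεG hεH hne
        have hUG : ∀ g, ∀ v ∈ LinearMap.range ε, ρF g v ∈ LinearMap.range ε := by
          rintro g _ ⟨w, rfl⟩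
          refine ⟨ρF g w, ?_⟩
          have := congrArg (fun f : Module.End k V => f w) (hεG g)
          simpa using this
        have hUH : ∀ h, ∀ v ∈ LinearMap.range ε, ρH h v ∈ LinearMap.range ε := by
          rintro h _ ⟨w, rfl⟩
          refine ⟨ρH h w, ?_⟩
          have := congrArg (fun f : Module.End k V => f w) (hεH h)
          simpa using this.symm
        have hlt : finrank k (LinearMap.range ε) < n := by
          rw [← hn]; exact Submodule.finrank_lt hne
        apply freeSub_of_restrict ρH (LinearMap.range ε) (restrictRep ρH _ hUH) (fun h u => rfl)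
        apply ih _ hlt (LinearMap.range ε) (restrictRep ρF _ hUG) (restrictRep ρH _ hUH)
        · intro h g
          ext u
          have := congrArg (fun f : Module.End k V => f (u : V)) (compat h g)
          simpa using this
        · intro u hu
          apply Subtype.ext
          apply hfix
          intro g
          have := congrArg Subtype.val (hu g)
          simpa using this
        · rfl
      have hne1 : LinearMap.range E ≠ ⊤ := by
        intro h
        have h1 := idem_eq_one_of_range_top hEE h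
        have h2 := hzE z₁ hz₁Z
        rw [h1, mul_one] at h2
        exact hz₁ (Units.ext h2)
      have hidem2 : (1 - E) * (1 - E) = 1 - E := by
        rw [mul_sub, sub_mul, sub_mul, hEE]; simp
      have hne2 : LinearMap.range (1 - E) ≠ ⊤ := by
        intro h
        have h1 := idem_eq_one_of_range_top hidem2 h
        apply hE0
        have : E = 1 - (1 - E) := by abel
        rw [this, h1, sub_self]
      apply freeSub_top_of_idem ρH hEE
      · exact hsplit E hEF hEH hne1
      · apply hsplit (1 - E) _ _ hne2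
        · intro g; rw [sub_mul, mul_sub, hEF, one_mul, mul_one]
        · intro h; rw [sub_mul, mul_sub, hEH, one_mul, mul_one]
  · -- every Sylow subgroup for a prime invertible in `k` acts trivially: contradiction
    exfalso
    have hB : ∀ q : ℕ, q.Prime → ∀ P : Sylow q F, ∀ x : F, (q : k) ≠ 0 → x ∈ P → ρF x = 1 := by
      intro q hq P x hqk hx
      by_contra h
      exact hA ⟨q, hq, P, x, hqk, hx, h⟩
    have hv : ∃ v : V, v ≠ 0 ∧ ∀ q : ℕ, q.Prime → ∃ Q : Sylow q F, ∀ x ∈ Q, ρF x v = v := by
      by_cases hp : ∃ p : ℕ, p.Prime ∧ (p : k) = 0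
      · obtain ⟨p, hp, hpk⟩ := hp
        have : Fact p.Prime := ⟨hp⟩
        obtain ⟨Pp⟩ := (inferInstance : Nonempty (Sylow p F))
        obtain ⟨v, hv0, hvfix⟩ := exists_fixed_of_pgroup (k := k) Pp.isPGroup' hpk
          (ρF.comp (Pp : Subgroup F).subtype)
        refine ⟨v, hv0, ?_⟩
        intro q hq
        by_cases hqk : (q : k) = 0
        · have hpq : p = q := prime_eq_of_cast_zero hp hq hpk hqk
          subst hpq
          exact ⟨Pp, fun x hx => hvfix ⟨x, hx⟩⟩
        · have : Fact q.Prime := ⟨hq⟩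
          obtain ⟨Q⟩ := (inferInstance : Nonempty (Sylow q F))
          exact ⟨Q, fun x hx => by rw [hB q hq Q x hqk hx]; rfl⟩
      · obtain ⟨v, hv0⟩ := exists_ne (0 : V)
        refine ⟨v, hv0, ?_⟩
        intro q hq
        have : Fact q.Prime := ⟨hq⟩
        obtain ⟨Q⟩ := (inferInstance : Nonempty (Sylow q F))
        exact ⟨Q, fun x hx => by
          rw [hB q hq Q x (fun h => hp ⟨q, hq, h⟩) hx]; rfl⟩
    obtain ⟨v, hv0, hvq⟩ := hv
    let St : Subgroup F :=
      { carrier := {x | ρF x v = v}
        mul_mem' := by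
          intro a b ha hb
          simp only [Set.mem_ofPred_eq] at *
          rw [map_mul, Module.End.mul_apply, hb, ha]
        one_mem' := by simp
        inv_mem' := by
          intro a ha
          simp only [Set.mem_ofPred_eq] at *
          have h1 : ρF a⁻¹ (ρF a v) = v := by
            rw [← Module.End.mul_apply, ← map_mul, inv_mul_cancel, map_one]; rfl
          rw [ha] at h1
          exact h1 }
    have hSt : St = ⊤ := eq_top_of_sylow_le St (fun q hq => by
      obtain ⟨Q, hQ⟩ := hvq q hq
      exact ⟨Q, fun x hx => hQ x hx⟩)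
    exact hv0 (hfix v (fun f => by
      have h1 : f ∈ St := hSt ▸ Subgroup.mem_top f
      exact h1))

end Cfsg.Agent.Lib.helper68.FF
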