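import Cfsg.Agent.Lib.helper68.HallPet

/-!
# The associated graded Lie ring of the lower central series of a group

`GrL G = ⨁ w, γ_{w+1}(G) / γ_{w+2}(G)` (as additive groups) with the Lie bracket induced by
group commutators.  `el w x hx` is the class of `x ∈ γ_{w+1}` in degree `w`.
-/

set_option autoImplicit false

namespace Cfsg.Agent.Lib.helper68.GrLie

open Cfsg.Agent.Lib.helper68
open scoped commutatorElement

variable {G : Type*} [Group G]

/-- lower central series term (`lcs G w = γ_{w+1}(G)`) -/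
abbrev lcs (G : Type*) [Group G] (w : ℕ) : Subgroup G := (⊤ : Subgroup G).lowerCentralSeries w

theorem comm_mem {s t : ℕ} {x y : G} (hx : x ∈ lcs G s) (hy : y ∈ lcs G t) :
    ⁅x, y⁆ ∈ lcs G (s + t + 1) :=
  lcs_comm_le t s (Subgroup.commutator_mem_commutator hx hy)

theorem lcs_anti {s t : ℕ} (h : s ≤ t) : lcs G t ≤ lcs G s :=
  Subgroup.lowerCentralSeries_antitone _ h

theorem mem_lcs_zero (x : G) : x ∈ lcs G 0 := Subgroup.mem_top x

/-- the layer `γ_{w+1}/γ_{w+2}` -/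
abbrev Lay (G : Type*) [Group G] (w : ℕ) : Type _ :=
  ↥(lcs G w) ⧸ (lcs G (w + 1)).subgroupOf (lcs G w)

instance layComm (w : ℕ) : CommGroup (Lay G w) :=
  { (inferInstance : Group (Lay G w)) with
    mul_comm := by
      intro a b
      induction a using QuotientGroup.induction_on with
      | _ a =>
      induction b using QuotientGroup.induction_on with
      | _ b =>
      rw [← QuotientGroup.mk_mul, ← QuotientGroup.mk_mul, QuotientGroup.eq,
        Subgroup.mem_subgroupOf]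
      have e : (((a * b)⁻¹ * (b * a) : lcs G w) : G) = ⁅(b : G)⁻¹, (a : G)⁻¹⁆ := by
        simp only [commutatorElement_def, Subgroup.coe_mul, Subgroup.coe_inv]
        group
      rw [e]
      have := comm_mem (inv_mem b.2) (mem_lcs_zero (a : G)⁻¹)
      exact this }

/-- class of `x ∈ γ_{w+1}` in the layer -/
def mkA (w : ℕ) (x : G) (hx : x ∈ lcs G w) : Additive (Lay G w) :=
  Additive.ofMul (QuotientGroup.mk ⟨x, hx⟩)

theorem mkA_congr {w : ℕ} {x y : G} (h : x = y) (hx : x ∈ lcs G w) :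
    mkA w x hx = mkA w y (h ▸ hx) := by
  subst h; rfl

theorem mkA_mul (w : ℕ) (x y : G) (hx : x ∈ lcs G w) (hy : y ∈ lcs G w) :
    mkA w (x * y) (mul_mem hx hy) = mkA w x hx + mkA w y hy := rfl

theorem mkA_eq_zero {w : ℕ} {x : G} {hx : x ∈ lcs G w} :
    mkA w x hx = 0 ↔ x ∈ lcs G (w + 1) := by
  unfold mkA
  rw [ofMul_eq_zero, QuotientGroup.eq_one_iff, Subgroup.mem_subgroupOf]

theorem mkA_one (w : ℕ) : mkA w (1 : G) (one_mem _) = 0 :=
  mkA_eq_zero.2 (one_mem _)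

theorem mkA_surj (w : ℕ) (a : Additive (Lay G w)) : ∃ x hx, mkA w x hx = a := by
  obtain ⟨⟨x, hx⟩, h⟩ := QuotientGroup.mk_surjective (Additive.toMul a)
  exact ⟨x, hx, by unfold mkA; rw [h]; rfl⟩

theorem mkA_inv (w : ℕ) (x : G) (hx : x ∈ lcs G w) :
    mkA w x⁻¹ (inv_mem hx) = -mkA w x hx := by
  have h := mkA_mul w x x⁻¹ hx (inv_mem hx)
  rw [mkA_congr (mul_inv_cancel x), mkA_one] at h
  exact (neg_eq_of_add_eq_zero_right h.symm).symm

/-- conjugation acts trivially on layers -/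
theorem mkA_conj (w : ℕ) (g c : G) (hc : c ∈ lcs G w) :
    mkA w (g * c * g⁻¹) ((inferInstance : (lcs G w).Normal).conj_mem c hc g) = mkA w c hc := by
  have h1 : g * c * g⁻¹ = ⁅g, c⁆ * c := by simp [commutatorElement_def]
  have h2 : ⁅g, c⁆ ∈ lcs G (w + 1) := by
    have := comm_mem (mem_lcs_zero g) hc
    rwa [zero_add] at this
  rw [mkA_congr h1, mkA_mul w _ _ (lcs_anti (Nat.le_succ w) h2) hc, mkA_eq_zero.2 h2, zero_add]

/-- right additivity of the commutator on layers -/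
theorem mkA_comm_mul_right {s t : ℕ} {x y y' : G} (hx : x ∈ lcs G s) (hy : y ∈ lcs G t)
    (hy' : y' ∈ lcs G t) :
    mkA (s + t + 1) ⁅x, y * y'⁆ (comm_mem hx (mul_mem hy hy'))
      = mkA (s + t + 1) ⁅x, y⁆ (comm_mem hx hy) + mkA (s + t + 1) ⁅x, y'⁆ (comm_mem hx hy') := by
  have h1 : ⁅x, y * y'⁆ = ⁅x, y⁆ * (y * ⁅x, y'⁆ * y⁻¹) := by
    rw [commutatorElement_mul_right_eq_mul_conj]; group
  rw [mkA_congr h1, mkA_mul _ _ _ (comm_mem hx hy)
    ((inferInstance : (lcs G (s + t + 1)).Normal).conj_mem _ (comm_mem hx hy') y), mkA_conj]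

/-- left additivity of the commutator on layers -/
theorem mkA_comm_mul_left {s t : ℕ} {x x' y : G} (hx : x ∈ lcs G s) (hx' : x' ∈ lcs G s)
    (hy : y ∈ lcs G t) :
    mkA (s + t + 1) ⁅x * x', y⁆ (comm_mem (mul_mem hx hx') hy)
      = mkA (s + t + 1) ⁅x, y⁆ (comm_mem hx hy) + mkA (s + t + 1) ⁅x', y⁆ (comm_mem hx' hy) := by
  have h1 : ⁅x * x', y⁆ = (x * ⁅x', y⁆ * x⁻¹) * ⁅x, y⁆ := by
    rw [commutatorElement_mul_left_eq_conj_mul]
  rw [mkA_congr h1, mkA_mul _ _ _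
    ((inferInstance : (lcs G (s + t + 1)).Normal).conj_mem _ (comm_mem hx' hy) x)
    (comm_mem hx hy), mkA_conj]
  exact add_comm _ _

/-- well-definedness in the left argument -/
theorem mkA_comm_congr_left {s t : ℕ} {x x' y : G} (hx : x ∈ lcs G s) (hx' : x' ∈ lcs G s)
    (hy : y ∈ lcs G t) (h : mkA s x hx = mkA s x' hx') :
    mkA (s + t + 1) ⁅x, y⁆ (comm_mem hx hy) = mkA (s + t + 1) ⁅x', y⁆ (comm_mem hx' hy) := by
  have hn : x⁻¹ * x' ∈ lcs G (s + 1) := by
    have h2 := mkA_mul s x⁻¹ x' (inv_mem hx) hx'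
    rw [mkA_inv s x hx, h, neg_add_cancel] at h2
    exact mkA_eq_zero.1 h2
  have h3 : x' = x * (x⁻¹ * x') := by group
  have h4 := mkA_comm_mul_left hx (lcs_anti (Nat.le_succ s) hn) hy
  have h5 : ⁅x⁻¹ * x', y⁆ ∈ lcs G (s + t + 1 + 1) := by
    have := comm_mem hn hy
    have e : s + 1 + t + 1 = s + t + 1 + 1 := by omega
    rwa [e] at this
  rw [mkA_eq_zero.2 h5, add_zero] at h4
  rw [← h4]
  exact mkA_congr (by rw [← h3]) _

/-- well-definedness in the right argument -/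
theorem mkA_comm_congr_right {s t : ℕ} {x y y' : G} (hx : x ∈ lcs G s) (hy : y ∈ lcs G t)
    (hy' : y' ∈ lcs G t) (h : mkA t y hy = mkA t y' hy') :
    mkA (s + t + 1) ⁅x, y⁆ (comm_mem hx hy) = mkA (s + t + 1) ⁅x, y'⁆ (comm_mem hx hy') := by
  have hn : y⁻¹ * y' ∈ lcs G (t + 1) := by
    have h2 := mkA_mul t y⁻¹ y' (inv_mem hy) hy'
    rw [mkA_inv t y hy, h, neg_add_cancel] at h2
    exact mkA_eq_zero.1 h2
  have h3 : y' = y * (y⁻¹ * y') := by group
  have h4 := mkA_comm_mul_right hx hy (lcs_anti (Nat.le_succ t) hn)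
  have h5 : ⁅x, y⁻¹ * y'⁆ ∈ lcs G (s + t + 1 + 1) := by
    have := comm_mem hx hn
    have e : s + (t + 1) + 1 = s + t + 1 + 1 := by omega
    rwa [e] at this
  rw [mkA_eq_zero.2 h5, add_zero] at h4
  rw [← h4]
  exact mkA_congr (by rw [← h3]) _

/-- a representative of a class -/
noncomputable def rep (w : ℕ) (a : Additive (Lay G w)) : G :=
  (((Additive.toMul a).out : lcs G w) : G)

theorem rep_mem (w : ℕ) (a : Additive (Lay G w)) : rep w a ∈ lcs G w :=
  ((Additive.toMul a).out : lcs G w).2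

theorem mkA_rep (w : ℕ) (a : Additive (Lay G w)) : mkA w (rep w a) (rep_mem w a) = a := by
  have h : (QuotientGroup.mk ((Additive.toMul a).out) : Lay G w) = Additive.toMul a :=
    QuotientGroup.out_eq' _
  show Additive.ofMul (QuotientGroup.mk (⟨rep w a, rep_mem w a⟩ : lcs G w) : Lay G w) = a
  have e : (⟨rep w a, rep_mem w a⟩ : lcs G w) = (Additive.toMul a).out := rfl
  rw [e, h]; rfl

/-- the bracket on layers, as a function -/
noncomputable def βf (i j : ℕ) (a : Additive (Lay G i)) (b : Additive (Lay G j)) :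
    Additive (Lay G (i + j + 1)) :=
  mkA (i + j + 1) ⁅rep i a, rep j b⁆ (comm_mem (rep_mem i a) (rep_mem j b))

theorem βf_mk (i j : ℕ) (x y : G) (hx : x ∈ lcs G i) (hy : y ∈ lcs G j) :
    βf i j (mkA i x hx) (mkA j y hy) = mkA (i + j + 1) ⁅x, y⁆ (comm_mem hx hy) := by
  unfold βf
  rw [mkA_comm_congr_left (rep_mem i _) hx (rep_mem j _) (mkA_rep i _),
    mkA_comm_congr_right hx (rep_mem j _) hy (mkA_rep j _)]

/-- the bracket on layers -/
noncomputable def β (i j : ℕ) :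
    Additive (Lay G i) →+ Additive (Lay G j) →+ Additive (Lay G (i + j + 1)) :=
  AddMonoidHom.mk' (fun a => AddMonoidHom.mk' (βf i j a) (by
    intro b b'
    obtain ⟨x, hx, rfl⟩ := mkA_surj i a
    obtain ⟨y, hy, rfl⟩ := mkA_surj j b
    obtain ⟨y', hy', rfl⟩ := mkA_surj j b'
    rw [← mkA_mul, βf_mk, βf_mk, βf_mk, mkA_comm_mul_right hx hy hy'])) (by
    intro a a'
    refine AddMonoidHom.ext (fun b => ?_)
    obtain ⟨x, hx, rfl⟩ := mkA_surj i a
    obtain ⟨x', hx', rfl⟩ := mkA_surj i a'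
    obtain ⟨y, hy, rfl⟩ := mkA_surj j b
    show βf i j _ _ = βf i j _ _ + βf i j _ _
    rw [← mkA_mul, βf_mk, βf_mk, βf_mk, mkA_comm_mul_left hx hx' hy])

theorem β_mk (i j : ℕ) (x y : G) (hx : x ∈ lcs G i) (hy : y ∈ lcs G j) :
    β i j (mkA i x hx) (mkA j y hy) = mkA (i + j + 1) ⁅x, y⁆ (comm_mem hx hy) :=
  βf_mk i j x y hx hy

end Cfsg.Agent.Lib.helper68.GrLie
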