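import Cfsg.Agent.Lib.helper68.GrLieA

/-!
# The Lie ring structure on the associated graded group of the lower central series
-/

set_option autoImplicit false

namespace Cfsg.Agent.Lib.helper68.GrLie

open Cfsg.Agent.Lib.helper68
open scoped commutatorElement

variable {G : Type*} [Group G]

/-- the associated graded Lie ring of the lower central series (underlying additive group) -/
abbrev GrL (G : Type*) [Group G] : Type _ := DirectSum ℕ (fun w => Additive (Lay G w))

/-- the class of `x ∈ γ_{w+1}` in degree `w` -/
def el (w : ℕ) (x : G) (hx : x ∈ lcs G w) : GrL G :=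
  DirectSum.of (fun w => Additive (Lay G w)) w (mkA w x hx)

theorem el_congr {w w' : ℕ} {x y : G} (hw : w = w') (h : x = y) (hx : x ∈ lcs G w) :
    el w x hx = el w' y (hw ▸ h ▸ hx) := by
  subst hw; subst h; rfl

theorem el_mul (w : ℕ) (x y : G) (hx : x ∈ lcs G w) (hy : y ∈ lcs G w) :
    el w (x * y) (mul_mem hx hy) = el w x hx + el w y hy := by
  unfold el; rw [mkA_mul, map_add]

theorem el_eq_zero {w : ℕ} {x : G} {hx : x ∈ lcs G w} : el w x hx = 0 ↔ x ∈ lcs G (w + 1) := by
  unfold el
  rw [← mkA_eq_zero (hx := hx)]
  constructor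
  · intro h
    exact DirectSum.of_injective (β := fun w => Additive (Lay G w)) w (by rw [h, map_zero])
  · intro h; rw [h, map_zero]

theorem el_one (w : ℕ) : el w (1 : G) (one_mem _) = 0 := el_eq_zero.2 (one_mem _)

theorem el_inv (w : ℕ) (x : G) (hx : x ∈ lcs G w) : el w x⁻¹ (inv_mem hx) = -el w x hx := by
  unfold el; rw [mkA_inv, map_neg]

/-- the bracket as a biadditive map -/
noncomputable def B : GrL G →+ GrL G →+ GrL G :=
  DirectSum.toAddMonoid (fun i => AddMonoidHom.flip (DirectSum.toAddMonoid (fun j =>
    ((AddMonoidHom.compHom (DirectSum.of (fun w => Additive (Lay G w)) (i + j + 1))).comp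
      (β i j)).flip)))

theorem B_of_of (i j : ℕ) (a : Additive (Lay G i)) (b : Additive (Lay G j)) :
    B (DirectSum.of (fun w => Additive (Lay G w)) i a)
      (DirectSum.of (fun w => Additive (Lay G w)) j b)
      = DirectSum.of (fun w => Additive (Lay G w)) (i + j + 1) (β i j a b) := by
  unfold B
  rw [DirectSum.toAddMonoid_of, AddMonoidHom.flip_apply, DirectSum.toAddMonoid_of,
    AddMonoidHom.flip_apply]
  rfl

theorem B_el_el (i j : ℕ) (x y : G) (hx : x ∈ lcs G i) (hy : y ∈ lcs G j) :
    B (el i x hx) (el j y hy) = el (i + j + 1) ⁅x, y⁆ (comm_mem hx hy) := by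
  unfold el; rw [B_of_of, β_mk]

theorem B_skew (u v : GrL G) : B u v + B v u = 0 := by
  induction u using DirectSum.induction_on with
  | zero => simp
  | of i a =>
    induction v using DirectSum.induction_on with
    | zero => simp
    | of j b =>
      obtain ⟨x, hx, rfl⟩ := mkA_surj i a
      obtain ⟨y, hy, rfl⟩ := mkA_surj j b
      change B (el i x hx) (el j y hy) + B (el j y hy) (el i x hx) = 0
      rw [B_el_el, B_el_el, el_congr (show j + i + 1 = i + j + 1 by omega)
        (commutatorElement_inv x y).symm, el_inv (i + j + 1) ⁅x, y⁆ (comm_mem hx hy),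
        add_neg_cancel]
    | add v v' hv hv' =>
      have h' : (B (DirectSum.of (fun w => Additive (Lay G w)) i a) v
          + B v (DirectSum.of (fun w => Additive (Lay G w)) i a))
          + (B (DirectSum.of (fun w => Additive (Lay G w)) i a) v'
          + B v' (DirectSum.of (fun w => Additive (Lay G w)) i a)) = 0 := by
        rw [hv, hv', add_zero]
      simp only [map_add, AddMonoidHom.add_apply]
      rw [← h']; abel
  | add u u' hu hu' =>
    have h' : (B u v + B v u) + (B u' v + B v u') = 0 := by rw [hu, hu', add_zero]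
    simp only [map_add, AddMonoidHom.add_apply]
    rw [← h']; abel

theorem B_self (u : GrL G) : B u u = 0 := by
  induction u using DirectSum.induction_on with
  | zero => simp
  | of i a =>
    obtain ⟨x, hx, rfl⟩ := mkA_surj i a
    change B (el i x hx) (el i x hx) = 0
    rw [B_el_el, el_congr rfl (commutatorElement_self x)]
    exact el_one _
  | add u u' hu hu' =>
    simp only [map_add, AddMonoidHom.add_apply]
    rw [hu, hu', zero_add, add_zero, B_skew]

theorem el_comm_conj {s t : ℕ} {u z : G} (hu : u ∈ lcs G s) (hz : z ∈ lcs G t) (g : G) :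
    el (s + t + 1) ⁅u, g * z * g⁻¹⁆
      (comm_mem hu ((inferInstance : (lcs G t).Normal).conj_mem z hz g))
      = el (s + t + 1) ⁅u, z⁆ (comm_mem hu hz) := by
  unfold el
  congr 1
  exact mkA_comm_congr_right hu _ hz (mkA_conj t g z hz)

theorem B_jac_el (a b c : ℕ) (x y z : G) (hx : x ∈ lcs G a) (hy : y ∈ lcs G b)
    (hz : z ∈ lcs G c) :
    B (B (el a x hx) (el b y hy)) (el c z hz) + B (B (el b y hy) (el c z hz)) (el a x hx)
      + B (B (el c z hz) (el a x hx)) (el b y hy) = 0 := by
  rw [B_el_el, B_el_el, B_el_el, B_el_el, B_el_el, B_el_el]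
  have e1 := el_comm_conj (comm_mem hx hy) hz y
  have e2 := el_comm_conj (comm_mem hy hz) hx z
  have e3 := el_comm_conj (comm_mem hz hx) hy x
  rw [← e1, ← e2, ← e3,
    el_congr (show b + c + 1 + a + 1 = a + b + 1 + c + 1 by omega) rfl,
    el_congr (show c + a + 1 + b + 1 = a + b + 1 + c + 1 by omega) rfl,
    ← el_mul, ← el_mul, el_congr rfl (commutatorElement_commutatorElement_conj_mul x y z)]
  exact el_one _

theorem B_jac (u v w : GrL G) : B (B u v) w + B (B v w) u + B (B w u) v = 0 := by
  induction u using DirectSum.induction_on with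
  | zero => simp
  | of i a =>
    induction v using DirectSum.induction_on with
    | zero => simp
    | of j b =>
      induction w using DirectSum.induction_on with
      | zero => simp
      | of k c =>
        obtain ⟨x, hx, rfl⟩ := mkA_surj i a
        obtain ⟨y, hy, rfl⟩ := mkA_surj j b
        obtain ⟨z, hz, rfl⟩ := mkA_surj k c
        exact B_jac_el i j k x y z hx hy hz
      | add w w' hw hw' =>
        have h' := congrArg₂ (· + ·) hw hw'
        simp only [add_zero] at h'
        simp only [map_add, AddMonoidHom.add_apply]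
        rw [← h']; abel
    | add v v' hv hv' =>
      have h' := congrArg₂ (· + ·) hv hv'
      simp only [add_zero] at h'
      simp only [map_add, AddMonoidHom.add_apply]
      rw [← h']; abel
  | add u u' hu hu' =>
    have h' := congrArg₂ (· + ·) hu hu'
    simp only [add_zero] at h'
    simp only [map_add, AddMonoidHom.add_apply]
    rw [← h']; abel

noncomputable instance : Bracket (GrL G) (GrL G) := ⟨fun u v => B u v⟩

theorem bracket_def (u v : GrL G) : ⁅u, v⁆ = B u v := rfl

noncomputable instance : LieRing (GrL G) where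
  add_lie := by
    intro u v w
    simp only [bracket_def, map_add, AddMonoidHom.add_apply]
  lie_add := by
    intro u v w
    simp only [bracket_def, map_add]
  lie_self := fun u => B_self u
  leibniz_lie := by
    intro u v w
    simp only [bracket_def]
    have h1 := B_jac u v w
    have h2 := B_skew u (B v w)
    have h3 := B_skew w u
    have h4 : B v (B w u) = -B v (B u w) := by
      rw [eq_neg_of_add_eq_zero_left h3, map_neg]
    have h5 := B_skew (B w u) v
    rw [eq_neg_of_add_eq_zero_left h2]
    have h6 : B (B w u) v = B v (B u w) := by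
      rw [eq_neg_of_add_eq_zero_left h5, h4, neg_neg]
    rw [h6] at h1
    have h7 : B (B v w) u = -(B (B u v) w + B v (B u w)) := by
      apply eq_neg_of_add_eq_zero_left
      rw [← h1]; abel
    rw [h7, neg_neg]

theorem lie_el_el (i j : ℕ) (x y : G) (hx : x ∈ lcs G i) (hy : y ∈ lcs G j) :
    ⁅el i x hx, el j y hy⁆ = el (i + j + 1) ⁅x, y⁆ (comm_mem hx hy) :=
  B_el_el i j x y hx hy

end Cfsg.Agent.Lib.helper68.GrLie
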