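import Cfsg.Agent.Lib.helper68.GrLieB

/-!
# Automorphisms acting on the associated graded Lie ring; transfer of nilpotency class
-/

set_option autoImplicit false

namespace Cfsg.Agent.Lib.helper68.GrLie

open Cfsg.Agent.Lib.helper68
open scoped commutatorElement

variable {G : Type*} [Group G]

theorem aut_mem (α : MulAut G) {w : ℕ} {x : G} (hx : x ∈ lcs G w) : α x ∈ lcs G w := by
  have h := Subgroup.map_lowerCentralSeries (⊤ : Subgroup G) α.toMonoidHom w
  rw [Subgroup.map_top_of_surjective _ α.surjective] at h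
  have h2 : α x ∈ (lcs G w).map α.toMonoidHom := Subgroup.mem_map_of_mem _ hx
  rwa [h] at h2

theorem mkA_eq_iff {w : ℕ} {x y : G} {hx : x ∈ lcs G w} {hy : y ∈ lcs G w} :
    mkA w x hx = mkA w y hy ↔ x⁻¹ * y ∈ lcs G (w + 1) := by
  unfold mkA
  rw [Additive.ofMul.injective.eq_iff, QuotientGroup.eq, Subgroup.mem_subgroupOf]
  rfl

theorem mkA_aut_congr (α : MulAut G) {w : ℕ} {x y : G} {hx : x ∈ lcs G w} {hy : y ∈ lcs G w}
    (h : mkA w x hx = mkA w y hy) :
    mkA w (α x) (aut_mem α hx) = mkA w (α y) (aut_mem α hy) := by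
  rw [mkA_eq_iff] at h ⊢
  rw [← map_inv, ← map_mul]
  exact aut_mem α h

/-- the induced map on a layer -/
noncomputable def φf (α : MulAut G) (w : ℕ) (a : Additive (Lay G w)) : Additive (Lay G w) :=
  mkA w (α (rep w a)) (aut_mem α (rep_mem w a))

theorem φf_mk (α : MulAut G) (w : ℕ) (x : G) (hx : x ∈ lcs G w) :
    φf α w (mkA w x hx) = mkA w (α x) (aut_mem α hx) :=
  mkA_aut_congr α (mkA_rep w (mkA w x hx))

/-- the induced additive map on a layer -/
noncomputable def φw (α : MulAut G) (w : ℕ) : Additive (Lay G w) →+ Additive (Lay G w) :=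
  AddMonoidHom.mk' (φf α w) (by
    intro a b
    obtain ⟨x, hx, rfl⟩ := mkA_surj w a
    obtain ⟨y, hy, rfl⟩ := mkA_surj w b
    rw [← mkA_mul, φf_mk, φf_mk, φf_mk, ← mkA_mul]
    exact mkA_congr (map_mul α x y) _)

theorem φw_mk (α : MulAut G) (w : ℕ) (x : G) (hx : x ∈ lcs G w) :
    φw α w (mkA w x hx) = mkA w (α x) (aut_mem α hx) :=
  φf_mk α w x hx

/-- the induced additive endomorphism of the graded Lie ring -/
noncomputable def Φ (α : MulAut G) : GrL G →+ GrL G := DirectSum.map (fun w => φw α w)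

theorem Φ_el (α : MulAut G) (w : ℕ) (x : G) (hx : x ∈ lcs G w) :
    Φ α (el w x hx) = el w (α x) (aut_mem α hx) := by
  unfold Φ el
  rw [DirectSum.map_of, φw_mk]

theorem Φ_lie (α : MulAut G) (u v : GrL G) : Φ α ⁅u, v⁆ = ⁅Φ α u, Φ α v⁆ := by
  induction u using DirectSum.induction_on with
  | zero => simp
  | of i a =>
    induction v using DirectSum.induction_on with
    | zero => simp
    | of j b =>
      obtain ⟨x, hx, rfl⟩ := mkA_surj i a
      obtain ⟨y, hy, rfl⟩ := mkA_surj j b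
      change Φ α ⁅el i x hx, el j y hy⁆ = ⁅Φ α (el i x hx), Φ α (el j y hy)⁆
      rw [lie_el_el, Φ_el, Φ_el, Φ_el, lie_el_el]
      exact el_congr rfl (map_commutatorElement α x y) _
    | add v v' hv hv' => rw [lie_add, map_add, map_add, lie_add, hv, hv']
  | add u u' hu hu' => rw [add_lie, map_add, map_add, add_lie, hu, hu']

theorem Φ_iter (α : MulAut G) (m : ℕ) (w : ℕ) (x : G) (hx : x ∈ lcs G w) :
    (Φ α)^[m] (el w x hx) = el w ((α ^ m) x) (aut_mem (α ^ m) hx) := by
  induction m with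
  | zero => exact el_congr rfl (by simp) _
  | succ m ih =>
    rw [Function.iterate_succ_apply', ih, Φ_el]
    exact el_congr rfl (by rw [pow_succ', MulAut.mul_apply]) _

theorem Φ_periodic (α : MulAut G) (p : ℕ) (hα : α ^ p = 1) (u : GrL G) : (Φ α)^[p] u = u := by
  induction u using DirectSum.induction_on with
  | zero => exact iterate_map_zero (Φ α) p
  | of i a =>
    obtain ⟨x, hx, rfl⟩ := mkA_surj i a
    change (Φ α)^[p] (el i x hx) = el i x hx
    rw [Φ_iter]
    exact el_congr rfl (by rw [hα]; rfl) _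
  | add u u' hu hu' => rw [iterate_map_add, hu, hu']

theorem fix_aux (α : MulAut G) {a b : G} (h : a⁻¹ * α a = b⁻¹ * α b) :
    α (a * b⁻¹) = a * b⁻¹ := by
  have h1 : α a = a * (b⁻¹ * α b) := by rw [← h]; group
  rw [map_mul, map_inv, h1]; group

/-- a fixed-point-free automorphism of a finite group is fixed-point-free on invariant
sections -/
theorem fpf_quot [Finite G] (α : MulAut G) (hfpf : ∀ g, α g = g → g = 1) (N : Subgroup G)
    (hN : ∀ n ∈ N, α n ∈ N) {x : G} (hx : x⁻¹ * α x ∈ N) : x ∈ N := by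
  let f : N → N := fun n => ⟨(n : G)⁻¹ * α n, N.mul_mem (N.inv_mem n.2) (hN n n.2)⟩
  have hinj : Function.Injective f := by
    intro a b hab
    have h1 : (a : G)⁻¹ * α a = (b : G)⁻¹ * α b := congrArg Subtype.val hab
    have h3 := hfpf _ (fix_aux α h1)
    exact Subtype.ext (mul_inv_eq_one.1 h3)
  obtain ⟨m, hm⟩ := (Finite.injective_iff_surjective.1 hinj) ⟨x⁻¹ * α x, hx⟩
  have h1 : x⁻¹ * α x = (m : G)⁻¹ * α m := (congrArg Subtype.val hm).symm
  have h3 := hfpf _ (fix_aux α h1)
  rw [mul_inv_eq_one] at h3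
  rw [h3]; exact m.2

theorem Φ_fix [Finite G] (α : MulAut G) (hfpf : ∀ g, α g = g → g = 1) (u : GrL G)
    (hu : Φ α u = u) : u = 0 := by
  apply DFinsupp.ext
  intro w
  have h1 : (Φ α u) w = φw α w (u w) := DirectSum.map_apply _ w u
  rw [hu] at h1
  obtain ⟨x, hx, hxe⟩ := mkA_surj w (u w)
  rw [← hxe, φw_mk, mkA_eq_iff] at h1
  have h2 := fpf_quot α hfpf (lcs G (w + 1)) (fun n hn => aut_mem α hn) h1
  show u w = 0
  rw [← hxe]; exact mkA_eq_zero.2 h2

theorem tor_free [Finite G] (p : ℕ) (hp : (Nat.card G).Coprime p) (u : GrL G)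
    (hu : p • u = 0) : u = 0 := by
  apply DFinsupp.ext
  intro w
  have h1 : p • (u w) = 0 := by
    rw [← DFinsupp.nsmul_apply, hu]; rfl
  have h2 : (Additive.toMul (u w)) ^ p = 1 := by
    rw [← toMul_nsmul, h1]; rfl
  have h3 : orderOf (Additive.toMul (u w)) ∣ p := orderOf_dvd_of_pow_eq_one h2
  have h4 : orderOf (Additive.toMul (u w)) ∣ Nat.card G :=
    (orderOf_dvd_natCard _).trans
      ((Subgroup.card_quotient_dvd_card _).trans (Subgroup.card_subgroup_dvd_card _))
  have h6 : orderOf (Additive.toMul (u w)) ∣ Nat.gcd (Nat.card G) p := Nat.dvd_gcd h4 h3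
  rw [show Nat.gcd (Nat.card G) p = 1 from hp] at h6
  have h5 : orderOf (Additive.toMul (u w)) = 1 := Nat.dvd_one.1 h6
  exact orderOf_eq_one_iff.1 h5

/-- the generating set of the `(w+1)`-st lower central term of the Lie ring -/
def lnGen (G : Type*) [Group G] (w : ℕ) : Set (GrL G) :=
  {z | ∃ (u : GrL G) (us : List (GrL G)), us.length = w ∧ z = us.foldl (fun a b => ⁅a, b⁆) u}

theorem el_mem_closure : ∀ (w : ℕ) (x : G) (hx : x ∈ lcs G w),
    el w x hx ∈ AddSubgroup.closure (lnGen G w) := by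
  intro w
  induction w with
  | zero => intro x hx; exact AddSubgroup.subset_closure ⟨el 0 x hx, [], rfl, rfl⟩
  | succ w ih =>
    intro x hx
    have key : ∀ y ∈ Subgroup.closure {g | ∃ p ∈ lcs G w, ∃ q ∈ (⊤ : Subgroup G), ⁅p, q⁆ = g},
        ∀ hy : y ∈ lcs G (w + 1), el (w + 1) y hy ∈ AddSubgroup.closure (lnGen G (w + 1)) := by
      intro y hy
      induction hy using Subgroup.closure_induction with
      | mem y hy =>
        obtain ⟨p, hp, q, hq, rfl⟩ := hy
        intro hy'
        have e : el (w + 1) ⁅p, q⁆ hy' = ⁅el w p hp, el 0 q (mem_lcs_zero q)⁆ := by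
          rw [lie_el_el]
        rw [e]
        have h2 : AddSubgroup.closure (lnGen G w) ≤
            (AddSubgroup.closure (lnGen G (w + 1))).comap
              ((B : GrL G →+ GrL G →+ GrL G).flip (el 0 q (mem_lcs_zero q))) := by
          refine (AddSubgroup.closure_le _).2 ?_
          rintro _ ⟨u, us, hl, rfl⟩
          rw [SetLike.mem_coe, AddSubgroup.mem_comap, AddMonoidHom.flip_apply]
          refine AddSubgroup.subset_closure ⟨u, us ++ [el 0 q (mem_lcs_zero q)], ?_, ?_⟩
          · simp [hl]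
          · rw [List.foldl_append]; rfl
        exact h2 (ih p hp)
      | one => intro hy'; exact (el_one (G := G) (w + 1)) ▸ zero_mem _
      | mul y z hy hz ihy ihz =>
        intro hy'
        have hy1 : y ∈ lcs G (w + 1) := hy
        have hz1 : z ∈ lcs G (w + 1) := hz
        rw [el_mul (w + 1) y z hy1 hz1]
        exact add_mem (ihy hy1) (ihz hz1)
      | inv y hy ihy =>
        intro hy'
        have hy1 : y ∈ lcs G (w + 1) := hy
        rw [el_inv (w + 1) y hy1]
        exact neg_mem (ihy hy1)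
    exact key x hx hx

/-- if all left-normed brackets of length `c + 1` vanish in the Lie ring, then
`γ_{c+1} ≤ γ_{c+2}` -/
theorem lcs_le_succ_of_nil (c : ℕ)
    (h : ∀ (u : GrL G) (us : List (GrL G)), us.length = c →
      us.foldl (fun a b => ⁅a, b⁆) u = 0) : lcs G c ≤ lcs G (c + 1) := by
  intro x hx
  have h1 := el_mem_closure c x hx
  have h2 : AddSubgroup.closure (lnGen G c) = ⊥ := by
    rw [AddSubgroup.closure_eq_bot_iff]
    rintro z ⟨u, us, hl, rfl⟩
    exact h u us hl
  rw [h2, AddSubgroup.mem_bot] at h1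
  exact el_eq_zero.1 h1

theorem lcs_eq_bot_of_le_succ (hG : Group.IsNilpotent G) (c : ℕ)
    (h : lcs G c ≤ lcs G (c + 1)) : lcs G c = ⊥ := by
  have key : ∀ m, lcs G c ≤ lcs G (c + m) := by
    intro m
    induction m with
    | zero => exact le_refl _
    | succ m ih =>
      calc lcs G c ≤ lcs G (c + 1) := h
        _ = ⁅lcs G c, ⊤⁆ := rfl
        _ ≤ ⁅lcs G (c + m), ⊤⁆ := Subgroup.commutator_mono ih le_rfl
        _ = lcs G (c + m + 1) := rfl
  obtain ⟨n, hn⟩ := Subgroup.nilpotent_iff_lowerCentralSeries.1 hG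
  rw [eq_bot_iff, ← hn]
  exact (key n).trans (lcs_anti (Nat.le_add_left n c))

end Cfsg.Agent.Lib.helper68.GrLie
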