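import Cfsg.Agent.Lib.helper68.W2PDefs

/-! # S0720, piece G3: the orbital colouring of a transitive group containing the shift -/

set_option autoImplicit false

namespace Cfsg.Agent.Lib.helper68.W2P

open Finset
open scoped Classical

universe u
variable {p : ℕ} [Fact p.Prime]

/-- the orbit relation of `G` on ordered pairs -/
def pairSetoid {α : Type u} (G : Subgroup (Equiv.Perm α)) : Setoid (α × α) where
  r x y := ∃ h ∈ G, h x.1 = y.1 ∧ h x.2 = y.2
  iseqv :=
    ⟨fun _ => ⟨1, G.one_mem, rfl, rfl⟩,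
     fun {x y} ⟨h, hh, h1, h2⟩ => ⟨h⁻¹, G.inv_mem hh, by rw [← h1]; simp, by rw [← h2]; simp⟩,
     fun {x y z} ⟨h, hh, h1, h2⟩ ⟨k, hk, k1, k2⟩ =>
       ⟨k * h, G.mul_mem hk hh, by simp [h1, k1], by simp [h2, k2]⟩⟩

theorem exists_scheme {α : Type u} [Fintype α] [DecidableEq α]
    (G : Subgroup (Equiv.Perm α)) (hG : MulAction.IsPretransitive G α)
    (e : ZMod p × Fin 2 ≃ α) (g : Equiv.Perm α) (hgG : g ∈ G)
    (hge : ∀ (x : ZMod p) (j : Fin 2), g (e (x, j)) = e (x + 1, j)) :
    ∃ (ι : Type u) (_ : Fintype ι) (D : Scheme p ι), ∀ a b a' b' : α,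
      D.col (e.symm a) (e.symm b) = D.col (e.symm a') (e.symm b') ↔
        ∃ h ∈ G, h a = a' ∧ h b = b' := by
  have htr : ∀ a b : α, ∃ h ∈ G, h a = b := by
    intro a b
    obtain ⟨h, hh⟩ := MulAction.exists_smul_eq G a b
    exact ⟨h, h.2, hh⟩
  let col : ZMod p × Fin 2 → ZMod p × Fin 2 → Quotient (pairSetoid G) :=
    fun ω ω' => Quotient.mk (pairSetoid G) (e ω, e ω')
  have hcol : ∀ ω ω' ω₁ ω₁' : ZMod p × Fin 2, col ω ω' = col ω₁ ω₁' ↔
      ∃ h ∈ G, h (e ω) = e ω₁ ∧ h (e ω') = e ω₁' := by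
    intro ω ω' ω₁ ω₁'
    exact Quotient.eq (r := pairSetoid G)
  have hswap : ∀ x y : α × α, (pairSetoid G).r x y → (pairSetoid G).r x.swap y.swap := by
    rintro x y ⟨h, hh, h1, h2⟩
    exact ⟨h, hh, h2, h1⟩
  refine ⟨Quotient (pairSetoid G), Fintype.ofFinite _,
    { col := col
      i0 := col (0, 0) (0, 0)
      tr := Quotient.map (sa := pairSetoid G) (sb := pairSetoid G) Prod.swap hswap
      n := fun j => (univ.filter (fun ω' => col (0, 0) ω' = j)).card
      shift := ?_
      diag := ?_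
      col_tr := ?_
      valency := ?_
      surj := ?_ }, ?_⟩
  · intro x y j k
    rw [hcol]
    refine ⟨g⁻¹, G.inv_mem hgG, ?_, ?_⟩
    · rw [← hge]; simp
    · rw [← hge]; simp
  · intro ω ω'
    constructor
    · intro h
      obtain ⟨h, _, h1, h2⟩ := (hcol _ _ _ _).mp h
      have : e ω = e ω' := h.injective (h1.trans h2.symm)
      exact e.injective this
    · rintro rfl
      obtain ⟨h, hh, h1⟩ := htr (e ω) (e (0, 0))
      exact (hcol _ _ _ _).mpr ⟨h, hh, h1, h1⟩
  · intro ω ω'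
    rfl
  · intro j ω
    obtain ⟨h, hh, h1⟩ := htr (e ω) (e (0, 0))
    apply Finset.card_equiv (e.trans (h.trans e.symm))
    intro ω'
    simp only [mem_filter, mem_univ, true_and, Equiv.trans_apply]
    have : col ω ω' = col (0, 0) (e.symm (h (e ω'))) := by
      rw [hcol]
      exact ⟨h, hh, h1, by simp⟩
    rw [this]
  · intro j
    induction j using Quotient.inductionOn with
    | _ x =>
      refine ⟨e.symm x.1, e.symm x.2, ?_⟩
      show Quotient.mk (pairSetoid G) (e (e.symm x.1), e (e.symm x.2)) = _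
      simp
  · intro a b a' b'
    show col (e.symm a) (e.symm b) = col (e.symm a') (e.symm b') ↔ _
    rw [hcol]
    simp

end Cfsg.Agent.Lib.helper68.W2P
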