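import Cfsg.Agent.Lib.helper68.ItoProj
import Cfsg.Agent.Lib.helper68.W2PG3
import Cfsg.Agent.Lib.helper92.W2P_G1
import Cfsg.Agent.Lib.helper92.W2P_G2
import Cfsg.Agent.Lib.helper92.W2P_G6
import Cfsg.Agent.Lib.helper36.W2P_G4
import Cfsg.Agent.Lib.helper26.W2P_G5

/-! # S4707 (Ito): from the permutation group to the projection `E` -/

set_option autoImplicit false

namespace Cfsg.Agent.Lib.helper68.W2P

open Finset
open Cfsg.Agent.Lib.helper92.W2P Cfsg.Agent.Lib.helper36.W2P Cfsg.Agent.Lib.helper26.W2P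

variable {p : ℕ} [Fact p.Prime] {ι : Type*}

section
variable [Fintype ι] (D : Scheme p ι) (c : ι → ℚ) (hctr : ∀ j, c (D.tr j) = c j)
  (hE : D.Eig c)
include hctr hE

theorem ito_c_ip (a : ℕ) (ip : ι) (ha : 0 < a) (hS : (D.S ip).card = a * (a + 1))
    (hR : (D.R ip).card = a ^ 2) : c ip = c D.i0 / (2 * a + 1) := by
  have h := c_mul_n D c hctr hE ip
  have hn : D.n ip = a * (a + 1) + a ^ 2 := by rw [← card_S_add_card_R, hS, hR]
  have hmu : D.mu ip = (a : ℤ) * (a + 1) - a ^ 2 := by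
    unfold Scheme.mu
    rw [hS, hR]
    push_cast
    ring
  rw [hn, hmu] at h
  push_cast at h
  have ha' : (a : ℚ) ≠ 0 := by exact_mod_cast ha.ne'
  have h2 : (2 * (a : ℚ) + 1) ≠ 0 := by positivity
  rw [eq_div_iff h2]
  have h3 : (a : ℚ) * (c ip * (2 * a + 1)) = a * c D.i0 := by linear_combination h
  exact mul_left_cancel₀ ha' h3

theorem ito_c_im (a : ℕ) (im : ι) (hS : (D.S im).card = a * (a + 1))
    (hR : (D.R im).card = (a + 1) ^ 2) : c im = - c D.i0 / (2 * a + 1) := by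
  have h := c_mul_n D c hctr hE im
  have hn : D.n im = a * (a + 1) + (a + 1) ^ 2 := by rw [← card_S_add_card_R, hS, hR]
  have hmu : D.mu im = (a : ℤ) * (a + 1) - (a + 1) ^ 2 := by
    unfold Scheme.mu
    rw [hS, hR]
    push_cast
    ring
  rw [hn, hmu] at h
  push_cast at h
  have ha' : ((a : ℚ) + 1) ≠ 0 := by positivity
  have h2 : (2 * (a : ℚ) + 1) ≠ 0 := by positivity
  rw [eq_div_iff h2]
  have h3 : ((a : ℚ) + 1) * (c im * (2 * a + 1)) = (a + 1) * (- c D.i0) := by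
    linear_combination h
  exact mul_left_cancel₀ ha' h3

end

theorem Eo_eq_of_col (D : Scheme p ι) (c : ι → ℚ) (ω₁ ω₁' ω₂ ω₂' : ZMod p × Fin 2)
    (h : D.col ω₁ ω₁' = D.col ω₂ ω₂') : Eo D c ω₁ ω₁' = Eo D c ω₂ ω₂' := by
  unfold Eo
  rw [h]
  have hiff : (ω₁ = ω₁') ↔ (ω₂ = ω₂') := by rw [← D.diag, ← D.diag, h]
  by_cases h1 : ω₁ = ω₁'
  · rw [if_pos h1, if_pos (hiff.mp h1)]
  · rw [if_neg h1, if_neg (fun h2 => h1 (hiff.mpr h2))]

/-- **The bridge**: a primitive, not doubly transitive group of degree `2p` has the projection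
`E` of rank `p - 1` with all the properties used in the proof of Ito's theorem. -/
theorem ito_bridge {α : Type*} [Fintype α] [DecidableEq α]
    (hα : Fintype.card α = 2 * p) (G : Subgroup (Equiv.Perm α))
    (hprim : MulAction.IsPreprimitive G α)
    (hnot2 : ¬ MulAction.IsMultiplyPretransitive G α 2) :
    ∃ (s : ℕ) (E : α → α → ℚ), 0 < s ∧ p = 2 * s ^ 2 + 2 * s + 1 ∧
      (∀ a b, E a b = E b a) ∧
      (∀ (g : G) (a b : α), E (g • a) (g • b) = E a b) ∧
      (∀ a b, ∑ c, E a c * E c b = E a b) ∧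
      (∀ a, ∑ b, E a b = 0) ∧
      (∀ a, E a a = (s * (s + 1) : ℚ) / p) ∧
      (∀ a b, a ≠ b → E a b = -((s : ℚ) + 1) ^ 2 / (p * (2 * s + 1)) ∨
        E a b = (s : ℚ) ^ 2 / (p * (2 * s + 1))) ∧
      (∀ a, (univ.filter (fun b => E a b = -((s : ℚ) + 1) ^ 2 / (p * (2 * s + 1)))).card =
        s * (2 * s + 1)) ∧
      (∀ N : α → α → ℚ, (∀ (g : G) (a b : α), N (g • a) (g • b) = N a b) →
        ∃ x y z : ℚ, ∀ a b, N a b = x * (if a = b then 1 else 0) + y + z * E a b) ∧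
      (∃ g : G, orderOf g = p ∧ ∀ a : α, g • a ≠ a) ∧
      (∀ a : α, (2 * s + 1) ∣ Nat.card (MulAction.stabilizer G a)) := by
  have hp : p.Prime := Fact.out
  rcases exists_fpf_or_two_trans hp hα G hprim with h | ⟨g, hgG, hgo, hfpf⟩
  · exact absurd h hnot2
  obtain ⟨e, he⟩ := exists_coords hα g hgo hfpf
  have htrans : MulAction.IsPretransitive G α := hprim.toIsPretransitive
  obtain ⟨ι, _, D, hcol⟩ := exists_scheme G htrans e g hgG he
  obtain ⟨c, hctr, hc0, hE, h0⟩ := exists_c G hprim e D hcol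
  obtain ⟨hA, hB⟩ := primA_primB G hprim e D hcol
  have h2 : Fintype.card ι ≠ 2 := fun h2 => hnot2 (two_trans_of_card_two G htrans e D hcol h2)
  obtain ⟨s, ip, im, hs, hps, hip, him, hne, hall, hSp, hRp, hSm, hRm, hk⟩ :=
    scheme_main_rank3 D c hctr hc0 hE h0 hA hB h2
  have hc0' : c D.i0 ≠ 0 := hc0.ne'
  have hpQ : (p : ℚ) = 2 * (s : ℚ) ^ 2 + 2 * s + 1 := by exact_mod_cast hps
  have hsQ : (0 : ℚ) < s := by exact_mod_cast hs
  have hp0 : (0 : ℚ) < p := by exact_mod_cast hp.pos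
  have hpm : (0 : ℚ) < (p : ℚ) * (2 * s + 1) := by positivity
  have hcp := ito_c_ip D c hctr hE s ip hs hSp hRp
  have hcm := ito_c_im D c hctr hE s im hSm hRm
  have hnp : D.n ip = s * (2 * s + 1) := by rw [← card_S_add_card_R, hSp, hRp]; ring
  have he1neg : -((s : ℚ) + 1) ^ 2 / (p * (2 * s + 1)) < 0 :=
    div_neg_of_neg_of_pos (neg_neg_of_pos (by positivity)) hpm
  have he2pos : 0 < (s : ℚ) ^ 2 / (p * (2 * s + 1)) := div_pos (by positivity) hpm
  have he0pos : 0 < (s * (s + 1) : ℚ) / p := div_pos (by positivity) hp0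
  have hv0 : ∀ ω ω', D.col ω ω' = D.i0 → Eo D c ω ω' = (s * (s + 1) : ℚ) / p := by
    intro ω ω' h
    unfold Eo
    rw [h, if_pos ((D.diag _ _).mp h), hpQ]
    field_simp
    ring
  have hv1 : ∀ ω ω', D.col ω ω' = ip →
      Eo D c ω ω' = -((s : ℚ) + 1) ^ 2 / (p * (2 * s + 1)) := by
    intro ω ω' h
    have hne' : ω ≠ ω' := fun h' => hip (by rw [← h]; exact (D.diag _ _).mpr h')
    unfold Eo
    rw [h, if_neg hne', hcp, hpQ]
    field_simp
    ring
  have hv2 : ∀ ω ω', D.col ω ω' = im → Eo D c ω ω' = (s : ℚ) ^ 2 / (p * (2 * s + 1)) := by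
    intro ω ω' h
    have hne' : ω ≠ ω' := fun h' => him (by rw [← h]; exact (D.diag _ _).mpr h')
    unfold Eo
    rw [h, if_neg hne', hcm, hpQ]
    field_simp
    ring
  have hinvcol : ∀ (g : G) (a b : α),
      D.col (e.symm (g • a)) (e.symm (g • b)) = D.col (e.symm a) (e.symm b) :=
    fun g a b => ((hcol a b (g • a) (g • b)).mpr ⟨g, g.2, rfl, rfl⟩).symm
  refine ⟨s, fun a b => Eo D c (e.symm a) (e.symm b), hs, hps, ?_, ?_, ?_, ?_, ?_, ?_, ?_, ?_,
    ?_, ?_⟩
  · exact fun a b => Eo_symm D c hctr _ _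
  · exact fun g a b => Eo_eq_of_col D c _ _ _ _ (hinvcol g a b)
  · intro a b
    rw [Equiv.sum_comp e.symm (fun ω'' => Eo D c (e.symm a) ω'' * Eo D c ω'' (e.symm b))]
    exact Eo_idem D c hctr hE hk hc0' _ _
  · intro a
    rw [Equiv.sum_comp e.symm (fun ω'' => Eo D c (e.symm a) ω'')]
    exact Eo_row D c hctr hE _
  · exact fun a => hv0 _ _ ((D.diag _ _).mpr rfl)
  · intro a b hab
    rcases hall (D.col (e.symm a) (e.symm b)) with h | h | h
    · exact absurd (e.symm.injective ((D.diag _ _).mp h)) hab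
    · exact Or.inl (hv1 _ _ h)
    · exact Or.inr (hv2 _ _ h)
  · intro a
    rw [← hnp, ← D.valency ip (e.symm a)]
    apply Finset.card_equiv e.symm
    intro b
    simp only [mem_filter, mem_univ, true_and]
    constructor
    · intro hb
      rcases hall (D.col (e.symm a) (e.symm b)) with h | h | h
      · rw [hv0 _ _ h] at hb
        linarith
      · exact h
      · rw [hv2 _ _ h] at hb
        linarith
    · exact fun h => hv1 _ _ h
  · intro N hN
    have hNcol : ∀ a b a' b' : α,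
        D.col (e.symm a) (e.symm b) = D.col (e.symm a') (e.symm b') → N a b = N a' b' := by
      intro a b a' b' h
      obtain ⟨h', hh', rfl, rfl⟩ := (hcol a b a' b').mp h
      exact (hN ⟨h', hh'⟩ a b).symm
    obtain ⟨ω0, ω0', h0'⟩ := D.surj D.i0
    obtain ⟨ω1, ω1', h1'⟩ := D.surj ip
    obtain ⟨ω2, ω2', h2'⟩ := D.surj im
    have e12 : -((s : ℚ) + 1) ^ 2 / (p * (2 * s + 1)) - (s : ℚ) ^ 2 / (p * (2 * s + 1)) ≠ 0 := by
      linarith
    have hz : (N (e ω1) (e ω1') - N (e ω2) (e ω2')) /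
        (-((s : ℚ) + 1) ^ 2 / (p * (2 * s + 1)) - (s : ℚ) ^ 2 / (p * (2 * s + 1))) *
        (-((s : ℚ) + 1) ^ 2 / (p * (2 * s + 1)) - (s : ℚ) ^ 2 / (p * (2 * s + 1))) =
        N (e ω1) (e ω1') - N (e ω2) (e ω2') := div_mul_cancel₀ _ e12
    set z : ℚ := (N (e ω1) (e ω1') - N (e ω2) (e ω2')) /
        (-((s : ℚ) + 1) ^ 2 / (p * (2 * s + 1)) - (s : ℚ) ^ 2 / (p * (2 * s + 1))) with hzdef
    refine ⟨N (e ω0) (e ω0') - (N (e ω1) (e ω1') - z * (-((s : ℚ) + 1) ^ 2 / (p * (2 * s + 1))))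
        - z * ((s * (s + 1) : ℚ) / p),
      N (e ω1) (e ω1') - z * (-((s : ℚ) + 1) ^ 2 / (p * (2 * s + 1))), z, ?_⟩
    intro a b
    beta_reduce
    rcases hall (D.col (e.symm a) (e.symm b)) with h | h | h
    · have hab : a = b := e.symm.injective ((D.diag _ _).mp h)
      rw [if_pos hab, hNcol a b (e ω0) (e ω0') (by simp [h, h0']), hv0 _ _ h]
      ring
    · have hab : a ≠ b := fun hab => hip (by rw [← h, hab]; exact (D.diag _ _).mpr rfl)
      rw [if_neg hab, hNcol a b (e ω1) (e ω1') (by simp [h, h1']), hv1 _ _ h]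
      ring
    · have hab : a ≠ b := fun hab => him (by rw [← h, hab]; exact (D.diag _ _).mpr rfl)
      rw [if_neg hab, hNcol a b (e ω2) (e ω2') (by simp [h, h2']), hv2 _ _ h]
      linear_combination hz
  · refine ⟨⟨g, hgG⟩, ?_, fun a => hfpf a⟩
    rw [← hgo]
    exact Subgroup.orderOf_mk g hgG
  · intro a
    have hpos : 0 < D.n ip := by rw [hnp]; positivity
    rw [← D.valency ip (e.symm a)] at hpos
    obtain ⟨ω', hω'⟩ := Finset.card_pos.mp hpos
    have hω'' : D.col (e.symm a) ω' = ip := by simpa using hω'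
    have hcard := suborbit_card G htrans e D hcol a (e ω')
    rw [Equiv.symm_apply_apply, hω'', hnp] at hcard
    have hdvd : Nat.card (MulAction.orbit (MulAction.stabilizer G a) (e ω')) ∣
        Nat.card (MulAction.stabilizer G a) := by
      rw [Nat.card_coe_set_eq, ← MulAction.index_stabilizer]
      exact Subgroup.index_dvd_card _
    rw [hcard] at hdvd
    exact (Dvd.intro_left _ rfl).trans hdvd

end Cfsg.Agent.Lib.helper68.W2P
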