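import Cfsg.Agent.Lib.helper68.ItoScheme

/-! # S4707 (Ito): the projection of rank `p - 1` on a rank 3 scheme -/

set_option autoImplicit false
set_option linter.unusedSectionVars false

namespace Cfsg.Agent.Lib.helper68.W2P

open Finset
open scoped Classical

variable {p : ℕ} [Fact p.Prime] {ι : Type*}

/-- the projection onto the complement of the constants and of the image of `E` -/
noncomputable def Eo (D : Scheme p ι) (c : ι → ℚ) (ω ω' : ZMod p × Fin 2) : ℚ :=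
  (if ω = ω' then 1 else 0) - 1 / (2 * (p : ℚ)) - c (D.col ω ω') / (2 * c D.i0)

section
variable [Fintype ι] (D : Scheme p ι) (c : ι → ℚ) (hctr : ∀ j, c (D.tr j) = c j)
  (hc0 : 0 < c D.i0) (hE : D.Eig c)
include hctr

theorem ito_c_symm (ω ω' : ZMod p × Fin 2) : c (D.col ω' ω) = c (D.col ω ω') := by
  rw [D.col_tr ω ω', hctr]

theorem Eo_symm (ω ω' : ZMod p × Fin 2) : Eo D c ω ω' = Eo D c ω' ω := by
  unfold Eo
  rw [ito_c_symm D c hctr ω ω']
  by_cases h : ω = ω'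
  · subst h; rfl
  · rw [if_neg h, if_neg (fun h' => h h'.symm)]

include hE

theorem ito_sum_c_row (ω : ZMod p × Fin 2) : ∑ ω', c (D.col ω ω') = 0 := by
  rw [← Finset.sum_fiberwise univ (fun ω' => D.col ω ω') (fun ω' => c (D.col ω ω'))]
  have key : ∀ j, ∑ ω' ∈ univ.filter (fun ω' => D.col ω ω' = j), c (D.col ω ω') =
      c D.i0 * (D.mu j : ℚ) := by
    intro j
    rw [← c_mul_n D c hctr hE j]
    have h1 : ∑ ω' ∈ univ.filter (fun ω' => D.col ω ω' = j), c (D.col ω ω') =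
        ∑ ω' ∈ univ.filter (fun ω' : ZMod p × Fin 2 => D.col ω ω' = j), c j := by
      apply Finset.sum_congr rfl
      intro ω' hω'
      rw [(mem_filter.mp hω').2]
    rw [h1, Finset.sum_const, D.valency, nsmul_eq_mul, mul_comm]
  simp_rw [key]
  rw [← Finset.mul_sum]
  have h2 : (∑ j, (D.mu j : ℚ)) = 0 := by exact_mod_cast sum_mu D
  rw [h2, mul_zero]

theorem ito_sum_c_col (ω' : ZMod p × Fin 2) : ∑ ω, c (D.col ω ω') = 0 := by
  rw [← ito_sum_c_row D c hctr hE ω']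
  apply Finset.sum_congr rfl
  intro ω _
  exact ito_c_symm D c hctr ω' ω

theorem ito_c_mul_c (ω ω' : ZMod p × Fin 2) :
    ∑ ω'' : ZMod p × Fin 2, c (D.col ω ω'') * c (D.col ω'' ω') = D.kappa c * c (D.col ω ω') := by
  have h := E_mul_E D c hctr hE ω ω'
  unfold Scheme.E at h
  exact_mod_cast h

theorem Eo_row (ω : ZMod p × Fin 2) : ∑ ω', Eo D c ω ω' = 0 := by
  have hp : (p : ℚ) ≠ 0 := by exact_mod_cast (Fact.out : p.Prime).ne_zero
  unfold Eo
  rw [Finset.sum_sub_distrib, Finset.sum_sub_distrib]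
  have h3 : ∑ x, c (D.col ω x) / (2 * c D.i0) = 0 := by
    rw [← Finset.sum_div, ito_sum_c_row D c hctr hE ω, zero_div]
  rw [h3]
  simp [Finset.card_univ, Fintype.card_prod, ZMod.card, Fintype.card_fin]
  field_simp
  ring

theorem Eo_idem (hk : D.kappa c = 2 * c D.i0) (hc0 : c D.i0 ≠ 0) (ω ω' : ZMod p × Fin 2) :
    ∑ ω'', Eo D c ω ω'' * Eo D c ω'' ω' = Eo D c ω ω' := by
  have hp : (p : ℚ) ≠ 0 := by exact_mod_cast (Fact.out : p.Prime).ne_zero
  have s1 : ∑ ω'' : ZMod p × Fin 2, (if ω = ω'' then (1 : ℚ) else 0) * (if ω'' = ω' then 1 else 0) =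
      if ω = ω' then 1 else 0 := by
    simp
  have s2 : ∑ ω'' : ZMod p × Fin 2, (if ω = ω'' then (1 : ℚ) else 0) = 1 := by simp
  have s2' : ∑ ω'' : ZMod p × Fin 2, (if ω'' = ω' then (1 : ℚ) else 0) = 1 := by simp
  have s3 : ∑ ω'' : ZMod p × Fin 2, (if ω = ω'' then (1 : ℚ) else 0) * c (D.col ω'' ω') =
      c (D.col ω ω') := by simp
  have s3' : ∑ ω'' : ZMod p × Fin 2, c (D.col ω ω'') * (if ω'' = ω' then (1 : ℚ) else 0) =
      c (D.col ω ω') := by simp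
  have s4 : ∑ _ω'' : ZMod p × Fin 2, (1 : ℚ) = 2 * p := by
    simp [Finset.card_univ, Fintype.card_prod, ZMod.card, Fintype.card_fin]
    ring
  have s5 := ito_sum_c_col D c hctr hE ω'
  have s5' := ito_sum_c_row D c hctr hE ω
  have s6 := ito_c_mul_c D c hctr hE ω ω'
  rw [hk] at s6
  have expand : ∑ ω'', Eo D c ω ω'' * Eo D c ω'' ω' =
      ∑ ω'' : ZMod p × Fin 2, (if ω = ω'' then (1 : ℚ) else 0) * (if ω'' = ω' then 1 else 0)
      - (1 / (2 * (p : ℚ))) * ∑ ω'' : ZMod p × Fin 2, (if ω = ω'' then (1 : ℚ) else 0)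
      - (1 / (2 * c D.i0)) * ∑ ω'' : ZMod p × Fin 2, (if ω = ω'' then (1 : ℚ) else 0) * c (D.col ω'' ω')
      - (1 / (2 * (p : ℚ))) * ∑ ω'' : ZMod p × Fin 2, (if ω'' = ω' then (1 : ℚ) else 0)
      + (1 / (2 * (p : ℚ))) ^ 2 * ∑ _ω'' : ZMod p × Fin 2, (1 : ℚ)
      + (1 / (2 * (p : ℚ))) * (1 / (2 * c D.i0)) * ∑ ω'' : ZMod p × Fin 2, c (D.col ω'' ω')
      - (1 / (2 * c D.i0)) * ∑ ω'' : ZMod p × Fin 2, c (D.col ω ω'') * (if ω'' = ω' then (1 : ℚ) else 0)
      + (1 / (2 * (p : ℚ))) * (1 / (2 * c D.i0)) * ∑ ω'' : ZMod p × Fin 2, c (D.col ω ω'')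
      + (1 / (2 * c D.i0)) ^ 2 * ∑ ω'' : ZMod p × Fin 2, c (D.col ω ω'') * c (D.col ω'' ω') := by
    simp only [Finset.mul_sum, ← Finset.sum_add_distrib, ← Finset.sum_sub_distrib]
    apply Finset.sum_congr rfl
    intro ω'' _
    unfold Eo
    ring
  rw [expand, s1, s2, s2', s3, s3', s4, s5, s5', s6]
  unfold Eo
  field_simp
  ring

end

end Cfsg.Agent.Lib.helper68.W2P
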