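import Cfsg.Agent.Lib.helper68.W2PMain

/-! # S4707 (Ito): the rank 3 case of the scheme theorem with its eigen-data -/

set_option autoImplicit false

namespace Cfsg.Agent.Lib.helper68.W2P

open Finset
open scoped Classical
open Cfsg.Agent.Lib.helper36.W2P Cfsg.Agent.Lib.helper33.W2P Cfsg.Agent.Lib.helper77.W2P

variable {p : ℕ} [Fact p.Prime] {ι : Type*}

/-- The rank 3 case of `scheme_main`, with the sizes of `S` and `R` for the two colours and
`kappa = 2 c(i0)`. -/
theorem scheme_main_rank3 [Fintype ι] (D : Scheme p ι) (c : ι → ℚ)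
    (hctr : ∀ j, c (D.tr j) = c j)
    (hc0 : 0 < c D.i0) (hE : D.Eig c) (h0 : D.Prim0 c) (hA : D.PrimA) (hB : D.PrimB)
    (h2 : Fintype.card ι ≠ 2) :
    ∃ (a : ℕ) (ip im : ι), 0 < a ∧ p = 2 * a ^ 2 + 2 * a + 1 ∧ ip ≠ D.i0 ∧ im ≠ D.i0 ∧
      ip ≠ im ∧ (∀ j, j = D.i0 ∨ j = ip ∨ j = im) ∧
      (D.S ip).card = a * (a + 1) ∧ (D.R ip).card = a ^ 2 ∧
      (D.S im).card = a * (a + 1) ∧ (D.R im).card = (a + 1) ^ 2 ∧
      D.kappa c = 2 * c D.i0 := by
  have hp : p.Prime := Fact.out
  obtain ⟨ζ, hζ⟩ : ∃ ζ : ℂ, IsPrimitiveRoot ζ p :=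
    ⟨_, Complex.isPrimitiveRoot_exp p hp.ne_zero⟩
  have hζp : ζ ^ p = 1 := hζ.pow_eq_one
  have hκpos : 0 < D.kappa c := kappa_pos D c hctr hc0 hE
  have hκne : ((D.kappa c : ℚ) : ℂ) ≠ 0 := by exact_mod_cast hκpos.ne'
  rcases m2_trichotomy (hat (D.E c) ζ) _ hκne (hatE_sq D c hctr hE ζ hζp) with h | h | h
  · exact (rank_zero_absurd D c hζ h h0).elim
  · exfalso
    apply h2
    apply rank_two_case D hζ _ hA
    intro j
    have h1 := hatB_mul_hatE D c hctr hE j ζ hζp
    rw [h] at h1
    simp only [Matrix.mul_smul, Matrix.mul_one] at h1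
    rw [smul_comm] at h1
    exact smul_right_injective _ hκne h1
  · obtain ⟨hk, hclub⟩ := club D c hctr hE hζ h
    have hstruct : ∀ ξ : ℂ, ξ ^ p = 1 → ∀ j : ι,
        (∑ a, ∑ b, Complex.normSq (hat (D.B j) ξ a b) =
          ((D.mu j : ℤ) : ℝ) ^ 2 + Complex.normSq ((hat (D.B j) ξ).trace - ((D.mu j : ℤ) : ℂ))) ∧
        hat (D.B j) ξ 0 0 - hat (D.B j) ξ 1 1 =
          (2 * hat (D.E c) ξ 0 0 / ((D.kappa c : ℚ) : ℂ) - 1) *
            (2 * ((D.mu j : ℤ) : ℂ) - (hat (D.B j) ξ).trace) := by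
      intro ξ hξ j
      have htr : (hat (D.E c) ξ).trace = ((D.kappa c : ℚ) : ℂ) := by
        rw [trace_hatE_of_club D c hclub ξ, hk]
      have key := m2_structure (hat (D.E c) ξ) (hat (D.B j) ξ) ((D.kappa c : ℚ) : ℝ)
        ((D.mu j : ℤ) : ℝ) (by exact_mod_cast hκpos.ne') (hatE_conjTranspose D c hctr ξ hξ)
        (by simpa using hatE_sq D c hctr hE ξ hξ) (by simpa using htr)
        (by simpa using hatB_mul_hatE D c hctr hE j ξ hξ)
        (by simpa using hatE_mul_hatB D c hctr hE j ξ hξ)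
      simpa using key
    have hP2 : ∀ j, j ≠ D.i0 →
        ((D.R j).card : ℤ) = ((D.S j ∩ D.S' j).card : ℤ) + D.mu j ^ 2 := by
      intro j hj
      apply P2 D hζ j hj
      intro k _
      have hξ : (ζ ^ k.val) ^ p = 1 := by rw [← pow_mul, mul_comm, pow_mul, hζp, one_pow]
      exact (hstruct (ζ ^ k.val) hξ j).1
    have hci0 : (c D.i0) ≠ 0 := hc0.ne'
    obtain ⟨β, ip, im, hβ, hip, him, hne, hap, hbp, ham, hbm, hrest⟩ :=
      endgame D.i0 D.S D.S' (fun j => (D.S j).card) (fun j => (D.R j).card)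
        (fun _ => rfl) (card_S' D) (S_disjoint D) (S'_disjoint D)
        (fun s => ⟨D.col (0, 0) (s, 0), by simp [Scheme.S]⟩)
        (fun s => ⟨D.col (0, 1) (s, 1), by simp [Scheme.S']⟩)
        (S_i0 D) (S'_i0 D) (by simp [R_i0])
        (by simpa [Scheme.mu] using sum_mu D)
        (fun j hj => by rw [card_S_add_card_R]; exact hB j hj)
        (fun j hj => by simpa [Scheme.mu] using hP2 j hj)
        (by
          intro i j hi hj s hsi hsj
          have hs0 : s ≠ 0 := by
            rintro rfl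
            exact zero_notMem_S D i hi hsi
          have h1 := hclub s hs0
          have hi' : D.col (0, 0) (s, 0) = i := by simpa [Scheme.S] using hsi
          have hj' : D.col (0, 1) (s, 1) = j := by simpa [Scheme.S'] using hsj
          rw [hi', hj'] at h1
          have e1 := c_mul_n D c hctr hE i
          have e2 := c_mul_n D c hctr hE j
          have n1 := card_S_add_card_R D i
          have n2 := card_S_add_card_R D j
          have hq : (c D.i0) * ((D.mu i : ℚ) * (D.n j : ℚ) + (D.mu j : ℚ) * (D.n i : ℚ)) = 0 := by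
            have : c i = - c j := by linarith
            calc (c D.i0) * ((D.mu i : ℚ) * (D.n j : ℚ) + (D.mu j : ℚ) * (D.n i : ℚ))
                = (c D.i0 * (D.mu i : ℚ)) * (D.n j : ℚ) + (c D.i0 * (D.mu j : ℚ)) * (D.n i : ℚ) := by
                  ring
              _ = (c i * (D.n i : ℚ)) * (D.n j : ℚ) + (c j * (D.n j : ℚ)) * (D.n i : ℚ) := by
                  rw [e1, e2]
              _ = 0 := by rw [this]; ring
          have hq2 : (D.mu i : ℚ) * (D.n j : ℚ) + (D.mu j : ℚ) * (D.n i : ℚ) = 0 := by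
            rcases mul_eq_zero.mp hq with h | h
            · exact absurd h hci0
            · exact h
          have hz : D.mu i * (D.n j : ℤ) + D.mu j * (D.n i : ℤ) = 0 := by exact_mod_cast hq2
          rw [← n1, ← n2] at hz
          simpa [Scheme.mu] using hz)
    have hall := no_fourth D c hctr hc0 hE hζ hk (fun j => (hstruct ζ hζp j).2) β ip im hβ hip him
      hne hap hbp ham hbm hrest
    have huniv : (univ : Finset ι) = {D.i0, ip, im} := by
      ext j
      simp only [mem_univ, mem_insert, mem_singleton, true_iff]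
      exact hall j
    refine ⟨β, ip, im, hβ, ?_, hip, him, hne, hall, hap, hbp, ham, hbm, hk⟩
    have hsum := sum_card_R D
    rw [huniv, Finset.sum_insert, Finset.sum_insert, Finset.sum_singleton, R_i0, hbp, hbm] at hsum
    · simp at hsum
      rw [← hsum]; ring
    · simpa using hne
    · simp only [mem_insert, mem_singleton, not_or]
      exact ⟨fun h => hip h.symm, fun h => him h.symm⟩

end Cfsg.Agent.Lib.helper68.W2P
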