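import Mathlib
import Cfsg.Agent.Lib.helper86.IvDefs

/-!
# S3928, piece BF (`iv_bf`): Brauer–Fowler count for an involutory automorphism

Racer copy under the prefixed name `helper68_iv_bf`, statement verbatim from
`tools/S3928_Skel.lean.txt`.
-/

set_option autoImplicit false

namespace Cfsg.Agent.Lib.helper86.IV

/-- if `x⁻¹ h⁻¹ x = y⁻¹ h⁻¹ y` then `x y⁻¹` commutes with `h`. -/
theorem helper68_comm_of_conj {N : Type*} [Group N] (x y h : N)
    (e : x⁻¹ * h⁻¹ * x = y⁻¹ * h⁻¹ * y) : h * (x * y⁻¹) = (x * y⁻¹) * h := by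
  have e1 : h⁻¹ = (x * y⁻¹) * h⁻¹ * (x * y⁻¹)⁻¹ := by
    have := congrArg (fun z => x * z * x⁻¹) e
    calc h⁻¹ = x * (x⁻¹ * h⁻¹ * x) * x⁻¹ := by group
      _ = x * (y⁻¹ * h⁻¹ * y) * x⁻¹ := this
      _ = (x * y⁻¹) * h⁻¹ * (x * y⁻¹)⁻¹ := by group
  have e2 : h = (x * y⁻¹) * h * (x * y⁻¹)⁻¹ := by
    calc h = (h⁻¹)⁻¹ := (inv_inv h).symm
      _ = ((x * y⁻¹) * h⁻¹ * (x * y⁻¹)⁻¹)⁻¹ := by rw [← e1]
      _ = (x * y⁻¹) * h * (x * y⁻¹)⁻¹ := by group
  calc h * (x * y⁻¹) = ((x * y⁻¹) * h * (x * y⁻¹)⁻¹) * (x * y⁻¹) := by rw [← e2]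
    _ = (x * y⁻¹) * h := by group

/-- BF : Brauer–Fowler count for an involutory automorphism (racer copy). -/
theorem helper68_iv_bf {N : Type*} [Group N] [Finite N] (α : MulAut N) (h2 : ∀ g, α (α g) = g)
    (hne : ∃ g, α g ≠ g) :
    ∃ g : N, g ≠ 1 ∧ (Subgroup.centralizer {g}).index ≤ 2 * (Nat.card {c : N // α c = c}) ^ 2 := by
  classical
  haveI : Fintype N := Fintype.ofFinite N
  by_contra hcon
  simp only [not_exists, not_and, not_le] at hcon
  set c0 := Nat.card {c : N // α c = c} with hc0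
  have : Nonempty {c : N // α c = c} := ⟨⟨1, map_one α⟩⟩
  have hc0pos : 0 < c0 := Nat.card_pos
  have hc0' : c0 = ((Finset.univ : Finset N).filter (fun c => α c = c)).card := by
    rw [hc0, Nat.card_eq_fintype_card, Fintype.card_subtype]
  -- the map F and its image K
  set F : N → N := fun c => c * (α c)⁻¹ with hF
  set K : Finset N := Finset.univ.image F with hK
  set n := K.card with hn
  have hKinv : ∀ k ∈ K, α k = k⁻¹ := by
    intro k hk
    rw [hK, Finset.mem_image] at hk
    obtain ⟨c, -, rfl⟩ := hk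
    simp only [hF, map_mul, map_inv, h2, mul_inv_rev, inv_inv]
  -- fibres of F have at most c0 elements
  have hfib : ∀ k ∈ (Finset.univ : Finset N).image F,
      ((Finset.univ : Finset N).filter (fun c => F c = k)).card ≤ c0 := by
    intro k hk
    rw [Finset.mem_image] at hk
    obtain ⟨c₁, -, hc₁⟩ := hk
    rw [hc0']
    apply Finset.card_le_card_of_injOn (fun c => c₁⁻¹ * c)
    · intro c hc
      rw [Finset.mem_coe, Finset.mem_filter] at hc
      rw [Finset.mem_coe, Finset.mem_filter]
      refine ⟨Finset.mem_univ _, ?_⟩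
      have e : c * (α c)⁻¹ = c₁ * (α c₁)⁻¹ := hc.2.trans hc₁.symm
      have e2 : c₁⁻¹ * c = (α c₁)⁻¹ * α c := by
        have := congrArg (fun y => c₁⁻¹ * y * α c) e
        simpa [mul_assoc] using this
      rw [map_mul, map_inv]
      exact e2.symm
    · intro c _ d _ hcd
      exact mul_left_cancel hcd
  have hNle : Fintype.card N ≤ c0 * n := by
    have := Finset.card_le_mul_card_image (f := F) (Finset.univ : Finset N) c0 hfib
    rwa [Finset.card_univ] at this
  -- n ≥ 2
  obtain ⟨g₀, hg₀⟩ := hne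
  have hn2 : 2 ≤ n := by
    have h1 : (1 : N) ∈ K := by
      rw [hK, Finset.mem_image]; exact ⟨1, Finset.mem_univ _, by simp [hF]⟩
    have h3 : F g₀ ∈ K := by
      rw [hK, Finset.mem_image]; exact ⟨g₀, Finset.mem_univ _, rfl⟩
    have h4 : (1 : N) ≠ F g₀ := by
      intro h
      apply hg₀
      have : g₀ * (α g₀)⁻¹ = 1 := h.symm
      rw [mul_inv_eq_one] at this
      exact this.symm
    exact Finset.one_lt_card.mpr ⟨1, h1, F g₀, h3, h4⟩
  -- the pairs
  set P : Finset (N × N) := K ×ˢ K with hP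
  set a : N → ℕ := fun g => (P.filter (fun p => p.1 * p.2⁻¹ = g)).card with ha
  have hsum : ∑ g : N, a g = n * n := by
    have := Finset.card_eq_sum_card_fiberwise (f := fun p : N × N => p.1 * p.2⁻¹) (s := P)
      (t := (Finset.univ : Finset N)) (fun x _ => Finset.mem_univ _)
    rw [hP, Finset.card_product] at this
    rw [this]
  have ha1 : a 1 ≤ n := by
    rw [ha, hn]
    apply Finset.card_le_card_of_injOn Prod.fst
    · intro p hp
      rw [Finset.mem_coe, Finset.mem_filter, hP, Finset.mem_product] at hp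
      exact hp.1.1
    · intro p hp q hq hpq
      rw [Finset.mem_coe, Finset.mem_filter] at hp hq
      have e1 : p.2 = p.1 := by
        have := hp.2; rw [mul_inv_eq_one] at this; exact this.symm
      have e2 : q.2 = q.1 := by
        have := hq.2; rw [mul_inv_eq_one] at this; exact this.symm
      exact Prod.ext hpq (by rw [e1, e2]; exact hpq)
  -- a g ≤ |C(g)|
  have hag : ∀ g : N, a g ≤ Nat.card (Subgroup.centralizer ({g} : Set N)) := by
    intro g
    have hcard : Nat.card (Subgroup.centralizer ({g} : Set N)) =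
        ((Finset.univ : Finset N).filter (fun x => x ∈ Subgroup.centralizer ({g} : Set N))).card := by
      rw [Nat.card_eq_fintype_card, Fintype.card_subtype]
    rw [hcard, ha]
    by_cases hemp : P.filter (fun p => p.1 * p.2⁻¹ = g) = ∅
    · simp only [hemp, Finset.card_empty]; exact Nat.zero_le _
    · obtain ⟨p0, hp0⟩ := Finset.nonempty_iff_ne_empty.mpr hemp
      rw [Finset.mem_filter, hP, Finset.mem_product] at hp0
      -- key: for a solution p, α g = p.1⁻¹ * g⁻¹ * p.1
      have key : ∀ p : N × N, p.1 ∈ K → p.2 ∈ K → p.1 * p.2⁻¹ = g → α g = p.1⁻¹ * g⁻¹ * p.1 := by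
        intro p h1 h2' hg
        rw [← hg, map_mul, map_inv, hKinv _ h1, hKinv _ h2']
        group
      have k0 := key p0 hp0.1.1 hp0.1.2 hp0.2
      apply Finset.card_le_card_of_injOn (fun p => p.1 * p0.1⁻¹)
      · intro p hp
        rw [Finset.mem_coe, Finset.mem_filter, hP, Finset.mem_product] at hp
        rw [Finset.mem_coe, Finset.mem_filter]
        refine ⟨Finset.mem_univ _, ?_⟩
        have k1 := key p hp.1.1 hp.1.2 hp.2
        rw [Subgroup.mem_centralizer_iff]
        intro h hh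
        rw [Set.mem_singleton_iff] at hh
        subst hh
        -- p.1⁻¹ h⁻¹ p.1 = p0.1⁻¹ h⁻¹ p0.1
        have e : p.1⁻¹ * h⁻¹ * p.1 = p0.1⁻¹ * h⁻¹ * p0.1 := by rw [← k1, ← k0]
        exact helper68_comm_of_conj p.1 p0.1 h e
      · intro p hp q hq hpq
        rw [Finset.mem_coe, Finset.mem_filter] at hp hq
        have e1 : p.1 = q.1 := mul_right_cancel hpq
        have e2 : p.2 = q.2 := by
          have h3 : p.1 * p.2⁻¹ = q.1 * q.2⁻¹ := by rw [hp.2, hq.2]
          rw [e1] at h3
          exact inv_injective (mul_left_cancel h3)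
        exact Prod.ext e1 e2
  -- the numerical contradiction
  set L := 2 * c0 ^ 2 with hL
  have hNcard : Nat.card N = Fintype.card N := Nat.card_eq_fintype_card
  have hbound : ∀ g : N, g ≠ 1 → L * a g + 1 ≤ Fintype.card N := by
    intro g hg
    have h1 := hcon g hg
    have h3 := Subgroup.index_mul_card (Subgroup.centralizer ({g} : Set N))
    rw [hNcard] at h3
    have hpos : 0 < Nat.card (Subgroup.centralizer ({g} : Set N)) := Nat.card_pos
    have h4 : L * a g ≤ L * Nat.card (Subgroup.centralizer ({g} : Set N)) :=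
      Nat.mul_le_mul_left _ (hag g)
    have h5 : L * Nat.card (Subgroup.centralizer ({g} : Set N)) <
        (Subgroup.centralizer ({g} : Set N)).index * Nat.card (Subgroup.centralizer ({g} : Set N)) :=
      Nat.mul_lt_mul_of_pos_right h1 hpos
    omega
  set S' := ∑ g ∈ (Finset.univ : Finset N).erase 1, a g with hS'
  have hsplit : a 1 + S' = n * n := by
    rw [hS', Finset.add_sum_erase _ _ (Finset.mem_univ _), hsum]
  have hLS : L * S' + (Fintype.card N - 1) ≤ (Fintype.card N - 1) * Fintype.card N := by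
    have h1 : ∑ g ∈ (Finset.univ : Finset N).erase 1, (L * a g + 1) ≤
        ∑ _g ∈ (Finset.univ : Finset N).erase 1, Fintype.card N := by
      apply Finset.sum_le_sum
      intro g hg
      exact hbound g (Finset.ne_of_mem_erase hg)
    rw [Finset.sum_add_distrib, ← Finset.mul_sum, Finset.sum_const, Finset.sum_const,
      Finset.card_erase_of_mem (Finset.mem_univ _), Finset.card_univ, smul_eq_mul, smul_eq_mul,
      mul_one] at h1
    exact h1
  have hNpos : 0 < Fintype.card N := Fintype.card_pos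
  -- put together
  have hfin : L * S' < (c0 * n) * (c0 * n) := by
    have h3 : Fintype.card N * Fintype.card N ≤ (c0 * n) * (c0 * n) := Nat.mul_le_mul hNle hNle
    have h4 : L * S' < Fintype.card N * Fintype.card N := by
      obtain ⟨m1, hm1⟩ : ∃ m1, Fintype.card N = m1 + 1 :=
        Nat.exists_eq_succ_of_ne_zero (Nat.pos_iff_ne_zero.mp hNpos)
      rw [hm1] at hLS ⊢
      rw [Nat.add_sub_cancel] at hLS
      nlinarith [hLS]
    exact lt_of_lt_of_le h4 h3
  have hnn : n * n ≤ n + S' := by omega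
  -- 2 c0² n² ≤ 2 c0² n + 2 c0² S' < 2 c0² n + c0² n²
  have h6 : c0 ^ 2 * (n * n) < c0 ^ 2 * (2 * n) := by
    have e1 : L * (n * n) ≤ L * (n + S') := Nat.mul_le_mul_left _ hnn
    have e2 : (c0 * n) * (c0 * n) = c0 ^ 2 * (n * n) := by ring
    have e3 : L * (n * n) = 2 * (c0 ^ 2 * (n * n)) := by rw [hL]; ring
    have e4 : L * (n + S') = 2 * (c0 ^ 2 * n) + L * S' := by rw [hL]; ring
    have e5 : c0 ^ 2 * (2 * n) = 2 * (c0 ^ 2 * n) := by ring
    omega
  have h7 : n * n < 2 * n := Nat.lt_of_mul_lt_mul_left h6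
  have h8 : n < 2 := Nat.lt_of_mul_lt_mul_right h7
  omega

end Cfsg.Agent.Lib.helper86.IV
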