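import Mathlib

/-!
# Kreknin's theorem for `ZMod n`-graded families in a Lie ring

A *graded family* in a Lie ring `R` is a family `V : ZMod n → AddSubgroup R` with
`⁅V i, V j⁆ ⊆ V (i + j)` and `V 0 = ⊥` (no directness assumed).  `Dm V m` is the `m`-th derived
family.  Main result `kreknin`: `Dm V (2 ^ (n - 1) - 1) t = ⊥` for all `t`.
-/

set_option autoImplicit false

namespace Cfsg.Agent.Lib.helper68.HK

variable {R : Type*} [LieRing R] {n : ℕ}

/-- graded family with trivial zero component -/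
structure IsGr (V : ZMod n → AddSubgroup R) : Prop where
  lie_mem : ∀ i j x y, x ∈ V i → y ∈ V j → ⁅x, y⁆ ∈ V (i + j)
  zero : V 0 = ⊥

/-- bracket of two families -/
def Br (A B : ZMod n → AddSubgroup R) (k : ZMod n) : AddSubgroup R :=
  AddSubgroup.closure {z | ∃ i j x y, i + j = k ∧ x ∈ A i ∧ y ∈ B j ∧ z = ⁅x, y⁆}

theorem Br_gen {A B : ZMod n → AddSubgroup R} {i j k : ZMod n} {x y : R} (h : i + j = k)
    (hx : x ∈ A i) (hy : y ∈ B j) : ⁅x, y⁆ ∈ Br A B k :=
  AddSubgroup.subset_closure ⟨i, j, x, y, h, hx, hy, rfl⟩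

theorem Br_le {A B : ZMod n → AddSubgroup R} {k : ZMod n} {C : AddSubgroup R}
    (h : ∀ i j x y, i + j = k → x ∈ A i → y ∈ B j → ⁅x, y⁆ ∈ C) : Br A B k ≤ C := by
  refine (AddSubgroup.closure_le _).2 ?_
  rintro _ ⟨i, j, x, y, hij, hx, hy, rfl⟩
  exact h i j x y hij hx hy

theorem Br_map_mem {A B : ZMod n → AddSubgroup R} {k : ZMod n} {C : AddSubgroup R} (f : R →+ R)
    (h : ∀ i j x y, i + j = k → x ∈ A i → y ∈ B j → f ⁅x, y⁆ ∈ C) {z : R} (hz : z ∈ Br A B k) :
    f z ∈ C := by
  have : Br A B k ≤ C.comap f := Br_le (fun i j x y hij hx hy => h i j x y hij hx hy)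
  exact this hz

theorem Br_self_le {V : ZMod n → AddSubgroup R} (hV : IsGr V) (k : ZMod n) : Br V V k ≤ V k :=
  Br_le (fun i j x y hij hx hy => hij ▸ hV.lie_mem i j x y hx hy)

theorem IsGr.br {V : ZMod n → AddSubgroup R} (hV : IsGr V) : IsGr (Br V V) where
  lie_mem := fun i j x y hx hy => Br_gen rfl (Br_self_le hV i hx) (Br_self_le hV j hy)
  zero := by
    have := Br_self_le hV 0
    rw [hV.zero] at this
    exact le_bot_iff.1 this

/-- derived families -/
def Dm (V : ZMod n → AddSubgroup R) : ℕ → ZMod n → AddSubgroup R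
  | 0 => V
  | (m + 1) => Br (Dm V m) (Dm V m)

theorem Dm_isGr {V : ZMod n → AddSubgroup R} (hV : IsGr V) : ∀ m, IsGr (Dm V m)
  | 0 => hV
  | (m + 1) => (Dm_isGr hV m).br

theorem Dm_antitone {V : ZMod n → AddSubgroup R} (hV : IsGr V) {m m' : ℕ} (h : m ≤ m')
    (k : ZMod n) : Dm V m' k ≤ Dm V m k := by
  induction h with
  | refl => exact le_refl _
  | step _ ih => exact le_trans (Br_self_le (Dm_isGr hV _) k) ih

theorem Dm_le {V : ZMod n → AddSubgroup R} (hV : IsGr V) (m : ℕ) (k : ZMod n) :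
    Dm V m k ≤ V k :=
  Dm_antitone hV (Nat.zero_le m) k

theorem Dm_add (V : ZMod n → AddSubgroup R) (a b : ℕ) : Dm V (a + b) = Dm (Dm V b) a := by
  induction a with
  | zero => rw [Nat.zero_add]; rfl
  | succ a ih =>
    have : a + 1 + b = (a + b) + 1 := by omega
    rw [this]
    show Br (Dm V (a + b)) (Dm V (a + b)) = Br (Dm (Dm V b) a) (Dm (Dm V b) a)
    rw [ih]

/-- additive span of left-normed commutators in homogeneous elements with degrees in `S` -/
inductive LN (V : ZMod n → AddSubgroup R) (S : Set (ZMod n)) : ZMod n → R → Prop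
  | base {s : ZMod n} {x : R} : s ∈ S → x ∈ V s → LN V S s x
  | step {i s k : ZMod n} {x g : R} : LN V S i x → s ∈ S → g ∈ V s → k = i + s →
      LN V S k ⁅x, g⁆
  | add {k : ZMod n} {x y : R} : LN V S k x → LN V S k y → LN V S k (x + y)
  | zero {k : ZMod n} : LN V S k 0
  | neg {k : ZMod n} {x : R} : LN V S k x → LN V S k (-x)

theorem LN.cast {V : ZMod n → AddSubgroup R} {S : Set (ZMod n)} {k k' : ZMod n} {x : R}
    (h : k = k') (hx : LN V S k x) : LN V S k' x := by
  subst h; exact hx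

theorem LN.mem {V : ZMod n → AddSubgroup R} {S : Set (ZMod n)} (hV : IsGr V) {k : ZMod n}
    {x : R} (h : LN V S k x) : x ∈ V k := by
  induction h with
  | base hs hx => exact hx
  | step hx hs hg hk ih => subst hk; exact hV.lie_mem _ _ _ _ ih hg
  | add _ _ ih1 ih2 => exact add_mem ih1 ih2
  | zero => exact zero_mem _
  | neg _ ih => exact neg_mem ih

theorem LN.lie {V : ZMod n → AddSubgroup R} {S : Set (ZMod n)} {j : ZMod n} {y : R}
    (hy : LN V S j y) : ∀ {i : ZMod n} {x : R}, LN V S i x → LN V S (i + j) ⁅x, y⁆ := by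
  induction hy with
  | base hs hy => intro i x hx; exact LN.step hx hs hy rfl
  | @step j' s k y' g hy' hs hg hk ih =>
    intro i x hx
    subst hk
    have e : ⁅x, ⁅y', g⁆⁆ = ⁅⁅x, y'⁆, g⁆ + -⁅⁅x, g⁆, y'⁆ := by
      rw [leibniz_lie x y' g, lie_skew]
    rw [e]
    exact LN.add (LN.step (ih hx) hs hg (by ring))
      (LN.neg (LN.cast (by ring) (ih (LN.step hx hs hg rfl))))
  | add _ _ ih1 ih2 => intro i x hx; rw [lie_add]; exact LN.add (ih1 hx) (ih2 hx)
  | zero => intro i x hx; rw [lie_zero]; exact LN.zero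
  | neg _ ih => intro i x hx; rw [lie_neg]; exact LN.neg (ih hx)

theorem LN.mono {V W : ZMod n → AddSubgroup R} {S S' : Set (ZMod n)}
    (h : ∀ s ∈ S, ∀ g ∈ W s, LN V S' s g) {k : ZMod n} {x : R} (hx : LN W S k x) :
    LN V S' k x := by
  induction hx with
  | base hs hx => exact h _ hs _ hx
  | step hx hs hg hk ih => subst hk; exact LN.lie (h _ hs _ hg) ih
  | add _ _ ih1 ih2 => exact LN.add ih1 ih2
  | zero => exact LN.zero
  | neg _ ih => exact LN.neg ih

theorem LN_empty {V : ZMod n → AddSubgroup R} {k : ZMod n} {x : R} (hx : LN V ∅ k x) :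
    x = 0 := by
  induction hx with
  | base hs hx => exact absurd hs (Set.notMem_empty _)
  | step hx hs hg hk ih => exact absurd hs (Set.notMem_empty _)
  | add _ _ ih1 ih2 => rw [ih1, ih2, add_zero]
  | zero => rfl
  | neg _ ih => rw [ih, neg_zero]

/-- the subgroup of `LN`-elements of a given degree -/
def lnSub (V : ZMod n → AddSubgroup R) (S : Set (ZMod n)) (k : ZMod n) : AddSubgroup R where
  carrier := {x | LN V S k x}
  add_mem' := fun hx hy => LN.add hx hy
  zero_mem' := LN.zero
  neg_mem' := fun hx => LN.neg hx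

/-- degrees `k, k+1, …, n-1` -/
def Sge (n k : ℕ) : Set (ZMod n) := {s | ∃ t : ℕ, k ≤ t ∧ t < n ∧ s = (t : ZMod n)}

theorem key_lemma {V : ZMod n → AddSubgroup R} (hV : IsGr V) (k : ℕ) (hkn : k < n) :
    ∀ (i : ZMod n) (u : R), LN V (Sge n k) i u → ∀ (a b : ℕ), n < a + k → a < n → n < b + k →
      b < n → a + b + k = 2 * n → i = -(a : ZMod n) → ∀ v : R,
      LN V (Sge n k) (-(b : ZMod n)) v → LN V (Sge n (k + 1)) (k : ZMod n) ⁅u, v⁆ := by
  have hn0 : ((n : ℕ) : ZMod n) = 0 := ZMod.natCast_self n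
  intro i u hu
  induction hu with
  | @base s x hs hx =>
    intro a b ha1 ha2 hb1 hb2 hab hi v hv
    obtain ⟨t, ht1, ht2, rfl⟩ := hs
    exfalso
    have h0 : ((t + a : ℕ) : ZMod n) = 0 := by push_cast; rw [hi]; ring
    have hd : n ∣ t + a := (ZMod.natCast_eq_zero_iff _ _).1 h0
    have := Nat.eq_of_dvd_of_lt_two_mul (by omega) hd (by omega)
    omega
  | @step i' s k' u' g hu' hs hg hk ih =>
    intro a b ha1 ha2 hb1 hb2 hab hi v hv
    obtain ⟨t, ht1, ht2, rfl⟩ := hs
    subst hk
    obtain ⟨e, he⟩ : ∃ e, t + e = n := ⟨n - t, by omega⟩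
    obtain ⟨a', ha'⟩ : ∃ a', a = a' + e := ⟨a - e, by omega⟩
    have hE : (t : ZMod n) + (e : ZMod n) = 0 := by
      have := congrArg (Nat.cast : ℕ → ZMod n) he
      push_cast at this; rw [this, hn0]
    have hA : (a : ZMod n) = (a' : ZMod n) + (e : ZMod n) := by
      have := congrArg (Nat.cast : ℕ → ZMod n) ha'
      push_cast at this; exact this
    have hi' : i' = -(a' : ZMod n) := by linear_combination hi - hA - hE
    have e1 : ⁅⁅u', g⁆, v⁆ = ⁅⁅u', v⁆, g⁆ + ⁅u', ⁅g, v⁆⁆ := by
      rw [lie_lie, sub_eq_add_neg, lie_skew, add_comm]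
    rw [e1]
    have hgN : LN V (Sge n k) (t : ZMod n) g := LN.base ⟨t, ht1, ht2, rfl⟩ hg
    refine LN.add ?_ ?_
    · have h1 : LN V (Sge n k) (i' + -(b : ZMod n)) ⁅u', v⁆ := LN.lie hv hu'
      have h1m := h1.mem hV
      by_cases htk : t = k
      · have hz : i' + -(b : ZMod n) = 0 := by
          have h2 : a' + b = n := by omega
          have := congrArg (Nat.cast : ℕ → ZMod n) h2
          push_cast at this
          rw [hi']; linear_combination (-1 : ZMod n) * this - hn0
        rw [hz, hV.zero, AddSubgroup.mem_bot] at h1m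
        rw [h1m, zero_lie]; exact LN.zero
      · have hm : i' + -(b : ZMod n) = ((k + e : ℕ) : ZMod n) := by
          have h2 : (k + e) + (a' + b) = n + n := by omega
          have := congrArg (Nat.cast : ℕ → ZMod n) h2
          push_cast at this ⊢
          rw [hi']; linear_combination (-1 : ZMod n) * this - 2 * hn0
        rw [hm] at h1m
        have hb1' : LN V (Sge n (k + 1)) ((k + e : ℕ) : ZMod n) ⁅u', v⁆ :=
          LN.base ⟨k + e, by omega, by omega, rfl⟩ h1m
        refine LN.step hb1' ⟨t, by omega, ht2, rfl⟩ hg ?_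
        push_cast
        linear_combination (-1 : ZMod n) * hE
    · have h2 : LN V (Sge n k) ((t : ZMod n) + -(b : ZMod n)) ⁅g, v⁆ := LN.lie hv hgN
      rcases Nat.lt_trichotomy b t with hbt | hbt | hbt
      · have hb' : (t : ZMod n) + -(b : ZMod n) = -((b + e : ℕ) : ZMod n) := by
          push_cast
          linear_combination hE
        exact ih a' (b + e) (by omega) (by omega) (by omega) (by omega) (by omega) hi' _
          (LN.cast hb' h2)
      · have hz : (t : ZMod n) + -(b : ZMod n) = 0 := by rw [hbt]; ring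
        have h2m := h2.mem hV
        rw [hz, hV.zero, AddSubgroup.mem_bot] at h2m
        rw [h2m, lie_zero]; exact LN.zero
      · obtain ⟨c, hc⟩ : ∃ c, b = t + c := ⟨b - t, by omega⟩
        have h2m := h2.mem hV
        have hdeg : (t : ZMod n) + -(b : ZMod n) = ((n - c : ℕ) : ZMod n) := by
          have h3 : (n - c) + c = n := by omega
          have h4 := congrArg (Nat.cast : ℕ → ZMod n) h3
          have h5 := congrArg (Nat.cast : ℕ → ZMod n) hc
          push_cast at h4 h5
          rw [h5]; linear_combination (-1 : ZMod n) * h4 - hn0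
        rw [hdeg] at h2m
        have hgv : LN V (Sge n (k + 1)) ((n - c : ℕ) : ZMod n) ⁅g, v⁆ :=
          LN.base ⟨n - c, by omega, by omega, rfl⟩ h2m
        have hu'm := hu'.mem hV
        have hdeg' : i' = ((k + c : ℕ) : ZMod n) := by
          have h3 : (k + c) + a' = n := by omega
          have h4 := congrArg (Nat.cast : ℕ → ZMod n) h3
          push_cast at h4 ⊢
          rw [hi']; linear_combination (-1 : ZMod n) * h4 - hn0
        rw [hdeg'] at hu'm
        have hu'H : LN V (Sge n (k + 1)) ((k + c : ℕ) : ZMod n) u' :=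
          LN.base ⟨k + c, by omega, by omega, rfl⟩ hu'm
        refine LN.cast ?_ (LN.lie hgv hu'H)
        have h3 : (n - c) + c = n := by omega
        have h4 := congrArg (Nat.cast : ℕ → ZMod n) h3
        push_cast at h4 ⊢
        linear_combination h4 + hn0
  | add _ _ ih1 ih2 =>
    intro a b ha1 ha2 hb1 hb2 hab hi v hv
    rw [add_lie]
    exact LN.add (ih1 a b ha1 ha2 hb1 hb2 hab hi v hv) (ih2 a b ha1 ha2 hb1 hb2 hab hi v hv)
  | zero =>
    intro a b ha1 ha2 hb1 hb2 hab hi v hv
    rw [zero_lie]; exact LN.zero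
  | neg _ ih =>
    intro a b ha1 ha2 hb1 hb2 hab hi v hv
    rw [neg_lie]; exact LN.neg (ih a b ha1 ha2 hb1 hb2 hab hi v hv)

theorem Ek (k : ℕ)
    (hC : ∀ i, 1 ≤ i → i < k → i < n → ∀ (V : ZMod n → AddSubgroup R), IsGr V →
      ∀ x ∈ Dm V (2 ^ (i - 1)) (i : ZMod n), LN V (Sge n (i + 1)) (i : ZMod n) x)
    (V : ZMod n → AddSubgroup R) (hV : IsGr V) :
    ∀ j i, 1 ≤ i → i ≤ k → i < n → k - i = j →
      ∀ x ∈ Dm V (2 ^ (k - 1) - 2 ^ (i - 1)) (i : ZMod n), LN V (Sge n k) (i : ZMod n) x := by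
  intro j
  induction j using Nat.strong_induction_on with
  | _ j IH =>
  intro i hi1 hik hin hj x hx
  rcases Nat.eq_or_lt_of_le hik with rfl | hlt
  · rw [Nat.sub_self] at hx
    exact LN.base ⟨i, le_refl _, hin, rfl⟩ hx
  · have h1 : 2 ^ i = 2 * 2 ^ (i - 1) := by
      rw [← pow_succ']; congr 1; omega
    have h2 : 2 ^ i ≤ 2 ^ (k - 1) := Nat.pow_le_pow_right (by norm_num) (by omega)
    have e1 : 2 ^ (k - 1) - 2 ^ (i - 1) = 2 ^ (i - 1) + (2 ^ (k - 1) - 2 ^ i) := by omega
    rw [e1, Dm_add] at hx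
    have hK := Dm_isGr hV (2 ^ (k - 1) - 2 ^ i)
    have h3 := hC i hi1 hlt hin (Dm V (2 ^ (k - 1) - 2 ^ i)) hK x hx
    refine LN.mono ?_ h3
    rintro s ⟨t, ht1, ht2, rfl⟩ g hg
    by_cases htk : k ≤ t
    · exact LN.base ⟨t, htk, ht2, rfl⟩ (Dm_le hV _ _ hg)
    · refine IH (k - t) (by omega) t (by omega) (by omega) ht2 rfl g ?_
      refine Dm_antitone hV ?_ _ hg
      have : 2 ^ i ≤ 2 ^ (t - 1) := Nat.pow_le_pow_right (by norm_num) (by omega)
      omega

theorem Ck [NeZero n] : ∀ k, 1 ≤ k → k < n → ∀ (V : ZMod n → AddSubgroup R), IsGr V →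
    ∀ x ∈ Dm V (2 ^ (k - 1)) (k : ZMod n), LN V (Sge n (k + 1)) (k : ZMod n) x := by
  intro k
  induction k using Nat.strong_induction_on with
  | _ k IH =>
  intro hk1 hkn V hV x hx
  obtain ⟨m, hm⟩ : ∃ m, 2 ^ (k - 1) = m + 1 :=
    ⟨2 ^ (k - 1) - 1, by have := Nat.one_le_two_pow (n := k - 1); omega⟩
  rw [hm] at hx
  have hK := Dm_isGr hV m
  have hE := Ek k (fun i hi1 hik hin => IH i hik hi1 hin) V hV
  have key : Br (Dm V m) (Dm V m) (k : ZMod n) ≤ lnSub V (Sge n (k + 1)) (k : ZMod n) := by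
    refine Br_le ?_
    intro i j x y hij hx hy
    show LN V (Sge n (k + 1)) (k : ZMod n) ⁅x, y⁆
    have hi := ZMod.natCast_zmod_val i
    have hj := ZMod.natCast_zmod_val j
    have hil := ZMod.val_lt i
    have hjl := ZMod.val_lt j
    by_cases hi0 : i.val = 0
    · have : i = 0 := by rw [← hi, hi0]; simp
      rw [this, hK.zero, AddSubgroup.mem_bot] at hx
      rw [hx, zero_lie]; exact LN.zero
    by_cases hj0 : j.val = 0
    · have : j = 0 := by rw [← hj, hj0]; simp
      rw [this, hK.zero, AddSubgroup.mem_bot] at hy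
      rw [hy, lie_zero]; exact LN.zero
    have hsum : ((i.val + j.val : ℕ) : ZMod n) = (k : ZMod n) := by
      push_cast; rw [hi, hj, hij]
    have hmod := (ZMod.natCast_eq_natCast_iff' _ _ _).1 hsum
    rw [Nat.mod_eq_of_lt hkn] at hmod
    by_cases hlt : i.val + j.val < n
    · rw [Nat.mod_eq_of_lt hlt] at hmod
      -- i.val + j.val = k
      have hxN : LN V (Sge n k) ((i.val : ℕ) : ZMod n) x := by
        refine hE (k - i.val) i.val (by omega) (by omega) hil rfl x ?_
        rw [hi]
        refine Dm_antitone hV ?_ _ hx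
        have := Nat.one_le_two_pow (n := i.val - 1)
        omega
      have hyN : LN V (Sge n k) ((j.val : ℕ) : ZMod n) y := by
        refine hE (k - j.val) j.val (by omega) (by omega) hjl rfl y ?_
        rw [hj]
        refine Dm_antitone hV ?_ _ hy
        have := Nat.one_le_two_pow (n := j.val - 1)
        omega
      have hn0 : ((n : ℕ) : ZMod n) = 0 := ZMod.natCast_self n
      have ea : ((i.val : ℕ) : ZMod n) = -((n - i.val : ℕ) : ZMod n) := by
        have h3 : (n - i.val) + i.val = n := by omega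
        have h4 := congrArg (Nat.cast : ℕ → ZMod n) h3
        push_cast at h4
        linear_combination h4 + hn0
      have eb : ((j.val : ℕ) : ZMod n) = -((n - j.val : ℕ) : ZMod n) := by
        have h3 : (n - j.val) + j.val = n := by omega
        have h4 := congrArg (Nat.cast : ℕ → ZMod n) h3
        push_cast at h4
        linear_combination h4 + hn0
      exact key_lemma hV k hkn _ x hxN (n - i.val) (n - j.val) (by omega) (by omega) (by omega)
        (by omega) (by omega) ea y (LN.cast eb hyN)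
    · -- i.val + j.val = k + n
      have h5 : (i.val + j.val) % n = i.val + j.val - n := by
        rw [Nat.mod_eq_sub_mod (by omega)]
        exact Nat.mod_eq_of_lt (by omega)
      rw [h5] at hmod
      have hxb : LN V (Sge n (k + 1)) i x :=
        LN.base ⟨i.val, by omega, hil, hi.symm⟩ (Dm_le hV m i hx)
      exact LN.step hxb ⟨j.val, by omega, hjl, hj.symm⟩ (Dm_le hV m j hy) hij.symm
  exact key hx

/-- **Kreknin's theorem** for graded families: the derived family of index `2 ^ (n - 1) - 1`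
is trivial. -/
theorem kreknin [NeZero n] (V : ZMod n → AddSubgroup R) (hV : IsGr V) (t : ZMod n) :
    Dm V (2 ^ (n - 1) - 1) t = ⊥ := by
  rw [eq_bot_iff]
  intro x hx
  rw [AddSubgroup.mem_bot]
  by_cases ht0 : t.val = 0
  · have : t = 0 := by rw [← ZMod.natCast_zmod_val t, ht0]; simp
    have h1 := Dm_le hV _ _ hx
    rw [this, hV.zero, AddSubgroup.mem_bot] at h1
    exact h1
  · have hE := Ek n (fun i hi1 hik hin => Ck i hi1 hin) V hV (n - t.val) t.val (by omega)
      (le_of_lt (ZMod.val_lt t)) (ZMod.val_lt t) rfl x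
    rw [ZMod.natCast_zmod_val t] at hE
    have h2 : LN V (Sge n n) t x := by
      refine hE (Dm_antitone hV ?_ _ hx)
      have := Nat.one_le_two_pow (n := t.val - 1)
      omega
    have h3 : Sge n n = ∅ := by
      ext s
      simp only [Sge, Set.mem_ofPred_eq, Set.mem_empty_iff_false, iff_false]
      rintro ⟨t, h1, h2, -⟩
      omega
    rw [h3] at h2
    exact LN_empty h2

end Cfsg.Agent.Lib.helper68.HK
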