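import Cfsg.Agent.Lib.helper68.KrekA

/-!
# Higman's step: solvable graded families over `ZMod p` are nilpotent

`LcS V j` is the `(j+1)`-st lower central family.  Main results: `nil_of_solv`
(`Dm V s = ⊥ → LcS V (∑ i < s, (p-1)^i) = ⊥`) and `hkk_family` (Higman–Kreknin–Kostrikin bound).
-/

set_option autoImplicit false

namespace Cfsg.Agent.Lib.helper68.HK

set_option linter.unusedSectionVars false
set_option linter.unusedVariables false

variable {R : Type*} [LieRing R] {n : ℕ}

/-- lower central families: `LcS M j` is the `(j+1)`-st term -/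
def LcS (M : ZMod n → AddSubgroup R) : ℕ → ZMod n → AddSubgroup R
  | 0 => M
  | (w + 1) => Br (LcS M w) M

/-- left-normed bracket with a list of (degree, element) pairs -/
def T (u : R) (ys : List (ZMod n × R)) : R := ys.foldl (fun acc y => ⁅acc, y.2⁆) u

/-- total degree of a list -/
def degsum (ys : List (ZMod n × R)) : ZMod n := (ys.map Prod.fst).sum

@[simp] theorem T_nil (u : R) : T u ([] : List (ZMod n × R)) = u := rfl

@[simp] theorem T_cons (u : R) (y : ZMod n × R) (ys : List (ZMod n × R)) :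
    T u (y :: ys) = T ⁅u, y.2⁆ ys := rfl

theorem T_append (u : R) (ys zs : List (ZMod n × R)) : T u (ys ++ zs) = T (T u ys) zs := by
  unfold T; rw [List.foldl_append]

theorem T_add (ys : List (ZMod n × R)) : ∀ u v : R, T (u + v) ys = T u ys + T v ys := by
  induction ys with
  | nil => intro u v; rfl
  | cons y ys ih => intro u v; rw [T_cons, T_cons, T_cons, add_lie, ih]

theorem T_zero (ys : List (ZMod n × R)) : T (0 : R) ys = 0 := by
  induction ys with
  | nil => rfl
  | cons y ys ih => rw [T_cons, zero_lie, ih]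

theorem T_neg (ys : List (ZMod n × R)) (u : R) : T (-u) ys = -T u ys := by
  have := T_add ys u (-u)
  rw [add_neg_cancel, T_zero] at this
  exact (neg_eq_of_add_eq_zero_right this.symm).symm

theorem T_eq_zero_of_mem : ∀ (ys : List (ZMod n × R)) (u : R),
    (∃ y ∈ ys, y.2 = 0) → T u ys = 0 := by
  intro ys
  induction ys with
  | nil => intro u h; obtain ⟨y, hy, -⟩ := h; simp at hy
  | cons z ys ih =>
    intro u h
    obtain ⟨y, hy, hy0⟩ := h
    rw [T_cons]
    rcases List.mem_cons.1 hy with rfl | hy'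
    · rw [hy0, lie_zero, T_zero]
    · exact ih _ ⟨y, hy', hy0⟩

@[simp] theorem degsum_nil : degsum ([] : List (ZMod n × R)) = 0 := rfl

@[simp] theorem degsum_cons (y : ZMod n × R) (ys : List (ZMod n × R)) :
    degsum (y :: ys) = y.1 + degsum ys := by
  simp [degsum]

theorem degsum_append (ys zs : List (ZMod n × R)) :
    degsum (ys ++ zs) = degsum ys + degsum zs := by
  simp [degsum]

/-- right bracket as an additive map -/
def adR (y : R) : R →+ R := AddMonoidHom.mk' (fun z => ⁅z, y⁆) (fun a b => add_lie a b y)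

@[simp] theorem adR_apply (y z : R) : adR y z = ⁅z, y⁆ := rfl

theorem mem_cast {F : ZMod n → AddSubgroup R} {a b : ZMod n} {x : R} (h : a = b)
    (hx : x ∈ F a) : x ∈ F b := h ▸ hx

theorem LcS_le {V : ZMod n → AddSubgroup R} (hV : IsGr V) :
    ∀ (j : ℕ) (a : ZMod n), LcS (Br V V) j a ≤ V a
  | 0, a => Br_self_le hV a
  | (j + 1), a => Br_le (fun i i' x y hii hx hy =>
      hii ▸ hV.lie_mem i i' x y (LcS_le hV j i hx) (Br_self_le hV i' hy))

theorem LcS_lie {V : ZMod n → AddSubgroup R} (hV : IsGr V) :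
    ∀ (j : ℕ) (a b : ZMod n) (x y : R), x ∈ LcS (Br V V) j a → y ∈ V b →
      ⁅x, y⁆ ∈ LcS (Br V V) j (a + b) := by
  intro j
  induction j with
  | zero => intro a b x y hx hy; exact Br_gen rfl (Br_self_le hV a hx) hy
  | succ j ih =>
    intro a b x y hx hy
    refine Br_map_mem (C := LcS (Br V V) (j + 1) (a + b)) (adR y) ?_ hx
    intro i i' u m hii hu hm
    show ⁅⁅u, m⁆, y⁆ ∈ _
    have e : ⁅⁅u, m⁆, y⁆ = ⁅u, ⁅m, y⁆⁆ + ⁅⁅u, y⁆, m⁆ := by
      rw [lie_lie, sub_eq_add_neg, lie_skew]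
    rw [e]
    refine add_mem (Br_gen ?_ hu (Br_gen rfl (Br_self_le hV i' hm) hy))
      (Br_gen ?_ (ih i b u y hu hy) hm)
    · rw [← hii]; ring
    · rw [← hii]; ring

theorem T_mem {V : ZMod n → AddSubgroup R} (hV : IsGr V) (j : ℕ) :
    ∀ (ys : List (ZMod n × R)) (a : ZMod n) (x : R), x ∈ LcS (Br V V) j a →
      (∀ y ∈ ys, y.2 ∈ V y.1) → T x ys ∈ LcS (Br V V) j (a + degsum ys) := by
  intro ys
  induction ys with
  | nil => intro a x hx _; simpa using hx
  | cons y ys ih =>
    intro a x hx hys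
    rw [T_cons, degsum_cons]
    refine mem_cast ?_ (ih (a + y.1) ⁅x, y.2⁆
      (LcS_lie hV j a y.1 x y.2 hx (hys y List.mem_cons_self))
      (fun z hz => hys z (List.mem_cons_of_mem _ hz)))
    ring

theorem T_swap {V : ZMod n → AddSubgroup R} (hV : IsGr V) (j : ℕ) :
    ∀ (zs : List (ZMod n × R)) (a b : ZMod n) (x y : R), x ∈ LcS (Br V V) j a → y ∈ V b →
      (∀ z ∈ zs, z.2 ∈ V z.1) →
      T ⁅x, y⁆ zs - ⁅T x zs, y⁆ ∈ LcS (Br V V) (j + 1) (a + b + degsum zs) := by
  intro zs
  induction zs with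
  | nil => intro a b x y hx hy _; simp
  | cons z zs ih =>
    intro a b x y hx hy hzs
    have hz := hzs z List.mem_cons_self
    have hzs' : ∀ w ∈ zs, w.2 ∈ V w.1 := fun w hw => hzs w (List.mem_cons_of_mem _ hw)
    rw [T_cons, T_cons, degsum_cons]
    have e : ⁅⁅x, y⁆, z.2⁆ = ⁅⁅x, z.2⁆, y⁆ + ⁅x, ⁅y, z.2⁆⁆ := by
      rw [lie_lie, sub_eq_add_neg, lie_skew, add_comm]
    rw [e, T_add]
    have h1 := ih (a + z.1) b ⁅x, z.2⁆ y (LcS_lie hV j a z.1 x z.2 hx hz) hy hzs'
    have h2 : ⁅x, ⁅y, z.2⁆⁆ ∈ LcS (Br V V) (j + 1) (a + (b + z.1)) :=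
      Br_gen rfl hx (Br_gen rfl hy hz)
    have h3 := T_mem hV (j + 1) zs _ _ h2 hzs'
    have e2 : T ⁅⁅x, z.2⁆, y⁆ zs + T ⁅x, ⁅y, z.2⁆⁆ zs - ⁅T ⁅x, z.2⁆ zs, y⁆
        = (T ⁅⁅x, z.2⁆, y⁆ zs - ⁅T ⁅x, z.2⁆ zs, y⁆) + T ⁅x, ⁅y, z.2⁆⁆ zs := by abel
    rw [e2]
    exact add_mem (mem_cast (by ring) h1) (mem_cast (by ring) h3)

theorem T_sub_mem {V : ZMod n → AddSubgroup R} (hV : IsGr V) (j : ℕ)
    {ys' ys : List (ZMod n × R)} (h : List.Sublist ys' ys) :
    ∀ (a : ZMod n) (x : R), x ∈ LcS (Br V V) j a → (∀ y ∈ ys, y.2 ∈ V y.1) →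
      degsum ys' = -a → T x ys ∈ LcS (Br V V) (j + 1) (a + degsum ys) := by
  induction h with
  | slnil =>
    intro a x hx _ hs
    have ha : a = 0 := by
      rw [degsum_nil] at hs
      exact neg_eq_zero.1 hs.symm
    have hx0 := LcS_le hV j a hx
    rw [ha, hV.zero, AddSubgroup.mem_bot] at hx0
    rw [hx0, T_zero]; exact zero_mem _
  | @cons ys' ys y h ih =>
    intro a x hx hys hs
    have hy := hys y List.mem_cons_self
    have hys' : ∀ w ∈ ys, w.2 ∈ V w.1 := fun w hw => hys w (List.mem_cons_of_mem _ hw)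
    have h1 := T_swap hV j ys a y.1 x y.2 hx hy hys'
    have h2 := ih a x hx hys' hs
    have h3 := LcS_lie hV (j + 1) (a + degsum ys) y.1 (T x ys) y.2 h2 hy
    rw [T_cons, degsum_cons]
    have e : T ⁅x, y.2⁆ ys = (T ⁅x, y.2⁆ ys - ⁅T x ys, y.2⁆) + ⁅T x ys, y.2⁆ := by abel
    rw [e]
    exact add_mem (mem_cast (by ring) h1) (mem_cast (by ring) h3)
  | @cons_cons ys' ys y h ih =>
    intro a x hx hys hs
    have hy := hys y List.mem_cons_self
    have hys' : ∀ w ∈ ys, w.2 ∈ V w.1 := fun w hw => hys w (List.mem_cons_of_mem _ hw)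
    rw [T_cons, degsum_cons]
    refine mem_cast ?_ (ih (a + y.1) ⁅x, y.2⁆ (LcS_lie hV j a y.1 x y.2 hx hy) hys' ?_)
    · ring
    · rw [degsum_cons] at hs
      linear_combination hs

section SubsetSum

variable {p : ℕ} [Fact p.Prime]

/-- the set of sums of sublists -/
def sums : List (ZMod p) → Finset (ZMod p)
  | [] => {0}
  | (b :: l) => sums l ∪ (sums l).image (· + b)

theorem zero_mem_sums (l : List (ZMod p)) : (0 : ZMod p) ∈ sums l := by
  induction l with
  | nil => simp [sums]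
  | cons b l ih => simp [sums, ih]

theorem sums_spec : ∀ (l : List (ZMod p)) (t : ZMod p), t ∈ sums l →
    ∃ l', List.Sublist l' l ∧ l'.sum = t := by
  intro l
  induction l with
  | nil =>
    intro t ht
    simp only [sums, Finset.mem_singleton] at ht
    exact ⟨[], List.Sublist.slnil, by simp [ht]⟩
  | cons b l ih =>
    intro t ht
    simp only [sums, Finset.mem_union, Finset.mem_image] at ht
    rcases ht with ht | ⟨t', ht', rfl⟩
    · obtain ⟨l', hl', hs⟩ := ih t ht
      exact ⟨l', List.Sublist.cons b hl', hs⟩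
    · obtain ⟨l', hl', hs⟩ := ih t' ht'
      exact ⟨b :: l', List.Sublist.cons_cons b hl', by simp [hs, add_comm]⟩

theorem sums_card : ∀ (l : List (ZMod p)), (∀ b ∈ l, b ≠ 0) →
    min p (l.length + 1) ≤ (sums l).card := by
  intro l
  induction l with
  | nil => intro _; simp [sums]
  | cons b l ih =>
    intro hb
    have hb0 : b ≠ 0 := hb b List.mem_cons_self
    have ih' := ih (fun c hc => hb c (List.mem_cons_of_mem _ hc))
    have hsub : sums l ⊆ sums (b :: l) := Finset.subset_union_left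
    by_cases hall : sums l = Finset.univ
    · have : sums (b :: l) = Finset.univ := Finset.univ_subset_iff.1 (hall ▸ hsub)
      rw [this, Finset.card_univ, ZMod.card]; exact min_le_left _ _
    · have hex : ∃ t ∈ sums l, t + b ∉ sums l := by
        by_contra hcon
        simp only [not_exists, not_and, not_not] at hcon
        apply hall
        rw [Finset.eq_univ_iff_forall]
        intro x
        have hmul : ∀ m : ℕ, (m : ZMod p) * b ∈ sums l := by
          intro m
          induction m with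
          | zero => simpa using zero_mem_sums l
          | succ m ihm =>
            have := hcon _ ihm
            push_cast; rw [add_mul, one_mul]; exact this
        have := hmul (x / b).val
        rw [ZMod.natCast_zmod_val, div_mul_cancel₀ x hb0] at this
        exact this
      obtain ⟨t, ht, htb⟩ := hex
      have hlt : (sums l).card < (sums (b :: l)).card := by
        apply Finset.card_lt_card
        refine ⟨hsub, fun hsup => htb (hsup ?_)⟩
        simp only [sums, Finset.mem_union, Finset.mem_image]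
        exact Or.inr ⟨t, ht, rfl⟩
      simp only [List.length_cons]
      omega

theorem exists_sublist_sum (bs : List (ZMod p)) (hb : ∀ b ∈ bs, b ≠ 0)
    (hl : p - 1 ≤ bs.length) (t : ZMod p) : ∃ bs', List.Sublist bs' bs ∧ bs'.sum = t := by
  apply sums_spec
  have h1 := sums_card bs hb
  have hp := (Fact.out : p.Prime).pos
  have h2 : p ≤ (sums bs).card := by
    rw [min_eq_left (by omega)] at h1; exact h1
  have h3 : sums bs = Finset.univ := by
    apply Finset.eq_univ_of_card
    have := Finset.card_le_univ (sums bs)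
    rw [ZMod.card] at this ⊢
    omega
  rw [h3]; exact Finset.mem_univ _

theorem dagger {V : ZMod p → AddSubgroup R} (hV : IsGr V) (j : ℕ)
    (ys : List (ZMod p × R)) (a : ZMod p) (x : R) (hx : x ∈ LcS (Br V V) j a)
    (hys : ∀ y ∈ ys, y.2 ∈ V y.1) (hlen : ys.length = p - 1) :
    T x ys ∈ LcS (Br V V) (j + 1) (a + degsum ys) := by
  by_cases h0 : ∃ y ∈ ys, y.1 = 0
  · obtain ⟨y, hy, hy0⟩ := h0
    have h1 := hys y hy
    rw [hy0, hV.zero, AddSubgroup.mem_bot] at h1
    rw [T_eq_zero_of_mem ys x ⟨y, hy, h1⟩]; exact zero_mem _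
  · simp only [not_exists, not_and] at h0
    obtain ⟨bs', hsub, hsum⟩ := exists_sublist_sum (ys.map Prod.fst)
      (by
        intro b hb
        obtain ⟨y, hy, rfl⟩ := List.mem_map.1 hb
        exact h0 y hy)
      (by rw [List.length_map, hlen]) (-a)
    obtain ⟨ys', hys', rfl⟩ := List.sublist_map_iff.1 hsub
    exact T_sub_mem hV j hys' a x hx hys hsum

end SubsetSum

theorem LcS_closure (F : ZMod n → AddSubgroup R) (w : ℕ) :
    ∀ (r : ℕ) (k : ZMod n) (x : R), x ∈ LcS F (w + r) k →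
      x ∈ AddSubgroup.closure {z | ∃ (a : ZMod n) (u : R) (ys : List (ZMod n × R)),
        u ∈ LcS F w a ∧ (∀ y ∈ ys, y.2 ∈ F y.1) ∧ ys.length = r ∧ a + degsum ys = k ∧
        z = T u ys} := by
  intro r
  induction r with
  | zero =>
    intro k x hx
    exact AddSubgroup.subset_closure ⟨k, x, [], hx, by simp, rfl, by simp, rfl⟩
  | succ r ih =>
    intro k x hx
    have hx' : x ∈ Br (LcS F (w + r)) F k := hx
    refine Br_map_mem (AddMonoidHom.id R) ?_ hx'
    intro i j x' y hij hx' hy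
    rw [AddMonoidHom.id_apply]
    have h1 := ih i x' hx'
    have h2 : AddSubgroup.closure {z | ∃ (a : ZMod n) (u : R) (ys : List (ZMod n × R)),
        u ∈ LcS F w a ∧ (∀ y ∈ ys, y.2 ∈ F y.1) ∧ ys.length = r ∧ a + degsum ys = i ∧
        z = T u ys} ≤ (AddSubgroup.closure {z | ∃ (a : ZMod n) (u : R)
        (ys : List (ZMod n × R)), u ∈ LcS F w a ∧ (∀ y ∈ ys, y.2 ∈ F y.1) ∧
        ys.length = r + 1 ∧ a + degsum ys = k ∧ z = T u ys}).comap (adR y) := by
      refine (AddSubgroup.closure_le _).2 ?_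
      rintro _ ⟨a, u, ys, hu, hys, hlen, hdeg, rfl⟩
      rw [SetLike.mem_coe, AddSubgroup.mem_comap, adR_apply]
      refine AddSubgroup.subset_closure ⟨a, u, ys ++ [(j, y)], hu, ?_, ?_, ?_, ?_⟩
      · intro z hz
        rcases List.mem_append.1 hz with hz | hz
        · exact hys z hz
        · rw [List.mem_singleton] at hz
          subst hz; exact hy
      · simp [hlen]
      · rw [degsum_append, degsum_cons, degsum_nil, ← hij, ← hdeg]; ring
      · rw [T_append]; rfl
    exact h2 h1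

theorem lemA {p : ℕ} [Fact p.Prime] {V : ZMod p → AddSubgroup R} (hV : IsGr V) :
    ∀ (j : ℕ) (k : ZMod p), LcS V (1 + (p - 1) * j) k ≤ LcS (Br V V) j k := by
  intro j
  induction j with
  | zero => intro k; exact le_refl _
  | succ j ih =>
    intro k x hx
    have e : 1 + (p - 1) * (j + 1) = (1 + (p - 1) * j) + (p - 1) := by ring
    rw [e] at hx
    have h1 := LcS_closure V (1 + (p - 1) * j) (p - 1) k x hx
    refine (AddSubgroup.closure_le _).2 ?_ h1
    rintro _ ⟨a, u, ys, hu, hys, hlen, hdeg, rfl⟩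
    exact mem_cast hdeg (dagger hV j ys a u (ih a hu) hys hlen)

/-- **Higman's step**: a graded family over `ZMod p` with `L₀ = 0` that is solvable of derived
length `s` is nilpotent of class at most `1 + (p-1) + ⋯ + (p-1)^(s-1)`. -/
theorem nil_of_solv {p : ℕ} [Fact p.Prime] : ∀ (s : ℕ) (V : ZMod p → AddSubgroup R), IsGr V →
    (∀ k, Dm V s k = ⊥) → ∀ k, LcS V (∑ i ∈ Finset.range s, (p - 1) ^ i) k = ⊥ := by
  intro s
  induction s with
  | zero =>
    intro V hV h k
    simp only [Finset.range_zero, Finset.sum_empty]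
    exact h k
  | succ s ih =>
    intro V hV h k
    have h' : ∀ k, Dm (Br V V) s k = ⊥ := by
      intro k
      have := Dm_add V s 1
      rw [this] at h
      exact h k
    have h1 := ih (Br V V) hV.br h'
    have e : ∑ i ∈ Finset.range (s + 1), (p - 1) ^ i
        = 1 + (p - 1) * ∑ i ∈ Finset.range s, (p - 1) ^ i := by
      rw [Finset.sum_range_succ', Finset.mul_sum]
      simp [pow_succ, add_comm, mul_comm]
    rw [e, eq_bot_iff]
    exact le_trans (lemA hV _ k) (le_of_eq (h1 k))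

/-- **Higman–Kreknin–Kostrikin** for graded families. -/
theorem hkk_family {p : ℕ} [Fact p.Prime] (V : ZMod p → AddSubgroup R) (hV : IsGr V)
    (k : ZMod p) : LcS V (∑ i ∈ Finset.range (2 ^ (p - 1) - 1), (p - 1) ^ i) k = ⊥ :=
  nil_of_solv _ V hV (fun t => kreknin V hV t) k

theorem lie_mem_iSup_LcS (V : ZMod n → AddSubgroup R) (w : ℕ) {x y : R}
    (hx : x ∈ ⨆ k, LcS V w k) (hy : y ∈ ⨆ k, V k) : ⁅x, y⁆ ∈ ⨆ k, LcS V (w + 1) k := by
  refine AddSubgroup.iSup_induction (fun k => LcS V w k)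
    (C := fun x => ⁅x, y⁆ ∈ ⨆ k, LcS V (w + 1) k) hx ?_ ?_ ?_
  · intro i x hx
    refine AddSubgroup.iSup_induction (fun k => V k)
      (C := fun y => ⁅x, y⁆ ∈ ⨆ k, LcS V (w + 1) k) hy ?_ ?_ ?_
    · intro j y hy
      exact AddSubgroup.mem_iSup_of_mem (i + j) (Br_gen rfl hx hy)
    · rw [lie_zero]; exact zero_mem _
    · intro a b ha hb; rw [lie_add]; exact add_mem ha hb
  · rw [zero_lie]; exact zero_mem _
  · intro a b ha hb; rw [add_lie]; exact add_mem ha hb

theorem foldl_mem_iSup (V : ZMod n → AddSubgroup R) :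
    ∀ (xs : List R) (w : ℕ) (x : R), x ∈ ⨆ k, LcS V w k → (∀ y ∈ xs, y ∈ ⨆ k, V k) →
      xs.foldl (fun a b => ⁅a, b⁆) x ∈ ⨆ k, LcS V (w + xs.length) k := by
  intro xs
  induction xs with
  | nil => intro w x hx _; simpa using hx
  | cons y ys ih =>
    intro w x hx h
    rw [List.foldl_cons]
    have := ih (w + 1) ⁅x, y⁆ (lie_mem_iSup_LcS V w hx (h y List.mem_cons_self))
      (fun z hz => h z (List.mem_cons_of_mem _ hz))
    rw [List.length_cons]
    have e : w + (ys.length + 1) = w + 1 + ys.length := by omega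
    rw [e]; exact this

/-- left-normed brackets of length `h(p) + 1` of sums of homogeneous elements vanish. -/
theorem hkk_total {p : ℕ} [Fact p.Prime] (V : ZMod p → AddSubgroup R) (hV : IsGr V) (x : R)
    (xs : List R) (hx : x ∈ ⨆ k, V k) (hxs : ∀ y ∈ xs, y ∈ ⨆ k, V k)
    (hlen : xs.length = ∑ i ∈ Finset.range (2 ^ (p - 1) - 1), (p - 1) ^ i) :
    xs.foldl (fun a b => ⁅a, b⁆) x = 0 := by
  have h := foldl_mem_iSup V xs 0 x hx hxs
  rw [zero_add, hlen] at h
  have e : (⨆ k, LcS V (∑ i ∈ Finset.range (2 ^ (p - 1) - 1), (p - 1) ^ i) k) = ⊥ := by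
    simp [hkk_family V hV]
  rw [e] at h
  exact AddSubgroup.mem_bot.1 h

end Cfsg.Agent.Lib.helper68.HK
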