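import Cfsg.Agent.Lib.helper68.KrekB

/-!
# Loop extension of a Lie ring and Higman's theorem for Lie rings

`Loop p L = (ZMod p → L)` with the convolution bracket (i.e. `L ⊗ ℤ[C_p]`).  For an
automorphism `φ` of `L` with `φ^p = 1` the "eigen-families" `EV φ j = {f | φ (f k) = f (k - j)}`
form a graded family; if `φ` has no nonzero fixed points it has trivial zero component.
Main result: `higman_lie`.
-/

set_option autoImplicit false

namespace Cfsg.Agent.Lib.helper68.HK

/-- loop extension: functions `ZMod p → L` -/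
def Loop (p : ℕ) (L : Type*) := ZMod p → L

namespace Loop

set_option linter.unusedSectionVars false

variable {L : Type*} [LieRing L] {p : ℕ}

instance : AddCommGroup (Loop p L) := inferInstanceAs (AddCommGroup (ZMod p → L))

@[simp] theorem add_apply (f g : Loop p L) (k : ZMod p) : (f + g) k = f k + g k := rfl
@[simp] theorem zero_apply (k : ZMod p) : (0 : Loop p L) k = 0 := rfl
@[simp] theorem neg_apply (f : Loop p L) (k : ZMod p) : (-f) k = -f k := rfl
@[simp] theorem sub_apply (f g : Loop p L) (k : ZMod p) : (f - g) k = f k - g k := rfl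
@[simp] theorem nsmul_apply (m : ℕ) (f : Loop p L) (k : ZMod p) : (m • f) k = m • f k := rfl

theorem sum_apply {ι : Type*} (s : Finset ι) (F : ι → Loop p L) (k : ZMod p) :
    (∑ i ∈ s, F i) k = ∑ i ∈ s, F i k :=
  Finset.sum_apply (M := fun _ : ZMod p => L) k s F

@[ext] theorem ext {f g : Loop p L} (h : ∀ k, f k = g k) : f = g := funext h

variable [NeZero p]

instance : Bracket (Loop p L) (Loop p L) := ⟨fun f g k => ∑ a : ZMod p, ⁅f a, g (k - a)⁆⟩

theorem bracket_apply (f g : Loop p L) (k : ZMod p) :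
    ⁅f, g⁆ k = ∑ a : ZMod p, ⁅f a, g (k - a)⁆ := rfl

instance : LieRing (Loop p L) where
  add_lie := by
    intro f g h; ext k
    simp only [bracket_apply, add_apply, add_lie, Finset.sum_add_distrib]
  lie_add := by
    intro f g h; ext k
    simp only [bracket_apply, add_apply, lie_add, Finset.sum_add_distrib]
  lie_self := by
    intro f; ext k
    rw [bracket_apply, zero_apply]
    refine Finset.sum_involution (fun a _ => k - a) ?_ ?_ (fun a _ => Finset.mem_univ _) ?_
    · intro a _
      rw [sub_sub_cancel, ← lie_skew (f a) (f (k - a)), neg_add_cancel]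
    · intro a _ h1 h2
      apply h1
      rw [h2, lie_self]
    · intro a _
      exact sub_sub_cancel k a
  leibniz_lie := by
    intro f g h; ext k
    simp only [bracket_apply, add_apply, lie_sum, sum_lie]
    rw [Finset.sum_comm (f := fun c a => ⁅⁅f a, g (c - a)⁆, h (k - c)⁆),
      Finset.sum_comm (f := fun b a => ⁅g b, ⁅f a, h (k - b - a)⁆⁆), ← Finset.sum_add_distrib]
    refine Finset.sum_congr rfl (fun a _ => ?_)
    rw [← Equiv.sum_comp (Equiv.addRight a) (fun c => ⁅⁅f a, g (c - a)⁆, h (k - c)⁆),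
      ← Finset.sum_add_distrib]
    refine Finset.sum_congr rfl (fun b _ => ?_)
    simp only [Equiv.coe_addRight, add_sub_cancel_right]
    rw [leibniz_lie, show k - a - b = k - (b + a) by abel, show k - b - a = k - (b + a) by abel]

/-- eigen-family of the automorphism `φ` -/
def EV (φ : L →+ L) (j : ZMod p) : AddSubgroup (Loop p L) where
  carrier := {f | ∀ k, φ (f k) = f (k - j)}
  add_mem' := by
    intro f g hf hg k
    rw [add_apply, add_apply, map_add, hf k, hg k]
  zero_mem' := by
    intro k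
    rw [zero_apply, zero_apply, map_zero]
  neg_mem' := by
    intro f hf k
    rw [neg_apply, neg_apply, map_neg, hf k]

theorem mem_EV {φ : L →+ L} {j : ZMod p} {f : Loop p L} :
    f ∈ EV φ j ↔ ∀ k, φ (f k) = f (k - j) := Iff.rfl

theorem EV_isGr (φ : L →+ L) (hφ : ∀ x y, φ ⁅x, y⁆ = ⁅φ x, φ y⁆)
    (hfix : ∀ x, φ x = x → x = 0) : IsGr (EV (p := p) φ) where
  lie_mem := by
    intro i j f g hf hg
    rw [mem_EV] at hf hg ⊢
    intro k
    rw [bracket_apply, bracket_apply, map_sum,
      ← Equiv.sum_comp (Equiv.subRight i) (fun a => ⁅f a, g (k - (i + j) - a)⁆)]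
    refine Finset.sum_congr rfl (fun a _ => ?_)
    rw [hφ, hf a, hg (k - a)]
    simp only [Equiv.subRight_apply]
    congr 2
    abel
  zero := by
    rw [eq_bot_iff]
    intro f hf
    rw [AddSubgroup.mem_bot]
    ext k
    have := hf k
    rw [sub_zero] at this
    exact hfix _ this

end Loop

section Main

variable {L : Type*} [LieRing L] {p : ℕ} [Fact p.Prime]

theorem iter_mod (φ : L →+ L) (hper : ∀ x, φ^[p] x = x) (m : ℕ) (x : L) :
    φ^[m % p] x = φ^[m] x := by
  conv_rhs => rw [← Nat.mod_add_div m p]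
  rw [Function.iterate_add_apply, Function.iterate_mul]
  congr 1
  exact (Function.iterate_fixed (hper x) _).symm

theorem iter_val (φ : L →+ L) (hper : ∀ x, φ^[p] x = x) (m : ℕ) (x : L) :
    φ^[((m : ZMod p)).val] x = φ^[m] x := by
  rw [ZMod.val_natCast]; exact iter_mod φ hper m x

/-- `j`-th eigencomponent (`j ≠ 0`) -/
def Ecomp (φ : L →+ L) (j : ZMod p) (x : L) : Loop p L := fun k => φ^[(-k * j⁻¹).val] x

theorem Ecomp_mem (φ : L →+ L) (hper : ∀ x, φ^[p] x = x) {j : ZMod p} (hj : j ≠ 0) (x : L) :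
    Ecomp φ j x ∈ Loop.EV φ j := by
  rw [Loop.mem_EV]; intro k
  show φ (φ^[(-k * j⁻¹).val] x) = φ^[(-(k - j) * j⁻¹).val] x
  rw [← Function.iterate_succ_apply' φ]
  have e : -(k - j) * j⁻¹ = (((-k * j⁻¹).val + 1 : ℕ) : ZMod p) := by
    push_cast; rw [ZMod.natCast_zmod_val]; field_simp; ring
  rw [e, iter_val φ hper]

/-- the test element `(p - T) x` -/
def cEl (x : L) : Loop p L := fun k => (if k = 0 then p • x else 0) - x

theorem cEl_eq_sum (φ : L →+ L) (hper : ∀ x, φ^[p] x = x) (hfix : ∀ x, φ x = x → x = 0)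
    (x : L) : cEl x = ∑ j ∈ Finset.univ.erase (0 : ZMod p), Ecomp φ j x := by
  ext k
  rw [Loop.sum_apply]
  by_cases hk : k = 0
  · subst hk
    simp only [cEl, if_true, Ecomp, neg_zero, zero_mul, ZMod.val_zero, Function.iterate_zero, id]
    rw [Finset.sum_const, Finset.card_erase_of_mem (Finset.mem_univ _), Finset.card_univ,
      ZMod.card]
    have hp := (Fact.out : p.Prime).pos
    obtain ⟨q, rfl⟩ : ∃ q, p = q + 1 := ⟨p - 1, by omega⟩
    rw [Nat.add_sub_cancel, succ_nsmul, add_sub_cancel_right]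
  · simp only [cEl, if_neg hk, zero_sub, Ecomp]
    have hN : ∑ u : ZMod p, φ^[u.val] x = 0 := by
      apply hfix
      rw [map_sum, ← Equiv.sum_comp (Equiv.addRight (1 : ZMod p)) (fun u => φ^[u.val] x)]
      refine Finset.sum_congr rfl (fun u _ => ?_)
      rw [← Function.iterate_succ_apply' φ]
      simp only [Equiv.coe_addRight]
      have : u + 1 = ((u.val + 1 : ℕ) : ZMod p) := by push_cast; rw [ZMod.natCast_zmod_val]
      rw [this, iter_val φ hper]
    have h1 : ∑ j ∈ Finset.univ.erase (0 : ZMod p), φ^[(-k * j⁻¹).val] x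
        = ∑ u ∈ Finset.univ.erase (0 : ZMod p), φ^[u.val] x := by
      refine Finset.sum_nbij' (fun j => -k * j⁻¹) (fun u => -k * u⁻¹) ?_ ?_ ?_ ?_ ?_
      · intro j hj
        have hj0 := Finset.ne_of_mem_erase hj
        exact Finset.mem_erase.2 ⟨mul_ne_zero (neg_ne_zero.2 hk) (inv_ne_zero hj0),
          Finset.mem_univ _⟩
      · intro j hj
        have hj0 := Finset.ne_of_mem_erase hj
        exact Finset.mem_erase.2 ⟨mul_ne_zero (neg_ne_zero.2 hk) (inv_ne_zero hj0),
          Finset.mem_univ _⟩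
      · intro j hj
        have hj0 := Finset.ne_of_mem_erase hj
        field_simp
      · intro j hj
        have hj0 := Finset.ne_of_mem_erase hj
        field_simp
      · intro j hj; rfl
    rw [h1]
    have h2 := Finset.add_sum_erase Finset.univ (fun u : ZMod p => φ^[u.val] x)
      (Finset.mem_univ (0 : ZMod p))
    rw [hN] at h2
    simp only [ZMod.val_zero, Function.iterate_zero, id] at h2
    exact neg_eq_of_add_eq_zero_right h2

theorem cEl_mem (φ : L →+ L) (hper : ∀ x, φ^[p] x = x) (hfix : ∀ x, φ x = x → x = 0) (x : L) :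
    cEl (p := p) x ∈ ⨆ k, Loop.EV (p := p) φ k := by
  rw [cEl_eq_sum φ hper hfix x]
  exact AddSubgroup.sum_mem _ (fun j hj =>
    AddSubgroup.mem_iSup_of_mem j (Ecomp_mem φ hper (Finset.ne_of_mem_erase hj) x))

theorem cEl_lie (x y : L) : ⁅(cEl x : Loop p L), (cEl y : Loop p L)⁆ = p • (cEl ⁅x, y⁆ : Loop p L) := by
  ext k
  rw [Loop.bracket_apply, Loop.nsmul_apply]
  have hs : ∑ a : ZMod p, (cEl y : Loop p L) (k - a) = 0 := by
    have h0 := Equiv.sum_comp (Equiv.subLeft k) (fun b => (cEl y : Loop p L) b)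
    simp only [Equiv.subLeft_apply] at h0
    rw [h0]
    simp only [cEl, Finset.sum_sub_distrib, Finset.sum_ite_eq', Finset.mem_univ, if_true,
      Finset.sum_const, Finset.card_univ, ZMod.card, sub_self]
  have h1 : ∀ a : ZMod p, ⁅(cEl x : Loop p L) a, (cEl y : Loop p L) (k - a)⁆
      = (if a = 0 then ⁅p • x, (cEl y : Loop p L) k⁆ else 0) - ⁅x, (cEl y : Loop p L) (k - a)⁆ := by
    intro a
    show ⁅(if a = 0 then p • x else 0) - x, _⁆ = _
    by_cases h : a = 0
    · subst h; rw [if_pos rfl, if_pos rfl, sub_zero, sub_lie]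
    · rw [if_neg h, if_neg h, zero_sub, zero_sub, neg_lie]
  rw [Finset.sum_congr rfl (fun a _ => h1 a), Finset.sum_sub_distrib, Finset.sum_ite_eq',
    if_pos (Finset.mem_univ _), ← lie_sum, hs, lie_zero, sub_zero, nsmul_lie]
  congr 1
  simp only [cEl]
  split_ifs
  · rw [lie_sub, lie_nsmul]
  · rw [lie_sub, lie_zero]

theorem foldl_cEl : ∀ (ys : List L) (m : ℕ) (x : L),
    (ys.map (cEl (p := p))).foldl (fun a b => ⁅a, b⁆) (m • cEl x)
      = (m * p ^ ys.length) • cEl (ys.foldl (fun a b => ⁅a, b⁆) x) := by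
  intro ys
  induction ys with
  | nil => intro m x; simp
  | cons y ys ih =>
    intro m x
    rw [List.map_cons, List.foldl_cons, List.foldl_cons, nsmul_lie, cEl_lie, ← mul_nsmul', ih,
      List.length_cons]
    congr 1
    ring

theorem pow_tor (htor : ∀ x : L, p • x = 0 → x = 0) : ∀ (m : ℕ) (x : L), p ^ m • x = 0 → x = 0 := by
  intro m
  induction m with
  | zero => intro x hx; simpa using hx
  | succ m ih =>
    intro x hx
    rw [pow_succ, mul_nsmul'] at hx
    exact htor x (ih _ hx)

/-- **Higman's theorem for Lie rings** (with the Kreknin–Kostrikin bound): a Lie ring without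
`p`-torsion admitting an automorphism of prime order `p` without nonzero fixed points is nilpotent
of class at most `∑ i < 2^(p-1) - 1, (p-1)^i`. -/
theorem higman_lie (φ : L →+ L) (hφ : ∀ x y, φ ⁅x, y⁆ = ⁅φ x, φ y⁆)
    (hper : ∀ x, φ^[p] x = x) (hfix : ∀ x, φ x = x → x = 0) (htor : ∀ x : L, p • x = 0 → x = 0)
    (x : L) (xs : List L)
    (hlen : xs.length = ∑ i ∈ Finset.range (2 ^ (p - 1) - 1), (p - 1) ^ i) :
    xs.foldl (fun a b => ⁅a, b⁆) x = 0 := by
  have h := hkk_total (Loop.EV (p := p) φ) (Loop.EV_isGr φ hφ hfix) (cEl x) (xs.map (cEl (p := p)))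
    (cEl_mem φ hper hfix x)
    (by
      intro y hy
      obtain ⟨z, -, rfl⟩ := List.mem_map.1 hy
      exact cEl_mem φ hper hfix z)
    (by rw [List.length_map, hlen])
  have h2 := foldl_cEl (p := p) xs 1 x
  rw [one_nsmul, h, one_mul] at h2
  have h3 := congrFun h2.symm (1 : ZMod p)
  have hp1 : (1 : ZMod p) ≠ 0 := one_ne_zero
  change p ^ xs.length • ((if (1 : ZMod p) = 0 then p • _ else 0) - _) = (0 : L) at h3
  rw [if_neg hp1, zero_sub, smul_neg, neg_eq_zero] at h3
  exact pow_tor htor _ _ h3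

end Main

end Cfsg.Agent.Lib.helper68.HK
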