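import Mathlib

/-!
# Minimal covers by nilpotent subgroups

A *cover* of a group is a finite set of proper subgroups whose union is the group; it is *minimal*
when no cover has fewer members.  This file collects the basic facts about minimal covers all of
whose members are nilpotent, in a finite group with trivial centre.
-/

set_option autoImplicit false

namespace Cfsg.Agent.Lib.helper68

/-- The cover hypothesis used in the statements: `𝓐` is a cover by proper subgroups, of minimal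
size, all of whose members are nilpotent. -/
def IsNilMinCover {G : Type*} [Group G] (𝓐 : Finset (Subgroup G)) : Prop :=
  ((∀ A ∈ 𝓐, A ≠ ⊤) ∧ (∀ g : G, ∃ A ∈ 𝓐, g ∈ A)) ∧
    (∀ 𝓑 : Finset (Subgroup G), (∀ A ∈ 𝓑, A ≠ ⊤) ∧ (∀ g : G, ∃ A ∈ 𝓑, g ∈ A) → 𝓐.card ≤ 𝓑.card) ∧
    (∀ A ∈ 𝓐, Group.IsNilpotent ↥A)

/-- A proper subgroup contains at most one member of a minimal cover. -/
theorem cover_unique_of_le {G : Type*} [Group G] (𝓐 : Finset (Subgroup G))
    (hcov : ∀ g : G, ∃ A ∈ 𝓐, g ∈ A) (hprop : ∀ A ∈ 𝓐, A ≠ ⊤)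
    (hmin : ∀ 𝓑 : Finset (Subgroup G), (∀ A ∈ 𝓑, A ≠ ⊤) ∧ (∀ g : G, ∃ A ∈ 𝓑, g ∈ A) →
      𝓐.card ≤ 𝓑.card)
    (M : Subgroup G) (hM : M ≠ ⊤) (A₁ A₂ : Subgroup G) (h₁ : A₁ ∈ 𝓐) (h₂ : A₂ ∈ 𝓐)
    (hle₁ : A₁ ≤ M) (hle₂ : A₂ ≤ M) : A₁ = A₂ := by
  classical
  by_contra hne
  have h2' : A₂ ∈ 𝓐.erase A₁ := Finset.mem_erase.mpr ⟨fun h => hne h.symm, h₂⟩
  have hcard : (insert M ((𝓐.erase A₁).erase A₂)).card < 𝓐.card := by
    have hc1 : (𝓐.erase A₁).card = 𝓐.card - 1 := Finset.card_erase_of_mem h₁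
    have hc2 : ((𝓐.erase A₁).erase A₂).card = (𝓐.erase A₁).card - 1 := Finset.card_erase_of_mem h2'
    have hc3 := Finset.card_insert_le M ((𝓐.erase A₁).erase A₂)
    have hpos : 0 < (𝓐.erase A₁).card := Finset.card_pos.mpr ⟨A₂, h2'⟩
    have hpos' : 0 < 𝓐.card := Finset.card_pos.mpr ⟨A₁, h₁⟩
    omega
  have hle := hmin (insert M ((𝓐.erase A₁).erase A₂)) ⟨?_, ?_⟩
  · omega
  · intro A hA
    rcases Finset.mem_insert.mp hA with rfl | hA
    · exact hM
    · exact hprop A (Finset.mem_of_mem_erase (Finset.mem_of_mem_erase hA))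
  · intro g
    obtain ⟨A, hA, hgA⟩ := hcov g
    by_cases h1 : A = A₁
    · exact ⟨M, Finset.mem_insert_self _ _, hle₁ (h1 ▸ hgA)⟩
    by_cases h2 : A = A₂
    · exact ⟨M, Finset.mem_insert_self _ _, hle₂ (h2 ▸ hgA)⟩
    · exact ⟨A, Finset.mem_insert_of_mem
        (Finset.mem_erase.mpr ⟨h2, Finset.mem_erase.mpr ⟨h1, hA⟩⟩), hgA⟩

/-- In a finite nilpotent group whose Sylow `p`-subgroups are commutative, every element of a
Sylow `p`-subgroup is central. -/
theorem nilpotent_sylow_central {A : Type*} [Group A] [Finite A] [Group.IsNilpotent A] {p : ℕ}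
    [Fact p.Prime] (S : Sylow p A) (hS : ∀ a ∈ S, ∀ b ∈ S, a * b = b * a) (x : A)
    (hx : x ∈ S) : ∀ a : A, a * x = x * a := by
  have hpp : p.Prime := Fact.out
  -- the centralizer of x contains a Sylow q-subgroup for every prime q
  set K : Subgroup A := Subgroup.centralizer {x} with hK
  have hKtop : K = ⊤ := by
    apply Subgroup.eq_top_of_le_card
    apply Nat.le_of_dvd Nat.card_pos
    rw [← Nat.factorization_prime_le_iff_dvd Nat.card_pos.ne' Nat.card_pos.ne']
    intro q hq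
    have : Fact q.Prime := ⟨hq⟩
    let T : Sylow q A := default
    have hTK : (T : Subgroup A) ≤ K := by
      intro t ht
      rw [hK, Subgroup.mem_centralizer_iff]
      intro y hy
      rw [Set.mem_singleton_iff] at hy
      rw [hy]
      by_cases hqp : q = p
      · subst hqp
        have hTS : T = S := by
          have h1 : (T : Subgroup A) ≤ S := T.isPGroup'.le_sylow_of_normal S
          exact Sylow.ext (T.is_maximal' S.isPGroup' h1).symm
        exact hS x hx t (hTS ▸ ht)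
      · have hdis : Disjoint (S : Subgroup A) (T : Subgroup A) := by
          rw [Subgroup.disjoint_def]
          intro g hg1 hg2
          obtain ⟨k1, hk1⟩ := S.isPGroup' ⟨g, hg1⟩
          obtain ⟨k2, hk2⟩ := T.isPGroup' ⟨g, hg2⟩
          have h1 : g ^ p ^ k1 = 1 := by simpa using congrArg Subtype.val hk1
          have h2 : g ^ q ^ k2 = 1 := by simpa using congrArg Subtype.val hk2
          have hco : Nat.Coprime (p ^ k1) (q ^ k2) :=
            Nat.Coprime.pow _ _ ((Nat.coprime_primes hpp hq).mpr (Ne.symm hqp))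
          have h3 : orderOf g ∣ 1 := by
            rw [← Nat.Coprime.gcd_eq_one hco]
            exact Nat.dvd_gcd (orderOf_dvd_of_pow_eq_one h1) (orderOf_dvd_of_pow_eq_one h2)
          exact orderOf_eq_one_iff.mp (Nat.dvd_one.mp h3)
        exact (Subgroup.commute_of_normal_of_disjoint _ _ inferInstance inferInstance hdis
          x t hx ht)
    have h1 : Nat.card (T : Subgroup A) ∣ Nat.card K := Subgroup.card_dvd_of_le hTK
    rw [Sylow.card_eq_multiplicity] at h1
    exact (hq.pow_dvd_iff_le_factorization Nat.card_pos.ne').mp h1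
  intro a
  have : a ∈ K := hKtop ▸ Subgroup.mem_top a
  rw [hK, Subgroup.mem_centralizer_iff] at this
  exact (this x rfl).symm

/-- If one Sylow `p`-subgroup is commutative then all `p`-subgroups are. -/
theorem pSubgroup_comm_of_sylow_comm {G : Type*} [Group G] [Finite G] {p : ℕ} [Fact p.Prime]
    (P : Sylow p G) (hab : IsMulCommutative ↥(P : Subgroup G)) (Q : Subgroup G)
    (hQ : IsPGroup p Q) : ∀ a ∈ Q, ∀ b ∈ Q, a * b = b * a := by
  obtain ⟨Q', hQ'⟩ := hQ.exists_le_sylow
  obtain ⟨g, rfl⟩ := MulAction.exists_smul_eq G P Q'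
  intro a ha b hb
  have ha' := hQ' ha
  have hb' := hQ' hb
  rw [Sylow.coe_subgroup_smul] at ha' hb'
  obtain ⟨a', ha'', rfl⟩ := ha'
  obtain ⟨b', hb'', rfl⟩ := hb'
  have h := setLike_mul_comm ha'' hb''
  change MulAut.conj g a' * MulAut.conj g b' = MulAut.conj g b' * MulAut.conj g a'
  rw [← map_mul, ← map_mul, h]

/-- A nilpotent subgroup containing a `p`-element `x` centralizes `x`, when all `p`-subgroups are
commutative. -/
theorem nilpotent_le_centralizer {G : Type*} [Group G] [Finite G] {p : ℕ} [Fact p.Prime]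
    (hab : ∀ Q : Subgroup G, IsPGroup p Q → ∀ a ∈ Q, ∀ b ∈ Q, a * b = b * a)
    (A : Subgroup G) (hA : Group.IsNilpotent ↥A) (x : G) (hxA : x ∈ A)
    (hx : IsPGroup p (Subgroup.zpowers x)) : A ≤ Subgroup.centralizer ({x} : Set G) := by
  have hx' : IsPGroup p (Subgroup.zpowers (⟨x, hxA⟩ : A)) := by
    have h1 : (Subgroup.zpowers (⟨x, hxA⟩ : A)).map A.subtype = Subgroup.zpowers x := by
      rw [MonoidHom.map_zpowers]; rfl
    have h2 : IsPGroup p ((Subgroup.zpowers (⟨x, hxA⟩ : A)).map A.subtype) := h1 ▸ hx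
    exact h2.of_equiv
      ((Subgroup.zpowers (⟨x, hxA⟩ : A)).equivMapOfInjective A.subtype A.subtype_injective).symm
  obtain ⟨S, hS⟩ := hx'.exists_le_sylow
  have hSc : ∀ a ∈ S, ∀ b ∈ S, a * b = b * a := by
    intro a ha b hb
    have h1 := hab ((S : Subgroup A).map A.subtype) (S.isPGroup'.map A.subtype) a
      (Subgroup.mem_map_of_mem _ ha) b (Subgroup.mem_map_of_mem _ hb)
    exact Subtype.ext h1
  have hc := nilpotent_sylow_central S hSc ⟨x, hxA⟩ (hS (Subgroup.mem_zpowers _))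
  intro a ha
  rw [Subgroup.mem_centralizer_iff]
  intro y hy
  rw [Set.mem_singleton_iff] at hy
  rw [hy]
  exact (congrArg Subtype.val (hc ⟨a, ha⟩)).symm

/-- Two members of a nilpotent minimal cover that share a nontrivial `p`-element coincide
(trivial centre, commutative Sylow `p`-subgroups). -/
theorem cover_unique_of_mem {G : Type*} [Group G] [Finite G] (hZ : Subgroup.center G = ⊥)
    (𝓐 : Finset (Subgroup G)) (h𝓐 : IsNilMinCover 𝓐) {p : ℕ} [Fact p.Prime]
    (hab : ∀ Q : Subgroup G, IsPGroup p Q → ∀ a ∈ Q, ∀ b ∈ Q, a * b = b * a)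
    (x : G) (hx1 : x ≠ 1) (hx : IsPGroup p (Subgroup.zpowers x))
    (A₁ A₂ : Subgroup G) (h₁ : A₁ ∈ 𝓐) (h₂ : A₂ ∈ 𝓐) (hx₁ : x ∈ A₁) (hx₂ : x ∈ A₂) : A₁ = A₂ := by
  have hM : Subgroup.centralizer ({x} : Set G) ≠ ⊤ := by
    intro h
    apply hx1
    have : x ∈ Subgroup.center G := by
      rw [Subgroup.mem_center_iff]
      intro g
      have hg : g ∈ Subgroup.centralizer ({x} : Set G) := h ▸ Subgroup.mem_top g
      rw [Subgroup.mem_centralizer_iff] at hg
      exact (hg x rfl).symm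
    rw [hZ, Subgroup.mem_bot] at this
    exact this
  exact cover_unique_of_le 𝓐 h𝓐.1.2 h𝓐.1.1 h𝓐.2.1 _ hM A₁ A₂ h₁ h₂
    (nilpotent_le_centralizer hab A₁ (h𝓐.2.2 A₁ h₁) x hx₁ hx)
    (nilpotent_le_centralizer hab A₂ (h𝓐.2.2 A₂ h₂) x hx₂ hx)

/-- Exponents splitting an element of order `n` into its `r`-part and `r'`-part. -/
theorem exists_split_exponents (r : ℕ) (hr : r.Prime) (n : ℕ) (hn : n ≠ 0) :
    ∃ e f : ℕ, n ∣ e * r ^ n.factorization r ∧ n ∣ f * (n / r ^ n.factorization r) ∧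
      e + f ≡ 1 [MOD n] := by
  set q := r ^ n.factorization r with hq
  set m := n / q with hm
  have hqm : q * m = n := Nat.ordProj_mul_ordCompl_eq_self n r
  have hco : Nat.Coprime q m := (Nat.coprime_ordCompl hr hn).pow_left _
  obtain ⟨e, he1, he0⟩ := Nat.chineseRemainder hco 1 0
  obtain ⟨f, hf0, hf1⟩ := Nat.chineseRemainder hco 0 1
  refine ⟨e, f, ?_, ?_, ?_⟩
  · have : m ∣ e := (Nat.modEq_zero_iff_dvd).mp he0
    rw [← hqm, mul_comm q m]
    exact Nat.mul_dvd_mul this (dvd_refl q)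
  · have : q ∣ f := (Nat.modEq_zero_iff_dvd).mp hf0
    rw [← hqm]
    exact Nat.mul_dvd_mul this (dvd_refl m)
  · rw [← hqm]
    refine (Nat.modEq_and_modEq_iff_modEq_mul hco).mp ⟨?_, ?_⟩
    · simpa using he1.add hf0
    · simpa using he0.add hf1

/-- A Sylow `p`-subgroup that is cyclic, or commutative and not of exponent `p`, lies in a member
of a nilpotent minimal cover. -/
theorem exists_cover_member_ge {G : Type*} [Group G] [Finite G] (hZ : Subgroup.center G = ⊥)
    (𝓐 : Finset (Subgroup G)) (h𝓐 : IsNilMinCover 𝓐) {p : ℕ} [Fact p.Prime]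
    (hab : ∀ Q : Subgroup G, IsPGroup p Q → ∀ a ∈ Q, ∀ b ∈ Q, a * b = b * a)
    (Q : Sylow p G)
    (hQ : (∃ x ∈ (Q : Subgroup G), ∀ y ∈ (Q : Subgroup G), y ∈ Subgroup.zpowers x) ∨
      (∃ x ∈ (Q : Subgroup G), x ^ p ≠ 1)) : ∃ A ∈ 𝓐, (Q : Subgroup G) ≤ A := by
  have hpp : p.Prime := Fact.out
  rcases hQ with ⟨x, hx, hgen⟩ | ⟨x, hx, hxp⟩
  · obtain ⟨A, hA, hxA⟩ := h𝓐.1.2 x
    exact ⟨A, hA, fun y hy => (Subgroup.zpowers_le.mpr hxA) (hgen y hy)⟩
  · obtain ⟨A, hA, hxA⟩ := h𝓐.1.2 x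
    refine ⟨A, hA, ?_⟩
    have hp_el : ∀ y ∈ (Q : Subgroup G), IsPGroup p (Subgroup.zpowers y) := fun y hy =>
      Q.isPGroup'.to_le (Subgroup.zpowers_le.mpr hy)
    have habQ := hab (Q : Subgroup G) Q.isPGroup'
    have hzA : x ^ p ∈ A := A.pow_mem hxA p
    have hzQ : x ^ p ∈ (Q : Subgroup G) := (Q : Subgroup G).pow_mem hx p
    have h1 : ∀ w ∈ (Q : Subgroup G), w ^ p = 1 → w ∈ A := by
      intro w hw hwp
      obtain ⟨A', hA', hxw⟩ := h𝓐.1.2 (x * w)
      have h2 : (x * w) ^ p = x ^ p := by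
        have hc : Commute x w := habQ x hx w hw
        rw [hc.mul_pow, hwp, mul_one]
      have hzA' : x ^ p ∈ A' := h2 ▸ A'.pow_mem hxw p
      have h3 := cover_unique_of_mem hZ 𝓐 h𝓐 hab (x ^ p) hxp (hp_el _ hzQ) A A' hA hA' hzA hzA'
      have h4 : x⁻¹ * (x * w) ∈ A := A.mul_mem (A.inv_mem hxA) (h3 ▸ hxw)
      simpa using h4
    intro y hy
    by_cases hyp : y ^ p = 1
    · exact h1 y hy hyp
    · obtain ⟨A', hA', hyA'⟩ := h𝓐.1.2 y
      obtain ⟨j, hj⟩ : ∃ j, orderOf y = p ^ j := by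
        obtain ⟨k, hk⟩ := Q.isPGroup' ⟨y, hy⟩
        have hk' : y ^ p ^ k = 1 := by simpa using congrArg Subtype.val hk
        obtain ⟨j, -, hj⟩ := (Nat.dvd_prime_pow hpp).1 (orderOf_dvd_of_pow_eq_one hk')
        exact ⟨j, hj⟩
      have hj1 : j ≠ 0 := by
        rintro rfl
        rw [pow_zero, orderOf_eq_one_iff] at hj
        exact hyp (by rw [hj, one_pow])
      have hpdvd : p ∣ orderOf y := by rw [hj]; exact dvd_pow_self p hj1
      have hword : orderOf (y ^ (orderOf y / p)) = p :=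
        orderOf_pow_orderOf_div (orderOf_pos y).ne' hpdvd
      have hw1 : y ^ (orderOf y / p) ≠ 1 := by
        intro h
        rw [h, orderOf_one] at hword
        exact hpp.one_lt.ne hword
      have hwp : (y ^ (orderOf y / p)) ^ p = 1 := by
        have h0 := pow_orderOf_eq_one (y ^ (orderOf y / p))
        rwa [hword] at h0
      have hwQ : y ^ (orderOf y / p) ∈ (Q : Subgroup G) := (Q : Subgroup G).pow_mem hy _
      have hwA : y ^ (orderOf y / p) ∈ A := h1 _ hwQ hwp
      have hwA' : y ^ (orderOf y / p) ∈ A' := A'.pow_mem hyA' _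
      have h3 := cover_unique_of_mem hZ 𝓐 h𝓐 hab _ hw1 (hp_el _ hwQ) A A' hA hA' hwA hwA'
      exact h3 ▸ hyA'

/-- If a nontrivial Sylow `p`-subgroup lies in a member `A` of a nilpotent minimal cover, its
centralizer is `A`. -/
theorem centralizer_eq_of_le {G : Type*} [Group G] [Finite G] (hZ : Subgroup.center G = ⊥)
    (𝓐 : Finset (Subgroup G)) (h𝓐 : IsNilMinCover 𝓐) {p : ℕ} [Fact p.Prime]
    (hab : ∀ Q : Subgroup G, IsPGroup p Q → ∀ a ∈ Q, ∀ b ∈ Q, a * b = b * a)
    (Q : Sylow p G) (hQ1 : (Q : Subgroup G) ≠ ⊥) (A : Subgroup G) (hA : A ∈ 𝓐)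
    (hQA : (Q : Subgroup G) ≤ A) : Subgroup.centralizer ((Q : Subgroup G) : Set G) = A := by
  have hpp : p.Prime := Fact.out
  have hp_el : ∀ y ∈ (Q : Subgroup G), IsPGroup p (Subgroup.zpowers y) := fun y hy =>
    Q.isPGroup'.to_le (Subgroup.zpowers_le.mpr hy)
  apply le_antisymm
  · intro c hc
    obtain ⟨⟨x, hx⟩, hx1⟩ := (Subgroup.ne_bot_iff_exists_ne_one).mp hQ1
    have hx1' : x ≠ 1 := fun h => hx1 (Subtype.ext h)
    have hn : orderOf c ≠ 0 := (orderOf_pos c).ne'
    obtain ⟨e, f, he, hf, hef⟩ := exists_split_exponents p hpp (orderOf c) hn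
    have hsplit : c = c ^ e * c ^ f := by
      rw [← pow_add]
      conv_lhs => rw [← pow_one c]
      exact (pow_eq_pow_iff_modEq.mpr hef).symm
    have hcpow : ∀ i : ℕ, c ^ i ∈ Subgroup.centralizer ((Q : Subgroup G) : Set G) := fun i =>
      (Subgroup.centralizer _).pow_mem hc i
    -- the p-part lies in Q
    have hce : c ^ e ∈ A := by
      apply hQA
      have hK : IsPGroup p (Subgroup.zpowers (c ^ e)) := by
        apply IsPGroup.of_card_dvd_pow (n := (orderOf c).factorization p)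
        rw [Nat.card_zpowers]
        apply orderOf_dvd_of_pow_eq_one
        rw [← pow_mul]
        exact orderOf_dvd_iff_pow_eq_one.mp he
      have h1 : c ^ e ∈ Subgroup.zpowers (c ^ e) ⊓ Subgroup.normalizer ((Q : Subgroup G) : Set G) :=
        ⟨Subgroup.mem_zpowers _, Subgroup.centralizer_le_normalizer _ (hcpow e)⟩
      exact (le_of_eq (hK.inf_normalizer_sylow Q) h1).2
    -- the p'-part lies in A
    have hcf : c ^ f ∈ A := by
      set m := orderOf c / p ^ (orderOf c).factorization p with hm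
      have hkm : (c ^ f) ^ m = 1 := by
        rw [← pow_mul]; exact orderOf_dvd_iff_pow_eq_one.mp hf
      have hcomm : Commute x (c ^ f) := by
        have := hcpow f
        rw [Subgroup.mem_centralizer_iff] at this
        exact this x hx
      obtain ⟨A', hA', hxk⟩ := h𝓐.1.2 (x * c ^ f)
      have h2 : (x * c ^ f) ^ m = x ^ m := by rw [hcomm.mul_pow, hkm, mul_one]
      have hxm1 : x ^ m ≠ 1 := by
        intro h
        have h3 : orderOf x ∣ m := orderOf_dvd_of_pow_eq_one h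
        obtain ⟨k, hk⟩ := Q.isPGroup' ⟨x, hx⟩
        have hk' : x ^ p ^ k = 1 := by simpa using congrArg Subtype.val hk
        obtain ⟨j, -, hj⟩ := (Nat.dvd_prime_pow hpp).1 (orderOf_dvd_of_pow_eq_one hk')
        have hj1 : j ≠ 0 := by
          rintro rfl
          rw [pow_zero, orderOf_eq_one_iff] at hj
          exact hx1' hj
        have h4 : p ∣ m := (dvd_pow_self p hj1).trans (hj ▸ h3)
        exact Nat.not_dvd_ordCompl hpp hn h4
      have hxmQ : x ^ m ∈ (Q : Subgroup G) := (Q : Subgroup G).pow_mem hx m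
      have hxmA : x ^ m ∈ A := hQA hxmQ
      have hxmA' : x ^ m ∈ A' := h2 ▸ A'.pow_mem hxk m
      have h3 := cover_unique_of_mem hZ 𝓐 h𝓐 hab _ hxm1 (hp_el _ hxmQ) A A' hA hA' hxmA hxmA'
      have h4 : x⁻¹ * (x * c ^ f) ∈ A := A.mul_mem (A.inv_mem (hQA hx)) (h3 ▸ hxk)
      simpa using h4
    rw [hsplit]
    exact A.mul_mem hce hcf
  · intro a ha
    rw [Subgroup.mem_centralizer_iff]
    intro y hy
    have h1 := nilpotent_le_centralizer hab A (h𝓐.2.2 A hA) y (hQA hy) (hp_el y hy) ha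
    rw [Subgroup.mem_centralizer_iff] at h1
    exact h1 y rfl

/-- The hypothesis on a Sylow subgroup used below: it is cyclic (with a generator in `G`) or not of
exponent `p`. -/
def SylowCycOrNotExp {G : Type*} [Group G] (p : ℕ) (Q : Subgroup G) : Prop :=
  (∃ x ∈ Q, ∀ y ∈ Q, y ∈ Subgroup.zpowers x) ∨ (∃ x ∈ Q, x ^ p ≠ 1)

theorem sylowCycOrNotExp_smul {G : Type*} [Group G] {p : ℕ} (P : Sylow p G) (g : G)
    (hP : SylowCycOrNotExp p (P : Subgroup G)) :
    SylowCycOrNotExp p ((g • P : Sylow p G) : Subgroup G) := by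
  rw [Sylow.coe_subgroup_smul]
  rcases hP with ⟨x, hx, hgen⟩ | ⟨x, hx, hxp⟩
  · left
    refine ⟨g * x * g⁻¹, ⟨x, hx, rfl⟩, ?_⟩
    rintro _ ⟨y, hy, rfl⟩
    obtain ⟨k, hk⟩ := Subgroup.mem_zpowers_iff.mp (hgen y hy)
    rw [Subgroup.mem_zpowers_iff]
    refine ⟨k, ?_⟩
    rw [← hk]
    change (MulAut.conj g x) ^ k = MulAut.conj g (x ^ k)
    rw [map_zpow]
  · right
    refine ⟨g * x * g⁻¹, ⟨x, hx, rfl⟩, ?_⟩
    rw [conj_pow]
    intro h
    apply hxp
    have : x ^ p = g⁻¹ * (g * x ^ p * g⁻¹) * g := by group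
    rw [this, h]; group

/-- The main structure theorem for a non-normal commutative Sylow `p`-subgroup that is cyclic or
not of exponent `p`, in a centreless group with a nilpotent minimal cover. -/
theorem cover_sylow_main {G : Type*} [Group G] [Finite G] (hZ : Subgroup.center G = ⊥)
    (𝓐 : Finset (Subgroup G)) (h𝓐 : IsNilMinCover 𝓐) {p : ℕ} [Fact p.Prime] (P : Sylow p G)
    (hab : IsMulCommutative ↥(P : Subgroup G)) (hnn : ¬ (P : Subgroup G).Normal)
    (hP : SylowCycOrNotExp p (P : Subgroup G)) :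
    ∃ A ∈ 𝓐, (P : Subgroup G) ≤ A ∧ Subgroup.centralizer ((P : Subgroup G) : Set G) = A ∧
      IsCoatom (Subgroup.normalizer ((P : Subgroup G) : Set G)) ∧
      (∀ g : G, g ∉ Subgroup.normalizer ((P : Subgroup G) : Set G) →
        ¬ p ∣ Nat.card ↥(Subgroup.normalizer ((P : Subgroup G) : Set G) ⊓
          (Subgroup.normalizer ((P : Subgroup G) : Set G)).map (MulAut.conj g).toMonoidHom)) ∧
      (∀ M : Subgroup G, IsCoatom M → Subgroup.centralizer ((P : Subgroup G) : Set G) ≤ M →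
        M = Subgroup.normalizer ((P : Subgroup G) : Set G)) := by
  have hpp : p.Prime := Fact.out
  have hab' := pSubgroup_comm_of_sylow_comm P hab
  have hP1 : (P : Subgroup G) ≠ ⊥ := fun h => hnn (h ▸ inferInstance)
  have hNtop : Subgroup.normalizer ((P : Subgroup G) : Set G) ≠ ⊤ := fun h =>
    hnn (Subgroup.normalizer_eq_top_iff.mp h)
  -- every conjugate has its centralizer in the cover
  have key : ∀ g : G, ∃ A ∈ 𝓐, ((g • P : Sylow p G) : Subgroup G) ≤ A ∧
      Subgroup.centralizer (((g • P : Sylow p G) : Subgroup G) : Set G) = A := by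
    intro g
    obtain ⟨A, hA, hle⟩ := exists_cover_member_ge hZ 𝓐 h𝓐 hab' (g • P)
      (sylowCycOrNotExp_smul P g hP)
    have hne : ((g • P : Sylow p G) : Subgroup G) ≠ ⊥ := by
      intro h
      apply hP1
      rw [Subgroup.eq_bot_iff_forall]
      intro x hx
      have h1 : g * x * g⁻¹ ∈ ((g • P : Sylow p G) : Subgroup G) := by
        rw [Sylow.coe_subgroup_smul]; exact ⟨x, hx, rfl⟩
      rw [h, Subgroup.mem_bot] at h1
      have : x = g⁻¹ * (g * x * g⁻¹) * g := by group
      rw [this, h1]; group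
    exact ⟨A, hA, hle, centralizer_eq_of_le hZ 𝓐 h𝓐 hab' (g • P) hne A hA hle⟩
  have hkey1 := key 1
  rw [one_smul] at hkey1
  obtain ⟨A, hA, hPA, hCA⟩ := hkey1
  -- conjugating the centralizer
  have hconjC : ∀ (g : G) (M : Subgroup G), g ∈ M →
      Subgroup.centralizer ((P : Subgroup G) : Set G) ≤ M →
      Subgroup.centralizer (((g • P : Sylow p G) : Subgroup G) : Set G) ≤ M := by
    intro g M hgM hle c hc
    have h1 : g⁻¹ * c * g ∈ Subgroup.centralizer ((P : Subgroup G) : Set G) := by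
      rw [Subgroup.mem_centralizer_iff] at hc ⊢
      intro x hx
      have h2 := hc (g * x * g⁻¹) (by
        rw [SetLike.mem_coe, Sylow.coe_subgroup_smul]; exact ⟨x, hx, rfl⟩)
      calc x * (g⁻¹ * c * g) = g⁻¹ * ((g * x * g⁻¹) * c) * g := by group
        _ = g⁻¹ * (c * (g * x * g⁻¹)) * g := by rw [h2]
        _ = _ := by group
    have h3 : g * (g⁻¹ * c * g) * g⁻¹ ∈ M := M.mul_mem (M.mul_mem hgM (hle h1)) (M.inv_mem hgM)
    have : c = g * (g⁻¹ * c * g) * g⁻¹ := by group
    rw [this]; exact h3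
  -- no proper subgroup contains C(P) and C(gP) for g outside the normalizer
  have hstar : ∀ (M : Subgroup G), M ≠ ⊤ → ∀ g : G,
      g ∉ Subgroup.normalizer ((P : Subgroup G) : Set G) →
      Subgroup.centralizer ((P : Subgroup G) : Set G) ≤ M →
      Subgroup.centralizer (((g • P : Sylow p G) : Subgroup G) : Set G) ≤ M → False := by
    intro M hM g hg h1 h2
    obtain ⟨A', hA', hPA', hCA'⟩ := key g
    have heq : A = A' := cover_unique_of_le 𝓐 h𝓐.1.2 h𝓐.1.1 h𝓐.2.1 M hM A A' hA hA'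
      (hCA ▸ h1) (hCA' ▸ h2)
    have hle : (P : Subgroup G) ≤ Subgroup.normalizer (((g • P : Sylow p G) : Subgroup G) : Set G) := by
      refine le_trans ?_ (Subgroup.centralizer_le_normalizer _)
      rw [hCA', ← heq]; exact hPA
    have h3 := P.isPGroup'.inf_normalizer_sylow (g • P)
    have h4 : (P : Subgroup G) ≤ ((g • P : Sylow p G) : Subgroup G) := by
      intro x hx
      have : x ∈ (P : Subgroup G) ⊓ Subgroup.normalizer ((g • P : Sylow p G) : Set G) :=
        ⟨hx, hle hx⟩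
      exact (le_of_eq h3 this).2
    have hsm : g • P = P := Sylow.ext (P.is_maximal' (g • P).isPGroup' h4)
    exact hg (Sylow.smul_eq_iff_mem_normalizer.mp hsm)
  refine ⟨A, hA, hPA, hCA, ⟨hNtop, ?_⟩, ?_, ?_⟩
  · intro M hM
    by_contra hMtop
    obtain ⟨m, hmM, hmN⟩ := SetLike.exists_of_lt hM
    have hle : Subgroup.centralizer ((P : Subgroup G) : Set G) ≤ M :=
      (Subgroup.centralizer_le_normalizer _).trans hM.le
    exact hstar M hMtop m hmN hle (hconjC m M hmM hle)
  · intro g hg hdvd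
    obtain ⟨y, hy⟩ := exists_prime_orderOf_dvd_card' p hdvd
    have hy1 : (y : G) ∈ Subgroup.normalizer ((P : Subgroup G) : Set G) := y.2.1
    obtain ⟨n, hn, hny⟩ := y.2.2
    have hyord : orderOf (y : G) = p := by rw [Subgroup.orderOf_coe, hy]
    have hyne : (y : G) ≠ 1 := by
      intro h
      rw [h, orderOf_one] at hyord
      exact hpp.one_lt.ne hyord
    have hypg : IsPGroup p (Subgroup.zpowers (y : G)) :=
      IsPGroup.of_card (n := 1) (by rw [Nat.card_zpowers, hyord, pow_one])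
    have hyP : (y : G) ∈ (P : Subgroup G) := by
      have h1 : (y : G) ∈ Subgroup.zpowers (y : G) ⊓ Subgroup.normalizer ((P : Subgroup G) : Set G) :=
        ⟨Subgroup.mem_zpowers _, hy1⟩
      exact (le_of_eq (hypg.inf_normalizer_sylow P) h1).2
    have hnord : orderOf n = p := by
      rw [← hyord, ← hny]
      exact ((MulAut.conj g).orderOf_eq n).symm
    have hnpg : IsPGroup p (Subgroup.zpowers n) :=
      IsPGroup.of_card (n := 1) (by rw [Nat.card_zpowers, hnord, pow_one])
    have hnP : n ∈ (P : Subgroup G) := by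
      have h1 : n ∈ Subgroup.zpowers n ⊓ Subgroup.normalizer ((P : Subgroup G) : Set G) :=
        ⟨Subgroup.mem_zpowers _, hn⟩
      exact (le_of_eq (hnpg.inf_normalizer_sylow P) h1).2
    have hygP : (y : G) ∈ ((g • P : Sylow p G) : Subgroup G) := by
      rw [Sylow.coe_subgroup_smul]; exact ⟨n, hnP, hny⟩
    have hM : Subgroup.centralizer ({(y : G)} : Set G) ≠ ⊤ := by
      intro h
      apply hyne
      have : (y : G) ∈ Subgroup.center G := by
        rw [Subgroup.mem_center_iff]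
        intro a
        have ha : a ∈ Subgroup.centralizer ({(y : G)} : Set G) := h ▸ Subgroup.mem_top a
        rw [Subgroup.mem_centralizer_iff] at ha
        exact (ha _ rfl).symm
      rw [hZ, Subgroup.mem_bot] at this
      exact this
    refine hstar _ hM g hg ?_ ?_
    · intro c hc
      rw [Subgroup.mem_centralizer_iff] at hc ⊢
      intro z hz
      rw [Set.mem_singleton_iff] at hz
      rw [hz]; exact hc _ hyP
    · intro c hc
      rw [Subgroup.mem_centralizer_iff] at hc ⊢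
      intro z hz
      rw [Set.mem_singleton_iff] at hz
      rw [hz]; exact hc _ hygP
  · intro M hM hle
    by_cases h : M ≤ Subgroup.normalizer ((P : Subgroup G) : Set G)
    · rcases hM.le_iff.mp h with h1 | h1
      · exact absurd h1 hNtop
      · exact h1.symm
    · exfalso
      obtain ⟨m, hmM, hmN⟩ := SetLike.not_le_iff_exists.mp h
      exact hstar M hM.1 m hmN hle (hconjC m M hmM hle)

end Cfsg.Agent.Lib.helper68
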