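import Mathlib
import Cfsg.Agent.Lib.helper68.NilCover

/-!
# Families of elements obstructing nilpotent minimal covers

Abstract lemmas: a counting lemma replacing the members of a minimal nilpotent cover through given
elements by fewer proper subgroups, and fixed point lemmas for nilpotent subgroups acting on a set.
-/

set_option autoImplicit false

namespace Cfsg.Agent.Lib.helper68

/-- Family lemma: if elements `u i` lie pairwise in no common nilpotent subgroup, and every
nilpotent subgroup through some `u i` is contained in the union of fewer proper subgroups `S j`,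
then there is no nilpotent minimal cover. -/
theorem no_nilMinCover_of_family {G : Type*} [Group G] {I J : Type*} [Finite I] [Finite J]
    (u : I → G) (S : J → Subgroup G) (hS : ∀ j, S j ≠ ⊤) (hcard : Nat.card J < Nat.card I)
    (hcov : ∀ i, ∀ A : Subgroup G, Group.IsNilpotent A → u i ∈ A → ∀ a ∈ A, ∃ j, a ∈ S j)
    (hind : ∀ i i', ∀ A : Subgroup G, Group.IsNilpotent A → u i ∈ A → u i' ∈ A → i = i')
    (𝓐 : Finset (Subgroup G)) : ¬ IsNilMinCover 𝓐 := by
  classical
  rintro ⟨⟨hprop, hcover⟩, hmin, hnil⟩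
  have := Fintype.ofFinite I
  have := Fintype.ofFinite J
  choose f hf hfu using fun i => hcover (u i)
  have hinj : Function.Injective f := by
    intro i i' h
    exact hind i i' (f i) (hnil _ (hf i)) (hfu i) (h ▸ hfu i')
  have hsub : Finset.univ.image f ⊆ 𝓐 := by
    intro A hA
    obtain ⟨i, -, rfl⟩ := Finset.mem_image.1 hA
    exact hf i
  have hc1 : (Finset.univ.image f).card = Fintype.card I := by
    rw [Finset.card_image_of_injective _ hinj, Finset.card_univ]
  have hc2 : (Finset.univ.image S).card ≤ Fintype.card J :=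
    Finset.card_image_le.trans (by rw [Finset.card_univ])
  have hc3 : (𝓐 \ Finset.univ.image f).card = 𝓐.card - Fintype.card I := by
    rw [Finset.card_sdiff_of_subset hsub, hc1]
  have hc4 : Fintype.card I ≤ 𝓐.card := by
    rw [← hc1]; exact Finset.card_le_card hsub
  have hB : ((𝓐 \ Finset.univ.image f) ∪ Finset.univ.image S).card < 𝓐.card := by
    have := Finset.card_union_le (𝓐 \ Finset.univ.image f) (Finset.univ.image S)
    rw [Nat.card_eq_fintype_card, Nat.card_eq_fintype_card] at hcard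
    omega
  have := hmin ((𝓐 \ Finset.univ.image f) ∪ Finset.univ.image S) ⟨?_, ?_⟩
  · omega
  · intro A hA
    rcases Finset.mem_union.1 hA with hA | hA
    · exact hprop A (Finset.mem_sdiff.1 hA).1
    · obtain ⟨j, -, rfl⟩ := Finset.mem_image.1 hA
      exact hS j
  · intro g
    obtain ⟨A, hA, hgA⟩ := hcover g
    by_cases hAf : A ∈ Finset.univ.image f
    · obtain ⟨i, -, rfl⟩ := Finset.mem_image.1 hAf
      obtain ⟨j, hj⟩ := hcov i (f i) (hnil _ (hf i)) (hfu i) g hgA
      exact ⟨S j, Finset.mem_union_right _ (Finset.mem_image_of_mem _ (Finset.mem_univ j)), hj⟩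
    · exact ⟨A, Finset.mem_union_left _ (Finset.mem_sdiff.2 ⟨hA, hAf⟩), hgA⟩

/-- The family lemma for a subgroup `G` of a group `H`, with all data living in `H`. -/
theorem no_nilMinCover_subgroup_of_family {H : Type*} [Group H] (G : Subgroup H) {I J : Type*}
    [Finite I] [Finite J] (u : I → H) (hu : ∀ i, u i ∈ G) (S : J → Subgroup H)
    (hS : ∀ j, ¬ G ≤ S j) (hcard : Nat.card J < Nat.card I)
    (hcov : ∀ i, ∀ A : Subgroup H, A ≤ G → Group.IsNilpotent A → u i ∈ A →
      ∀ a ∈ A, ∃ j, a ∈ S j)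
    (hind : ∀ i i', ∀ A : Subgroup H, A ≤ G → Group.IsNilpotent A → u i ∈ A → u i' ∈ A → i = i')
    (𝓐 : Finset (Subgroup ↥G)) : ¬ IsNilMinCover 𝓐 := by
  have hnil : ∀ A : Subgroup ↥G, Group.IsNilpotent A → Group.IsNilpotent (A.map G.subtype) := by
    intro A hA
    exact Group.nilpotent_of_mulEquiv (A.equivMapOfInjective G.subtype G.subtype_injective)
  have hle : ∀ A : Subgroup ↥G, A.map G.subtype ≤ G := by
    intro A x hx
    obtain ⟨y, -, rfl⟩ := Subgroup.mem_map.1 hx
    exact y.2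
  refine no_nilMinCover_of_family (fun i => (⟨u i, hu i⟩ : G)) (fun j => (S j).subgroupOf G)
    ?_ hcard ?_ ?_ 𝓐
  · intro j h
    exact hS j (Subgroup.subgroupOf_eq_top.1 h)
  · intro i A hA hui a ha
    obtain ⟨j, hj⟩ := hcov i (A.map G.subtype) (hle A) (hnil A hA)
      (Subgroup.mem_map.2 ⟨_, hui, rfl⟩) a.1 (Subgroup.mem_map.2 ⟨a, ha, rfl⟩)
    exact ⟨j, Subgroup.mem_subgroupOf.2 hj⟩
  · intro i i' A hA hui hui'
    exact hind i i' (A.map G.subtype) (hle A) (hnil A hA)
      (Subgroup.mem_map.2 ⟨_, hui, rfl⟩) (Subgroup.mem_map.2 ⟨_, hui', rfl⟩)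

/-- A nilpotent group of permutations containing an element with a unique fixed point (among the
points satisfying an invariant predicate `Q`) fixes that point. -/
theorem fix_of_unique_fix {H X : Type*} [Group H] (φ : H →* Equiv.Perm X) (A : Subgroup H)
    (hA : Group.IsNilpotent A) (Q : X → Prop) (hQ : ∀ a ∈ A, ∀ x, Q x → Q (φ a x))
    (u : H) (hu : u ∈ A) (x : X) (hx : Q x)
    (huniq : ∀ y, Q y → φ u y = y → y = x) (hux : φ u x = x) : ∀ a ∈ A, φ a x = x := by
  have hinv : ∀ g : H, ∀ y : X, φ g y = y → φ g⁻¹ y = y := by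
    intro g y h
    rw [map_inv, Equiv.Perm.inv_eq_iff_eq]
    exact h.symm
  have key : ∀ k, ∀ a : A, a ∈ Subgroup.upperCentralSeries A k → φ a.1 x = x := by
    intro k
    induction k with
    | zero =>
      intro a ha
      rw [Subgroup.upperCentralSeries_zero, Subgroup.mem_bot] at ha
      rw [ha]; simp
    | succ k ih =>
      intro a ha
      rw [Subgroup.mem_upperCentralSeries_succ_iff] at ha
      have hc := ih _ (ha ⟨u, hu⟩)
      have h1 : φ (a.1 * u * a.1⁻¹ * u⁻¹) x = x := by simpa [commutatorElement_def] using hc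
      have h3 : φ u⁻¹ x = x := hinv u x hux
      have h2 : φ u (φ a.1⁻¹ x) = φ a.1⁻¹ x := by
        simp only [map_mul, Equiv.Perm.mul_apply] at h1
        rw [h3] at h1
        have h4 := congrArg (φ a.1⁻¹) h1
        rw [← Equiv.Perm.mul_apply, ← map_mul, inv_mul_cancel, map_one] at h4
        exact h4
      have h4 := huniq _ (hQ _ (A.inv_mem a.2) x hx) h2
      have h5 := hinv _ _ h4
      rwa [inv_inv] at h5
  obtain ⟨k, hk⟩ := hA.nilpotent
  intro a ha
  exact key k ⟨a, ha⟩ (hk ▸ Subgroup.mem_top _)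

/-- A nilpotent group of permutations containing an element `t` fixing `P₀` and `P₁`, such that
`t * t` has no other fixed points, preserves the pair `{P₀, P₁}`. -/
theorem preserve_pair_of_fix {H X : Type*} [Group H] (φ : H →* Equiv.Perm X) (A : Subgroup H)
    (hA : Group.IsNilpotent A) (Q : X → Prop) (hQ : ∀ a ∈ A, ∀ x, Q x → Q (φ a x))
    (t : H) (ht : t ∈ A) (P₀ P₁ : X) (hQ0 : Q P₀) (hQ1 : Q P₁)
    (ht0 : φ t P₀ = P₀) (ht1 : φ t P₁ = P₁)
    (hfix : ∀ y, Q y → φ (t * t) y = y → y = P₀ ∨ y = P₁) :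
    ∀ a ∈ A, (φ a P₀ = P₀ ∨ φ a P₀ = P₁) ∧ (φ a P₁ = P₀ ∨ φ a P₁ = P₁) := by
  have key : ∀ k, ∀ a : A, a ∈ Subgroup.upperCentralSeries A k →
      (φ a.1⁻¹ P₀ = P₀ ∨ φ a.1⁻¹ P₀ = P₁) ∧ (φ a.1⁻¹ P₁ = P₀ ∨ φ a.1⁻¹ P₁ = P₁) := by
    intro k
    induction k with
    | zero =>
      intro a ha
      rw [Subgroup.upperCentralSeries_zero, Subgroup.mem_bot] at ha
      rw [ha]; simp
    | succ k ih =>
      intro a ha
      rw [Subgroup.mem_upperCentralSeries_succ_iff] at ha
      have hc := ih _ (inv_mem (ha ⟨t, ht⟩))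
      set c : H := a.1 * t * a.1⁻¹ * t⁻¹ with hcdef
      have hc' : (φ c P₀ = P₀ ∨ φ c P₀ = P₁) ∧ (φ c P₁ = P₀ ∨ φ c P₁ = P₁) := by
        simpa [commutatorElement_def, hcdef] using hc
      set s : H := a.1 * t * a.1⁻¹ with hsdef
      have hsc : s = c * t := by rw [hcdef, hsdef]; group
      have hs0 : φ s P₀ = φ c P₀ := by rw [hsc, map_mul, Equiv.Perm.mul_apply, ht0]
      have hs1 : φ s P₁ = φ c P₁ := by rw [hsc, map_mul, Equiv.Perm.mul_apply, ht1]
      have hss0 : φ s (φ s P₀) = P₀ := by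
        rcases hc'.1 with h | h
        · rw [hs0, h, hs0, h]
        · rcases hc'.2 with h' | h'
          · rw [hs0, h, hs1, h']
          · have : P₀ = P₁ := (φ c).injective (h.trans h'.symm)
            rw [hs0, h, hs1, h', this]
      have hss1 : φ s (φ s P₁) = P₁ := by
        rcases hc'.2 with h | h
        · rcases hc'.1 with h' | h'
          · have : P₀ = P₁ := (φ c).injective (h'.trans h.symm)
            rw [hs1, h, hs0, h', this]
          · rw [hs1, h, hs0, h']
        · rw [hs1, h, hs1, h]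
      have hsq : s * s = a.1 * (t * t) * a.1⁻¹ := by rw [hsdef]; group
      have hmain : ∀ P : X, φ s (φ s P) = P → φ (t * t) (φ a.1⁻¹ P) = φ a.1⁻¹ P := by
        intro P hP
        rw [← Equiv.Perm.mul_apply, ← map_mul, hsq] at hP
        simp only [map_mul, Equiv.Perm.mul_apply] at hP
        have h4 := congrArg (φ a.1⁻¹) hP
        rw [← Equiv.Perm.mul_apply (φ a.1⁻¹) (φ a.1), ← map_mul, inv_mul_cancel, map_one] at h4
        simpa [map_mul, Equiv.Perm.mul_apply] using h4
      exact ⟨hfix _ (hQ _ (A.inv_mem a.2) _ hQ0) (hmain P₀ hss0),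
        hfix _ (hQ _ (A.inv_mem a.2) _ hQ1) (hmain P₁ hss1)⟩
  obtain ⟨k, hk⟩ := hA.nilpotent
  intro a ha
  have := key k ⟨a⁻¹, A.inv_mem ha⟩ (hk ▸ Subgroup.mem_top _)
  simpa using this

/-- A nilpotent group of permutations cannot contain both an element with a unique fixed point
`P` and an element with exactly two fixed points `P`, `P'`. -/
theorem false_of_unique_fix_of_two_fix {H X : Type*} [Group H] (φ : H →* Equiv.Perm X)
    (A : Subgroup H) (hA : Group.IsNilpotent A) (Q : X → Prop)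
    (hQ : ∀ a ∈ A, ∀ x, Q x → Q (φ a x)) (u t : H) (hu : u ∈ A) (ht : t ∈ A) (P P' : X)
    (hP : Q P) (hP' : Q P') (hne : P' ≠ P) (huniq : ∀ y, Q y → φ u y = y → y = P)
    (huP : φ u P = P) (htP' : φ t P' = P')
    (htfix : ∀ y, Q y → φ t y = y → y = P ∨ y = P') : False := by
  have h1 := fix_of_unique_fix φ A hA Q hQ u hu P hP huniq huP
  have h2 := fix_of_unique_fix φ A hA (fun y => Q y ∧ y ≠ P)
    (fun a ha x hx => ⟨hQ a ha x hx.1, fun h => hx.2 ((φ a).injective (h.trans (h1 a ha).symm))⟩)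
    t ht P' ⟨hP', hne⟩
    (fun y hy hty => (htfix y hy.1 hty).resolve_left hy.2) htP'
  exact hne (huniq P' hP' (h2 u hu))

/-- In a nilpotent subgroup, a sequence of iterated commutators with a fixed element reaches `1`. -/
theorem exists_eq_one_of_comm_seq {H : Type*} [Group H] (A : Subgroup H)
    (hA : Group.IsNilpotent A) (a : H) (ha : a ∈ A) (x : ℕ → H) (hx0 : x 0 ∈ A)
    (hx : ∀ k, x (k + 1) = a * x k * a⁻¹ * (x k)⁻¹) : ∃ k, x k = 1 := by
  have key : ∀ k, x k ∈ A.lowerCentralSeries k := by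
    intro k
    induction k with
    | zero => exact hx0
    | succ k ih =>
      rw [hx, Subgroup.lowerCentralSeries_succ, Subgroup.commutator_comm]
      have := Subgroup.commutator_mem_commutator ha ih
      rwa [commutatorElement_def] at this
  obtain ⟨n, hn⟩ := (Subgroup.isNilpotent_iff_lowerCentralSeries A).1 hA
  exact ⟨n, by have := key n; rwa [hn, Subgroup.mem_bot] at this⟩

/-- In a nilpotent subgroup, an element inverted by another element has order a power of `2`. -/
theorem exists_pow_two_eq_one_of_inverted {H : Type*} [Group H] (A : Subgroup H)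
    (hA : Group.IsNilpotent A) (w t : H) (hw : w ∈ A) (ht : t ∈ A)
    (hwt : w * t * w⁻¹ = t⁻¹) : ∃ m : ℕ, t ^ (2 ^ m) = 1 := by
  have hconj : ∀ e : ℤ, w * t ^ e * w⁻¹ = (t ^ e)⁻¹ := by
    intro e
    have : w * t ^ e * w⁻¹ = (w * t * w⁻¹) ^ e := by
      rw [← MulAut.conj_apply, ← MulAut.conj_apply, map_zpow]
    rw [this, hwt, inv_zpow]
  obtain ⟨k, hk⟩ := exists_eq_one_of_comm_seq A hA w hw (fun k => t ^ ((-2 : ℤ) ^ k))
    (by simpa using ht) (by
      intro k
      show t ^ ((-2 : ℤ) ^ (k + 1)) = w * t ^ ((-2 : ℤ) ^ k) * w⁻¹ * (t ^ ((-2 : ℤ) ^ k))⁻¹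
      rw [hconj, ← zpow_neg, ← zpow_add]
      congr 1; ring)
  refine ⟨k, ?_⟩
  have h2 : ((-2 : ℤ) ^ k) = 2 ^ k ∨ ((-2 : ℤ) ^ k) = -(2 ^ k) := by
    rcases Nat.even_or_odd k with h | h
    · left; exact Even.neg_pow h 2
    · right; exact Odd.neg_pow h 2
  rcases h2 with h | h
  · rw [h] at hk
    exact_mod_cast hk
  · rw [h, zpow_neg, inv_eq_one] at hk
    exact_mod_cast hk

end Cfsg.Agent.Lib.helper68
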