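import Cfsg.Agent.Lib.helper68.CentMax
import Cfsg.Agent.Lib.helper37.CoprimeGen

set_option autoImplicit false

namespace Cfsg.Agent.Lib.helper68

open Subgroup
open scoped Pointwise

section OutCent

variable {G : Type*} [Group G]

/-- If `x` has order `p ^ k`, commutes with `n`, and all `x * n ^ i` have prime power order,
then `n` is a `p`-element. -/
lemma commute_ppow_of_primePow [Finite G] {p k : ℕ} (hp : p.Prime) {x n : G}
    (hx : orderOf x = p ^ k) (hk : 0 < k) (hc : Commute x n)
    (hpp : ∀ i : ℕ, IsPrimePow (orderOf (x * n ^ i))) : ∃ j, orderOf n = p ^ j := by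
  have hn0 : orderOf n ≠ 0 := (orderOf_pos n).ne'
  refine ⟨_, Nat.eq_prime_pow_of_unique_prime_dvd hn0 ?_⟩
  intro q hq hqd
  by_contra hne
  have hdiv0 : orderOf n / q ≠ 0 := by
    have := Nat.div_pos (Nat.le_of_dvd (orderOf_pos n) hqd) hq.pos
    omega
  have ho : orderOf (n ^ (orderOf n / q)) = q := by
    rw [orderOf_pow_of_dvd hdiv0 (Nat.div_dvd_of_dvd hqd)]
    exact Nat.div_div_self hqd hn0
  have hcop : (orderOf x).Coprime (orderOf (n ^ (orderOf n / q))) := by
    rw [hx, ho]
    exact Nat.Coprime.pow_left k ((Nat.coprime_primes hp hq).2 (Ne.symm hne))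
  have hmul := (hc.pow_right (orderOf n / q)).orderOf_mul_eq_mul_orderOf_of_coprime hcop
  have hpp' := hpp (orderOf n / q)
  rw [hmul, hx, ho] at hpp'
  obtain ⟨r, -, hr3⟩ := isPrimePow_iff_unique_prime_dvd.1 hpp'
  have e1 := hr3 p ⟨hp, Dvd.dvd.mul_right (dvd_pow_self p hk.ne') q⟩
  have e2 := hr3 q ⟨hq, Dvd.intro_left _ rfl⟩
  exact hne (e2.trans e1.symm)

/-- If no element outside `N` centralizes `N` and the centralizers of the elements outside `N`
are maximal, then `G / N` is abelian. -/
lemma out_comm (N : Subgroup G) [hNn : N.Normal]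
    (h : ∀ x : G, x ∉ N → IsCoatom (cz x)) (hno : ∀ x : G, x ∉ N → ¬ N ≤ cz x) (x y : G) :
    x * y * x⁻¹ * y⁻¹ ∈ N := by
  by_cases hx : x ∈ N
  · have h1 : x * (y * x⁻¹ * y⁻¹) ∈ N := N.mul_mem hx (hNn.conj_mem x⁻¹ (N.inv_mem hx) y)
    have e : x * y * x⁻¹ * y⁻¹ = x * (y * x⁻¹ * y⁻¹) := by group
    rw [e]
    exact h1
  · have htop : N ⊔ cz x = ⊤ := by
      rcases (h x hx).le_iff.1 (le_sup_right : cz x ≤ N ⊔ cz x) with h1 | h1
      · exact h1
      · exfalso
        apply hno x hx
        rw [← h1]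
        exact le_sup_left
    have hy : y ∈ N ⊔ cz x := by rw [htop]; trivial
    obtain ⟨n, hn, c, hc, rfl⟩ := mem_sup_of_normal_left.1 hy
    have hcx : c * x = x * c := mem_cz.1 hc
    have e : x * (n * c) * x⁻¹ * (n * c)⁻¹ = (x * n * x⁻¹) * n⁻¹ := by
      have h2 : c * x⁻¹ = x⁻¹ * c := (Commute.inv_right (show Commute c x from hcx)).eq
      calc x * (n * c) * x⁻¹ * (n * c)⁻¹ = x * n * (c * x⁻¹) * c⁻¹ * n⁻¹ := by group
        _ = x * n * (x⁻¹ * c) * c⁻¹ * n⁻¹ := by rw [h2]
        _ = (x * n * x⁻¹) * n⁻¹ := by group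
    rw [e]
    exact N.mul_mem (hNn.conj_mem n hn x) (N.inv_mem hn)

/-- All elements outside `N` are `p`-elements for the same prime. -/
lemma out_one_prime [Finite G] (N : Subgroup G) [hNn : N.Normal]
    (h1 : ∀ x : G, x ∉ N → IsPrimePow (orderOf x))
    (hcomm : ∀ x y : G, x * y * x⁻¹ * y⁻¹ ∈ N) {x₀ : G} (hx₀ : x₀ ∉ N) {p k : ℕ}
    (hp : p.Prime) (hx₀o : orderOf x₀ = p ^ k) {y : G} (hy : y ∉ N) :
    ∃ j, orderOf y = p ^ j := by
  obtain ⟨q, j, hq, hj, hqj⟩ := (isPrimePow_nat_iff _).1 (h1 y hy)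
  by_cases hqp : q = p
  · exact ⟨j, by rw [← hqj, hqp]⟩
  exfalso
  have ha1 : (x₀ : G ⧸ N) ≠ 1 := fun h => hx₀ ((QuotientGroup.eq_one_iff x₀).1 h)
  have hb1 : (y : G ⧸ N) ≠ 1 := fun h => hy ((QuotientGroup.eq_one_iff y).1 h)
  have hao : orderOf (x₀ : G ⧸ N) ∣ p ^ k := by
    rw [← hx₀o]
    exact orderOf_map_dvd (QuotientGroup.mk' N) x₀
  have hbo : orderOf (y : G ⧸ N) ∣ q ^ j := by
    rw [hqj]
    exact orderOf_map_dvd (QuotientGroup.mk' N) y
  obtain ⟨i, -, hi⟩ := (Nat.dvd_prime_pow hp).1 hao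
  obtain ⟨l, -, hl⟩ := (Nat.dvd_prime_pow hq).1 hbo
  have hi0 : i ≠ 0 := by
    rintro rfl
    rw [pow_zero] at hi
    exact ha1 (orderOf_eq_one_iff.1 hi)
  have hl0 : l ≠ 0 := by
    rintro rfl
    rw [pow_zero] at hl
    exact hb1 (orderOf_eq_one_iff.1 hl)
  have hc : Commute (x₀ : G ⧸ N) (y : G ⧸ N) := by
    have := (QuotientGroup.eq_one_iff _).2 (hcomm x₀ y)
    simp only [QuotientGroup.mk_mul, QuotientGroup.mk_inv] at this
    rw [mul_inv_eq_one, mul_inv_eq_iff_eq_mul] at this
    exact this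
  have hcop : (orderOf (x₀ : G ⧸ N)).Coprime (orderOf (y : G ⧸ N)) := by
    rw [hi, hl]
    exact Nat.Coprime.pow _ _ ((Nat.coprime_primes hp hq).2 (Ne.symm hqp))
  have hmul := hc.orderOf_mul_eq_mul_orderOf_of_coprime hcop
  rw [hi, hl] at hmul
  have hxy : x₀ * y ∉ N := by
    intro hmem
    have h2 : ((x₀ * y : G) : G ⧸ N) = 1 := (QuotientGroup.eq_one_iff _).2 hmem
    rw [QuotientGroup.mk_mul] at h2
    rw [h2, orderOf_one] at hmul
    have : p ^ i = 1 := Nat.eq_one_of_mul_eq_one_right hmul.symm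
    have h3 := Nat.one_lt_pow hi0 hp.one_lt
    omega
  obtain ⟨r, m, hr, -, hrm⟩ := (isPrimePow_nat_iff _).1 (h1 _ hxy)
  have hdvd : p ^ i * q ^ l ∣ r ^ m := by
    rw [← hmul, hrm, ← QuotientGroup.mk_mul]
    exact orderOf_map_dvd (QuotientGroup.mk' N) (x₀ * y)
  have hpr : p = r :=
    (Nat.prime_dvd_prime_iff_eq hp hr).1
      (hp.dvd_of_dvd_pow (((dvd_pow_self p hi0).mul_right _).trans hdvd))
  have hqr : q = r :=
    (Nat.prime_dvd_prime_iff_eq hq hr).1
      (hq.dvd_of_dvd_pow (((dvd_pow_self q hl0).mul_left _).trans hdvd))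
  exact hqp (hqr.trans hpr.symm)

/-- The counting argument: if `P ⊔ N = ⊤` and the centralizer of every element of the coset
`N y₀` is a Sylow `p`-subgroup, then for `y₀ ∈ P` the centralizer of `y₀` is `P`. -/
lemma count_center [Finite G] {p : ℕ} [Fact p.Prime] (N : Subgroup G) [hNn : N.Normal]
    (P : Sylow p G) (hPN : (P : Subgroup G) ⊔ N = ⊤) (y₀ : G) (hy₀ : y₀ ∈ (P : Subgroup G))
    (hsyl : ∀ n : G, n ∈ N → ∃ Q : Sylow p G, (Q : Subgroup G) = cz (n * y₀)) :
    cz y₀ = (P : Subgroup G) := by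
  classical
  have hsyl' : ∀ n : N, ∃ Q : Sylow p G, (Q : Subgroup G) = cz ((n : G) * y₀) :=
    fun n => hsyl n n.2
  choose φ hφ using hsyl'
  let _ : Fintype (Sylow p G) := Fintype.ofFinite _
  have hmemφ : ∀ n : N, (n : G) * y₀ ∈ (φ n : Subgroup G) := by
    intro n
    rw [hφ n]
    exact self_mem_cz _
  -- each fibre is small
  have hfib : ∀ Q : Sylow p G,
      Nat.card {n : N // φ n = Q} ≤ Nat.card ((P : Subgroup G) ⊓ N : Subgroup G) := by
    intro Q
    by_cases hne : Nonempty {n : N // φ n = Q}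
    · obtain ⟨⟨n₁, hn₁⟩⟩ := hne
      obtain ⟨g, hg⟩ := MulAction.exists_smul_eq G P Q
      have hQ : (Q : Subgroup G) = MulAut.conj g • (P : Subgroup G) := by
        rw [← hg, Sylow.coe_subgroup_smul]
      have hmem : ∀ n : {n : N // φ n = Q},
          g⁻¹ * ((n.1 : G) * (n₁ : G)⁻¹) * g ∈ ((P : Subgroup G) ⊓ N : Subgroup G) := by
        intro n
        have h1 : (n.1 : G) * y₀ ∈ (Q : Subgroup G) := by
          have := hmemφ n.1
          rw [n.2] at this
          exact this
        have h2 : (n₁ : G) * y₀ ∈ (Q : Subgroup G) := by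
          have := hmemφ n₁
          rw [hn₁] at this
          exact this
        have h3 : (n.1 : G) * (n₁ : G)⁻¹ ∈ (Q : Subgroup G) := by
          have := (Q : Subgroup G).mul_mem h1 ((Q : Subgroup G).inv_mem h2)
          have e : (n.1 : G) * y₀ * ((n₁ : G) * y₀)⁻¹ = (n.1 : G) * (n₁ : G)⁻¹ := by group
          rw [e] at this
          exact this
        refine Subgroup.mem_inf.2 ⟨?_, ?_⟩
        · rw [hQ, Subgroup.mem_pointwise_smul_iff_inv_smul_mem] at h3
          have e : (MulAut.conj g)⁻¹ • ((n.1 : G) * (n₁ : G)⁻¹) =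
              g⁻¹ * ((n.1 : G) * (n₁ : G)⁻¹) * g := by
            rw [MulAut.smul_def, MulAut.conj_inv_apply]
          rw [e] at h3
          exact h3
        · have h4 : (n.1 : G) * (n₁ : G)⁻¹ ∈ N := N.mul_mem n.1.2 (N.inv_mem n₁.2)
          have := hNn.conj_mem _ h4 g⁻¹
          rw [inv_inv] at this
          exact this
      have hinj : Function.Injective
          (fun n : {n : N // φ n = Q} =>
            (⟨g⁻¹ * ((n.1 : G) * (n₁ : G)⁻¹) * g, hmem n⟩ :
              ((P : Subgroup G) ⊓ N : Subgroup G))) := by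
        intro a b hab
        have h5 := congrArg Subtype.val hab
        simp only [mul_left_inj, mul_right_inj] at h5
        exact Subtype.ext (Subtype.ext h5)
      exact Nat.card_le_card_of_injective _ hinj
    · have : IsEmpty {n : N // φ n = Q} := not_nonempty_iff.1 hne
      rw [Nat.card_of_isEmpty]
      exact Nat.zero_le _
  -- the fibres partition N
  have hsum : Nat.card N = ∑ Q : Sylow p G, Nat.card {n : N // φ n = Q} := by
    rw [← Nat.card_sigma]
    exact Nat.card_congr (Equiv.sigmaFiberEquiv φ).symm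
  -- |N| = |P ⊓ N| * |G : P|
  have hcount : Nat.card ((P : Subgroup G) ⊓ N : Subgroup G) * (P : Subgroup G).index =
      Nat.card N := by
    have e1 : N.relIndex (P : Subgroup G) = N.index := by
      rw [← Subgroup.relIndex_sup_right (P : Subgroup G) N, hPN, Subgroup.relIndex_top_right]
    have e2 : ((P : Subgroup G) ⊓ N).relIndex (P : Subgroup G) = N.index := by
      rw [Subgroup.inf_relIndex_left, e1]
    have e3 := Subgroup.relIndex_mul_index (inf_le_left : (P : Subgroup G) ⊓ N ≤ (P : Subgroup G))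
    rw [e2] at e3
    have e4 := Subgroup.card_mul_index ((P : Subgroup G) ⊓ N)
    have e5 := Subgroup.card_mul_index N
    have hN0 : N.index ≠ 0 := Subgroup.index_ne_zero_of_finite
    have e6 : Nat.card ((P : Subgroup G) ⊓ N : Subgroup G) * (P : Subgroup G).index * N.index =
        Nat.card N * N.index := by
      rw [e5, ← e4, ← e3]
      ring
    exact Nat.eq_of_mul_eq_mul_right (Nat.pos_of_ne_zero hN0) e6
  have hsylcard : Nat.card (Sylow p G) ≤ (P : Subgroup G).index := by
    rw [Sylow.card_eq_index_normalizer P]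
    exact Nat.le_of_dvd (Nat.pos_of_ne_zero Subgroup.index_ne_zero_of_finite)
      (Subgroup.index_dvd_of_le Subgroup.le_normalizer)
  have hsum2 : ∑ Q : Sylow p G, Nat.card {n : N // φ n = Q} =
      ∑ _Q : Sylow p G, Nat.card ((P : Subgroup G) ⊓ N : Subgroup G) := by
    apply le_antisymm
    · exact Finset.sum_le_sum (fun Q _ => hfib Q)
    · rw [← hsum, Finset.sum_const, Finset.card_univ, smul_eq_mul, ← Nat.card_eq_fintype_card,
        ← hcount, mul_comm]
      exact Nat.mul_le_mul_left _ hsylcard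
  have hall := (Finset.sum_eq_sum_iff_of_le (fun Q _ => hfib Q)).1 hsum2 P (Finset.mem_univ P)
  -- the fibre over P is all of P ⊓ N
  have hmemP : ∀ n : {n : N // φ n = P}, (n.1 : G) ∈ ((P : Subgroup G) ⊓ N : Subgroup G) := by
    intro n
    refine Subgroup.mem_inf.2 ⟨?_, n.1.2⟩
    have h1 := hmemφ n.1
    rw [n.2] at h1
    have := (P : Subgroup G).mul_mem h1 ((P : Subgroup G).inv_mem hy₀)
    rw [mul_inv_cancel_right] at this
    exact this
  have hinj : Function.Injective
      (fun n : {n : N // φ n = P} =>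
        (⟨(n.1 : G), hmemP n⟩ : ((P : Subgroup G) ⊓ N : Subgroup G))) := by
    intro a b hab
    have h5 := congrArg Subtype.val hab
    exact Subtype.ext (Subtype.ext h5)
  have hbij := hinj.bijective_of_nat_card_le hall.ge
  obtain ⟨n, hn⟩ := hbij.2 ⟨1, Subgroup.one_mem _⟩
  have hn1 : (n.1 : G) = 1 := congrArg Subtype.val hn
  have := hφ n.1
  rw [n.2, hn1, one_mul] at this
  exact this.symm

/-- **S3903.** -/
theorem out_main [Finite G] (N : Subgroup G) [hNn : N.Normal] (hN : N ≠ ⊤)
    (h : ∀ x : G, x ∉ N →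
      IsPrimePow (orderOf x) ∧ IsCoatom (Subgroup.centralizer ({x} : Set G))) :
    Group.IsSolvable ↥N := by
  obtain ⟨x₀, hx₀⟩ : ∃ x₀, x₀ ∉ N := by
    by_contra hcon
    simp only [not_exists, not_not] at hcon
    exact hN (eq_top_iff.2 fun x _ => hcon x)
  obtain ⟨p, k, hp, hk, hx₀o⟩ := (isPrimePow_nat_iff _).1 (h x₀ hx₀).1
  have hpf : Fact p.Prime := ⟨hp⟩
  have hczp : ∀ {q l : ℕ} (hq : q.Prime) {x : G}, x ∉ N → orderOf x = q ^ l → 0 < l →
      ∀ c ∈ N, c ∈ cz x → ∃ j, orderOf c = q ^ j := by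
    intro q l hq x hx hxo hl c hcN hc
    refine commute_ppow_of_primePow hq hxo hl (mem_cz.1 hc).symm ?_
    intro i
    refine (h _ ?_).1
    intro hmem
    apply hx
    have := N.mul_mem hmem (N.inv_mem (N.pow_mem hcN i))
    rw [mul_inv_cancel_right] at this
    exact this
  by_cases hcase : ∃ x, x ∉ N ∧ N ≤ cz x
  · obtain ⟨x, hx, hNx⟩ := hcase
    obtain ⟨q, l, hq, hl, hxo⟩ := (isPrimePow_nat_iff _).1 (h x hx).1
    have hqf : Fact q.Prime := ⟨hq⟩
    have hNq : IsPGroup q N := by
      intro n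
      obtain ⟨j, hj⟩ := hczp hq hx hxo.symm hl n n.2 (hNx n.2)
      refine ⟨j, Subtype.ext ?_⟩
      rw [Subgroup.coe_pow, ← hj, pow_orderOf_eq_one]
      rfl
    have := hNq.isNilpotent
    infer_instance
  simp only [not_exists, not_and] at hcase
  have hcomm := out_comm N (fun x hx => (h x hx).2) hcase
  have hone : ∀ y : G, y ∉ N → ∃ j, orderOf y = p ^ j :=
    fun y hy => out_one_prime N (fun x hx => (h x hx).1) hcomm hx₀ hp hx₀o.symm hy
  have hczP : ∀ x : G, x ∉ N → IsPGroup p (cz x) := by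
    intro x hx c
    have hxo : ∃ l, orderOf x = p ^ l ∧ 0 < l := by
      obtain ⟨l, hl⟩ := hone x hx
      refine ⟨l, hl, ?_⟩
      rcases Nat.eq_zero_or_pos l with h0 | h0
      · exfalso
        rw [h0, pow_zero] at hl
        rw [orderOf_eq_one_iff.1 hl] at hx
        exact hx N.one_mem
      · exact h0
    obtain ⟨l, hxl, hl⟩ := hxo
    have : ∃ j, orderOf (c : G) = p ^ j := by
      by_cases hcN : (c : G) ∈ N
      · exact hczp hp hx hxl hl c hcN c.2
      · exact hone c hcN
    obtain ⟨j, hj⟩ := this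
    refine ⟨j, Subtype.ext ?_⟩
    rw [Subgroup.coe_pow, ← hj, pow_orderOf_eq_one]
    rfl
  by_cases hGp : IsPGroup p G
  · have := hGp.isNilpotent
    exact Group.isSolvable_of_isSolvable_injective N.subtype_injective
  have hsyl : ∀ x : G, x ∉ N → ∃ Q : Sylow p G, (Q : Subgroup G) = cz x := by
    intro x hx
    obtain ⟨Q, hQ⟩ := (hczP x hx).exists_le_sylow
    refine ⟨Q, ?_⟩
    rcases (h x hx).2.le_iff.1 hQ with h1 | h1
    · exfalso
      apply hGp
      intro g
      obtain ⟨j, hj⟩ := Q.isPGroup' ⟨g, h1 ▸ Subgroup.mem_top g⟩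
      exact ⟨j, congrArg Subtype.val hj⟩
    · exact h1
  obtain ⟨P, hP⟩ := hsyl x₀ hx₀
  have hPco : IsCoatom (P : Subgroup G) := hP ▸ (h x₀ hx₀).2
  have hx₀P : x₀ ∈ (P : Subgroup G) := hP ▸ self_mem_cz x₀
  have hPN : (P : Subgroup G) ⊔ N = ⊤ := by
    rcases hPco.le_iff.1 (le_sup_left : (P : Subgroup G) ≤ (P : Subgroup G) ⊔ N) with h1 | h1
    · exact h1
    · exfalso
      apply hcase x₀ hx₀
      have : N ≤ (P : Subgroup G) := by
        rw [← h1]
        exact le_sup_right
      rw [← hP]
      exact this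
  have hcent : ∀ y ∈ (P : Subgroup G), y ∉ N → cz y = (P : Subgroup G) := by
    intro y hy hyN
    refine count_center N P hPN y hy (fun n hn => hsyl (n * y) ?_)
    intro hmem
    apply hyN
    have := N.mul_mem (N.inv_mem hn) hmem
    rw [inv_mul_cancel_left] at this
    exact this
  have hPab : ∀ a ∈ (P : Subgroup G), ∀ b ∈ (P : Subgroup G), a * b = b * a := by
    intro a ha b hb
    by_cases haN : a ∈ N
    · by_cases hbN : b ∈ N
      · have hxa : x₀ * a ∉ N := by
          intro hmem
          apply hx₀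
          have := N.mul_mem hmem (N.inv_mem haN)
          rw [mul_inv_cancel_right] at this
          exact this
        have h1 : b ∈ cz (x₀ * a) := by
          rw [hcent _ ((P : Subgroup G).mul_mem hx₀P ha) hxa]
          exact hb
        have h2 : b ∈ cz x₀ := by
          rw [← hP]
          exact hb
        have e1 := mem_cz.1 h1
        have e2 := mem_cz.1 h2
        apply mul_left_cancel (a := x₀)
        calc x₀ * (a * b) = x₀ * a * b := by group
          _ = b * (x₀ * a) := e1.symm
          _ = (b * x₀) * a := by group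
          _ = x₀ * b * a := by rw [e2]
          _ = x₀ * (b * a) := by group
      · have h1 : a ∈ cz b := by
          rw [hcent b hb hbN]
          exact ha
        exact mem_cz.1 h1
    · have h1 : b ∈ cz a := by
        rw [hcent a ha haN]
        exact hb
      exact (mem_cz.1 h1).symm
  have hPs : Group.IsSolvable (P : Subgroup G) :=
    Group.isSolvable_of_comm (fun a b => Subtype.ext (hPab a a.2 b b.2))
  have hGsolv : Group.IsSolvable G := by
    rcases hPco.le_iff.1
      (Subgroup.le_normalizer : (P : Subgroup G) ≤ normalizer ((P : Subgroup G) : Set G))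
      with hn | hn
    · -- `P` is normal
      have hPn : (P : Subgroup G).Normal := normalizer_eq_top_iff.1 hn
      have hQs : Group.IsSolvable (G ⧸ (P : Subgroup G)) := by
        apply Group.isSolvable_of_comm
        intro a b
        obtain ⟨a, rfl⟩ := QuotientGroup.mk_surjective a
        obtain ⟨b, rfl⟩ := QuotientGroup.mk_surjective b
        have := (QuotientGroup.eq_one_iff _).2 (normal_coatom_comm_mem hPco a b)
        simp only [QuotientGroup.mk_mul, QuotientGroup.mk_inv] at this
        rw [mul_inv_eq_one, mul_inv_eq_iff_eq_mul] at this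
        exact this
      exact Group.isSolvable_of_ker_le_range (P : Subgroup G).subtype
        (QuotientGroup.mk' (P : Subgroup G)) (by simp)
    · -- `P` is self-normalizing and abelian: Burnside
      have hP' : normalizer ((P : Subgroup G) : Set G) ≤ centralizer ((P : Subgroup G) : Set G) := by
        rw [hn]
        intro a ha
        rw [Subgroup.mem_centralizer_iff]
        intro b hb
        exact hPab b hb a ha
      have hK := MonoidHom.ker_transferSylow_isComplement' P hP'
      obtain ⟨K, hKdef⟩ : ∃ K : Subgroup G, K = (MonoidHom.transferSylow P hP').ker := ⟨_, rfl⟩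
      rw [← hKdef] at hK
      have hKn : K.Normal := hKdef ▸ MonoidHom.normal_ker _
      have hKP : K ⊓ (P : Subgroup G) = ⊥ := hK.disjoint.eq_bot
      have hKcard : Nat.card K = (P : Subgroup G).index := hK.index_eq_card.symm
      have hpK : ¬ p ∣ Nat.card K := by
        rw [hKcard]
        exact P.not_dvd_index
      have hK1 : Nat.card K ≠ 1 := by
        intro h1
        have hKbot : K = ⊥ := Subgroup.card_eq_one.1 h1
        have := hK.sup_eq_top
        rw [hKbot, bot_sup_eq] at this
        exact hPco.1 this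
      have hq := Nat.minFac_prime hK1
      have hqf : Fact (Nat.card K).minFac.Prime := ⟨hq⟩
      obtain ⟨Q, hQK, hQq, hPQ, hQcard⟩ :=
        Cfsg.Agent.Lib.helper37.exists_invariant_sylow p (Nat.card K).minFac (P : Subgroup G) K
          P.isPGroup' hpK (by rw [normalizer_eq_top_iff.2 hKn]; exact le_top)
      have hQ1 : Q ≠ ⊥ := by
        intro hbot
        rw [hbot, Subgroup.card_bot] at hQcard
        have hpos : 0 < (Nat.card K).factorization (Nat.card K).minFac :=
          Nat.Prime.factorization_pos_of_dvd hq Nat.card_pos.ne' (Nat.minFac_dvd _)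
        have := Nat.one_lt_pow hpos.ne' hq.one_lt
        omega
      have hPQtop : (P : Subgroup G) ⊔ Q = ⊤ := by
        rcases hPco.le_iff.1 (le_sup_left : (P : Subgroup G) ≤ (P : Subgroup G) ⊔ Q) with h1 | h1
        · exact h1
        · exfalso
          apply hQ1
          have hQP : Q ≤ (P : Subgroup G) := by
            rw [← h1]
            exact le_sup_right
          rw [eq_bot_iff, ← hKP]
          exact le_inf hQK hQP
      have hQn : Q.Normal := by
        rw [← normalizer_eq_top_iff, eq_top_iff, ← hPQtop]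
        exact sup_le hPQ Subgroup.le_normalizer
      have hQs : Group.IsSolvable Q := by
        have := hQq.isNilpotent
        infer_instance
      have hQuot : Group.IsSolvable (G ⧸ Q) := by
        have hsurj : Function.Surjective ((QuotientGroup.mk' Q).comp (P : Subgroup G).subtype) := by
          intro g
          obtain ⟨g, rfl⟩ := QuotientGroup.mk_surjective g
          have hg : g ∈ (P : Subgroup G) ⊔ Q := by rw [hPQtop]; trivial
          obtain ⟨a, ha, b, hb, rfl⟩ := mem_sup_of_normal_right.1 hg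
          refine ⟨⟨a, ha⟩, ?_⟩
          rw [MonoidHom.comp_apply, Subgroup.subtype_apply, QuotientGroup.mk'_apply,
            QuotientGroup.mk_mul, (QuotientGroup.eq_one_iff b).2 hb, mul_one]
        exact Group.isSolvable_of_surjective hsurj
      exact Group.isSolvable_of_ker_le_range Q.subtype (QuotientGroup.mk' Q) (by simp)
  exact Group.isSolvable_of_isSolvable_injective N.subtype_injective

end OutCent

end Cfsg.Agent.Lib.helper68
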