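import Mathlib
import Cfsg.Agent.Lib.helper68.NilFam

/-!
# The action of `GL_n(F)/Z` on the subspaces of `Fⁿ`, and its dual
-/

set_option autoImplicit false

namespace Cfsg.Agent.Lib.helper68

open Matrix

/-- `PGL_n(F)` as the quotient of `GL_n(F)` by its centre. -/
abbrev PG (n : ℕ) (F : Type*) [Field F] : Type _ :=
  GL (Fin n) F ⧸ Subgroup.center (GL (Fin n) F)

/-- The action of `GL_n(F)` on the subspaces of `Fⁿ`. -/
def glAct (n : ℕ) (F : Type*) [Field F] :
    GL (Fin n) F →* Equiv.Perm (Submodule F (Fin n → F)) where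
  toFun g :=
    { toFun := fun W => W.map (Matrix.mulVecLin (g : Matrix (Fin n) (Fin n) F))
      invFun := fun W =>
        W.map (Matrix.mulVecLin ((g⁻¹ : GL (Fin n) F) : Matrix (Fin n) (Fin n) F))
      left_inv := by
        intro W
        show (W.map (Matrix.mulVecLin (g : Matrix (Fin n) (Fin n) F))).map
          (Matrix.mulVecLin ((g⁻¹ : GL (Fin n) F) : Matrix (Fin n) (Fin n) F)) = W
        rw [← Submodule.map_comp, ← Matrix.mulVecLin_mul, ← Units.val_mul, inv_mul_cancel,
          Units.val_one, Matrix.mulVecLin_one, Submodule.map_id]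
      right_inv := by
        intro W
        show (W.map (Matrix.mulVecLin ((g⁻¹ : GL (Fin n) F) : Matrix (Fin n) (Fin n) F))).map
          (Matrix.mulVecLin (g : Matrix (Fin n) (Fin n) F)) = W
        rw [← Submodule.map_comp, ← Matrix.mulVecLin_mul, ← Units.val_mul, mul_inv_cancel,
          Units.val_one, Matrix.mulVecLin_one, Submodule.map_id] }
  map_one' := by
    ext W : 1
    show W.map (Matrix.mulVecLin ((1 : GL (Fin n) F) : Matrix (Fin n) (Fin n) F)) = W
    rw [Units.val_one, Matrix.mulVecLin_one, Submodule.map_id]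
  map_mul' := by
    intro g h
    ext W : 1
    show W.map (Matrix.mulVecLin ((g * h : GL (Fin n) F) : Matrix (Fin n) (Fin n) F)) =
      (W.map (Matrix.mulVecLin (h : Matrix (Fin n) (Fin n) F))).map
        (Matrix.mulVecLin (g : Matrix (Fin n) (Fin n) F))
    rw [← Submodule.map_comp, ← Matrix.mulVecLin_mul, Units.val_mul]

theorem glAct_apply {n : ℕ} {F : Type*} [Field F] (g : GL (Fin n) F)
    (W : Submodule F (Fin n → F)) :
    glAct n F g W = W.map (Matrix.mulVecLin (g : Matrix (Fin n) (Fin n) F)) := rfl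

theorem center_le_ker_glAct (n : ℕ) (F : Type*) [Field F] :
    Subgroup.center (GL (Fin n) F) ≤ (glAct n F).ker := by
  intro g hg
  rw [Matrix.GeneralLinearGroup.center_eq_range_scalar] at hg
  obtain ⟨a, rfl⟩ := hg
  rw [MonoidHom.mem_ker]
  ext W : 1
  rw [glAct_apply]
  have h1 : Matrix.mulVecLin ((Matrix.GeneralLinearGroup.scalar (Fin n) a : GL (Fin n) F) :
      Matrix (Fin n) (Fin n) F) = (a : F) • (LinearMap.id : (Fin n → F) →ₗ[F] (Fin n → F)) := by
    ext v i
    simp [Matrix.mulVec, dotProduct, Matrix.diagonal_apply, Pi.single_apply]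
  rw [h1, Submodule.map_smul _ _ _ a.ne_zero, Submodule.map_id]
  rfl

/-- The action of `PGL_n(F)` on the subspaces of `Fⁿ`. -/
def pAct (n : ℕ) (F : Type*) [Field F] : PG n F →* Equiv.Perm (Submodule F (Fin n → F)) :=
  QuotientGroup.lift _ (glAct n F) (center_le_ker_glAct n F)

theorem pAct_mk {n : ℕ} {F : Type*} [Field F] (g : GL (Fin n) F)
    (W : Submodule F (Fin n → F)) :
    pAct n F (QuotientGroup.mk g) W = W.map (Matrix.mulVecLin (g : Matrix (Fin n) (Fin n) F)) :=
  rfl

theorem pAct_mk_span {n : ℕ} {F : Type*} [Field F] (g : GL (Fin n) F) (v : Fin n → F) :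
    pAct n F (QuotientGroup.mk g) (Submodule.span F {v}) =
      Submodule.span F {(g : Matrix (Fin n) (Fin n) F) *ᵥ v} := by
  rw [pAct_mk, Submodule.map_span, Set.image_singleton, Matrix.mulVecLin_apply]

theorem gl_mulVec_ne_zero {n : ℕ} {F : Type*} [Field F] (g : GL (Fin n) F) (v : Fin n → F)
    (hv : v ≠ 0) : (g : Matrix (Fin n) (Fin n) F) *ᵥ v ≠ 0 := by
  intro h
  apply hv
  have : ((g⁻¹ : GL (Fin n) F) : Matrix (Fin n) (Fin n) F) *ᵥ
      ((g : Matrix (Fin n) (Fin n) F) *ᵥ v) = v := by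
    rw [Matrix.mulVec_mulVec, ← Units.val_mul, inv_mul_cancel, Units.val_one, Matrix.one_mulVec]
  rw [← this, h, Matrix.mulVec_zero]

/-- The image of the line of `v` is the line of `w` iff `g v` is a multiple of `w`. -/
theorem pAct_span_eq_iff {n : ℕ} {F : Type*} [Field F] (g : GL (Fin n) F) (v w : Fin n → F)
    (hv : v ≠ 0) :
    pAct n F (QuotientGroup.mk g) (Submodule.span F {v}) = Submodule.span F {w} ↔
      ∃ c : F, (g : Matrix (Fin n) (Fin n) F) *ᵥ v = c • w := by
  rw [pAct_mk_span]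
  constructor
  · intro h
    have : (g : Matrix (Fin n) (Fin n) F) *ᵥ v ∈ Submodule.span F {w} := by
      rw [← h]; exact Submodule.mem_span_singleton_self _
    obtain ⟨c, hc⟩ := Submodule.mem_span_singleton.1 this
    exact ⟨c, hc.symm⟩
  · rintro ⟨c, hc⟩
    have hc0 : c ≠ 0 := by
      rintro rfl
      exact gl_mulVec_ne_zero g v hv (by rw [hc, zero_smul])
    rw [hc, Submodule.span_singleton_smul_eq (IsUnit.mk0 c hc0)]

/-- The points of the projective space: the lines of `Fⁿ`. -/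
def IsPt {n : ℕ} {F : Type*} [Field F] (W : Submodule F (Fin n → F)) : Prop :=
  ∃ v : Fin n → F, v ≠ 0 ∧ W = Submodule.span F {v}

theorem isPt_pAct {n : ℕ} {F : Type*} [Field F] (x : PG n F) (W : Submodule F (Fin n → F))
    (hW : IsPt W) : IsPt (pAct n F x W) := by
  obtain ⟨g, rfl⟩ := QuotientGroup.mk_surjective x
  obtain ⟨v, hv, rfl⟩ := hW
  exact ⟨_, gl_mulVec_ne_zero g v hv, pAct_mk_span g v⟩

/-- The image of `SL_n(F)` in `PGL_n(F)`. -/
def slP (n : ℕ) (F : Type*) [Field F] : Matrix.SpecialLinearGroup (Fin n) F →* PG n F :=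
  (QuotientGroup.mk' (Subgroup.center (GL (Fin n) F))).comp Matrix.SpecialLinearGroup.toGL

theorem slP_apply {n : ℕ} {F : Type*} [Field F] (s : Matrix.SpecialLinearGroup (Fin n) F) :
    slP n F s = QuotientGroup.mk (Matrix.SpecialLinearGroup.toGL s) := rfl

theorem toGL_val {n : ℕ} {F : Type*} [Field F] (s : Matrix.SpecialLinearGroup (Fin n) F) :
    ((Matrix.SpecialLinearGroup.toGL s : GL (Fin n) F) : Matrix (Fin n) (Fin n) F) = s.1 := rfl

theorem slP_span_eq_iff {n : ℕ} {F : Type*} [Field F] (s : Matrix.SpecialLinearGroup (Fin n) F)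
    (v w : Fin n → F) (hv : v ≠ 0) :
    pAct n F (slP n F s) (Submodule.span F {v}) = Submodule.span F {w} ↔
      ∃ c : F, s.1 *ᵥ v = c • w :=
  pAct_span_eq_iff _ v w hv

theorem slP_mem {n : ℕ} {F : Type*} [Field F] (G : Subgroup (PG n F))
    (hG : ((Matrix.SpecialLinearGroup.toGL :
      Matrix.SpecialLinearGroup (Fin n) F →* GL (Fin n) F).range).map
      (QuotientGroup.mk' (Subgroup.center (GL (Fin n) F))) ≤ G)
    (s : Matrix.SpecialLinearGroup (Fin n) F) : slP n F s ∈ G :=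
  hG (Subgroup.mem_map_of_mem _ ⟨s, rfl⟩)

/-- Uniqueness of fixed points is transported by conjugation. -/
theorem unique_fix_conj {H X : Type*} [Group H] (φ : H →* Equiv.Perm X) (Q : X → Prop)
    (hQ : ∀ a : H, ∀ x, Q x → Q (φ a x)) (u y : H) (x : X)
    (huniq : ∀ z, Q z → φ u z = z → z = x) :
    ∀ z, Q z → φ (y * u * y⁻¹) z = z → z = φ y x := by
  intro z hz hfix
  have h1 : φ u (φ y⁻¹ z) = φ y⁻¹ z := by
    have h4 := congrArg (φ y⁻¹) hfix
    simp only [map_mul, Equiv.Perm.mul_apply] at h4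
    rw [← Equiv.Perm.mul_apply (φ y⁻¹) (φ y), ← map_mul, inv_mul_cancel, map_one] at h4
    simpa using h4
  have h2 := huniq _ (hQ _ _ hz) h1
  rw [← h2, ← Equiv.Perm.mul_apply, ← map_mul, mul_inv_cancel, map_one]
  rfl

theorem fix_conj {H X : Type*} [Group H] (φ : H →* Equiv.Perm X) (u y : H) (x : X)
    (hux : φ u x = x) : φ (y * u * y⁻¹) (φ y x) = φ y x := by
  simp only [map_mul, Equiv.Perm.mul_apply]
  rw [← Equiv.Perm.mul_apply (φ y⁻¹) (φ y), ← map_mul, inv_mul_cancel, map_one]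
  simp [hux]

/-- Inverse transpose, as an automorphism of `GL_n(F)`. -/
def invT (n : ℕ) (F : Type*) [Field F] : GL (Fin n) F →* GL (Fin n) F where
  toFun g :=
    ⟨((g⁻¹ : GL (Fin n) F) : Matrix (Fin n) (Fin n) F)ᵀ, (g : Matrix (Fin n) (Fin n) F)ᵀ,
      by rw [← Matrix.transpose_mul, ← Units.val_mul, mul_inv_cancel, Units.val_one,
        Matrix.transpose_one],
      by rw [← Matrix.transpose_mul, ← Units.val_mul, inv_mul_cancel, Units.val_one,
        Matrix.transpose_one]⟩
  map_one' := by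
    apply Units.ext
    show ((1⁻¹ : GL (Fin n) F) : Matrix (Fin n) (Fin n) F)ᵀ = 1
    rw [inv_one, Units.val_one, Matrix.transpose_one]
  map_mul' := by
    intro g h
    apply Units.ext
    show (((g * h)⁻¹ : GL (Fin n) F) : Matrix (Fin n) (Fin n) F)ᵀ =
      ((g⁻¹ : GL (Fin n) F) : Matrix (Fin n) (Fin n) F)ᵀ *
        ((h⁻¹ : GL (Fin n) F) : Matrix (Fin n) (Fin n) F)ᵀ
    rw [_root_.mul_inv_rev, Units.val_mul, Matrix.transpose_mul]

theorem invT_val {n : ℕ} {F : Type*} [Field F] (g : GL (Fin n) F) :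
    ((invT n F g : GL (Fin n) F) : Matrix (Fin n) (Fin n) F) =
      ((g⁻¹ : GL (Fin n) F) : Matrix (Fin n) (Fin n) F)ᵀ := rfl

theorem invT_inv_val {n : ℕ} {F : Type*} [Field F] (g : GL (Fin n) F) :
    ((invT n F g⁻¹ : GL (Fin n) F) : Matrix (Fin n) (Fin n) F) =
      (g : Matrix (Fin n) (Fin n) F)ᵀ := by
  rw [invT_val, inv_inv]

theorem center_le_ker_glAct_invT (n : ℕ) (F : Type*) [Field F] :
    Subgroup.center (GL (Fin n) F) ≤ ((glAct n F).comp (invT n F)).ker := by
  intro g hg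
  rw [MonoidHom.mem_ker, MonoidHom.comp_apply]
  apply center_le_ker_glAct n F
  rw [Matrix.GeneralLinearGroup.mem_center_iff_val_mem_range_scalar]
  obtain ⟨a, ha⟩ := Matrix.GeneralLinearGroup.mem_center_iff_val_mem_range_scalar.1
    (Subgroup.inv_mem _ hg)
  refine ⟨a, ?_⟩
  rw [invT_val, ← ha]
  simp

/-- The dual action of `PGL_n(F)` on the subspaces of `Fⁿ`, through the inverse transpose. -/
def pAct' (n : ℕ) (F : Type*) [Field F] : PG n F →* Equiv.Perm (Submodule F (Fin n → F)) :=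
  QuotientGroup.lift _ ((glAct n F).comp (invT n F)) (center_le_ker_glAct_invT n F)

theorem pAct'_mk {n : ℕ} {F : Type*} [Field F] (g : GL (Fin n) F)
    (W : Submodule F (Fin n → F)) :
    pAct' n F (QuotientGroup.mk g) W = pAct n F (QuotientGroup.mk (invT n F g)) W := rfl

theorem isPt_pAct' {n : ℕ} {F : Type*} [Field F] (x : PG n F) (W : Submodule F (Fin n → F))
    (hW : IsPt W) : IsPt (pAct' n F x W) := by
  obtain ⟨g, rfl⟩ := QuotientGroup.mk_surjective x
  rw [pAct'_mk]
  exact isPt_pAct _ W hW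

/-- A permutation fixes a point iff its inverse does. -/
theorem fix_inv_iff {H X : Type*} [Group H] (φ : H →* Equiv.Perm X) (g : H) (x : X) :
    φ g⁻¹ x = x ↔ φ g x = x := by
  rw [map_inv, Equiv.Perm.inv_eq_iff_eq]
  exact eq_comm

/-- The line of `f` is fixed in the dual action iff `f` is an eigenvector of the transpose. -/
theorem pAct'_span_eq_iff {n : ℕ} {F : Type*} [Field F] (g : GL (Fin n) F) (f : Fin n → F)
    (hf : f ≠ 0) :
    pAct' n F (QuotientGroup.mk g) (Submodule.span F {f}) = Submodule.span F {f} ↔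
      ∃ c : F, (g : Matrix (Fin n) (Fin n) F)ᵀ *ᵥ f = c • f := by
  rw [← fix_inv_iff, ← QuotientGroup.mk_inv, pAct'_mk, pAct_span_eq_iff _ f f hf, invT_inv_val]

end Cfsg.Agent.Lib.helper68
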