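import Mathlib
import Cfsg.Agent.Lib.helper68.PAct

/-!
# Subgroups of `PGL_n(F)` containing `PSL_n(F)`, `n ≥ 3`, have no nilpotent minimal cover
-/

set_option autoImplicit false

namespace Cfsg.Agent.Lib.helper68

open Matrix

/-- The superdiagonal nilpotent matrix. -/
def shiftN (n : ℕ) (F : Type*) [Field F] : Matrix (Fin n) (Fin n) F :=
  Matrix.of fun i j => if j.val = i.val + 1 then 1 else 0

theorem shiftN_mulVec {n : ℕ} {F : Type*} [Field F] (v : Fin n → F) (i : Fin n) :
    (shiftN n F *ᵥ v) i = if h : i.val + 1 < n then v ⟨i.val + 1, h⟩ else 0 := by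
  simp only [Matrix.mulVec, dotProduct]
  split_ifs with h
  · rw [Finset.sum_eq_single ⟨i.val + 1, h⟩]
    · simp [shiftN]
    · intro j _ hj
      have : j.val ≠ i.val + 1 := fun h' => hj (Fin.ext h')
      simp [shiftN, this]
    · simp
  · apply Finset.sum_eq_zero
    intro j _
    have : j.val ≠ i.val + 1 := by have := j.2; omega
    simp [shiftN, this]

theorem shiftN_transpose_mulVec {n : ℕ} {F : Type*} [Field F] (f : Fin n → F) (i : Fin n) :
    ((shiftN n F)ᵀ *ᵥ f) i =
      if h : 0 < i.val then f ⟨i.val - 1, lt_of_le_of_lt (Nat.sub_le _ _) i.2⟩ else 0 := by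
  simp only [Matrix.mulVec, dotProduct]
  split_ifs with h
  · rw [Finset.sum_eq_single ⟨i.val - 1, lt_of_le_of_lt (Nat.sub_le _ _) i.2⟩]
    · have : i.val = i.val - 1 + 1 := by omega
      simp [shiftN, ← this]
    · intro j _ hj
      have : i.val ≠ j.val + 1 := fun h' => hj (Fin.ext (by simp [h']))
      simp [shiftN, this]
    · simp
  · apply Finset.sum_eq_zero
    intro j _
    have : i.val ≠ j.val + 1 := by omega
    simp [shiftN, this]

theorem det_regU (n : ℕ) (F : Type*) [Field F] : (1 + shiftN n F).det = 1 := by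
  rw [Matrix.det_of_isUpperTriangular]
  · apply Finset.prod_eq_one
    intro i _
    simp [shiftN]
  · intro i j hij
    have h1 : i ≠ j := fun h => by subst h; exact lt_irrefl _ hij
    have h2 : j.val ≠ i.val + 1 := by
      have : j.val < i.val := hij
      omega
    simp [shiftN, Matrix.one_apply, h1, h2]

/-- The eigenvectors of the regular unipotent matrix are the multiples of the first basis
vector. -/
theorem regU_eigen {n : ℕ} {F : Type*} [Field F] (v : Fin n → F) (c : F) (hv : v ≠ 0)
    (h : (1 + shiftN n F) *ᵥ v = c • v) : ∀ i : Fin n, i.val ≠ 0 → v i = 0 := by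
  have hi : ∀ i : Fin n,
      v i + (if h : i.val + 1 < n then v ⟨i.val + 1, h⟩ else 0) = c * v i := by
    intro i
    have := congrFun h i
    rw [Matrix.add_mulVec, Matrix.one_mulVec, Pi.add_apply, shiftN_mulVec] at this
    simpa using this
  by_cases hc : c = 1
  · subst hc
    intro i hi0
    have h1 : i.val - 1 + 1 < n := by have := i.2; omega
    have := hi ⟨i.val - 1, lt_of_le_of_lt (Nat.sub_le _ _) i.2⟩
    simp only [h1, dif_pos, one_mul] at this
    have h2 : (⟨i.val - 1 + 1, h1⟩ : Fin n) = i := Fin.ext (by simp; omega)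
    rw [h2] at this
    simpa using this
  · exfalso
    apply hv
    have hz : ∀ x : F, x = c * x → x = 0 := by
      intro x hx
      have : (c - 1) * x = 0 := by linear_combination -hx
      rcases mul_eq_zero.1 this with h | h
      · exact absurd (sub_eq_zero.1 h) hc
      · exact h
    have key : ∀ k, ∀ i : Fin n, i.val + k + 1 = n → v i = 0 := by
      intro k
      induction k with
      | zero =>
        intro i hik
        have := hi i
        have h1 : ¬ (i.val + 1 < n) := by omega
        simp only [h1, dif_neg, not_false_iff, add_zero] at this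
        exact hz _ this
      | succ k ih =>
        intro i hik
        have h1 : i.val + 1 < n := by omega
        have := hi i
        simp only [h1, dif_pos] at this
        rw [ih ⟨i.val + 1, h1⟩ (by simp; omega), add_zero] at this
        exact hz _ this
    funext i
    exact key (n - 1 - i.val) i (by have := i.2; omega)

/-- The eigenvectors of the transpose of the regular unipotent matrix are the multiples of the
last basis vector. -/
theorem regU_transpose_eigen {n : ℕ} {F : Type*} [Field F] (f : Fin n → F) (c : F) (hf : f ≠ 0)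
    (h : (1 + shiftN n F)ᵀ *ᵥ f = c • f) : ∀ i : Fin n, i.val + 1 ≠ n → f i = 0 := by
  have hi : ∀ i : Fin n,
      f i + (if h : 0 < i.val then f ⟨i.val - 1, lt_of_le_of_lt (Nat.sub_le _ _) i.2⟩ else 0)
        = c * f i := by
    intro i
    have := congrFun h i
    rw [Matrix.transpose_add, Matrix.transpose_one, Matrix.add_mulVec, Matrix.one_mulVec,
      Pi.add_apply, shiftN_transpose_mulVec] at this
    simpa using this
  by_cases hc : c = 1
  · subst hc
    intro i hi0
    have h1 : i.val + 1 < n := by have := i.2; omega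
    have := hi ⟨i.val + 1, h1⟩
    simp only [Nat.succ_pos, dif_pos, one_mul, Nat.add_sub_cancel] at this
    simpa using this
  · exfalso
    apply hf
    have hz : ∀ x : F, x = c * x → x = 0 := by
      intro x hx
      have : (c - 1) * x = 0 := by linear_combination -hx
      rcases mul_eq_zero.1 this with h | h
      · exact absurd (sub_eq_zero.1 h) hc
      · exact h
    have key : ∀ k, ∀ i : Fin n, i.val = k → f i = 0 := by
      intro k
      induction k with
      | zero =>
        intro i hik
        have := hi i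
        have h1 : ¬ (0 < i.val) := by omega
        simp only [h1, dif_neg, not_false_iff, add_zero] at this
        exact hz _ this
      | succ k ih =>
        intro i hik
        have h1 : 0 < i.val := by omega
        have := hi i
        simp only [h1, dif_pos] at this
        rw [ih ⟨i.val - 1, lt_of_le_of_lt (Nat.sub_le _ _) i.2⟩ (by simp; omega), add_zero]
          at this
        exact hz _ this
    funext i
    exact key i.val i rfl

/-- A nonzero vector supported on one coordinate spans the corresponding coordinate line. -/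
theorem span_eq_span_single {n : ℕ} {F : Type*} [Field F] (v : Fin n → F) (k : Fin n)
    (hv : v ≠ 0) (h : ∀ i, i ≠ k → v i = 0) :
    Submodule.span F {v} = Submodule.span F {(Pi.single k 1 : Fin n → F)} := by
  have h1 : v = v k • (Pi.single k 1 : Fin n → F) := by
    funext i
    by_cases hik : i = k
    · subst hik; simp
    · simp [h i hik, hik]
  have h2 : v k ≠ 0 := by
    intro h0
    apply hv
    funext i
    by_cases hik : i = k
    · subst hik; exact h0
    · exact h i hik
  rw [h1, Submodule.span_singleton_smul_eq (IsUnit.mk0 _ h2)]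

theorem single_ne_zero' {n : ℕ} {F : Type*} [Field F] (k : Fin n) :
    (Pi.single k 1 : Fin n → F) ≠ 0 := by
  intro h
  have := congrFun h k
  simp at this

theorem isPt_single {n : ℕ} {F : Type*} [Field F] (k : Fin n) :
    IsPt (Submodule.span F {(Pi.single k 1 : Fin n → F)}) :=
  ⟨_, single_ne_zero' k, rfl⟩

/-- The stabilizer of a subspace in `PGL_n(F)`. -/
def ptStab {n : ℕ} {F : Type*} [Field F] (W : Submodule F (Fin n → F)) : Subgroup (PG n F) :=
  (MulAction.stabilizer (Equiv.Perm (Submodule F (Fin n → F))) W).comap (pAct n F)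

theorem mem_ptStab {n : ℕ} {F : Type*} [Field F] (W : Submodule F (Fin n → F)) (x : PG n F) :
    x ∈ ptStab W ↔ pAct n F x W = W := Iff.rfl

/-- The regular unipotent element of `SL_n(F)`. -/
def regS (n : ℕ) (F : Type*) [Field F] : Matrix.SpecialLinearGroup (Fin n) F :=
  ⟨1 + shiftN n F, det_regU n F⟩

theorem regS_fix {n : ℕ} {F : Type*} [Field F] (k : Fin n) (hk : k.val = 0) :
    pAct n F (slP n F (regS n F)) (Submodule.span F {(Pi.single k 1 : Fin n → F)}) =
      Submodule.span F {(Pi.single k 1 : Fin n → F)} := by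
  rw [slP_span_eq_iff _ _ _ (single_ne_zero' k)]
  refine ⟨1, ?_⟩
  rw [one_smul]
  show (1 + shiftN n F) *ᵥ (Pi.single k 1 : Fin n → F) = Pi.single k 1
  rw [Matrix.add_mulVec, Matrix.one_mulVec]
  funext i
  rw [Pi.add_apply, shiftN_mulVec]
  split_ifs with h
  · have : (⟨i.val + 1, h⟩ : Fin n) ≠ k := by
      intro h'
      have := congrArg Fin.val h'
      simp at this
      omega
    simp [this]
  · simp

theorem regS_unique_fix {n : ℕ} {F : Type*} [Field F] (k : Fin n) (hk : k.val = 0)
    (W : Submodule F (Fin n → F)) (hW : IsPt W)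
    (hfix : pAct n F (slP n F (regS n F)) W = W) :
    W = Submodule.span F {(Pi.single k 1 : Fin n → F)} := by
  obtain ⟨v, hv, rfl⟩ := hW
  rw [slP_span_eq_iff _ _ _ hv] at hfix
  obtain ⟨c, hc⟩ := hfix
  refine span_eq_span_single v k hv ?_
  intro i hik
  exact regU_eigen v c hv hc i (fun h => hik (Fin.ext (by rw [h, hk])))

theorem regS_fix' {n : ℕ} {F : Type*} [Field F] (k : Fin n) (hk : k.val + 1 = n) :
    pAct' n F (slP n F (regS n F)) (Submodule.span F {(Pi.single k 1 : Fin n → F)}) =
      Submodule.span F {(Pi.single k 1 : Fin n → F)} := by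
  rw [slP_apply, pAct'_span_eq_iff _ _ (single_ne_zero' k)]
  refine ⟨1, ?_⟩
  rw [one_smul]
  show (1 + shiftN n F)ᵀ *ᵥ (Pi.single k 1 : Fin n → F) = Pi.single k 1
  rw [Matrix.transpose_add, Matrix.transpose_one, Matrix.add_mulVec, Matrix.one_mulVec]
  funext i
  rw [Pi.add_apply, shiftN_transpose_mulVec]
  split_ifs with h
  · have : (⟨i.val - 1, lt_of_le_of_lt (Nat.sub_le _ _) i.2⟩ : Fin n) ≠ k := by
      intro h'
      have := congrArg Fin.val h'
      simp at this
      have := i.2
      omega
    simp [this]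
  · simp

theorem regS_unique_fix' {n : ℕ} {F : Type*} [Field F] (k : Fin n) (hk : k.val + 1 = n)
    (W : Submodule F (Fin n → F)) (hW : IsPt W)
    (hfix : pAct' n F (slP n F (regS n F)) W = W) :
    W = Submodule.span F {(Pi.single k 1 : Fin n → F)} := by
  obtain ⟨f, hf, rfl⟩ := hW
  rw [slP_apply, pAct'_span_eq_iff _ _ hf] at hfix
  obtain ⟨c, hc⟩ := hfix
  refine span_eq_span_single f k hf ?_
  intro i hik
  exact regU_transpose_eigen f c hf hc i (fun h => hik (Fin.ext (by omega)))

/-- Subgroups of `PGL_n(F)` containing the image of `SL_n(F)`, `n ≥ 3`, have no nilpotent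
minimal cover. -/
theorem no_nilMinCover_pgl_three {F : Type*} [Field F] (m : ℕ) (G : Subgroup (PG (m + 3) F))
    (hG : ∀ s : Matrix.SpecialLinearGroup (Fin (m + 3)) F, slP (m + 3) F s ∈ G)
    (𝓐 : Finset (Subgroup ↥G)) : ¬ IsNilMinCover 𝓐 := by
  classical
  have h10 : (1 : Fin (m + 3)) ≠ 0 := by
    intro h
    have := congrArg Fin.val h
    simp at this
  have hl1 : Fin.last (m + 2) ≠ (1 : Fin (m + 3)) := by
    intro h
    have := congrArg Fin.val h
    simp at this
  set P₀ : Submodule F (Fin (m + 3) → F) :=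
    Submodule.span F {(Pi.single 0 1 : Fin (m + 3) → F)} with hP₀
  set Pl : Submodule F (Fin (m + 3) → F) :=
    Submodule.span F {(Pi.single (Fin.last (m + 2)) 1 : Fin (m + 3) → F)} with hPl
  set u₀ : PG (m + 3) F := slP _ F (regS (m + 3) F) with hu₀
  set hS : Matrix.SpecialLinearGroup (Fin (m + 3)) F :=
    ⟨Matrix.transvection (Fin.last (m + 2)) (1 : Fin (m + 3)) (1 : F),
      Matrix.det_transvection_of_ne _ _ hl1 1⟩ with hhS
  set h : PG (m + 3) F := slP _ F hS with hh
  set mS : Matrix.SpecialLinearGroup (Fin (m + 3)) F :=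
    ⟨Matrix.transvection (1 : Fin (m + 3)) (0 : Fin (m + 3)) (1 : F),
      Matrix.det_transvection_of_ne _ _ h10 1⟩ with hmS
  have hfix0 : pAct _ F u₀ P₀ = P₀ := regS_fix 0 rfl
  have huniq0 : ∀ W, IsPt W → pAct _ F u₀ W = W → W = P₀ := regS_unique_fix 0 rfl
  have hfix0' : pAct' _ F u₀ Pl = Pl := regS_fix' (Fin.last (m + 2)) (by simp)
  have huniq0' : ∀ W, IsPt W → pAct' _ F u₀ W = W → W = Pl :=
    regS_unique_fix' (Fin.last (m + 2)) (by simp)
  have hh0 : pAct _ F h P₀ = P₀ := by
    rw [hh, hP₀, slP_span_eq_iff _ _ _ (single_ne_zero' _)]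
    refine ⟨1, ?_⟩
    rw [one_smul]
    show Matrix.transvection (Fin.last (m + 2)) (1 : Fin (m + 3)) (1 : F) *ᵥ
      (Pi.single 0 1 : Fin (m + 3) → F) = Pi.single 0 1
    rw [Matrix.mulVec_single_one]
    funext i
    simp [Matrix.transvection, Matrix.single_apply, Matrix.one_apply, Pi.single_apply, h10]
  have hh' : pAct' _ F h Pl ≠ Pl := by
    intro e
    rw [hh, hPl, slP_apply, pAct'_span_eq_iff _ _ (single_ne_zero' _)] at e
    obtain ⟨c, hc⟩ := e
    have h1 := congrFun hc 1
    rw [toGL_val, Matrix.mulVec_single_one] at h1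
    simp [hhS, Matrix.transvection, Matrix.single_apply, Matrix.one_apply, Pi.single_apply, hl1,
      hl1.symm] at h1
  have hmove : pAct _ F (slP _ F mS) P₀ ≠ P₀ := by
    intro e
    rw [hP₀, slP_span_eq_iff _ _ _ (single_ne_zero' _)] at e
    obtain ⟨c, hc⟩ := e
    have h1 := congrFun hc 1
    rw [Matrix.mulVec_single_one] at h1
    simp [hmS, Matrix.transvection, Matrix.single_apply, Matrix.one_apply, Pi.single_apply, h10]
      at h1
  have hPt0 : IsPt P₀ := isPt_single 0
  have hPtl : IsPt Pl := isPt_single (Fin.last (m + 2))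
  have hu₁ : h * u₀ * h⁻¹ = slP _ F (hS * regS (m + 3) F * hS⁻¹) := by
    rw [map_mul, map_mul, map_inv]
  refine no_nilMinCover_subgroup_of_family G (I := Bool) (J := Unit)
    (fun b => bif b then h * u₀ * h⁻¹ else u₀) ?_ (fun _ => ptStab P₀) ?_ ?_ ?_ ?_ 𝓐
  · intro b
    cases b
    · exact hG _
    · show h * u₀ * h⁻¹ ∈ G
      rw [hu₁]; exact hG _
  · intro _ hle
    exact hmove ((mem_ptStab P₀ _).1 (hle (hG mS)))
  · simp
  · intro b A _ hA hb a ha
    refine ⟨(), (mem_ptStab P₀ a).2 ?_⟩
    cases b
    · exact fix_of_unique_fix (pAct _ F) A hA IsPt (fun a _ x hx => isPt_pAct a x hx) u₀ hb P₀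
        hPt0 huniq0 hfix0 a ha
    · have h1 := unique_fix_conj (pAct _ F) IsPt (fun a x hx => isPt_pAct a x hx) u₀ h P₀ huniq0
      have h2 := fix_conj (pAct _ F) u₀ h P₀ hfix0
      rw [hh0] at h1 h2
      exact fix_of_unique_fix (pAct _ F) A hA IsPt (fun a _ x hx => isPt_pAct a x hx)
        (h * u₀ * h⁻¹) hb P₀ hPt0 h1 h2 a ha
  · have key : ∀ A : Subgroup (PG (m + 3) F), Group.IsNilpotent A → u₀ ∈ A →
        h * u₀ * h⁻¹ ∈ A → False := by
      intro A hA h0 h1
      have h3 := unique_fix_conj (pAct' _ F) IsPt (fun a x hx => isPt_pAct' a x hx) u₀ h Pl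
        huniq0'
      have h4 := fix_conj (pAct' _ F) u₀ h Pl hfix0'
      have h5 := fix_of_unique_fix (pAct' _ F) A hA IsPt (fun a _ x hx => isPt_pAct' a x hx)
        (h * u₀ * h⁻¹) h1 (pAct' _ F h Pl) (isPt_pAct' h Pl hPtl) h3 h4 u₀ h0
      exact hh' (huniq0' _ (isPt_pAct' h Pl hPtl) h5)
    intro b b' A _ hA hb hb'
    cases b <;> cases b'
    · rfl
    · exact (key A hA hb hb').elim
    · exact (key A hA hb' hb).elim
    · rfl

end Cfsg.Agent.Lib.helper68
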