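import Mathlib
import Cfsg.Agent.Lib.helper68.PActThree

/-!
# The projective line: fixed points of elements of `PGL_2(F)`
-/

set_option autoImplicit false

namespace Cfsg.Agent.Lib.helper68

open Matrix

theorem pAct_single_eq_iff {n : ℕ} {F : Type*} [Field F] (g : GL (Fin n) F) (j k : Fin n) :
    pAct n F (QuotientGroup.mk g) (Submodule.span F {(Pi.single j 1 : Fin n → F)}) =
      Submodule.span F {(Pi.single k 1 : Fin n → F)} ↔
      ∀ i, i ≠ k → (g : Matrix (Fin n) (Fin n) F) i j = 0 := by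
  rw [pAct_span_eq_iff _ _ _ (single_ne_zero' j), Matrix.mulVec_single_one]
  constructor
  · rintro ⟨c, hc⟩ i hik
    have := congrFun hc i
    simpa [Matrix.col_apply, hik] using this
  · intro h
    refine ⟨(g : Matrix (Fin n) (Fin n) F) k j, ?_⟩
    funext i
    by_cases hik : i = k
    · subst hik; simp [Matrix.col_apply]
    · simp [Matrix.col_apply, hik, h i hik]

/-- An element of `GL_n(F)` which is a scalar multiple of an element of `SL_n(F)` has the same
image in `PGL_n(F)`. -/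
theorem mk_eq_slP_of_smul {n : ℕ} {F : Type*} [Field F] (g : GL (Fin n) F)
    (s : Matrix.SpecialLinearGroup (Fin n) F) (d : F)
    (h : (g : Matrix (Fin n) (Fin n) F) = d • s.1) :
    (QuotientGroup.mk g : PG n F) = slP n F s := by
  rw [slP_apply, ← mul_inv_eq_one, ← QuotientGroup.mk_inv, ← QuotientGroup.mk_mul,
    QuotientGroup.eq_one_iff, Matrix.GeneralLinearGroup.mem_center_iff_val_mem_range_scalar]
  refine ⟨d, ?_⟩
  rw [Units.val_mul, h, ← map_inv, toGL_val, Matrix.smul_mul, ← Matrix.SpecialLinearGroup.coe_mul,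
    mul_inv_cancel, Matrix.SpecialLinearGroup.coe_one, Matrix.smul_one_eq_diagonal]
  rfl

section two

variable {F : Type*} [Field F]

theorem mulVec2 (M : Matrix (Fin 2) (Fin 2) F) (v : Fin 2 → F) (i : Fin 2) :
    (M *ᵥ v) i = M i 0 * v 0 + M i 1 * v 1 := by
  simp [Matrix.mulVec, dotProduct, Fin.sum_univ_two]

/-- The point `[1 : 0]`. -/
abbrev P0 (F : Type*) [Field F] : Submodule F (Fin 2 → F) :=
  Submodule.span F {(Pi.single 0 1 : Fin 2 → F)}

/-- The point `[0 : 1]`. -/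
abbrev P1 (F : Type*) [Field F] : Submodule F (Fin 2 → F) :=
  Submodule.span F {(Pi.single 1 1 : Fin 2 → F)}

theorem P1_ne_P0 : P1 F ≠ P0 F := by
  intro h
  have h1 : (Pi.single 1 1 : Fin 2 → F) ∈ P0 F := by
    rw [← h]; exact Submodule.mem_span_singleton_self _
  obtain ⟨c, hc⟩ := Submodule.mem_span_singleton.1 h1
  have := congrFun hc 1
  simp at this

theorem fix_P0_iff (g : GL (Fin 2) F) :
    pAct 2 F (QuotientGroup.mk g) (P0 F) = P0 F ↔ (g : Matrix (Fin 2) (Fin 2) F) 1 0 = 0 := by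
  rw [pAct_single_eq_iff]; simp [Fin.forall_fin_two]

theorem fix_P1_iff (g : GL (Fin 2) F) :
    pAct 2 F (QuotientGroup.mk g) (P1 F) = P1 F ↔ (g : Matrix (Fin 2) (Fin 2) F) 0 1 = 0 := by
  rw [pAct_single_eq_iff]; simp [Fin.forall_fin_two]

theorem P0_to_P1_iff (g : GL (Fin 2) F) :
    pAct 2 F (QuotientGroup.mk g) (P0 F) = P1 F ↔ (g : Matrix (Fin 2) (Fin 2) F) 0 0 = 0 := by
  rw [pAct_single_eq_iff]; simp [Fin.forall_fin_two]

theorem P1_to_P0_iff (g : GL (Fin 2) F) :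
    pAct 2 F (QuotientGroup.mk g) (P1 F) = P0 F ↔ (g : Matrix (Fin 2) (Fin 2) F) 1 1 = 0 := by
  rw [pAct_single_eq_iff]; simp [Fin.forall_fin_two]

theorem span_eq_P0 (v : Fin 2 → F) (hv : v ≠ 0) (h : v 1 = 0) :
    Submodule.span F {v} = P0 F := by
  refine span_eq_span_single v 0 hv ?_
  intro i hi
  fin_cases i
  · exact absurd rfl hi
  · exact h

theorem span_eq_P1 (v : Fin 2 → F) (hv : v ≠ 0) (h : v 0 = 0) :
    Submodule.span F {v} = P1 F := by
  refine span_eq_span_single v 1 hv ?_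
  intro i hi
  fin_cases i
  · exact h
  · exact absurd rfl hi

/-- A diagonal non-scalar matrix fixes only the two coordinate points. -/
theorem diag_fix (g : GL (Fin 2) F) (h01 : (g : Matrix (Fin 2) (Fin 2) F) 0 1 = 0)
    (h10 : (g : Matrix (Fin 2) (Fin 2) F) 1 0 = 0)
    (hne : (g : Matrix (Fin 2) (Fin 2) F) 0 0 ≠ (g : Matrix (Fin 2) (Fin 2) F) 1 1)
    (W : Submodule F (Fin 2 → F)) (hW : IsPt W)
    (h : pAct 2 F (QuotientGroup.mk g) W = W) : W = P0 F ∨ W = P1 F := by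
  obtain ⟨v, hv, rfl⟩ := hW
  rw [pAct_span_eq_iff _ _ _ hv] at h
  obtain ⟨l, hl⟩ := h
  have h0 := congrFun hl 0
  have h1 := congrFun hl 1
  rw [mulVec2] at h0 h1
  simp only [h01, h10, zero_mul, add_zero, zero_add, Pi.smul_apply, smul_eq_mul] at h0 h1
  by_cases hv0 : v 0 = 0
  · right; exact span_eq_P1 v hv hv0
  · left
    refine span_eq_P0 v hv ?_
    by_contra hv1
    apply hne
    rw [mul_right_cancel₀ hv0 h0, mul_right_cancel₀ hv1 h1]

/-- A diagonal matrix fixing the point `[1 : 1]` is scalar. -/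
theorem diag_fix_diag (g : GL (Fin 2) F) (h01 : (g : Matrix (Fin 2) (Fin 2) F) 0 1 = 0)
    (h10 : (g : Matrix (Fin 2) (Fin 2) F) 1 0 = 0)
    (h : pAct 2 F (QuotientGroup.mk g) (Submodule.span F {(fun _ => 1 : Fin 2 → F)}) =
      Submodule.span F {(fun _ => 1 : Fin 2 → F)}) :
    (g : Matrix (Fin 2) (Fin 2) F) 0 0 = (g : Matrix (Fin 2) (Fin 2) F) 1 1 := by
  have hv : (fun _ => 1 : Fin 2 → F) ≠ 0 := by
    intro h
    have := congrFun h 0
    simp at this
  rw [pAct_span_eq_iff _ _ _ hv] at h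
  obtain ⟨l, hl⟩ := h
  have h0 := congrFun hl 0
  have h1 := congrFun hl 1
  rw [mulVec2] at h0 h1
  simp only [h01, h10, add_zero, zero_add, Pi.smul_apply, smul_eq_mul, mul_one]
    at h0 h1
  rw [h0, h1]

/-- The upper unitriangular matrices. -/
def uS (c : F) : Matrix.SpecialLinearGroup (Fin 2) F :=
  ⟨!![1, c; 0, 1], by simp [Matrix.det_fin_two]⟩

theorem uS_add (a b : F) : uS (a + b) = uS a * uS b := by
  ext i j
  rw [Matrix.SpecialLinearGroup.coe_mul]
  fin_cases i <;> fin_cases j <;>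
    simp [uS, Matrix.mul_apply, Fin.sum_univ_two, add_comm]

/-- The diagonal matrices of determinant `1`. -/
def dM (a : Fˣ) : Matrix.SpecialLinearGroup (Fin 2) F :=
  ⟨!![(a : F), 0; 0, ((a⁻¹ : Fˣ) : F)], by simp [Matrix.det_fin_two]⟩

theorem dM_val (a : Fˣ) : (dM a).1 = !![(a : F), 0; 0, ((a⁻¹ : Fˣ) : F)] := rfl

theorem uS_val (c : F) : (uS c).1 = !![1, c; 0, 1] := rfl

theorem dM_one : dM (1 : Fˣ) = (1 : Matrix.SpecialLinearGroup (Fin 2) F) := by
  ext i j
  fin_cases i <;> fin_cases j <;> simp [dM]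

theorem dM_mul (a b : Fˣ) : dM (a * b) = dM a * dM b := by
  ext i j
  rw [Matrix.SpecialLinearGroup.coe_mul]
  fin_cases i <;> fin_cases j <;>
    simp [dM, Matrix.mul_apply, Fin.sum_univ_two, mul_comm]

/-- The diagonal matrices of determinant `1`, as a homomorphism. -/
def dS : Fˣ →* Matrix.SpecialLinearGroup (Fin 2) F where
  toFun := dM
  map_one' := dM_one
  map_mul' := dM_mul

theorem dS_val (a : Fˣ) : (dS a).1 = !![(a : F), 0; 0, ((a⁻¹ : Fˣ) : F)] := rfl

/-- The Weyl element. -/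
def wS (F : Type*) [Field F] : Matrix.SpecialLinearGroup (Fin 2) F :=
  ⟨!![0, 1; -1, 0], by simp [Matrix.det_fin_two]⟩

theorem uS_fix (c : F) : pAct 2 F (slP 2 F (uS c)) (P0 F) = P0 F := by
  rw [slP_apply, fix_P0_iff, toGL_val]
  simp [uS]

theorem uS_unique_fix (c : F) (hc : c ≠ 0) (W : Submodule F (Fin 2 → F)) (hW : IsPt W)
    (h : pAct 2 F (slP 2 F (uS c)) W = W) : W = P0 F := by
  obtain ⟨v, hv, rfl⟩ := hW
  rw [slP_span_eq_iff _ _ _ hv] at h
  obtain ⟨l, hl⟩ := h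
  have h0 := congrFun hl 0
  have h1 := congrFun hl 1
  rw [mulVec2] at h0 h1
  simp [uS] at h0 h1
  refine span_eq_P0 v hv ?_
  by_contra hv1
  have hl1 : l = 1 := by
    have : (l - 1) * v 1 = 0 := by linear_combination -h1
    rcases mul_eq_zero.1 this with h | h
    · exact sub_eq_zero.1 h
    · exact absurd h hv1
  rw [hl1] at h0
  have : c * v 1 = 0 := by linear_combination h0
  rcases mul_eq_zero.1 this with h | h
  · exact hc h
  · exact hv1 h

theorem dS_fix0 (a : Fˣ) : pAct 2 F (slP 2 F (dS a)) (P0 F) = P0 F := by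
  rw [slP_apply, fix_P0_iff, toGL_val, dS_val]
  simp

theorem dS_fix1 (a : Fˣ) : pAct 2 F (slP 2 F (dS a)) (P1 F) = P1 F := by
  rw [slP_apply, fix_P1_iff, toGL_val, dS_val]
  simp

theorem dS_fix (a : Fˣ) (ha : (a : F) ≠ ((a⁻¹ : Fˣ) : F)) (W : Submodule F (Fin 2 → F))
    (hW : IsPt W) (h : pAct 2 F (slP 2 F (dS a)) W = W) : W = P0 F ∨ W = P1 F := by
  refine diag_fix (Matrix.SpecialLinearGroup.toGL (dS a)) ?_ ?_ ?_ W hW h
  · rw [toGL_val, dS_val]; simp
  · rw [toGL_val, dS_val]; simp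
  · rw [toGL_val, dS_val]; simpa using ha

theorem gl2_det (g : GL (Fin 2) F) :
    (g : Matrix (Fin 2) (Fin 2) F) 0 0 * (g : Matrix (Fin 2) (Fin 2) F) 1 1 -
      (g : Matrix (Fin 2) (Fin 2) F) 0 1 * (g : Matrix (Fin 2) (Fin 2) F) 1 0 ≠ 0 := by
  have := (Matrix.isUnits_det_units g).ne_zero
  rwa [Matrix.det_fin_two] at this

theorem unit_sq (b : Fˣ) (h : (b : F) = ((b⁻¹ : Fˣ) : F)) : b * b = 1 := by
  have h1 : b = b⁻¹ := Units.ext h
  have h2 : b * b = b * b⁻¹ := congrArg (fun x => b * x) h1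
  rw [h2, mul_inv_cancel]

/-- Conjugating an upper unitriangular matrix by an upper triangular one. -/
theorem triang_conj_uS (g : GL (Fin 2) F) (h10 : (g : Matrix (Fin 2) (Fin 2) F) 1 0 = 0)
    (c : F) :
    g * Matrix.SpecialLinearGroup.toGL (uS c) =
      Matrix.SpecialLinearGroup.toGL (uS ((g : Matrix (Fin 2) (Fin 2) F) 0 0 /
        (g : Matrix (Fin 2) (Fin 2) F) 1 1 * c)) * g := by
  have hdet := gl2_det g
  rw [h10, mul_zero, sub_zero] at hdet
  have h11 : (g : Matrix (Fin 2) (Fin 2) F) 1 1 ≠ 0 := right_ne_zero_of_mul hdet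
  apply Units.ext
  rw [Units.val_mul, Units.val_mul, toGL_val, toGL_val, uS_val, uS_val]
  ext i j
  fin_cases i <;> fin_cases j <;> simp [Matrix.mul_apply, Fin.sum_univ_two, h10]
  field_simp
  ring

/-- A nilpotent subgroup of `PGL_2(F)` containing a conjugate of the standard unipotent element
consists of conjugates of unipotent elements. -/
theorem nil_unip (y : PG 2 F) (A : Subgroup (PG 2 F)) (hA : Group.IsNilpotent A)
    (hu : y * slP 2 F (uS 1) * y⁻¹ ∈ A) :
    ∀ a ∈ A, ∃ c : F, a = y * slP 2 F (uS c) * y⁻¹ := by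
  have hfixA := fix_of_unique_fix (pAct 2 F) A hA IsPt (fun a _ x hx => isPt_pAct a x hx)
    (y * slP 2 F (uS 1) * y⁻¹) hu (pAct 2 F y (P0 F)) (isPt_pAct y _ (isPt_single 0))
    (unique_fix_conj (pAct 2 F) IsPt (fun a x hx => isPt_pAct a x hx) _ y (P0 F)
      (uS_unique_fix 1 one_ne_zero))
    (fix_conj (pAct 2 F) _ y (P0 F) (uS_fix 1))
  intro a ha
  have hb : pAct 2 F (y⁻¹ * a * y) (P0 F) = P0 F := by
    simp only [map_mul, Equiv.Perm.mul_apply]
    rw [hfixA a ha, ← Equiv.Perm.mul_apply, ← map_mul, inv_mul_cancel, map_one]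
    rfl
  obtain ⟨g, hg⟩ := QuotientGroup.mk_surjective (y⁻¹ * a * y)
  rw [← hg, fix_P0_iff] at hb
  have hdet := gl2_det g
  rw [hb, mul_zero, sub_zero] at hdet
  have h11 : (g : Matrix (Fin 2) (Fin 2) F) 1 1 ≠ 0 := right_ne_zero_of_mul hdet
  set ρ : F := (g : Matrix (Fin 2) (Fin 2) F) 0 0 / (g : Matrix (Fin 2) (Fin 2) F) 1 1 with hρ
  have hconj : ∀ c : F, (QuotientGroup.mk g : PG 2 F) * slP 2 F (uS c) *
      (QuotientGroup.mk g)⁻¹ * (slP 2 F (uS c))⁻¹ = slP 2 F (uS ((ρ - 1) * c)) := by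
    intro c
    have h1 := triang_conj_uS g hb c
    have h2 : uS (ρ * c) = uS ((ρ - 1) * c) * uS c := by
      rw [← uS_add]; congr 1; ring
    have h3 : (QuotientGroup.mk g : PG 2 F) * slP 2 F (uS c) =
        slP 2 F (uS (ρ * c)) * QuotientGroup.mk g := by
      rw [slP_apply, slP_apply, ← QuotientGroup.mk_mul, h1, QuotientGroup.mk_mul]
    rw [h3, h2, map_mul]
    group
  have hay : a = y * QuotientGroup.mk g * y⁻¹ := by rw [hg]; group
  obtain ⟨k, hk⟩ := exists_eq_one_of_comm_seq A hA a ha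
    (fun k => y * slP 2 F (uS ((ρ - 1) ^ k)) * y⁻¹) (by simpa using hu) (by
      intro k
      show y * slP 2 F (uS ((ρ - 1) ^ (k + 1))) * y⁻¹ =
        a * (y * slP 2 F (uS ((ρ - 1) ^ k)) * y⁻¹) * a⁻¹ *
          (y * slP 2 F (uS ((ρ - 1) ^ k)) * y⁻¹)⁻¹
      rw [pow_succ', ← hconj, hay]
      group)
  have hk' : slP 2 F (uS ((ρ - 1) ^ k)) = 1 := by
    have h1 : y * slP 2 F (uS ((ρ - 1) ^ k)) * y⁻¹ = 1 := hk
    rwa [conj_eq_one_iff] at h1
  have hz : (ρ - 1) ^ k = 0 := by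
    have h1 : pAct 2 F (slP 2 F (uS ((ρ - 1) ^ k))) (P1 F) = P1 F := by
      rw [hk', map_one]; rfl
    rw [slP_apply, fix_P1_iff, toGL_val, uS_val] at h1
    simpa using h1
  have hρ1 : ρ = 1 := sub_eq_zero.1 (eq_zero_of_pow_eq_zero hz)
  have h0011 : (g : Matrix (Fin 2) (Fin 2) F) 0 0 = (g : Matrix (Fin 2) (Fin 2) F) 1 1 := by
    rw [hρ, div_eq_one_iff_eq h11] at hρ1
    exact hρ1
  refine ⟨(g : Matrix (Fin 2) (Fin 2) F) 0 1 / (g : Matrix (Fin 2) (Fin 2) F) 1 1, ?_⟩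
  have hgs : (QuotientGroup.mk g : PG 2 F) =
      slP 2 F (uS ((g : Matrix (Fin 2) (Fin 2) F) 0 1 / (g : Matrix (Fin 2) (Fin 2) F) 1 1)) := by
    apply mk_eq_slP_of_smul g _ ((g : Matrix (Fin 2) (Fin 2) F) 1 1)
    rw [uS_val]
    ext i j
    fin_cases i <;> fin_cases j <;> simp [hb, h0011]
    field_simp
  rw [← hgs, hay]

/-- Conjugating a diagonal matrix of determinant `1` by an antidiagonal one inverts it. -/
theorem antidiag_conj_dS (g : GL (Fin 2) F) (h00 : (g : Matrix (Fin 2) (Fin 2) F) 0 0 = 0)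
    (h11 : (g : Matrix (Fin 2) (Fin 2) F) 1 1 = 0) (a : Fˣ) :
    Matrix.SpecialLinearGroup.toGL (dS a) * g * Matrix.SpecialLinearGroup.toGL (dS a) = g := by
  apply Units.ext
  rw [Units.val_mul, Units.val_mul, toGL_val, dS_val]
  ext i j
  fin_cases i <;> fin_cases j <;>
    simp [Matrix.mul_apply, Matrix.vecMul, dotProduct, Fin.sum_univ_two, h00, h11]
  · field_simp
  · field_simp

/-- A nilpotent subgroup of `PGL_2(F)` containing the image of `diag(a, a⁻¹)`, where the order of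
`a` is not a power of `2`, fixes both coordinate points. -/
theorem nil_torus (a : Fˣ) (ha : ∀ m : ℕ, a ^ (2 ^ m) ≠ 1) (A : Subgroup (PG 2 F))
    (hA : Group.IsNilpotent A) (ht : slP 2 F (dS a) ∈ A) :
    ∀ x ∈ A, pAct 2 F x (P0 F) = P0 F ∧ pAct 2 F x (P1 F) = P1 F := by
  have ha4 : ((a * a : Fˣ) : F) ≠ (((a * a)⁻¹ : Fˣ) : F) := by
    intro h
    apply ha 2
    have := unit_sq (a * a) h
    rw [← this]
    simp [pow_succ, mul_assoc]
  have hpair := preserve_pair_of_fix (pAct 2 F) A hA IsPt (fun x _ W hW => isPt_pAct x W hW)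
    (slP 2 F (dS a)) ht (P0 F) (P1 F) (isPt_single 0) (isPt_single 1) (dS_fix0 a) (dS_fix1 a) (by
      intro W hW h
      rw [← map_mul, ← map_mul] at h
      exact dS_fix (a * a) ha4 W hW h)
  intro x hx
  obtain ⟨h0, h1⟩ := hpair x hx
  rcases h0 with h0 | h0
  · refine ⟨h0, ?_⟩
    rcases h1 with h1 | h1
    · exact absurd ((pAct 2 F x).injective (h1.trans h0.symm)) P1_ne_P0
    · exact h1
  · exfalso
    have h1' : pAct 2 F x (P1 F) = P0 F := by
      rcases h1 with h1 | h1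
      · exact h1
      · exact absurd ((pAct 2 F x).injective (h1.trans h0.symm)) P1_ne_P0
    obtain ⟨g, rfl⟩ := QuotientGroup.mk_surjective x
    rw [P0_to_P1_iff] at h0
    rw [P1_to_P0_iff] at h1'
    have hconj : (QuotientGroup.mk g : PG 2 F) * slP 2 F (dS a) * (QuotientGroup.mk g)⁻¹ =
        (slP 2 F (dS a))⁻¹ := by
      have h3 := antidiag_conj_dS g h0 h1' a
      rw [slP_apply, ← QuotientGroup.mk_inv, ← QuotientGroup.mk_inv, ← QuotientGroup.mk_mul,
        ← QuotientGroup.mk_mul]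
      congr 1
      calc g * Matrix.SpecialLinearGroup.toGL (dS a) * g⁻¹
          = g * Matrix.SpecialLinearGroup.toGL (dS a) *
            (Matrix.SpecialLinearGroup.toGL (dS a) * g *
              Matrix.SpecialLinearGroup.toGL (dS a))⁻¹ := by rw [h3]
        _ = (Matrix.SpecialLinearGroup.toGL (dS a))⁻¹ := by group
    obtain ⟨m, hm⟩ := exists_pow_two_eq_one_of_inverted A hA _ _ hx ht hconj
    rw [← map_pow, ← map_pow] at hm
    have h4 : pAct 2 F (slP 2 F (dS (a ^ 2 ^ m))) (Submodule.span F {(fun _ => 1 : Fin 2 → F)}) =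
        Submodule.span F {(fun _ => 1 : Fin 2 → F)} := by
      rw [hm, map_one]; rfl
    have h5 := diag_fix_diag _ (by rw [toGL_val, dS_val]; simp) (by rw [toGL_val, dS_val]; simp)
      h4
    rw [toGL_val, dS_val] at h5
    have h6 := unit_sq (a ^ 2 ^ m) (by simpa using h5)
    apply ha (m + 1)
    rw [pow_succ, pow_mul, pow_two]
    exact h6

end two

end Cfsg.Agent.Lib.helper68
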