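import Mathlib
import Cfsg.Agent.Lib.helper68.PActTwo

/-!
# Subgroups of `PGL_2(F)` containing `PSL_2(F)`, `|F| ≥ 4`, have no nilpotent minimal cover
-/

set_option autoImplicit false

namespace Cfsg.Agent.Lib.helper68

open Matrix

section two

variable {F : Type*} [Field F]

/-- Case: the multiplicative group of `F` is not a `2`-group. -/
theorem no_nilMinCover_pgl_two_ii (a : Fˣ) (ha : ∀ m : ℕ, a ^ (2 ^ m) ≠ 1)
    (G : Subgroup (PG 2 F)) (hG : ∀ s, slP 2 F s ∈ G) (𝓐 : Finset (Subgroup ↥G)) :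
    ¬ IsNilMinCover 𝓐 := by
  refine no_nilMinCover_subgroup_of_family G (I := Bool) (J := Unit)
    (fun b => bif b then slP 2 F (dS a) else slP 2 F (uS 1)) ?_ (fun _ => ptStab (P0 F))
    ?_ ?_ ?_ ?_ 𝓐
  · intro b; cases b <;> exact hG _
  · intro _ hle
    have := (mem_ptStab _ _).1 (hle (hG (wS F)))
    rw [slP_apply, fix_P0_iff, toGL_val] at this
    simp [wS] at this
  · simp
  · intro b A _ hA hb x hx
    refine ⟨(), (mem_ptStab _ _).2 ?_⟩
    cases b
    · exact fix_of_unique_fix (pAct 2 F) A hA IsPt (fun a _ x hx => isPt_pAct a x hx) _ hb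
        (P0 F) (isPt_single 0) (uS_unique_fix 1 one_ne_zero) (uS_fix 1) x hx
    · exact (nil_torus a ha A hA hb x hx).1
  · have key : ∀ A : Subgroup (PG 2 F), Group.IsNilpotent A → slP 2 F (uS 1) ∈ A →
        slP 2 F (dS a) ∈ A → False := by
      intro A hA h0 h1
      have := (nil_torus a ha A hA h1 _ h0).2
      rw [slP_apply, fix_P1_iff, toGL_val, uS_val] at this
      simp at this
    intro b b' A _ hA hb hb'
    cases b <;> cases b'
    · rfl
    · exact (key A hA hb hb').elim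
    · exact (key A hA hb' hb).elim
    · rfl

/-- Case: `G` is strictly larger than the image of `SL_2(F)`. -/
theorem no_nilMinCover_pgl_two_i (G : Subgroup (PG 2 F)) (hG : ∀ s, slP 2 F s ∈ G)
    (x₀ : PG 2 F) (hx₀ : x₀ ∈ G) (hx₀' : x₀ ∉ (slP 2 F).range) (𝓐 : Finset (Subgroup ↥G)) :
    ¬ IsNilMinCover 𝓐 := by
  refine no_nilMinCover_subgroup_of_family G (I := Bool) (J := Unit)
    (fun b => bif b then slP 2 F (wS F) * slP 2 F (uS 1) * (slP 2 F (wS F))⁻¹
      else slP 2 F (uS 1)) ?_ (fun _ => (slP 2 F).range) ?_ ?_ ?_ ?_ 𝓐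
  · intro b
    cases b
    · exact hG _
    · exact G.mul_mem (G.mul_mem (hG _) (hG _)) (G.inv_mem (hG _))
  · intro _ hle
    exact hx₀' (hle hx₀)
  · simp
  · intro b A _ hA hb x hx
    refine ⟨(), ?_⟩
    cases b
    · have hb' : (1 : PG 2 F) * slP 2 F (uS 1) * 1⁻¹ ∈ A := by simpa using hb
      obtain ⟨c, hc⟩ := nil_unip 1 A hA hb' x hx
      rw [hc]
      simp
    · obtain ⟨c, hc⟩ := nil_unip _ A hA hb x hx
      rw [hc]
      exact Subgroup.mul_mem _ (Subgroup.mul_mem _ ⟨_, rfl⟩ ⟨_, rfl⟩) (Subgroup.inv_mem _ ⟨_, rfl⟩)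
  · have key : ∀ A : Subgroup (PG 2 F), Group.IsNilpotent A → slP 2 F (uS 1) ∈ A →
        slP 2 F (wS F) * slP 2 F (uS 1) * (slP 2 F (wS F))⁻¹ ∈ A → False := by
      intro A hA h0 h1
      have h2 := fix_of_unique_fix (pAct 2 F) A hA IsPt (fun a _ x hx => isPt_pAct a x hx) _ h0
        (P0 F) (isPt_single 0) (uS_unique_fix 1 one_ne_zero) (uS_fix 1) _ h1
      have h3 := unique_fix_conj (pAct 2 F) IsPt (fun a x hx => isPt_pAct a x hx) _
        (slP 2 F (wS F)) (P0 F) (uS_unique_fix 1 one_ne_zero) (P0 F) (isPt_single 0) h2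
      have h4 : pAct 2 F (slP 2 F (wS F)) (P0 F) = P0 F := h3.symm
      rw [slP_apply, fix_P0_iff, toGL_val] at h4
      simp [wS] at h4
    intro b b' A _ hA hb hb'
    cases b <;> cases b'
    · rfl
    · exact (key A hA hb hb').elim
    · exact (key A hA hb' hb).elim
    · rfl

/-- `SL_2(F)` is transitive on the points of the projective line. -/
theorem exists_slP_P0 (W : Submodule F (Fin 2 → F)) (hW : IsPt W) :
    ∃ s : Matrix.SpecialLinearGroup (Fin 2) F, pAct 2 F (slP 2 F s) (P0 F) = W := by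
  obtain ⟨v, hv, rfl⟩ := hW
  by_cases hv0 : v 0 = 0
  · have hv1 : v 1 ≠ 0 := by
      intro h
      apply hv
      funext k
      fin_cases k
      · exact hv0
      · exact h
    obtain ⟨s, hs⟩ : ∃ s : Matrix.SpecialLinearGroup (Fin 2) F, s.1 = !![0, -(v 1)⁻¹; v 1, 0] :=
      ⟨⟨!![0, -(v 1)⁻¹; v 1, 0], by simp [Matrix.det_fin_two, hv1]⟩, rfl⟩
    refine ⟨s, ?_⟩
    show pAct 2 F (slP 2 F s) (Submodule.span F {(Pi.single 0 1 : Fin 2 → F)}) =
      Submodule.span F {v}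
    rw [slP_span_eq_iff _ _ _ (single_ne_zero' 0)]
    refine ⟨1, ?_⟩
    rw [one_smul, Matrix.mulVec_single_one, hs]
    funext k
    fin_cases k <;> simp [Matrix.col_apply, hv0]
  · obtain ⟨s, hs⟩ : ∃ s : Matrix.SpecialLinearGroup (Fin 2) F, s.1 = !![v 0, 0; v 1, (v 0)⁻¹] :=
      ⟨⟨!![v 0, 0; v 1, (v 0)⁻¹], by simp [Matrix.det_fin_two, hv0]⟩, rfl⟩
    refine ⟨s, ?_⟩
    show pAct 2 F (slP 2 F s) (Submodule.span F {(Pi.single 0 1 : Fin 2 → F)}) =
      Submodule.span F {v}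
    rw [slP_span_eq_iff _ _ _ (single_ne_zero' 0)]
    refine ⟨1, ?_⟩
    rw [one_smul, Matrix.mulVec_single_one, hs]
    funext k
    fin_cases k <;> simp [Matrix.col_apply]

/-- The image of `SL_n(F)` is normal in `PGL_n(F)`. -/
theorem slP_conj {n : ℕ} (γ : PG n F) (s : Matrix.SpecialLinearGroup (Fin n) F) :
    ∃ s' : Matrix.SpecialLinearGroup (Fin n) F, slP n F s' = γ⁻¹ * slP n F s * γ := by
  obtain ⟨g, rfl⟩ := QuotientGroup.mk_surjective γ
  have hdet : ((g⁻¹ * Matrix.SpecialLinearGroup.toGL s * g : GL (Fin n) F) :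
      Matrix (Fin n) (Fin n) F).det = 1 := by
    rw [Units.val_mul, Units.val_mul, Matrix.det_mul, Matrix.det_mul, toGL_val, s.2, mul_one,
      ← Matrix.det_mul, ← Units.val_mul, inv_mul_cancel, Units.val_one, Matrix.det_one]
  obtain ⟨s', hs'⟩ : ∃ s' : Matrix.SpecialLinearGroup (Fin n) F,
      s'.1 = ((g⁻¹ * Matrix.SpecialLinearGroup.toGL s * g : GL (Fin n) F) :
        Matrix (Fin n) (Fin n) F) := ⟨⟨_, hdet⟩, rfl⟩
  refine ⟨s', ?_⟩
  rw [slP_apply, slP_apply, ← QuotientGroup.mk_inv, ← QuotientGroup.mk_mul,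
    ← QuotientGroup.mk_mul]
  congr 1
  apply Units.ext
  rw [toGL_val, hs']

/-- If `-1` is a square, every element of the image of `SL_2(F)` commuting with the image of a
non-scalar diagonal matrix fixes a point. -/
theorem comm_diag_fix (i : F) (hi : i * i = -1) (d : GL (Fin 2) F)
    (h01 : (d : Matrix (Fin 2) (Fin 2) F) 0 1 = 0) (h10 : (d : Matrix (Fin 2) (Fin 2) F) 1 0 = 0)
    (hne : (d : Matrix (Fin 2) (Fin 2) F) 0 0 ≠ (d : Matrix (Fin 2) (Fin 2) F) 1 1)
    (s : Matrix.SpecialLinearGroup (Fin 2) F)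
    (hcomm : slP 2 F s * QuotientGroup.mk d = QuotientGroup.mk d * slP 2 F s) :
    ∃ W, IsPt W ∧ pAct 2 F (slP 2 F s) W = W := by
  have hd0 : pAct 2 F (QuotientGroup.mk d) (P0 F) = P0 F := (fix_P0_iff d).2 h10
  have hd1 : pAct 2 F (QuotientGroup.mk d) (P1 F) = P1 F := (fix_P1_iff d).2 h01
  have hcomm' : ∀ W, pAct 2 F (QuotientGroup.mk d) (pAct 2 F (slP 2 F s) W) =
      pAct 2 F (slP 2 F s) (pAct 2 F (QuotientGroup.mk d) W) := by
    intro W
    rw [← Equiv.Perm.mul_apply, ← map_mul, ← hcomm, map_mul]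
    rfl
  have h0 : pAct 2 F (slP 2 F s) (P0 F) = P0 F ∨ pAct 2 F (slP 2 F s) (P0 F) = P1 F :=
    diag_fix d h01 h10 hne _ (isPt_pAct _ _ (isPt_single 0)) (by rw [hcomm', hd0])
  have h1 : pAct 2 F (slP 2 F s) (P1 F) = P0 F ∨ pAct 2 F (slP 2 F s) (P1 F) = P1 F :=
    diag_fix d h01 h10 hne _ (isPt_pAct _ _ (isPt_single 1)) (by rw [hcomm', hd1])
  rcases h0 with h0 | h0
  · exact ⟨P0 F, isPt_single 0, h0⟩
  · have h1' : pAct 2 F (slP 2 F s) (P1 F) = P0 F :=
      h1.resolve_right fun h => P1_ne_P0 ((pAct 2 F (slP 2 F s)).injective (h.trans h0.symm))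
    rw [slP_apply, P0_to_P1_iff, toGL_val] at h0
    rw [slP_apply, P1_to_P0_iff, toGL_val] at h1'
    have hdet : s.1 0 0 * s.1 1 1 - s.1 0 1 * s.1 1 0 = 1 := by
      have := s.2
      rwa [Matrix.det_fin_two] at this
    rw [h0, h1'] at hdet
    have hi0 : i ≠ 0 := by
      rintro rfl
      simp at hi
    have hv : (![s.1 0 1, i] : Fin 2 → F) ≠ 0 := by
      intro h
      have := congrFun h 1
      simp at this
      exact hi0 this
    refine ⟨Submodule.span F {(![s.1 0 1, i] : Fin 2 → F)}, ⟨_, hv, rfl⟩, ?_⟩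
    rw [slP_span_eq_iff _ _ _ hv]
    refine ⟨i, ?_⟩
    funext k
    fin_cases k
    · simp [mulVec2, h0]
      ring
    · simp [mulVec2, h1']
      linear_combination -hdet - hi

end two

end Cfsg.Agent.Lib.helper68
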