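import Mathlib
import Cfsg.Agent.Lib.helper68.PActTwoMain

/-!
# `PSL_2(F)` when `-1` is a square: the remaining case, and the final theorem for `n = 2`
-/

set_option autoImplicit false

namespace Cfsg.Agent.Lib.helper68

open Matrix

section two

variable {F : Type*} [Field F]

/-- If `-1 = i²` in `F` (of characteristic not `2`), every element of a nilpotent subgroup of the
image of `SL_2(F)` containing the image of `diag(i, i⁻¹)` fixes a point. -/
theorem nil_fix_of_sq (i : F) (hi : i * i = -1) (h2 : (2 : F) ≠ 0) (iu : Fˣ)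
    (hiu : (iu : F) = i) (A : Subgroup (PG 2 F)) (hAL : ∀ x ∈ A, ∃ s, slP 2 F s = x)
    (hA : Group.IsNilpotent A) (ht : slP 2 F (dS iu) ∈ A) :
    ∀ a ∈ A, ∃ W, IsPt W ∧ pAct 2 F a W = W := by
  have hi0 : i ≠ 0 := by
    rintro rfl
    simp at hi
  have hinv : ((iu⁻¹ : Fˣ) : F) = -i := by
    rw [Units.val_inv_eq_inv_val, hiu]
    exact inv_eq_of_mul_eq_one_right (by linear_combination -hi)
  have hne : (iu : F) ≠ ((iu⁻¹ : Fˣ) : F) := by
    rw [hinv, hiu]
    intro h
    have : (2 : F) * i = 0 := by linear_combination h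
    rcases mul_eq_zero.1 this with h | h
    · exact h2 h
    · exact hi0 h
  have ht1 : slP 2 F (dS iu) ≠ 1 := by
    intro h
    have h4 : pAct 2 F (slP 2 F (dS iu)) (Submodule.span F {(fun _ => 1 : Fin 2 → F)}) =
        Submodule.span F {(fun _ => 1 : Fin 2 → F)} := by
      rw [h, map_one]; rfl
    have h5 := diag_fix_diag _ (by rw [toGL_val, dS_val]; simp) (by rw [toGL_val, dS_val]; simp)
      h4
    rw [toGL_val, dS_val] at h5
    exact hne (by simpa using h5)
  have : Nontrivial A := ⟨⟨⟨_, ht⟩, 1, fun h => ht1 (congrArg Subtype.val h)⟩⟩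
  have hcen := Group.IsNilpotent.center_ne_bot A
  obtain ⟨z, hz1⟩ := Subgroup.ne_bot_iff_exists_ne_one.1 hcen
  have hζ1 : (z.1.1 : PG 2 F) ≠ 1 := by
    intro h
    apply hz1
    apply Subtype.ext
    apply Subtype.ext
    exact h
  have hζc : ∀ x ∈ A, (z.1.1 : PG 2 F) * x = x * z.1.1 := by
    intro x hx
    have := Subgroup.mem_center_iff.1 z.2 ⟨x, hx⟩
    exact (congrArg Subtype.val this).symm
  obtain ⟨zs, hzs⟩ := hAL z.1.1 z.1.2
  -- generalize
  obtain ⟨ζ, hζ⟩ : ∃ ζ : PG 2 F, ζ = z.1.1 := ⟨_, rfl⟩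
  rw [← hζ] at hζ1 hζc hzs
  have hζt : ζ * slP 2 F (dS iu) = slP 2 F (dS iu) * ζ := hζc _ ht
  have hperm : ∀ W, IsPt W → pAct 2 F (slP 2 F (dS iu)) W = W →
      pAct 2 F ζ W = P0 F ∨ pAct 2 F ζ W = P1 F := by
    intro W hW hfix
    refine dS_fix iu hne _ (isPt_pAct _ _ hW) ?_
    rw [← Equiv.Perm.mul_apply, ← map_mul, ← hζt, map_mul, Equiv.Perm.mul_apply, hfix]
  have h0 := hperm (P0 F) (isPt_single 0) (dS_fix0 iu)
  have h1 := hperm (P1 F) (isPt_single 1) (dS_fix1 iu)
  have key : ∃ γ : PG 2 F, ∃ d : GL (Fin 2) F, (d : Matrix (Fin 2) (Fin 2) F) 0 1 = 0 ∧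
      (d : Matrix (Fin 2) (Fin 2) F) 1 0 = 0 ∧
      (d : Matrix (Fin 2) (Fin 2) F) 0 0 ≠ (d : Matrix (Fin 2) (Fin 2) F) 1 1 ∧
      ζ * γ = γ * QuotientGroup.mk d := by
    rcases h0 with h0 | h0
    · have h1' : pAct 2 F ζ (P1 F) = P1 F :=
        h1.resolve_left fun h => P1_ne_P0 ((pAct 2 F ζ).injective (h.trans h0.symm))
      rw [← hzs, slP_apply, fix_P0_iff, toGL_val] at h0
      rw [← hzs, slP_apply, fix_P1_iff, toGL_val] at h1'
      refine ⟨1, Matrix.SpecialLinearGroup.toGL zs, h1', h0, ?_, ?_⟩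
      · intro heq
        rw [toGL_val] at heq
        apply hζ1
        rw [← hzs, slP_apply]
        have := mk_eq_slP_of_smul (Matrix.SpecialLinearGroup.toGL zs) 1 (zs.1 0 0) (by
            rw [toGL_val]
            ext k l
            fin_cases k <;> fin_cases l <;> simp [h0, h1', heq])
        rw [this, map_one]
      · rw [one_mul, mul_one, ← hzs, slP_apply]
    · have h1' : pAct 2 F ζ (P1 F) = P0 F :=
        h1.resolve_right fun h => P1_ne_P0 ((pAct 2 F ζ).injective (h.trans h0.symm))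
      rw [← hzs, slP_apply, P0_to_P1_iff, toGL_val] at h0
      rw [← hzs, slP_apply, P1_to_P0_iff, toGL_val] at h1'
      have hdet : zs.1 0 0 * zs.1 1 1 - zs.1 0 1 * zs.1 1 0 = 1 := by
        have := zs.2
        rwa [Matrix.det_fin_two] at this
      rw [h0, h1'] at hdet
      have hb : zs.1 0 1 ≠ 0 := by
        intro h
        rw [h] at hdet
        simp at hdet
      have hdetne : (!![zs.1 0 1, zs.1 0 1; i, -i] : Matrix (Fin 2) (Fin 2) F).det ≠ 0 := by
        rw [Matrix.det_fin_two]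
        simp only [Matrix.of_apply, Matrix.cons_val', Matrix.cons_val_zero, Matrix.cons_val_one,
          Matrix.cons_val_fin_one]
        intro h
        have h' : (2 : F) * (zs.1 0 1 * i) = 0 := by linear_combination -h
        rcases mul_eq_zero.1 h' with h'' | h''
        · exact h2 h''
        · rcases mul_eq_zero.1 h'' with h3 | h3
          · exact hb h3
          · exact hi0 h3
      obtain ⟨g, hg⟩ : ∃ g : GL (Fin 2) F,
          (g : Matrix (Fin 2) (Fin 2) F) = !![zs.1 0 1, zs.1 0 1; i, -i] :=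
        ⟨Matrix.GeneralLinearGroup.mkOfDetNeZero _ hdetne, rfl⟩
      have hzg : Matrix.SpecialLinearGroup.toGL zs * g =
          g * Matrix.SpecialLinearGroup.toGL (dS iu) := by
        apply Units.ext
        rw [Units.val_mul, Units.val_mul, toGL_val, toGL_val, hg, dS_val]
        ext k l
        fin_cases k <;> fin_cases l <;>
          simp [Matrix.mul_apply, Fin.sum_univ_two, h0, h1', hinv, hiu]
        · linear_combination -hdet - hi
        · linear_combination -hdet - hi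
      refine ⟨QuotientGroup.mk g, Matrix.SpecialLinearGroup.toGL (dS iu), ?_, ?_, ?_, ?_⟩
      · rw [toGL_val, dS_val]; simp
      · rw [toGL_val, dS_val]; simp
      · rw [toGL_val, dS_val]; simpa using hne
      · rw [← hzs, slP_apply, ← QuotientGroup.mk_mul, hzg, QuotientGroup.mk_mul]
  obtain ⟨γ, d, h01, h10, hdne, hζγ⟩ := key
  intro a ha
  obtain ⟨as, has⟩ := hAL a ha
  obtain ⟨s', hs'⟩ := slP_conj γ as
  rw [has] at hs'
  have hza : ζ * a = a * ζ := hζc a ha
  have e1 : (QuotientGroup.mk d : PG 2 F) = γ⁻¹ * ζ * γ := by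
    rw [mul_assoc, hζγ]; group
  have hcomm : slP 2 F s' * QuotientGroup.mk d = QuotientGroup.mk d * slP 2 F s' := by
    rw [hs', e1]
    calc γ⁻¹ * a * γ * (γ⁻¹ * ζ * γ) = γ⁻¹ * (a * ζ) * γ := by group
      _ = γ⁻¹ * (ζ * a) * γ := by rw [hza]
      _ = γ⁻¹ * ζ * γ * (γ⁻¹ * a * γ) := by group
  obtain ⟨W, hW, hWfix⟩ := comm_diag_fix i hi d h01 h10 hdne s' hcomm
  refine ⟨pAct 2 F γ W, isPt_pAct γ W hW, ?_⟩
  have e2 : a * γ = γ * slP 2 F s' := by rw [hs']; group
  rw [← Equiv.Perm.mul_apply, ← map_mul, e2, map_mul, Equiv.Perm.mul_apply, hWfix]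

/-- Case: `G` is the image of `SL_2(F)`, and `-1` is a square in `F` of odd characteristic. -/
theorem no_nilMinCover_pgl_two_iii [Finite F] (i : F) (hi : i * i = -1) (h2 : (2 : F) ≠ 0)
    (G : Subgroup (PG 2 F)) (hG : ∀ s, slP 2 F s ∈ G) (hGL : ∀ x ∈ G, ∃ s, slP 2 F s = x)
    (𝓐 : Finset (Subgroup ↥G)) : ¬ IsNilMinCover 𝓐 := by
  have hi0 : i ≠ 0 := by
    rintro rfl
    simp at hi
  obtain ⟨iu, hiu⟩ : ∃ iu : Fˣ, (iu : F) = i := ⟨Units.mk0 i hi0, rfl⟩
  have hinv : ((iu⁻¹ : Fˣ) : F) = -i := by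
    rw [Units.val_inv_eq_inv_val, hiu]
    exact inv_eq_of_mul_eq_one_right (by linear_combination -hi)
  have hne : (iu : F) ≠ ((iu⁻¹ : Fˣ) : F) := by
    rw [hinv, hiu]
    intro h
    have : (2 : F) * i = 0 := by linear_combination h
    rcases mul_eq_zero.1 this with h | h
    · exact h2 h
    · exact hi0 h
  have hex : ∀ P : {W : Submodule F (Fin 2 → F) // IsPt W}, ∃ x : PG 2 F, x ∈ G ∧
      pAct 2 F x P.1 = P.1 ∧ ∀ W, IsPt W → pAct 2 F x W = W → W = P.1 := by
    intro P
    obtain ⟨s, hs⟩ := exists_slP_P0 P.1 P.2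
    refine ⟨slP 2 F s * slP 2 F (uS 1) * (slP 2 F s)⁻¹,
      G.mul_mem (G.mul_mem (hG _) (hG _)) (G.inv_mem (hG _)), ?_, ?_⟩
    · have := fix_conj (pAct 2 F) (slP 2 F (uS 1)) (slP 2 F s) (P0 F) (uS_fix 1)
      rwa [hs] at this
    · have := unique_fix_conj (pAct 2 F) IsPt (fun a x hx => isPt_pAct a x hx) (slP 2 F (uS 1))
        (slP 2 F s) (P0 F) (uS_unique_fix 1 one_ne_zero)
      rwa [hs] at this
  choose uP huG hufix huuniq using hex
  have hfixP : ∀ P : {W : Submodule F (Fin 2 → F) // IsPt W}, ∀ A : Subgroup (PG 2 F),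
      Group.IsNilpotent A → uP P ∈ A → ∀ a ∈ A, pAct 2 F a P.1 = P.1 := by
    intro P A hA hu
    exact fix_of_unique_fix (pAct 2 F) A hA IsPt (fun a _ x hx => isPt_pAct a x hx) (uP P) hu
      P.1 P.2 (huuniq P) (hufix P)
  have key : ∀ P : {W : Submodule F (Fin 2 → F) // IsPt W}, ∀ A : Subgroup (PG 2 F),
      Group.IsNilpotent A → uP P ∈ A → slP 2 F (dS iu) ∈ A → False := by
    intro P A hA hu ht
    have h1 := hfixP P A hA hu _ ht
    rcases dS_fix iu hne P.1 P.2 h1 with hP | hP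
    · refine false_of_unique_fix_of_two_fix (pAct 2 F) A hA IsPt
        (fun a _ x hx => isPt_pAct a x hx) (uP P) (slP 2 F (dS iu)) hu ht P.1 (P1 F) P.2
        (isPt_single 1) ?_ (huuniq P) (hufix P) (dS_fix1 iu) ?_
      · rw [hP]; exact P1_ne_P0
      · rw [hP]; exact dS_fix iu hne
    · refine false_of_unique_fix_of_two_fix (pAct 2 F) A hA IsPt
        (fun a _ x hx => isPt_pAct a x hx) (uP P) (slP 2 F (dS iu)) hu ht P.1 (P0 F) P.2
        (isPt_single 0) ?_ (huuniq P) (hufix P) (dS_fix0 iu) ?_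
      · rw [hP]; exact P1_ne_P0.symm
      · rw [hP]
        intro y hy hty
        exact (dS_fix iu hne y hy hty).symm
  refine no_nilMinCover_subgroup_of_family G
    (I := Option {W : Submodule F (Fin 2 → F) // IsPt W})
    (J := {W : Submodule F (Fin 2 → F) // IsPt W})
    (fun o => o.elim (slP 2 F (dS iu)) uP) ?_ (fun P => ptStab P.1) ?_ ?_ ?_ ?_ 𝓐
  · intro o
    cases o with
    | none => exact hG _
    | some P => exact huG P
  · intro P hle
    by_cases hP : P.1 = P0 F
    · have h1 := (mem_ptStab _ _).1 (hle (huG ⟨P1 F, isPt_single 1⟩))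
      have h3 := huuniq ⟨P1 F, isPt_single 1⟩ P.1 P.2 h1
      rw [hP] at h3
      exact P1_ne_P0 h3.symm
    · have h1 := (mem_ptStab _ _).1 (hle (huG ⟨P0 F, isPt_single 0⟩))
      exact hP (huuniq ⟨P0 F, isPt_single 0⟩ P.1 P.2 h1)
  · rw [Finite.card_option]
    exact Nat.lt_succ_self _
  · intro o A hAG hA ho a ha
    cases o with
    | none =>
      obtain ⟨W, hW, hfix⟩ := nil_fix_of_sq i hi h2 iu hiu A (fun x hx => hGL x (hAG hx)) hA ho
        a ha
      exact ⟨⟨W, hW⟩, (mem_ptStab _ _).2 hfix⟩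
    | some P => exact ⟨P, (mem_ptStab _ _).2 (hfixP P A hA ho a ha)⟩
  · intro o o' A _ hA ho ho'
    cases o with
    | none =>
      cases o' with
      | none => rfl
      | some P' => exact (key P' A hA ho' ho).elim
    | some P =>
      cases o' with
      | none => exact (key P A hA ho ho').elim
      | some P' =>
        have h1 := hfixP P A hA ho _ ho'
        have h2 := huuniq P' P.1 P.2 h1
        exact congrArg some (Subtype.ext h2)

/-- Subgroups of `PGL_2(F)` containing the image of `SL_2(F)`, `|F| ≥ 4`, have no nilpotent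
minimal cover. -/
theorem no_nilMinCover_pgl_two [Fintype F] (hq : 4 ≤ Fintype.card F) (G : Subgroup (PG 2 F))
    (hG : ∀ s, slP 2 F s ∈ G) (𝓐 : Finset (Subgroup ↥G)) : ¬ IsNilMinCover 𝓐 := by
  classical
  by_cases h2 : ∃ a : Fˣ, ∀ m : ℕ, a ^ (2 ^ m) ≠ 1
  · obtain ⟨a, ha⟩ := h2
    exact no_nilMinCover_pgl_two_ii a ha G hG 𝓐
  · by_cases hL : ∀ x ∈ G, ∃ s, slP 2 F s = x
    · simp only [not_exists, not_forall, not_not] at h2
      have hp : IsPGroup 2 Fˣ := h2
      have : Fact (Nat.Prime 2) := ⟨Nat.prime_two⟩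
      obtain ⟨k, hk⟩ := IsPGroup.iff_card.1 hp
      rw [Nat.card_eq_fintype_card, Fintype.card_units] at hk
      have hk2 : 2 ≤ k := by
        by_contra hlt
        have hk1 : k ≤ 1 := by omega
        have : 2 ^ k ≤ 2 ^ 1 := Nat.pow_le_pow_right (by norm_num) hk1
        omega
      have h4 : Fintype.card F % 4 = 1 := by
        obtain ⟨j, rfl⟩ := Nat.exists_eq_add_of_le hk2
        rw [pow_add] at hk
        omega
      have hsq : IsSquare (-1 : F) := FiniteField.isSquare_neg_one_iff.2 (by omega)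
      obtain ⟨i, hi⟩ := hsq
      have hchar : ringChar F ≠ 2 := by
        intro h
        rw [FiniteField.even_card_iff_char_two] at h
        omega
      exact no_nilMinCover_pgl_two_iii i hi.symm (Ring.two_ne_zero hchar) G hG hL 𝓐
    · simp only [not_forall] at hL
      obtain ⟨x, hx, hx'⟩ := hL
      exact no_nilMinCover_pgl_two_i G hG x hx (by rintro ⟨s, hs⟩; exact hx' ⟨s, hs⟩) 𝓐

end two

end Cfsg.Agent.Lib.helper68
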