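import Cfsg.Agent.Lib.helper68.CentMaxC

set_option autoImplicit false

namespace Cfsg.Agent.Lib.helper68

open Subgroup

section RelCent1

open scoped IsMulCommutative in
/-- An abelian TI subgroup `A` of a finite group `H` has a normal complement `T`, and every
element `t * m` (`t ∈ T`, `1 ≠ m ∈ A`) is `T`-conjugate to `m`. -/
theorem abelian_TI_complement {H : Type*} [Group H] [Finite H] (A : Subgroup H)
    (hab : ∀ a ∈ A, ∀ b ∈ A, a * b = b * a)
    (hTI : ∀ g : H, ∀ b ∈ A, b ≠ 1 → g⁻¹ * b * g ∈ A → g ∈ A) :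
    ∃ T : Subgroup H, T.Normal ∧ (∀ t ∈ T, t ∈ A → t = 1) ∧
      (∀ g : H, ∃ t ∈ T, ∃ m ∈ A, t * m = g) ∧
      (∀ t ∈ T, ∀ m ∈ A, m ≠ 1 → ∃ s ∈ T, t * m = s⁻¹ * m * s) := by
  have hMc : IsMulCommutative A := ⟨⟨fun a b => Subtype.ext (hab a a.2 b b.2)⟩⟩
  obtain ⟨τ, hτdef⟩ : ∃ τ : H →* A, τ = MonoidHom.transfer (MonoidHom.id A) := ⟨_, rfl⟩
  have hτ : ∀ m : H, m ∈ A → (τ m : H) = m ^ A.index := by
    intro m hm
    have key : ∀ (k : ℕ) (g₀ : H), g₀⁻¹ * m ^ k * g₀ ∈ A → g₀⁻¹ * m ^ k * g₀ = m ^ k := by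
      intro k g₀ hk
      by_cases h1 : m ^ k = 1
      · rw [h1]; group
      · have hg₀ := hTI g₀ (m ^ k) (A.pow_mem hm k) h1 hk
        have := hab g₀ hg₀ (m ^ k) (A.pow_mem hm k)
        calc g₀⁻¹ * m ^ k * g₀ = g₀⁻¹ * (m ^ k * g₀) := by group
          _ = g₀⁻¹ * (g₀ * m ^ k) := by rw [this]
          _ = m ^ k := by group
    have := MonoidHom.transfer_eq_pow (MonoidHom.id A) m key
    rw [hτdef, this]
    rfl
  have hcop : ∀ m ∈ A, m ^ A.index = 1 → m = 1 := by
    intro m hm hpow
    by_contra hm1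
    have ho : orderOf m ≠ 1 := fun h => hm1 (orderOf_eq_one_iff.1 h)
    obtain ⟨r, hr, hrd⟩ := Nat.exists_prime_and_dvd ho
    have hr_idx : r ∣ A.index := hrd.trans (orderOf_dvd_of_pow_eq_one hpow)
    obtain ⟨c, hc⟩ : ∃ c, c = m ^ (orderOf m / r) := ⟨_, rfl⟩
    have hcM : c ∈ A := hc ▸ A.pow_mem hm _
    have hdiv0 : orderOf m / r ≠ 0 := by
      have := Nat.div_pos (Nat.le_of_dvd (orderOf_pos m) hrd) hr.pos
      omega
    have hco : orderOf c = r := by
      rw [hc, orderOf_pow_of_dvd hdiv0 (Nat.div_dvd_of_dvd hrd)]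
      exact Nat.div_div_self hrd (orderOf_pos m).ne'
    have hc1 : c ≠ 1 := by
      intro h
      rw [h, orderOf_one] at hco
      exact hr.one_lt.ne hco
    have : Fact r.Prime := ⟨hr⟩
    have hp : IsPGroup r (zpowers c) := by
      apply IsPGroup.of_card (n := 1)
      rw [Nat.card_zpowers, hco, pow_one]
    have hfix := hp.card_modEq_card_fixedPoints (H ⧸ A)
    have hfp : MulAction.fixedPoints (zpowers c) (H ⧸ A) = {((1 : H) : H ⧸ A)} := by
      ext q
      induction q using QuotientGroup.induction_on with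
      | H g =>
        simp only [MulAction.mem_fixedPoints, Set.mem_singleton_iff]
        constructor
        · intro hq
          have h2 : ((c * g : H) : H ⧸ A) = (g : H ⧸ A) := hq ⟨c, mem_zpowers c⟩
          rw [QuotientGroup.eq] at h2
          have h3 : g⁻¹ * c * g ∈ A := by
            have := A.inv_mem h2
            simpa [mul_assoc] using this
          have hgM := hTI g c hcM hc1 h3
          exact QuotientGroup.eq.2 (by simpa using hgM)
        · intro hq z
          have hzM : (z : H) ∈ A := by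
            obtain ⟨k, hk⟩ := mem_zpowers_iff.1 z.2
            rw [← hk]
            exact A.zpow_mem hcM k
          have hgM : g ∈ A := by
            have := QuotientGroup.eq.1 hq
            simpa using this
          have h2 : z • (g : H ⧸ A) = (((z : H) * g : H) : H ⧸ A) := rfl
          rw [h2]
          exact QuotientGroup.eq.2 (by
            have := A.mul_mem (A.inv_mem (A.mul_mem hzM hgM)) hgM
            simpa [mul_assoc] using this)
    have hcard1 : Nat.card (MulAction.fixedPoints (zpowers c) (H ⧸ A)) = 1 := by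
      rw [hfp]
      simp
    rw [hcard1, ← Subgroup.index_eq_card] at hfix
    have h0 : A.index % r = 0 := Nat.mod_eq_zero_of_dvd hr_idx
    have h1 : A.index % r = 1 % r := hfix
    rw [h0, Nat.mod_eq_of_lt hr.one_lt] at h1
    exact absurd h1 (by norm_num)
  obtain ⟨T, hT⟩ : ∃ T, T = τ.ker := ⟨_, rfl⟩
  have hTn : T.Normal := hT ▸ MonoidHom.normal_ker τ
  have hTM : ∀ t ∈ T, t ∈ A → t = 1 := by
    intro t ht htM
    apply hcop t htM
    rw [hT, MonoidHom.mem_ker] at ht
    have := hτ t htM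
    rw [ht] at this
    simpa using this.symm
  have hinj : Function.Injective (fun m : A => τ (m : H)) := by
    intro m₁ m₂ h
    have h' : τ (m₁ : H) = τ (m₂ : H) := h
    have : (m₁ : H) * (m₂ : H)⁻¹ ∈ T := by
      rw [hT, MonoidHom.mem_ker, map_mul, map_inv, h']
      exact mul_inv_cancel _
    have h2 := hTM _ this (A.mul_mem m₁.2 (A.inv_mem m₂.2))
    exact Subtype.ext (mul_inv_eq_one.1 h2)
  have hsurj : Function.Surjective (fun m : A => τ (m : H)) :=
    Finite.injective_iff_surjective.1 hinj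
  have hdec : ∀ g : H, ∃ t ∈ T, ∃ m ∈ A, t * m = g := by
    intro g
    obtain ⟨m, hm⟩ := hsurj (τ g)
    have hm' : τ (m : H) = τ g := hm
    refine ⟨g * (m : H)⁻¹, ?_, m, m.2, by group⟩
    rw [hT, MonoidHom.mem_ker, map_mul, map_inv, hm']
    exact mul_inv_cancel _
  refine ⟨T, hTn, hTM, hdec, ?_⟩
  intro t ht m hm hm1
  let φ : T → T := fun s =>
    ⟨(s : H)⁻¹ * (m * s * m⁻¹), T.mul_mem (T.inv_mem s.2) (hTn.conj_mem _ s.2 m)⟩
  have hφ : Function.Injective φ := by
    intro s₁ s₂ h
    have h' : (s₁ : H)⁻¹ * (m * s₁ * m⁻¹) = (s₂ : H)⁻¹ * (m * s₂ * m⁻¹) :=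
      congrArg Subtype.val h
    have h2 : (s₂ : H) * (s₁ : H)⁻¹ * m = m * ((s₂ : H) * (s₁ : H)⁻¹) := by
      have : (s₁ : H)⁻¹ * m * s₁ = (s₂ : H)⁻¹ * m * s₂ := by
        have := congrArg (fun t => t * m) h'
        simpa [mul_assoc] using this
      calc (s₂ : H) * (s₁ : H)⁻¹ * m
          = s₂ * ((s₁ : H)⁻¹ * m * s₁) * (s₁ : H)⁻¹ := by group
        _ = s₂ * ((s₂ : H)⁻¹ * m * s₂) * (s₁ : H)⁻¹ := by rw [this]
        _ = m * (s₂ * (s₁ : H)⁻¹) := by group
    have h2' : ((s₂ : H) * (s₁ : H)⁻¹)⁻¹ * m * ((s₂ : H) * (s₁ : H)⁻¹) ∈ A := by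
      have : ((s₂ : H) * (s₁ : H)⁻¹)⁻¹ * m * ((s₂ : H) * (s₁ : H)⁻¹) = m := by
        rw [mul_assoc, ← h2]
        group
      rw [this]
      exact hm
    have h2'' := hTI _ m hm hm1 h2'
    have h3 := hTM _ (T.mul_mem s₂.2 (T.inv_mem s₁.2)) h2''
    exact Subtype.ext (mul_inv_eq_one.1 h3).symm
  obtain ⟨s, hs⟩ := (Finite.injective_iff_surjective.1 hφ) ⟨t, ht⟩
  have hs' : (s : H)⁻¹ * (m * s * m⁻¹) = t := congrArg Subtype.val hs
  refine ⟨s, s.2, ?_⟩
  rw [← hs']
  group

/-- A self-normalizing `p`-subgroup of a finite group is a Sylow `p`-subgroup. -/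
lemma exists_sylow_eq_of_normalizer_eq {H : Type*} [Group H] [Finite H] {p : ℕ} [Fact p.Prime]
    (C : Subgroup H) (hC : IsPGroup p C) (hN : Subgroup.normalizer (C : Set H) = C) :
    ∃ Q : Sylow p H, (Q : Subgroup H) = C := by
  obtain ⟨Q, hQ⟩ := hC.exists_le_sylow
  refine ⟨Q, ?_⟩
  by_contra hne
  have hnil : Group.IsNilpotent Q := Q.isPGroup'.isNilpotent
  have hnc := Group.normalizerCondition_of_isNilpotent (G := Q)
  have hD : C.subgroupOf Q < ⊤ := by
    rw [lt_top_iff_ne_top]
    intro h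
    rw [Subgroup.subgroupOf_eq_top] at h
    exact hne (le_antisymm h hQ)
  have hlt := hnc _ hD
  obtain ⟨q, hq, hqD⟩ := SetLike.exists_of_lt hlt
  apply hqD
  rw [Subgroup.mem_subgroupOf, ← hN, Subgroup.mem_normalizer_iff]
  intro h
  constructor
  · intro hh
    have := (Subgroup.mem_normalizer_iff.1 hq ⟨h, hQ hh⟩).1
      (by rw [Subgroup.mem_subgroupOf]; exact hh)
    rw [Subgroup.mem_subgroupOf] at this
    simpa using this
  · intro hh
    have hhQ : h ∈ (Q : Subgroup H) := by
      have := (Q : Subgroup H).mul_mem ((Q : Subgroup H).mul_mem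
        ((Q : Subgroup H).inv_mem q.2) (hQ hh)) q.2
      simpa [mul_assoc] using this
    have := (Subgroup.mem_normalizer_iff.1 hq ⟨h, hhQ⟩).2
      (by rw [Subgroup.mem_subgroupOf]; simpa using hh)
    rw [Subgroup.mem_subgroupOf] at this
    exact this

theorem avg_prod_eq_one {M : Type*} [CommGroup M] {A : Type*} [Group A] (ρ : A →* MulAut M)
    (p : ℕ) (g : A) (hg : g ^ p = 1) (hfg : ∀ m, ρ g m = m → m = 1) (m : M) :
    ∏ k ∈ Finset.range p, ρ (g ^ k) m = 1 := by
  apply hfg
  rw [map_prod]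
  have h1 : ∀ k, ρ g (ρ (g ^ k) m) = ρ (g ^ (k + 1)) m := by
    intro k
    rw [← MulAut.mul_apply, ← map_mul, ← pow_succ']
  simp only [h1]
  have h2 := Finset.prod_range_succ (fun k => ρ (g ^ k) m) p
  have h3 := Finset.prod_range_succ' (fun k => ρ (g ^ k) m) p
  rw [h2] at h3
  simp only [hg, pow_zero, map_one, MulAut.one_apply] at h3
  exact (mul_right_cancel h3).symm

/-- `C_p × C_p` cannot act fixed-point-freely on a nontrivial finite abelian group of order
prime to `p`. -/
theorem avg_fpf_trivial {M : Type*} [CommGroup M] [Finite M] {A : Type*} [Group A]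
    (ρ : A →* MulAut M) (p : ℕ) (hp : p.Prime) (hcop : (Nat.card M).Coprime p) (x y : A)
    (hxy : Commute x y) (hx : x ^ p = 1) (hy : y ^ p = 1)
    (hfx : ∀ k, 0 < k → k < p → ∀ m, ρ (x ^ k) m = m → m = 1)
    (hfy : ∀ i, i < p → ∀ m, ρ (x ^ i * y) m = m → m = 1) (m : M) : m = 1 := by
  have hD : ∏ i ∈ Finset.range p, ∏ k ∈ Finset.range p, ρ ((x ^ i * y) ^ k) m = 1 := by
    apply Finset.prod_eq_one
    intro i hi
    exact avg_prod_eq_one ρ p (x ^ i * y)
      (by rw [(hxy.pow_left i).mul_pow, ← pow_mul, mul_comm i p, pow_mul, hx, one_pow, hy,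
        one_mul])
      (hfy i (Finset.mem_range.mp hi)) m
  rw [Finset.prod_comm] at hD
  have hk : ∀ k ∈ Finset.range p,
      ∏ i ∈ Finset.range p, ρ ((x ^ i * y) ^ k) m = if k = 0 then m ^ p else 1 := by
    intro k hk
    have e : ∀ i, ρ ((x ^ i * y) ^ k) m = ρ ((x ^ k) ^ i) (ρ (y ^ k) m) := by
      intro i
      rw [(hxy.pow_left i).mul_pow, ← pow_mul, mul_comm i k, pow_mul, map_mul, MulAut.mul_apply]
    simp only [e]
    split_ifs with h0
    · subst h0
      simp
    · exact avg_prod_eq_one ρ p (x ^ k) (by rw [← pow_mul, mul_comm, pow_mul, hx, one_pow])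
        (hfx k (Nat.pos_of_ne_zero h0) (Finset.mem_range.mp hk)) _
  rw [Finset.prod_congr rfl hk, Finset.prod_ite_eq'] at hD
  simp only [Finset.mem_range, hp.pos, if_true] at hD
  have h4 : orderOf m ∣ p := orderOf_dvd_of_pow_eq_one hD
  have h5 : orderOf m ∣ Nat.card M := orderOf_dvd_natCard m
  have h7 : orderOf m = 1 := Nat.eq_one_of_dvd_coprimes hcop h5 h4
  exact orderOf_eq_one_iff.mp h7

/-- Counting lemma: a finite nontrivial group cannot have all nonidentity elements of prime
order with centralizers that are nonabelian Sylow subgroups. -/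
theorem count_contra {H : Type*} [Group H] [Finite H] [Nontrivial H]
    (hprime : ∀ g : H, g ≠ 1 → (orderOf g).Prime)
    (hsyl : ∀ g : H, g ≠ 1 → ∀ p, orderOf g = p → ∃ Q : Sylow p H, (Q : Subgroup H) = cz g)
    (hnab : ∀ x : H, x ≠ 1 → ¬ ∀ a ∈ cz x, ∀ b ∈ cz x, a * b = b * a) : False := by
  classical
  let _ : Fintype H := Fintype.ofFinite H
  obtain ⟨n, hn⟩ : ∃ n, n = Nat.card H := ⟨_, rfl⟩
  have hn1 : 1 < n := hn ▸ Finite.one_lt_card
  have hbound : ∀ p : ℕ, p.Prime →
      p ^ 2 * (Finset.univ.filter (fun g : H => orderOf g = p)).card < n := by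
    intro p hp
    have : Fact p.Prime := ⟨hp⟩
    obtain ⟨E, hE⟩ : ∃ E : Finset H, E = Finset.univ.filter (fun g : H => orderOf g = p) :=
      ⟨_, rfl⟩
    rw [← hE]
    have hEmem : ∀ g, g ∈ E ↔ orderOf g = p := by
      intro g
      rw [hE]
      simp
    have hE1 : ∀ g, g ∈ E → g ≠ 1 := by
      intro g hg
      rintro rfl
      have := (hEmem 1).1 hg
      rw [orderOf_one] at this
      exact hp.one_lt.ne this
    obtain ⟨s, hs⟩ : ∃ s, s = p ^ (Nat.card H).factorization p := ⟨_, rfl⟩
    have hfib : ∀ b ∈ E.image cz, ((E.filter (fun x => cz x = b)).card + 1) * p ^ 2 ≤ s := by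
      intro b hb
      obtain ⟨g₀, hg₀, rfl⟩ := Finset.mem_image.1 hb
      have hg₀p : orderOf g₀ = p := (hEmem g₀).1 hg₀
      have hg₀1 : g₀ ≠ 1 := hE1 g₀ hg₀
      obtain ⟨Q, hQ⟩ := hsyl g₀ hg₀1 p hg₀p
      have hcardQ : Nat.card (cz g₀) = s := by
        rw [hs, ← hQ]
        exact Q.card_eq_multiplicity
      have hPG : IsPGroup p (cz g₀) := hQ ▸ Q.isPGroup'
      have hnabP : ¬ ∀ a b : cz g₀, a * b = b * a := by
        intro h
        apply hnab g₀ hg₀1
        intro a ha b hb
        exact congrArg Subtype.val (h ⟨a, ha⟩ ⟨b, hb⟩)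
      have hcenb := card_center_mul_sq_le hPG hnabP
      have hsub : ((insert 1 (E.filter (fun x => cz x = cz g₀)) : Finset H) : Set H) ⊆
          (((center (cz g₀)).map (cz g₀).subtype : Subgroup H) : Set H) := by
        intro y hy
        rw [Finset.mem_coe, Finset.mem_insert, Finset.mem_filter] at hy
        rcases hy with rfl | ⟨hyE, hycz⟩
        · exact one_mem _
        · have hyP : y ∈ cz g₀ := hycz ▸ self_mem_cz y
          refine ⟨⟨y, hyP⟩, ?_, rfl⟩
          rw [SetLike.mem_coe, Subgroup.mem_center_iff]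
          intro z
          apply Subtype.ext
          have hz : (z : H) ∈ cz y := by rw [hycz]; exact z.2
          exact mem_cz.1 hz
      have hcard_le : (E.filter (fun x => cz x = cz g₀)).card + 1 ≤
          Nat.card (center (cz g₀)) := by
        have h1 : (insert 1 (E.filter (fun x => cz x = cz g₀)) : Finset H).card =
            (E.filter (fun x => cz x = cz g₀)).card + 1 := by
          apply Finset.card_insert_of_notMem
          rw [Finset.mem_filter]
          rintro ⟨h, -⟩
          exact hE1 1 h rfl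
        have hc : Nat.card ((center (cz g₀)).map (cz g₀).subtype : Subgroup H) =
            Nat.card (center (cz g₀)) :=
          Subgroup.card_map_of_injective (cz g₀).subtype_injective
        rw [← h1, ← Set.ncard_coe_finset, ← hc]
        change _ ≤ Nat.card ((((center (cz g₀)).map (cz g₀).subtype : Subgroup H) : Set H))
        rw [Nat.card_coe_set_eq]
        exact Set.ncard_le_ncard hsub (Set.toFinite _)
      calc ((E.filter (fun x => cz x = cz g₀)).card + 1) * p ^ 2
          ≤ Nat.card (center (cz g₀)) * p ^ 2 := Nat.mul_le_mul_right _ hcard_le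
        _ ≤ Nat.card (cz g₀) := hcenb
        _ = s := hcardQ
    have himg : (E.image cz).card ≤ Nat.card (Sylow p H) := by
      let _ : Fintype (Sylow p H) := Fintype.ofFinite _
      have hsub : E.image cz ⊆ Finset.univ.image (fun Q : Sylow p H => (Q : Subgroup H)) := by
        intro b hb
        obtain ⟨g₀, hg₀, rfl⟩ := Finset.mem_image.1 hb
        obtain ⟨Q, hQ⟩ := hsyl g₀ (hE1 g₀ hg₀) p ((hEmem g₀).1 hg₀)
        exact Finset.mem_image.2 ⟨Q, Finset.mem_univ _, hQ⟩
      calc (E.image cz).card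
          ≤ (Finset.univ.image (fun Q : Sylow p H => (Q : Subgroup H))).card :=
            Finset.card_le_card hsub
        _ ≤ (Finset.univ : Finset (Sylow p H)).card := Finset.card_image_le
        _ = Nat.card (Sylow p H) := by rw [Finset.card_univ, Nat.card_eq_fintype_card]
    have hsyl_cnt : Nat.card (Sylow p H) * s ≤ n := by
      obtain ⟨Q⟩ : Nonempty (Sylow p H) := inferInstance
      have h1 : Nat.card (Sylow p H) ∣ (Q : Subgroup H).index := Q.card_dvd_index
      have h2 : Nat.card (Q : Subgroup H) * (Q : Subgroup H).index = Nat.card H :=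
        Subgroup.card_mul_index _
      have h3 : Nat.card (Q : Subgroup H) = s := by
        rw [hs]
        exact Q.card_eq_multiplicity
      have h4 : Nat.card (Sylow p H) ≤ (Q : Subgroup H).index :=
        Nat.le_of_dvd (Nat.pos_of_ne_zero Subgroup.index_ne_zero_of_finite) h1
      calc Nat.card (Sylow p H) * s ≤ (Q : Subgroup H).index * s := Nat.mul_le_mul_right _ h4
        _ = n := by rw [hn, ← h2, h3, mul_comm]
    have h1 : E.card = ∑ b ∈ E.image cz, (E.filter (fun x => cz x = b)).card :=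
      Finset.card_eq_sum_card_image cz E
    have h2 : ∑ b ∈ E.image cz, ((E.filter (fun x => cz x = b)).card + 1) * p ^ 2 ≤
        ∑ b ∈ E.image cz, s := Finset.sum_le_sum hfib
    have h3 : ∑ b ∈ E.image cz, ((E.filter (fun x => cz x = b)).card + 1) * p ^ 2 =
        (E.card + (E.image cz).card) * p ^ 2 := by
      rw [← Finset.sum_mul, Finset.sum_add_distrib, ← h1]
      simp
    rw [h3, Finset.sum_const, smul_eq_mul] at h2
    by_cases hE0 : E.card = 0
    · rw [hE0]
      omega
    · have himg_pos : 0 < (E.image cz).card := by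
        rw [Finset.card_pos, Finset.image_nonempty, ← Finset.card_pos]
        omega
      have hp2 : 0 < p ^ 2 := pow_pos hp.pos 2
      calc p ^ 2 * E.card < (E.card + (E.image cz).card) * p ^ 2 := by nlinarith
        _ ≤ (E.image cz).card * s := h2
        _ ≤ Nat.card (Sylow p H) * s := Nat.mul_le_mul_right _ himg
        _ ≤ n := hsyl_cnt
  have hcount : (Finset.univ.filter (fun g : H => g ≠ 1)).card = n - 1 := by
    rw [Finset.filter_ne', Finset.card_erase_of_mem (Finset.mem_univ _), Finset.card_univ, hn,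
      Nat.card_eq_fintype_card]
  have hfiber := Finset.card_eq_sum_card_fiberwise
    (s := Finset.univ.filter (fun g : H => g ≠ 1)) (t := n.primeFactors) (f := orderOf) (by
      intro g hg
      have hg' : g ≠ 1 := by simpa using hg
      have := hprime g hg'
      simp only [Finset.mem_coe, Nat.mem_primeFactors]
      exact ⟨this, hn ▸ orderOf_dvd_natCard g, by omega⟩)
  have hle : ∀ p ∈ n.primeFactors,
      ((((Finset.univ.filter (fun g : H => g ≠ 1)).filter
        (fun g => orderOf g = p)).card : ℕ) : ℚ) ≤ ((n : ℚ) - 1) / (p : ℚ) ^ 2 := by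
    intro p hp
    have hpp := (Nat.mem_primeFactors.1 hp).1
    have h1 := hbound p hpp
    have h2 : ((Finset.univ.filter (fun g : H => g ≠ 1)).filter
        (fun g => orderOf g = p)).card ≤
        (Finset.univ.filter (fun g : H => orderOf g = p)).card :=
      Finset.card_le_card (by
        intro g hg
        simp only [Finset.mem_filter, Finset.mem_univ, true_and] at hg ⊢
        exact hg.2)
    have hp0 : (0 : ℚ) < (p : ℚ) ^ 2 := by
      have : (0 : ℚ) < p := by exact_mod_cast hpp.pos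
      positivity
    rw [le_div_iff₀ hp0]
    have h3 : ((Finset.univ.filter (fun g : H => g ≠ 1)).filter
        (fun g => orderOf g = p)).card * p ^ 2 ≤ n - 1 := by
      have := Nat.mul_le_mul_left (p ^ 2) h2
      have h5 : ((Finset.univ.filter (fun g : H => g ≠ 1)).filter
        (fun g => orderOf g = p)).card * p ^ 2 < n := by
        rw [mul_comm]
        exact lt_of_le_of_lt this h1
      omega
    have h4 : (n : ℚ) - 1 = ((n - 1 : ℕ) : ℚ) := by
      rw [Nat.cast_sub (by omega)]
      simp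
    rw [h4]
    exact_mod_cast h3
  have hsum : ∑ p ∈ n.primeFactors, (1 : ℚ) / (p : ℚ) ^ 2 ≤ 1 - 1 / (n : ℚ) := by
    refine le_trans ?_ (sum_inv_sq_le n (by omega))
    apply Finset.sum_le_sum_of_subset_of_nonneg
    · intro p hp
      have := Nat.mem_primeFactors.1 hp
      rw [Finset.mem_Icc]
      exact ⟨this.1.two_le, Nat.le_of_dvd (by omega) this.2.1⟩
    · intro k _ _
      positivity
  have hq : ((n : ℚ) - 1) = ∑ p ∈ n.primeFactors,
      ((((Finset.univ.filter (fun g : H => g ≠ 1)).filter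
        (fun g => orderOf g = p)).card : ℕ) : ℚ) := by
    rw [← Nat.cast_sum, ← hfiber, hcount, Nat.cast_sub (by omega)]
    simp
  have hn1q : (1 : ℚ) < n := by exact_mod_cast hn1
  have hfinal : ((n : ℚ) - 1) ≤ ((n : ℚ) - 1) * (1 - 1 / (n : ℚ)) := by
    calc ((n : ℚ) - 1) = ∑ p ∈ n.primeFactors,
          ((((Finset.univ.filter (fun g : H => g ≠ 1)).filter
            (fun g => orderOf g = p)).card : ℕ) : ℚ) := hq
      _ ≤ ∑ p ∈ n.primeFactors, ((n : ℚ) - 1) / (p : ℚ) ^ 2 := Finset.sum_le_sum hle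
      _ = ((n : ℚ) - 1) * ∑ p ∈ n.primeFactors, (1 : ℚ) / (p : ℚ) ^ 2 := by
          rw [Finset.mul_sum]
          apply Finset.sum_congr rfl
          intros
          ring
      _ ≤ ((n : ℚ) - 1) * (1 - 1 / (n : ℚ)) := by
          apply mul_le_mul_of_nonneg_left hsum
          linarith
  have hpos : (0 : ℚ) < 1 / (n : ℚ) := by positivity
  nlinarith

end RelCent1

end Cfsg.Agent.Lib.helper68
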