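import Cfsg.Agent.Lib.helper68.RelCent1

set_option autoImplicit false

namespace Cfsg.Agent.Lib.helper68

open Subgroup

section RelCent2

variable {G : Type*} [Group G]

lemma rel_cz_eq_of_le {N : Subgroup G} (h1 : ∀ x ∈ N, x ≠ 1 → IsCoatom (cz x)) {g h : G}
    (hg : g ∈ N) (hg1 : g ≠ 1) (hh : h ∈ N) (hh1 : h ≠ 1) (hle : cz g ≤ cz h) :
    cz h = cz g := by
  rcases (h1 g hg hg1).le_iff.1 hle with h2 | h2
  · exact absurd h2 (h1 h hh hh1).1
  · exact h2

lemma rel_pow_orderOf_eq_one [Finite G] {N : Subgroup G}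
    (h1 : ∀ x ∈ N, x ≠ 1 → IsCoatom (cz x)) {x u : G} (hxN : x ∈ N) (huN : u ∈ N)
    (hx : x ≠ 1) (hu : u ≠ 1) (hc : x * u = u * x) (hne : cz x ≠ cz u) :
    u ^ orderOf x = 1 := by
  by_contra hum
  have hpow : (x * u) ^ orderOf x = u ^ orderOf x := by
    rw [(show Commute x u from hc).mul_pow, pow_orderOf_eq_one, one_mul]
  have hxu : x * u ≠ 1 := by
    intro h
    rw [h, one_pow] at hpow
    exact hum hpow.symm
  have hxuN : x * u ∈ N := N.mul_mem hxN huN
  have hupN : u ^ orderOf x ∈ N := N.pow_mem huN _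
  have h3 : cz (u ^ orderOf x) = cz (x * u) := by
    apply rel_cz_eq_of_le h1 hxuN hxu hupN hum
    rw [← hpow]
    exact cz_le_cz_pow _ _
  have h4 : cz (u ^ orderOf x) = cz u :=
    rel_cz_eq_of_le h1 huN hu hupN hum (cz_le_cz_pow _ _)
  have h5 : cz u ≤ cz x := by
    intro h hh
    have hh' : h ∈ cz (x * u) := by rw [← h3, h4]; exact hh
    rw [mem_cz] at hh hh' ⊢
    calc h * x = h * (x * u) * u⁻¹ := by group
      _ = x * u * h * u⁻¹ := by rw [hh']
      _ = x * (u * h) * u⁻¹ := by group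
      _ = x * (h * u) * u⁻¹ := by rw [hh]
      _ = x * h := by group
  exact hne (rel_cz_eq_of_le h1 huN hu hxN hx h5)

lemma rel_orderOf_eq_prime [Finite G] {N : Subgroup G}
    (h1 : ∀ x ∈ N, x ≠ 1 → IsCoatom (cz x)) {x u : G} (hxN : x ∈ N) (huN : u ∈ N)
    (hx : x ≠ 1) (hu : u ≠ 1) (hc : x * u = u * x) (hne : cz x ≠ cz u) :
    orderOf x = orderOf u ∧ (orderOf x).Prime := by
  have key : ∀ {x u : G}, x ∈ N → u ∈ N → x ≠ 1 → u ≠ 1 → x * u = u * x → cz x ≠ cz u →
      orderOf x = orderOf u := by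
    intro x u hxN huN hx hu hc hne
    apply Nat.dvd_antisymm
    · exact orderOf_dvd_of_pow_eq_one
        (rel_pow_orderOf_eq_one h1 huN hxN hu hx hc.symm (Ne.symm hne))
    · exact orderOf_dvd_of_pow_eq_one (rel_pow_orderOf_eq_one h1 hxN huN hx hu hc hne)
  have heq := key hxN huN hx hu hc hne
  refine ⟨heq, ?_⟩
  have hm1 : orderOf x ≠ 1 := fun h => hx (orderOf_eq_one_iff.1 h)
  have hr := Nat.minFac_prime hm1
  by_contra hnp
  have hrd : (orderOf x).minFac ∣ orderOf x := Nat.minFac_dvd _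
  have hrlt : (orderOf x).minFac < orderOf x := by
    rcases (Nat.le_of_dvd (orderOf_pos x) hrd).lt_or_eq with h | h
    · exact h
    · exact absurd (h ▸ hr) hnp
  have hxr : x ^ (orderOf x).minFac ≠ 1 := by
    intro h
    exact absurd (Nat.le_of_dvd hr.pos (orderOf_dvd_of_pow_eq_one h)) (not_le.2 hrlt)
  have hxrN : x ^ (orderOf x).minFac ∈ N := N.pow_mem hxN _
  have h2 : cz (x ^ (orderOf x).minFac) = cz x :=
    rel_cz_eq_of_le h1 hxN hx hxrN hxr (cz_le_cz_pow _ _)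
  have hc' : x ^ (orderOf x).minFac * u = u * x ^ (orderOf x).minFac :=
    ((show Commute x u from hc).pow_left _).eq
  have h3 := key hxrN huN hxr hu hc' (by rw [h2]; exact hne)
  have h4 : orderOf (x ^ (orderOf x).minFac) = orderOf x / (orderOf x).minFac :=
    orderOf_pow_of_dvd hr.ne_zero hrd
  rw [h4, ← heq] at h3
  have h5 : orderOf x / (orderOf x).minFac < orderOf x :=
    Nat.div_lt_self (orderOf_pos x) hr.one_lt
  omega

lemma rel_beta [Finite G] {N : Subgroup G} (h1 : ∀ x ∈ N, x ≠ 1 → IsCoatom (cz x))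
    {x w : G} (hxN : x ∈ N) (hx : x ≠ 1) (hwN : w ∈ N) (hw1 : w ≠ 1) (hwx : w * x = x * w)
    (hne : cz w ≠ cz x) :
    (orderOf x).Prime ∧ ∀ u ∈ N, u ≠ 1 → u * x = x * u → orderOf u = orderOf x := by
  have h0 := rel_orderOf_eq_prime h1 hxN hwN hx hw1 hwx.symm (Ne.symm hne)
  refine ⟨h0.2, ?_⟩
  intro u huN hu1 hux
  by_cases hcu : cz x = cz u
  · have hw : w ∈ cz u := hcu ▸ (mem_cz.2 hwx)
    have huw : u * w = w * u := (mem_cz.1 hw).symm
    have h2 := rel_orderOf_eq_prime h1 huN hwN hu1 hw1 huw (by rw [← hcu]; exact Ne.symm hne)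
    rw [h2.1, h0.1]
  · exact (rel_orderOf_eq_prime h1 hxN huN hx hu1 hux.symm hcu).1.symm

lemma rel_decomp {N : Subgroup G} [hN : N.Normal] (h1 : ∀ x ∈ N, x ≠ 1 → IsCoatom (cz x))
    (h2 : ∀ z ∈ N, (∀ n ∈ N, n * z = z * n) → z = 1) {x : G} (hxN : x ∈ N) (hx : x ≠ 1) :
    ∀ g : G, ∃ n ∈ N, ∃ m ∈ cz x, n * m = g := by
  have hnot : ¬ N ≤ cz x := by
    intro hle
    apply hx
    apply h2 x hxN
    intro n hn
    exact mem_cz.1 (hle hn)
  have hlt : cz x < N ⊔ cz x := by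
    refine lt_of_le_of_ne le_sup_right ?_
    intro h
    apply hnot
    rw [h]
    exact le_sup_left
  have htop := (h1 x hxN hx).2 _ hlt
  intro g
  have : g ∈ N ⊔ cz x := by rw [htop]; trivial
  exact mem_sup_of_normal_left.1 this

/-- The `α`-case: some element `x₀` of `N` with `C_G(w) = C_G(x₀)` for all `w ∈ C_N(x₀) ∖ 1`. -/
theorem rel_alpha_case [Finite G] {N : Subgroup G} [hN : N.Normal]
    (h1 : ∀ x ∈ N, x ≠ 1 → IsCoatom (cz x))
    (h2 : ∀ z ∈ N, (∀ n ∈ N, n * z = z * n) → z = 1) {x₀ : G} (hx₀N : x₀ ∈ N) (hx₀ : x₀ ≠ 1)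
    (hα : ∀ w ∈ N, w ≠ 1 → w * x₀ = x₀ * w → cz w = cz x₀) :
    ∃ K : Subgroup G, K.Normal ∧ K ≤ N ∧ K ≠ ⊥ ∧ (∀ a ∈ K, ∀ b ∈ K, a * b = b * a) ∧
      (∀ a ∈ K, a ≠ 1 → ∀ n ∈ N, n * a = a * n → n ∈ K) ∧
      ∃ w ∈ N, ∃ q : ℕ, q.Prime ∧ w ∉ K ∧ w ^ q = 1 ∧
        ∀ n ∈ N, ∃ k ∈ K, ∃ i : ℤ, n = k * w ^ i := by
  obtain ⟨M, hM⟩ : ∃ M, M = cz x₀ := ⟨_, rfl⟩
  have hMco : IsCoatom M := hM ▸ h1 x₀ hx₀N hx₀
  have hx₀M : x₀ ∈ M := hM ▸ self_mem_cz x₀
  have hAcz : ∀ w ∈ N, w ∈ M → w ≠ 1 → cz w = M := by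
    intro w hwN hwM hw1
    rw [hM] at hwM ⊢
    exact hα w hwN hw1 (mem_cz.1 hwM)
  have hAab : ∀ a ∈ N ⊓ M, ∀ b ∈ N ⊓ M, a * b = b * a := by
    intro a ha b hb
    by_cases ha1 : a = 1
    · rw [ha1]; simp
    · have := hAcz a ha.1 ha.2 ha1
      have hb' : b ∈ cz a := by rw [this]; exact hb.2
      exact (mem_cz.1 hb').symm
  have hdec := rel_decomp h1 h2 hx₀N hx₀
  have hNM : ∃ g ∈ N, g ∉ M := by
    by_contra hcon
    simp only [not_exists, not_and, not_not] at hcon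
    apply hx₀
    apply h2 x₀ hx₀N
    intro n hn
    have := hcon n hn
    rw [hM] at this
    exact mem_cz.1 this
  by_cases hMn : M.Normal
  · obtain ⟨g, hgN, hgM⟩ := hNM
    have hKn : (N ⊓ M).Normal := Subgroup.normal_inf_normal N M
    have hq := normal_coatom_index_prime hMco
    have hgq : g ^ M.index ∈ M := Subgroup.pow_index_mem M g
    have hgq1 : g ^ M.index = 1 := by
      by_contra hne
      have := hAcz (g ^ M.index) (N.pow_mem hgN _) hgq hne
      apply hgM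
      rw [← this, mem_cz]
      exact (Commute.pow_right (Commute.refl g) _).eq
    refine ⟨N ⊓ M, hKn, inf_le_left, ?_, hAab, ?_, g, hgN, M.index, hq, fun h => hgM h.2,
      hgq1, ?_⟩
    · intro h
      have : x₀ ∈ N ⊓ M := ⟨hx₀N, hx₀M⟩
      rw [h, Subgroup.mem_bot] at this
      exact hx₀ this
    · intro a ha ha1 n hn hna
      have := hAcz a ha.1 ha.2 ha1
      refine ⟨hn, ?_⟩
      rw [← this]
      exact mem_cz.2 hna
    · intro n hn
      have htop := coatom_sup_zpowers hMco hgM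
      have hn' : n ∈ M ⊔ zpowers g := by rw [htop]; trivial
      obtain ⟨m, hm, z, hz, rfl⟩ := mem_sup_of_normal_left.1 hn'
      obtain ⟨i, rfl⟩ := mem_zpowers_iff.1 hz
      refine ⟨m, ⟨?_, hm⟩, i, rfl⟩
      have h3 : m = m * g ^ i * (g ^ i)⁻¹ := by group
      rw [h3]
      exact N.mul_mem hn (N.inv_mem (N.zpow_mem hgN i))
  · have hnorm : Subgroup.normalizer (M : Set G) = M := by
      rcases hMco.le_iff.1 (Subgroup.le_normalizer : M ≤ Subgroup.normalizer (M : Set G))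
        with h | h
      · exact absurd (Subgroup.normalizer_eq_top_iff.1 h) hMn
      · exact h
    have hTIG : ∀ n : G, ∀ b ∈ N ⊓ M, b ≠ 1 → n⁻¹ * b * n ∈ M → n ∈ M := by
      intro n b hb hb1 hnb
      have hc1 := hAcz b hb.1 hb.2 hb1
      have hb1' : n⁻¹ * b * n ≠ 1 := by
        intro h
        apply hb1
        have : b = n * (n⁻¹ * b * n) * n⁻¹ := by group
        rw [this, h]
        group
      have hnbN : n⁻¹ * b * n ∈ N := by
        have := hN.conj_mem b hb.1 n⁻¹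
        simpa using this
      have hc2 := hAcz _ hnbN hnb hb1'
      rw [← hnorm, Subgroup.mem_normalizer_iff]
      intro h
      have h3 : h ∈ cz (n⁻¹ * b * n) ↔ n * h * n⁻¹ ∈ cz b := by
        have := mem_cz_conj (g := b) (a := n⁻¹) (h := h)
        simpa using this
      rw [hc1, hc2] at h3
      exact h3
    obtain ⟨T', hT'n, hT'A, hT'dec, hT'conj⟩ :=
      abelian_TI_complement ((N ⊓ M).subgroupOf N)
        (by
          intro a ha b hb
          rw [Subgroup.mem_subgroupOf] at ha hb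
          exact Subtype.ext (hAab a ha b hb))
        (by
          intro n b hb hb1 hnb
          rw [Subgroup.mem_subgroupOf] at hb hnb ⊢
          refine ⟨n.2, ?_⟩
          apply hTIG n b hb (fun h => hb1 (Subtype.ext h))
          have : ((n⁻¹ * b * n : N) : G) = (n : G)⁻¹ * b * n := by simp
          rw [← this]
          exact hnb.2)
    obtain ⟨T, hT⟩ : ∃ T : Subgroup G, T = T'.map N.subtype := ⟨_, rfl⟩
    have hT_mem : ∀ t : G, t ∈ T ↔ ∃ ht : t ∈ N, (⟨t, ht⟩ : N) ∈ T' := by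
      intro t
      rw [hT, Subgroup.mem_map]
      constructor
      · rintro ⟨t', ht', rfl⟩
        exact ⟨t'.2, ht'⟩
      · rintro ⟨ht, ht'⟩
        exact ⟨⟨t, ht⟩, ht', rfl⟩
    have hTN : T ≤ N := fun t ht => ((hT_mem t).1 ht).1
    have ht1 : ∀ t ∈ T, t ∈ M → t = 1 := by
      intro t ht htM
      obtain ⟨htN, ht'⟩ := (hT_mem t).1 ht
      have := hT'A ⟨t, htN⟩ ht' (by rw [Subgroup.mem_subgroupOf]; exact ⟨htN, htM⟩)
      exact congrArg Subtype.val this
    have ht2 : ∀ n ∈ N, ∃ t ∈ T, ∃ m ∈ N ⊓ M, t * m = n := by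
      intro n hn
      obtain ⟨t', ht', m', hm', hmul⟩ := hT'dec ⟨n, hn⟩
      refine ⟨t', (hT_mem _).2 ⟨t'.2, ht'⟩, m',
        (by rw [Subgroup.mem_subgroupOf] at hm'; exact hm'), ?_⟩
      exact congrArg Subtype.val hmul
    have ht3 : ∀ t ∈ T, ∀ m ∈ N ⊓ M, m ≠ 1 → ∃ s ∈ T, t * m = s⁻¹ * m * s := by
      intro t ht m hm hm1
      obtain ⟨htN, ht'⟩ := (hT_mem t).1 ht
      obtain ⟨s', hs', hmul⟩ := hT'conj ⟨t, htN⟩ ht' ⟨m, hm.1⟩
        (by rw [Subgroup.mem_subgroupOf]; exact hm) (fun h => hm1 (congrArg Subtype.val h))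
      refine ⟨s', (hT_mem _).2 ⟨s'.2, hs'⟩, ?_⟩
      have := congrArg Subtype.val hmul
      simpa using this
    have ht4 : ∀ n ∈ N, ∀ t ∈ T, n * t * n⁻¹ ∈ T := by
      intro n hn t ht
      obtain ⟨htN, ht'⟩ := (hT_mem t).1 ht
      have := hT'n.conj_mem ⟨t, htN⟩ ht' ⟨n, hn⟩
      exact (hT_mem _).2 ⟨N.mul_mem (N.mul_mem hn htN) (N.inv_mem hn), this⟩
    have hTnormal : T.Normal := by
      constructor
      intro t ht g
      have htN := hTN ht
      have hgtN : g * t * g⁻¹ ∈ N := hN.conj_mem t htN g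
      obtain ⟨t₁, ht₁, m₁, hm₁, hmul⟩ := ht2 _ hgtN
      by_cases hm₁1 : m₁ = 1
      · rw [← hmul, hm₁1, mul_one]
        exact ht₁
      exfalso
      obtain ⟨s, hs, hconj⟩ := ht3 t₁ ht₁ m₁ hm₁ hm₁1
      have e1 : g * t * g⁻¹ = s⁻¹ * m₁ * s := by rw [← hmul, hconj]
      have e2 : t = (s * g)⁻¹ * m₁ * (s * g) := by
        have : t = g⁻¹ * (g * t * g⁻¹) * g := by group
        rw [this, e1]
        group
      obtain ⟨n₁, hn₁, c₁, hc₁, hnc⟩ := hdec ((s * g)⁻¹)
      have hczm : cz m₁ = M := hAcz m₁ hm₁.1 hm₁.2 hm₁1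
      have hc₁m : c₁ * m₁ = m₁ * c₁ := by
        have : c₁ ∈ cz m₁ := by rw [hczm, hM]; exact hc₁
        exact mem_cz.1 this
      have e3 : t = n₁ * m₁ * n₁⁻¹ := by
        have hsg : s * g = (n₁ * c₁)⁻¹ := by rw [hnc]; group
        rw [e2, hsg]
        calc (n₁ * c₁)⁻¹⁻¹ * m₁ * (n₁ * c₁)⁻¹ = n₁ * (c₁ * m₁) * c₁⁻¹ * n₁⁻¹ := by group
          _ = n₁ * (m₁ * c₁) * c₁⁻¹ * n₁⁻¹ := by rw [hc₁m]
          _ = n₁ * m₁ * n₁⁻¹ := by group
      have e4 : m₁ ∈ T := by
        have := ht4 n₁⁻¹ (N.inv_mem hn₁) t ht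
        rw [e3] at this
        have h5 : n₁⁻¹ * (n₁ * m₁ * n₁⁻¹) * n₁⁻¹⁻¹ = m₁ := by group
        rw [h5] at this
        exact this
      exact hm₁1 (ht1 m₁ e4 hm₁.2)
    have hTbot : ∃ a ∈ T, a ≠ 1 := by
      by_contra hcon
      simp only [not_exists, not_and, not_not] at hcon
      obtain ⟨g, hgN, hgM⟩ := hNM
      obtain ⟨t, ht, m, hm, hmul⟩ := ht2 g hgN
      apply hgM
      rw [← hmul, hcon t ht, one_mul]
      exact hm.2
    have hCT : ∀ a ∈ T, a ≠ 1 → ∀ b ∈ N, b * a = a * b → b ∈ T := by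
      intro a ha ha1 b hb hba
      obtain ⟨t, ht, m, hm, hmul⟩ := ht2 b hb
      by_cases hm1 : m = 1
      · rw [← hmul, hm1, mul_one]
        exact ht
      exfalso
      obtain ⟨s, hs, hconj⟩ := ht3 t ht m hm hm1
      have hb' : b = s⁻¹ * m * s := by rw [← hmul, hconj]
      have h5 : s * a * s⁻¹ ∈ cz m := by
        rw [mem_cz]
        rw [hb'] at hba
        calc s * a * s⁻¹ * m = s * (a * (s⁻¹ * m * s)) * s⁻¹ := by group
          _ = s * (s⁻¹ * m * s * a) * s⁻¹ := by rw [hba]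
          _ = m * (s * a * s⁻¹) := by group
      rw [hAcz m hm.1 hm.2 hm1] at h5
      have h6 := ht1 _ (hTnormal.conj_mem a ha s) h5
      apply ha1
      have : a = s⁻¹ * (s * a * s⁻¹) * s := by group
      rw [this, h6]
      group
    have hTle : ∀ a ∈ T, a ≠ 1 → T ≤ cz a := by
      intro a ha ha1
      have haN := hTN ha
      have hco := h1 a haN ha1
      by_contra hnot
      have hlt : cz a < T ⊔ cz a := by
        refine lt_of_le_of_ne le_sup_right ?_
        intro h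
        apply hnot
        rw [h]
        exact le_sup_left
      have htop := hco.2 _ hlt
      have hNT : N ≤ T := by
        intro n hn
        have hn' : n ∈ T ⊔ cz a := by rw [htop]; trivial
        obtain ⟨t, ht, c, hc, rfl⟩ := (mem_sup_of_normal_left (hs := hTnormal)).1 hn'
        have hcN : c ∈ N := by
          have : c = t⁻¹ * (t * c) := by group
          rw [this]
          exact N.mul_mem (N.inv_mem (hTN ht)) hn
        have hcT := hCT a ha ha1 c hcN (mem_cz.1 hc)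
        exact T.mul_mem ht hcT
      exact hx₀ (ht1 x₀ (hNT hx₀N) hx₀M)
    have hTab : ∀ a ∈ T, ∀ b ∈ T, a * b = b * a := by
      intro a ha b hb
      by_cases ha1 : a = 1
      · rw [ha1]; simp
      · exact (mem_cz.1 (hTle a ha ha1 hb)).symm
    have ho : orderOf x₀ ≠ 1 := fun h => hx₀ (orderOf_eq_one_iff.1 h)
    obtain ⟨q, hq, hqd⟩ := Nat.exists_prime_and_dvd ho
    obtain ⟨w, hw⟩ : ∃ w, w = x₀ ^ (orderOf x₀ / q) := ⟨_, rfl⟩
    have hwN : w ∈ N := hw ▸ N.pow_mem hx₀N _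
    have hwM : w ∈ M := hw ▸ M.pow_mem hx₀M _
    have hdiv0 : orderOf x₀ / q ≠ 0 := by
      have := Nat.div_pos (Nat.le_of_dvd (orderOf_pos x₀) hqd) hq.pos
      omega
    have hwo : orderOf w = q := by
      rw [hw, orderOf_pow_of_dvd hdiv0 (Nat.div_dvd_of_dvd hqd)]
      exact Nat.div_div_self hqd (orderOf_pos x₀).ne'
    have hw1 : w ≠ 1 := by
      intro h
      rw [h, orderOf_one] at hwo
      exact hq.one_lt.ne hwo
    have hwq : w ^ q = 1 := by
      rw [← hwo]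
      exact pow_orderOf_eq_one w
    have hwT : w ∉ T := fun h => hw1 (ht1 w h hwM)
    obtain ⟨a, ha, ha1⟩ := hTbot
    have hwa : w ∉ cz a := fun h => hwT (hCT a ha ha1 w hwN (mem_cz.1 h))
    have hconjw : ∀ g : G, ∃ t ∈ T, g * w * g⁻¹ = t * w := by
      intro g
      obtain ⟨n, hn, c, hc, rfl⟩ := hdec g
      have hczw : cz w = M := hAcz w hwN hwM hw1
      have hcw : c * w = w * c := by
        have : c ∈ cz w := by rw [hczw, hM]; exact hc
        exact mem_cz.1 this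
      obtain ⟨t₁, ht₁, m₁, hm₁, rfl⟩ := ht2 n hn
      have hmw : m₁ * w = w * m₁ := hAab m₁ hm₁ w ⟨hwN, hwM⟩
      refine ⟨t₁ * (w * t₁⁻¹ * w⁻¹),
        T.mul_mem ht₁ (hTnormal.conj_mem _ (T.inv_mem ht₁) w), ?_⟩
      calc t₁ * m₁ * c * w * (t₁ * m₁ * c)⁻¹
          = t₁ * m₁ * (c * w) * c⁻¹ * m₁⁻¹ * t₁⁻¹ := by group
        _ = t₁ * m₁ * (w * c) * c⁻¹ * m₁⁻¹ * t₁⁻¹ := by rw [hcw]
        _ = t₁ * (m₁ * w) * m₁⁻¹ * t₁⁻¹ := by group
        _ = t₁ * (w * m₁) * m₁⁻¹ * t₁⁻¹ := by rw [hmw]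
        _ = t₁ * (w * t₁⁻¹ * w⁻¹) * w := by group
    have hBn : (T ⊔ zpowers w).Normal := by
      constructor
      intro b hb g
      obtain ⟨t, ht, z, hz, rfl⟩ := (mem_sup_of_normal_left (hs := hTnormal)).1 hb
      obtain ⟨i, rfl⟩ := mem_zpowers_iff.1 hz
      obtain ⟨t₂, ht₂, hconj⟩ := hconjw g
      have : g * (t * w ^ i) * g⁻¹ = (g * t * g⁻¹) * (g * w * g⁻¹) ^ i := by
        rw [conj_zpow]
        group
      rw [this, hconj]
      exact (T ⊔ zpowers w).mul_mem (mem_sup_left (hTnormal.conj_mem t ht g))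
        ((T ⊔ zpowers w).zpow_mem ((T ⊔ zpowers w).mul_mem (mem_sup_left ht₂)
          (mem_sup_right (mem_zpowers w))) i)
    have hBtop : (T ⊔ zpowers w) ⊔ cz a = ⊤ := by
      have hlt : cz a < (T ⊔ zpowers w) ⊔ cz a := by
        refine lt_of_le_of_ne le_sup_right ?_
        intro h
        apply hwa
        have : w ∈ (T ⊔ zpowers w) ⊔ cz a := mem_sup_left (mem_sup_right (mem_zpowers w))
        rwa [← h] at this
      exact (h1 a (hTN ha) ha1).2 _ hlt
    have hBN : T ⊔ zpowers w ≤ N := sup_le hTN (by rw [zpowers_le]; exact hwN)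
    refine ⟨T, hTnormal, hTN, ?_, hTab, hCT, w, hwN, q, hq, hwT, hwq, ?_⟩
    · intro h
      rw [h, Subgroup.mem_bot] at ha
      exact ha1 ha
    · intro n hn
      have hn' : n ∈ (T ⊔ zpowers w) ⊔ cz a := by rw [hBtop]; trivial
      obtain ⟨b, hb, c, hc, rfl⟩ := (mem_sup_of_normal_left (hs := hBn)).1 hn'
      have hcN : c ∈ N := by
        have : c = b⁻¹ * (b * c) := by group
        rw [this]
        exact N.mul_mem (N.inv_mem (hBN hb)) hn
      have hcT := hCT a ha ha1 c hcN (mem_cz.1 hc)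
      have hbc : b * c ∈ T ⊔ zpowers w := (T ⊔ zpowers w).mul_mem hb (mem_sup_left hcT)
      obtain ⟨t, ht, z, hz, hmul⟩ := (mem_sup_of_normal_left (hs := hTnormal)).1 hbc
      obtain ⟨i, rfl⟩ := mem_zpowers_iff.1 hz
      exact ⟨t, ht, i, hmul.symm⟩

/-- The `β`-case is impossible. -/
theorem rel_beta_case [Finite G] {N : Subgroup G} [hN : N.Normal]
    (h1 : ∀ x ∈ N, x ≠ 1 → IsCoatom (cz x))
    (h2 : ∀ z ∈ N, (∀ n ∈ N, n * z = z * n) → z = 1) (hNbot : N ≠ ⊥)
    (hβ : ∀ x ∈ N, x ≠ 1 → ∃ w ∈ N, w ≠ 1 ∧ w * x = x * w ∧ cz w ≠ cz x) : False := by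
  have hprime : ∀ x ∈ N, x ≠ 1 → (orderOf x).Prime := by
    intro x hx hx1
    obtain ⟨w, hw, hw1, hwx, hne⟩ := hβ x hx hx1
    exact (rel_beta h1 hx hx1 hw hw1 hwx hne).1
  have hexp : ∀ x ∈ N, x ≠ 1 → ∀ u ∈ N, u ≠ 1 → u * x = x * u → orderOf u = orderOf x := by
    intro x hx hx1
    obtain ⟨w, hw, hw1, hwx, hne⟩ := hβ x hx hx1
    exact (rel_beta h1 hx hx1 hw hw1 hwx hne).2
  have hNnt : Nontrivial N := (Subgroup.nontrivial_iff_ne_bot N).2 hNbot
  by_cases hcase : ∃ x ∈ N, x ≠ 1 ∧ (N ⊓ cz x).Normal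
  · obtain ⟨x, hxN, hx1, hOn⟩ := hcase
    obtain ⟨O, hO⟩ : ∃ O, O = N ⊓ cz x := ⟨_, rfl⟩
    rw [← hO] at hOn
    have hp := hprime x hxN hx1
    have hy : ∃ y ∈ N, y ≠ 1 ∧ orderOf y ≠ orderOf x := by
      by_contra hcon
      simp only [not_exists, not_and, not_not] at hcon
      have : Fact (orderOf x).Prime := ⟨hp⟩
      have hNp : IsPGroup (orderOf x) N := by
        intro u
        refine ⟨1, ?_⟩
        by_cases hu : (u : G) = 1
        · apply Subtype.ext
          simp [hu]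
        · have := hcon u u.2 hu
          apply Subtype.ext
          simp only [pow_one, Subgroup.coe_pow, Subgroup.coe_one]
          rw [← this]
          exact pow_orderOf_eq_one _
      have hcnt : Nontrivial (center N) := hNp.center_nontrivial
      obtain ⟨z, hz⟩ := exists_ne (1 : center N)
      apply hz
      apply Subtype.ext
      apply Subtype.ext
      apply h2 ((z : N) : G) (z : N).2
      intro n hn
      have := (Subgroup.mem_center_iff.1 z.2) ⟨n, hn⟩
      exact congrArg Subtype.val this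
    obtain ⟨y, hyN, hy1, hyo⟩ := hy
    obtain ⟨w, hwN, hw1, hwy, hne⟩ := hβ y hyN hy1
    have hr := hprime y hyN hy1
    have hwo : orderOf w = orderOf y := hexp y hyN hy1 w hwN hw1 hwy
    obtain ⟨Z₀, hZ₀⟩ : ∃ Z₀, Z₀ = O ⊓ Subgroup.centralizer (O : Set G) := ⟨_, rfl⟩
    have hZ₀n : Z₀.Normal := by
      rw [hZ₀]
      exact Subgroup.normal_inf_normal _ _
    have hZ₀mem : ∀ m ∈ Z₀, m ∈ N ∧ m * x = x * m := by
      intro m hm
      rw [hZ₀] at hm
      have hmO := hm.1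
      rw [hO] at hmO
      exact ⟨hmO.1, mem_cz.1 hmO.2⟩
    have hxZ₀ : x ∈ Z₀ := by
      rw [hZ₀, Subgroup.mem_inf, Subgroup.mem_centralizer_iff]
      refine ⟨hO ▸ ⟨hxN, self_mem_cz x⟩, ?_⟩
      intro o ho
      rw [SetLike.mem_coe, hO] at ho
      exact mem_cz.1 ho.2
    have hZ₀c : ∀ a ∈ Z₀, ∀ b ∈ Z₀, a * b = b * a := by
      intro a ha b hb
      rw [hZ₀, Subgroup.mem_inf] at ha hb
      exact (Subgroup.mem_centralizer_iff.1 hb.2) a ha.1
    have hZ₀ord : ∀ m ∈ Z₀, m ≠ 1 → orderOf m = orderOf x := by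
      intro m hm hm1
      exact hexp x hxN hx1 m (hZ₀mem m hm).1 hm1 (hZ₀mem m hm).2
    let _ : CommGroup Z₀ :=
      { (inferInstance : Group Z₀) with
        mul_comm := fun a b => Subtype.ext (hZ₀c a a.2 b b.2) }
    have hfix : ∀ v ∈ N, v ≠ 1 → orderOf v = orderOf y → ∀ m : Z₀,
        (MulAut.conjNormal (H := Z₀) v) m = m → m = 1 := by
      intro v hvN hv1 hvo m hm
      by_contra hm1
      have hm1' : (m : G) ≠ 1 := fun h => hm1 (Subtype.ext h)
      have e := congrArg Subtype.val hm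
      rw [MulAut.conjNormal_apply] at e
      have hcomm : (m : G) * v = v * m := (mul_inv_eq_iff_eq_mul.1 e).symm
      have h3 := hexp v hvN hv1 m (hZ₀mem m m.2).1 hm1' hcomm
      have h4 := hZ₀ord m m.2 hm1'
      exact hyo (by rw [← hvo, ← h3, h4])
    have hall : ∀ m : Z₀, m = 1 := by
      intro m
      have hZ₀p : IsPGroup (orderOf x) Z₀ := by
        intro u
        refine ⟨1, ?_⟩
        by_cases hu : (u : G) = 1
        · apply Subtype.ext
          simp [hu]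
        · have := hZ₀ord u u.2 hu
          apply Subtype.ext
          simp only [pow_one, Subgroup.coe_pow, Subgroup.coe_one]
          rw [← this]
          exact pow_orderOf_eq_one _
      have : Fact (orderOf x).Prime := ⟨hp⟩
      obtain ⟨k, hk⟩ := IsPGroup.iff_card.1 hZ₀p
      refine avg_fpf_trivial (MulAut.conjNormal (H := Z₀)) (orderOf y) hr ?_ y w hwy.symm
        (pow_orderOf_eq_one y) (by rw [← hwo]; exact pow_orderOf_eq_one w) ?_ ?_ m
      · rw [hk]
        exact Nat.Coprime.pow_left k ((Nat.coprime_primes hp hr).2 (Ne.symm hyo))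
      · intro k hk0 hkr
        have hyk1 : y ^ k ≠ 1 := by
          intro h
          exact absurd (Nat.le_of_dvd hk0 (orderOf_dvd_of_pow_eq_one h)) (not_le.2 hkr)
        have hykN : y ^ k ∈ N := N.pow_mem hyN k
        have hyko : orderOf (y ^ k) = orderOf y :=
          hexp y hyN hy1 _ hykN hyk1 ((Commute.pow_left (Commute.refl y) k).eq)
        exact hfix _ hykN hyk1 hyko
      · intro i hi
        have hvN : y ^ i * w ∈ N := N.mul_mem (N.pow_mem hyN i) hwN
        have hv1 : y ^ i * w ≠ 1 := by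
          intro h
          apply hne
          have hw' : w = (y ^ i)⁻¹ := eq_inv_of_mul_eq_one_right h
          apply rel_cz_eq_of_le h1 hyN hy1 hwN hw1
          intro g hg
          rw [mem_cz] at hg ⊢
          rw [hw']
          have hc : Commute g (y ^ i) := Commute.pow_right hg i
          exact (hc.inv_right).eq
        have hvo : orderOf (y ^ i * w) = orderOf y := by
          apply hexp y hyN hy1 _ hvN hv1
          have hc : Commute (y ^ i * w) y :=
            (Commute.pow_left (Commute.refl y) i).mul_left (show Commute w y from hwy)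
          exact hc.eq
        exact hfix _ hvN hv1 hvo
    exact hx1 (congrArg Subtype.val (hall ⟨x, hxZ₀⟩))
  · simp only [not_exists, not_and] at hcase
    have hnormz : ∀ x ∈ N, x ≠ 1 →
        Subgroup.normalizer ((N ⊓ cz x : Subgroup G) : Set G) = cz x := by
      intro x hx hx1
      have hle : cz x ≤ Subgroup.normalizer ((N ⊓ cz x : Subgroup G) : Set G) := by
        intro c hc
        rw [Subgroup.mem_normalizer_iff]
        intro h
        constructor
        · rintro ⟨hhN, hhc⟩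
          exact ⟨hN.conj_mem h hhN c,
            (cz x).mul_mem ((cz x).mul_mem hc hhc) ((cz x).inv_mem hc)⟩
        · rintro ⟨hhN, hhc⟩
          refine ⟨?_, ?_⟩
          · have := hN.conj_mem _ hhN c⁻¹
            simpa [mul_assoc] using this
          · have := (cz x).mul_mem ((cz x).mul_mem ((cz x).inv_mem hc) hhc) hc
            simpa [mul_assoc] using this
      rcases (h1 x hx hx1).le_iff.1 hle with h | h
      · exact absurd (Subgroup.normalizer_eq_top_iff.1 h) (hcase x hx hx1)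
      · exact h
    have hczN : ∀ (x' n' : N), n' ∈ cz x' ↔ (n' : G) ∈ cz (x' : G) := by
      intro x' n'
      rw [mem_cz, mem_cz, Subtype.ext_iff]
      rfl
    have hpgrp : ∀ x' : N, x' ≠ 1 → IsPGroup (orderOf (x' : G)) (cz x') := by
      intro x' hx'1
      have hx1 : (x' : G) ≠ 1 := fun h => hx'1 (Subtype.ext h)
      intro u
      refine ⟨1, ?_⟩
      by_cases hu : ((u : N) : G) = 1
      · apply Subtype.ext
        apply Subtype.ext
        simp [hu]
      · have huc := (hczN x' u).1 u.2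
        have := hexp _ x'.2 hx1 _ (u : N).2 hu (mem_cz.1 huc)
        apply Subtype.ext
        apply Subtype.ext
        simp only [pow_one, Subgroup.coe_pow, Subgroup.coe_one]
        rw [← this]
        exact pow_orderOf_eq_one _
    have hselfn : ∀ x' : N, x' ≠ 1 → Subgroup.normalizer ((cz x' : Subgroup N) : Set N) = cz x' := by
      intro x' hx'1
      have hx1 : (x' : G) ≠ 1 := fun h => hx'1 (Subtype.ext h)
      apply le_antisymm _ Subgroup.le_normalizer
      intro n' hn'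
      rw [hczN, ← hnormz _ x'.2 hx1, Subgroup.mem_normalizer_iff]
      intro h
      constructor
      · rintro ⟨hhN, hhc⟩
        have := (Subgroup.mem_normalizer_iff.1 hn' ⟨h, hhN⟩).1 ((hczN x' ⟨h, hhN⟩).2 hhc)
        have h3 := (hczN x' _).1 this
        exact ⟨N.mul_mem (N.mul_mem n'.2 hhN) (N.inv_mem n'.2), by simpa using h3⟩
      · rintro ⟨hhN, hhc⟩
        have hhN' : h ∈ N := by
          have := N.mul_mem (N.mul_mem (N.inv_mem n'.2) hhN) n'.2
          simpa [mul_assoc] using this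
        refine ⟨hhN', ?_⟩
        have := (Subgroup.mem_normalizer_iff.1 hn' ⟨h, hhN'⟩).2
          ((hczN x' _).2 (by simpa using hhc))
        exact (hczN x' _).1 this
    have hsylN : ∀ x' : N, x' ≠ 1 → ∀ p, orderOf x' = p →
        ∃ Q : Sylow p N, (Q : Subgroup N) = cz x' := by
      intro x' hx'1 p hp
      have hx1 : (x' : G) ≠ 1 := fun h => hx'1 (Subtype.ext h)
      have hop : orderOf (x' : G) = p := by
        rw [Subgroup.orderOf_coe]
        exact hp
      have hpp : p.Prime := hop ▸ hprime _ x'.2 hx1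
      have : Fact p.Prime := ⟨hpp⟩
      exact exists_sylow_eq_of_normalizer_eq _ (hop ▸ hpgrp x' hx'1) (hselfn x' hx'1)
    apply count_contra (H := N)
    · intro x' hx'1
      rw [← Subgroup.orderOf_coe]
      exact hprime _ x'.2 (fun h => hx'1 (Subtype.ext h))
    · exact hsylN
    · intro x' hx'1 hab
      have hx1 : (x' : G) ≠ 1 := fun h => hx'1 (Subtype.ext h)
      obtain ⟨w, hwN, hw1, hwx, hne⟩ := hβ _ x'.2 hx1
      have hw'1 : (⟨w, hwN⟩ : N) ≠ 1 := fun h => hw1 (congrArg Subtype.val h)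
      have hw'x : (⟨w, hwN⟩ : N) ∈ cz x' := (hczN x' ⟨w, hwN⟩).2 (mem_cz.2 hwx)
      have hle : cz x' ≤ cz (⟨w, hwN⟩ : N) := by
        intro c hc
        rw [mem_cz]
        exact hab c hc _ hw'x
      have hoeq : orderOf w = orderOf (x' : G) := hexp _ x'.2 hx1 w hwN hw1 hwx
      have hpg : IsPGroup (orderOf (x' : G)) (cz (⟨w, hwN⟩ : N)) := by
        have := hpgrp ⟨w, hwN⟩ hw'1
        rw [show ((⟨w, hwN⟩ : N) : G) = w from rfl, hoeq] at this
        exact this
      obtain ⟨Q, hQ⟩ := hsylN x' hx'1 (orderOf (x' : G)) (Subgroup.orderOf_coe x').symm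
      have heq : cz (⟨w, hwN⟩ : N) = cz x' := by
        have := Q.is_maximal' hpg (by rw [hQ]; exact hle)
        rw [this, hQ]
      have hinf : N ⊓ cz (x' : G) = N ⊓ cz w := by
        ext g
        constructor
        · rintro ⟨hgN, hgc⟩
          refine ⟨hgN, ?_⟩
          have := (hczN x' ⟨g, hgN⟩).2 hgc
          rw [← heq] at this
          exact (hczN ⟨w, hwN⟩ ⟨g, hgN⟩).1 this
        · rintro ⟨hgN, hgc⟩
          refine ⟨hgN, ?_⟩
          have := (hczN ⟨w, hwN⟩ ⟨g, hgN⟩).2 hgc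
          rw [heq] at this
          exact (hczN x' ⟨g, hgN⟩).1 this
      have hn1 := hnormz _ x'.2 hx1
      have hn2 := hnormz w hwN hw1
      rw [← hinf, hn1] at hn2
      exact hne hn2.symm

/-- **Relative T0.** -/
theorem rel_T0 [Finite G] {N : Subgroup G} [hN : N.Normal]
    (h1 : ∀ x ∈ N, x ≠ 1 → IsCoatom (cz x))
    (h2 : ∀ z ∈ N, (∀ n ∈ N, n * z = z * n) → z = 1) (hNbot : N ≠ ⊥) :
    ∃ K : Subgroup G, K.Normal ∧ K ≤ N ∧ K ≠ ⊥ ∧ (∀ a ∈ K, ∀ b ∈ K, a * b = b * a) ∧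
      (∀ a ∈ K, a ≠ 1 → ∀ n ∈ N, n * a = a * n → n ∈ K) ∧
      ∃ w ∈ N, ∃ q : ℕ, q.Prime ∧ w ∉ K ∧ w ^ q = 1 ∧
        ∀ n ∈ N, ∃ k ∈ K, ∃ i : ℤ, n = k * w ^ i := by
  by_cases hα : ∃ x ∈ N, x ≠ 1 ∧ ∀ w ∈ N, w ≠ 1 → w * x = x * w → cz w = cz x
  · obtain ⟨x, hx, hx1, hα⟩ := hα
    exact rel_alpha_case h1 h2 hx hx1 hα
  · exfalso
    apply rel_beta_case h1 h2 hNbot
    intro x hx hx1
    by_contra hcon
    apply hα
    refine ⟨x, hx, hx1, ?_⟩
    intro w hw hw1 hwx
    by_contra hne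
    exact hcon ⟨w, hw, hw1, hwx, hne⟩

end RelCent2

end Cfsg.Agent.Lib.helper68
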