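import Cfsg.Agent.Lib.helper68.RelCent2
import Cfsg.Agent.Lib.helper68.CentMaxD
import Cfsg.Prelude.Def_Solvable
import Cfsg.Prelude.Def_Transfer

set_option autoImplicit false

namespace Cfsg.Agent.Lib.helper68

open Subgroup
open scoped Pointwise

section RelCent3

variable {G : Type*} [Group G]

/-- Frobenius data for `N` from the relative T0. -/
theorem rel_frobenius_data [Finite G] {N : Subgroup G} [hN : N.Normal]
    (h1 : ∀ x ∈ N, x ≠ 1 → IsCoatom (cz x))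
    (h2 : ∀ z ∈ N, (∀ n ∈ N, n * z = z * n) → z = 1) (hNbot : N ≠ ⊥) :
    ∃ (K : Subgroup G) (w : G) (p q : ℕ), p.Prime ∧ q.Prime ∧ K.Normal ∧ K ≤ N ∧ K ≠ ⊥ ∧
      (∀ a ∈ K, ∀ b ∈ K, a * b = b * a) ∧ (∀ a ∈ K, a ^ p = 1) ∧
      w ∈ N ∧ w ≠ 1 ∧ w ^ q = 1 ∧ (∀ i : ℤ, w ^ i ∈ K → w ^ i = 1) ∧
      (∀ n ∈ N, ∃ k ∈ K, ∃ i : ℤ, n = k * w ^ i) ∧
      (∀ i : ℤ, w ^ i ≠ 1 → ∀ a ∈ K, w ^ i * a = a * w ^ i → a = 1) := by
  obtain ⟨K, hKn, hKN, hKbot, hKab, hKC, w, hwN, q, hq, hwK, hwq, hdec⟩ := rel_T0 h1 h2 hNbot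
  have hw1 : w ≠ 1 := by
    rintro rfl
    exact hwK (one_mem _)
  have hwi : ∀ i : ℤ, w ^ i ∈ K → w ^ i = 1 := by
    intro i hi
    by_contra hne
    apply hwK
    apply hKC (w ^ i) hi hne w hwN
    exact (Commute.zpow_right (Commute.refl w) i).eq
  have hfpf : ∀ i : ℤ, w ^ i ≠ 1 → ∀ a ∈ K, w ^ i * a = a * w ^ i → a = 1 := by
    intro i hi a ha hcomm
    by_contra ha1
    exact hi (hwi i (hKC a ha ha1 (w ^ i) (N.zpow_mem hwN i) hcomm))
  have hwco := h1 w hwN hw1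
  have hCK : ∀ b ∈ cz w, b ∈ K → b = 1 := by
    intro b hb hbK
    by_contra hb1
    apply hwK
    apply hKC b hbK hb1 w hwN
    exact (mem_cz.1 hb).symm
  have hmin : ∀ B : Subgroup G, B.Normal → B ≤ K → B ≠ ⊥ → B = K := by
    intro B hBn hBK hB
    have hlt : cz w < cz w ⊔ B := by
      refine lt_of_le_of_ne le_sup_left ?_
      intro h
      apply hB
      rw [eq_bot_iff]
      intro b hb
      have hbC : b ∈ cz w := by
        rw [h]
        exact mem_sup_right hb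
      exact (Subgroup.mem_bot).2 (hCK b hbC (hBK hb))
    have htop := hwco.2 _ hlt
    apply le_antisymm hBK
    intro k hk
    have hk' : k ∈ cz w ⊔ B := by rw [htop]; trivial
    obtain ⟨c, hc, b, hb, rfl⟩ := (mem_sup_of_normal_right (ht := hBn)).1 hk'
    have hcK : c ∈ K := by
      have := K.mul_mem hk (K.inv_mem (hBK hb))
      simpa using this
    have := hCK c hc hcK
    rw [this, one_mul]
    exact hb
  have hKcard : Nat.card K ≠ 1 := fun h => hKbot (Subgroup.card_eq_one.1 h)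
  obtain ⟨p, hp, hpd⟩ := Nat.exists_prime_and_dvd hKcard
  have hpf : Fact p.Prime := ⟨hp⟩
  let B : Subgroup G :=
    { carrier := {k | k ∈ K ∧ k ^ p = 1}
      one_mem' := ⟨K.one_mem, one_pow p⟩
      mul_mem' := by
        rintro a b ⟨ha, ha'⟩ ⟨hb, hb'⟩
        refine ⟨K.mul_mem ha hb, ?_⟩
        rw [(show Commute a b from hKab a ha b hb).mul_pow, ha', hb', one_mul]
      inv_mem' := by
        rintro a ⟨ha, ha'⟩
        exact ⟨K.inv_mem ha, by rw [inv_pow, ha', inv_one]⟩ }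
  have hBn : B.Normal := ⟨by
    rintro k ⟨hk, hk'⟩ h
    refine ⟨hKn.conj_mem k hk h, ?_⟩
    rw [conj_pow, hk']
    simp⟩
  have hBK : B ≤ K := fun k hk => hk.1
  have hBbot : B ≠ ⊥ := by
    obtain ⟨k, hk⟩ := exists_prime_orderOf_dvd_card' (G := K) p hpd
    intro hB
    have hkB : (k : G) ∈ B := by
      refine ⟨k.2, ?_⟩
      rw [← Subgroup.coe_pow, ← hk, pow_orderOf_eq_one]
      rfl
    rw [hB, Subgroup.mem_bot] at hkB
    have hk1 : k = 1 := Subtype.ext hkB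
    rw [hk1, orderOf_one] at hk
    exact hp.one_lt.ne hk
  have hBeq := hmin B hBn hBK hBbot
  have hKp : ∀ k ∈ K, k ^ p = 1 := by
    intro k hk
    rw [← hBeq] at hk
    exact hk.2
  exact ⟨K, w, p, q, hp, hq, hKn, hKN, hKbot, hKab, hKp, hwN, hw1, hwq, hwi, hdec, hfpf⟩

/-- Transport of Frobenius data along an injective homomorphism. -/
theorem frobenius_of_data {H Γ : Type*} [Group H] [Group Γ] [Finite Γ] (φ : H →* Γ)
    (hφ : Function.Injective φ) (K : Subgroup Γ) (w : Γ) (p q : ℕ) (hp : p.Prime)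
    (hq : q.Prime) (hKn : K.Normal) (hKr : K ≤ φ.range) (hKbot : K ≠ ⊥)
    (hKab : ∀ a ∈ K, ∀ b ∈ K, a * b = b * a) (hKp : ∀ a ∈ K, a ^ p = 1)
    (hw : w ∈ φ.range) (hw1 : w ≠ 1) (hwq : w ^ q = 1) (hwK : ∀ i : ℤ, w ^ i ∈ K → w ^ i = 1)
    (hdec : ∀ n ∈ φ.range, ∃ k ∈ K, ∃ i : ℤ, n = k * w ^ i)
    (hfpf : ∀ i : ℤ, w ^ i ≠ 1 → ∀ a ∈ K, w ^ i * a = a * w ^ i → a = 1) :
    ∃ (Q K' : Subgroup H) (p : ℕ), p.Prime ∧ Cfsg.IsFrobeniusComplement Q ∧
      (Nat.card Q).Prime ∧ K'.Normal ∧ (K' : Set H) = Cfsg.frobeniusKernel Q ∧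
      Cfsg.IsElementaryAbelian p K' := by
  obtain ⟨w', rfl⟩ := hw
  have hw'1 : w' ≠ 1 := by
    rintro rfl
    exact hw1 (map_one φ)
  have hconjmem : ∀ (g x : H), x ∈ MulAut.conj g • zpowers w' ↔
      ∃ j : ℤ, g * w' ^ j * g⁻¹ = x := by
    intro g x
    rw [Subgroup.mem_smul_pointwise_iff_exists]
    constructor
    · rintro ⟨s, hs, rfl⟩
      obtain ⟨j, rfl⟩ := mem_zpowers_iff.1 hs
      exact ⟨j, by rw [MulAut.smul_def, MulAut.conj_apply]⟩
    · rintro ⟨j, rfl⟩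
      exact ⟨w' ^ j, zpow_mem_zpowers w' j, by rw [MulAut.smul_def, MulAut.conj_apply]⟩
  refine ⟨zpowers w', K.comap φ, p, hp, ⟨?_, ?_, ?_⟩, ?_, hKn.comap φ, ?_, ?_, ?_⟩
  · intro h
    have : w' ∈ zpowers w' := mem_zpowers w'
    rw [h, Subgroup.mem_bot] at this
    exact hw'1 this
  · intro h
    obtain ⟨k, hk, hk1⟩ : ∃ k ∈ K, k ≠ 1 := by
      by_contra hcon
      simp only [not_exists, not_and, not_not] at hcon
      exact hKbot ((Subgroup.eq_bot_iff_forall K).2 hcon)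
    obtain ⟨k', rfl⟩ := hKr hk
    have hk' : k' ∈ zpowers w' := by rw [h]; trivial
    obtain ⟨i, rfl⟩ := mem_zpowers_iff.1 hk'
    rw [map_zpow] at hk hk1
    exact hk1 (hwK i hk)
  · intro g hg
    rw [eq_bot_iff]
    intro y hy
    rw [Subgroup.mem_inf] at hy
    obtain ⟨hy1, hy2⟩ := hy
    obtain ⟨i, rfl⟩ := mem_zpowers_iff.1 hy1
    obtain ⟨j, hj⟩ := (hconjmem g _).1 hy2
    rw [Subgroup.mem_bot]
    by_contra hne
    obtain ⟨k, hk, l, hl⟩ := hdec (φ g) ⟨g, rfl⟩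
    have e1 : φ w' ^ i = k * φ w' ^ j * k⁻¹ := by
      have := congrArg φ hj
      rw [map_mul, map_mul, map_zpow, map_inv, map_zpow, hl] at this
      rw [← this]
      have hc : Commute (φ w' ^ l) (φ w' ^ j) := (Commute.refl (φ w')).zpow_zpow l j
      calc k * φ w' ^ l * φ w' ^ j * (k * φ w' ^ l)⁻¹
          = k * (φ w' ^ l * φ w' ^ j) * (φ w' ^ l)⁻¹ * k⁻¹ := by group
        _ = k * (φ w' ^ j * φ w' ^ l) * (φ w' ^ l)⁻¹ * k⁻¹ := by rw [hc.eq]
        _ = k * φ w' ^ j * k⁻¹ := by group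
    have e2 : φ w' ^ (i - j) ∈ K := by
      have h3 : φ w' ^ (i - j) = k * (φ w' ^ j * k⁻¹ * (φ w' ^ j)⁻¹) := by
        rw [zpow_sub, e1]
        group
      rw [h3]
      exact K.mul_mem hk (hKn.conj_mem _ (K.inv_mem hk) _)
    have e3 := hwK _ e2
    have e4 : φ w' ^ i = φ w' ^ j := by
      rw [zpow_sub] at e3
      exact mul_inv_eq_one.1 e3
    have hj1 : φ w' ^ j ≠ 1 := by
      rw [← e4, ← map_zpow]
      intro h
      exact hne (hφ (by rw [h, map_one]))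
    have e5 : φ w' ^ j * k = k * φ w' ^ j := by
      rw [e4] at e1
      calc φ w' ^ j * k = (k * φ w' ^ j * k⁻¹) * k := by rw [← e1]
        _ = k * φ w' ^ j := by group
    have hk1 := hfpf j hj1 k hk e5
    rw [hk1, one_mul, ← map_zpow] at hl
    apply hg
    rw [hφ hl]
    exact zpow_mem_zpowers w' l
  · rw [Nat.card_zpowers, ← orderOf_injective φ hφ w']
    have hdvd : orderOf (φ w') ∣ q := orderOf_dvd_of_pow_eq_one hwq
    rcases (Nat.dvd_prime hq).1 hdvd with h | h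
    · exact absurd (orderOf_eq_one_iff.1 h) hw1
    · rw [h]
      exact hq
  · ext x
    simp only [SetLike.mem_coe, Subgroup.mem_comap, Cfsg.frobeniusKernel, Set.mem_ofPred_eq]
    constructor
    · intro hx
      by_cases hx1 : x = 1
      · exact Or.inl hx1
      right
      intro g hxg
      obtain ⟨j, hj⟩ := (hconjmem g x).1 hxg
      apply hx1
      have e1 : φ w' ^ j ∈ K := by
        have := congrArg φ hj
        rw [map_mul, map_mul, map_zpow, map_inv] at this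
        have h3 : φ w' ^ j = (φ g)⁻¹ * φ x * (φ g)⁻¹⁻¹ := by
          rw [← this]
          group
        rw [h3]
        exact hKn.conj_mem _ hx _
      have e2 := hwK j e1
      rw [← map_zpow] at e2
      have e3 : w' ^ j = 1 := hφ (by rw [e2, map_one])
      rw [← hj, e3]
      group
    · rintro (rfl | hx)
      · rw [map_one]
        exact K.one_mem
      · obtain ⟨k, hk, i, hi⟩ := hdec (φ x) ⟨x, rfl⟩
        by_cases hc1 : φ w' ^ i = 1
        · rw [hi, hc1, mul_one]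
          exact hk
        exfalso
        let ψ : K → K := fun s =>
          ⟨(s : Γ)⁻¹ * (φ w' ^ i * s * (φ w' ^ i)⁻¹),
            K.mul_mem (K.inv_mem s.2) (hKn.conj_mem _ s.2 _)⟩
        have hψ : Function.Injective ψ := by
          intro s₁ s₂ h
          have h' : (s₁ : Γ)⁻¹ * (φ w' ^ i * s₁ * (φ w' ^ i)⁻¹) =
              (s₂ : Γ)⁻¹ * (φ w' ^ i * s₂ * (φ w' ^ i)⁻¹) := congrArg Subtype.val h
          have h2 : φ w' ^ i * ((s₂ : Γ) * (s₁ : Γ)⁻¹) = (s₂ : Γ) * (s₁ : Γ)⁻¹ * φ w' ^ i := by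
            have h3 : (s₁ : Γ)⁻¹ * φ w' ^ i * s₁ = (s₂ : Γ)⁻¹ * φ w' ^ i * s₂ := by
              have := congrArg (fun t => t * φ w' ^ i) h'
              simpa [mul_assoc] using this
            calc φ w' ^ i * ((s₂ : Γ) * (s₁ : Γ)⁻¹)
                = s₂ * ((s₂ : Γ)⁻¹ * φ w' ^ i * s₂) * (s₁ : Γ)⁻¹ := by group
              _ = s₂ * ((s₁ : Γ)⁻¹ * φ w' ^ i * s₁) * (s₁ : Γ)⁻¹ := by rw [h3]
              _ = (s₂ : Γ) * (s₁ : Γ)⁻¹ * φ w' ^ i := by group
          have h4 := hfpf i hc1 _ (K.mul_mem s₂.2 (K.inv_mem s₁.2)) h2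
          exact Subtype.ext (mul_inv_eq_one.1 h4).symm
        have : Finite K := inferInstance
        obtain ⟨s, hs⟩ := (Finite.injective_iff_surjective.1 hψ) ⟨k, hk⟩
        have hs' : (s : Γ)⁻¹ * (φ w' ^ i * s * (φ w' ^ i)⁻¹) = k := congrArg Subtype.val hs
        obtain ⟨s', hs'eq⟩ := hKr s.2
        have e1 : φ x = φ (s'⁻¹ * w' ^ i * s') := by
          rw [map_mul, map_mul, map_inv, map_zpow, hs'eq, hi, ← hs']
          group
        have e2 := hφ e1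
        apply hx s'⁻¹
        rw [hconjmem]
        exact ⟨i, by rw [e2, inv_inv]⟩
  · refine ⟨⟨fun a b => ?_⟩⟩
    apply Subtype.ext
    apply hφ
    have := hKab (φ a) a.2 (φ b) b.2
    simpa using this
  · intro a ha
    apply hφ
    rw [map_pow, map_one]
    exact hKp _ ha

end RelCent3

end Cfsg.Agent.Lib.helper68
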