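import Cfsg.Agent.Lib.helper68.RelCent3

set_option autoImplicit false

namespace Cfsg.Agent.Lib.helper68

open Subgroup
open scoped Pointwise

section RelCent4

variable {G : Type*} [Group G]

/-- elements commuting with `x` modulo a normal subgroup `Z` -/
def starCZ (Z : Subgroup G) [Z.Normal] (x : G) : Subgroup G :=
  (cz ((x : G) : G ⧸ Z)).comap (QuotientGroup.mk' Z)

lemma mem_starCZ' {Z : Subgroup G} [Z.Normal] {x g : G} : g ∈ starCZ Z x ↔
    (g : G ⧸ Z) * (x : G ⧸ Z) = (x : G ⧸ Z) * (g : G ⧸ Z) := by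
  unfold starCZ
  rw [Subgroup.mem_comap, mem_cz]
  rfl

lemma mem_starCZ {Z : Subgroup G} [Z.Normal] {x g : G} :
    g ∈ starCZ Z x ↔ g * x * g⁻¹ * x⁻¹ ∈ Z := by
  rw [mem_starCZ', ← QuotientGroup.eq_one_iff]
  simp only [QuotientGroup.mk_mul, QuotientGroup.mk_inv]
  rw [mul_inv_eq_one, mul_inv_eq_iff_eq_mul]

lemma cz_le_starCZ (Z : Subgroup G) [Z.Normal] (x : G) : cz x ≤ starCZ Z x := by
  intro g hg
  rw [mem_starCZ']
  have := mem_cz.1 hg
  rw [← QuotientGroup.mk_mul, ← QuotientGroup.mk_mul, this]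

lemma starCZ_eq_top_of_mem {Z : Subgroup G} [Z.Normal] {x : G} (hx : x ∈ Z) :
    starCZ Z x = ⊤ := by
  rw [eq_top_iff]
  intro g _
  rw [mem_starCZ', (QuotientGroup.eq_one_iff x).2 hx]
  simp

/-- the centre of `N` as a subgroup of `G` -/
abbrev zN (N : Subgroup G) : Subgroup G := N ⊓ Subgroup.centralizer (N : Set G)

instance zN_normal (N : Subgroup G) [N.Normal] : (zN N).Normal :=
  Subgroup.normal_inf_normal _ _

lemma mem_center_subtype_iff (N : Subgroup G) (n' : N) :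
    n' ∈ center N ↔ (n' : G) ∈ zN N := by
  rw [Subgroup.mem_center_iff]
  constructor
  · intro hc
    refine Subgroup.mem_inf.2 ⟨n'.2, Subgroup.mem_centralizer_iff.2 ?_⟩
    intro m hm
    exact congrArg Subtype.val (hc ⟨m, hm⟩)
  · intro hz g
    apply Subtype.ext
    exact (Subgroup.mem_centralizer_iff.1 hz.2) g g.2

lemma rel_core {N : Subgroup G} [N.Normal]
    (h : ∀ x ∈ N, x ∉ Subgroup.centralizer (N : Set G) → IsCoatom (cz x))
    {x a : G} (hxN : x ∈ N) (hxZ : x ∉ zN N) (hxs : starCZ (zN N) x ≠ ⊤)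
    (haN : a ∈ N) (haZ : a ∉ zN N) (has : starCZ (zN N) a = ⊤) : cz x = cz a := by
  have hxco := h x hxN (fun hc => hxZ ⟨hxN, hc⟩)
  have haco := h a haN (fun hc => haZ ⟨haN, hc⟩)
  have hstar : starCZ (zN N) x = cz x := by
    rcases hxco.le_iff.1 (cz_le_starCZ (zN N) x) with h1 | h1
    · exact absurd h1 hxs
    · exact h1
  have hac' : ∀ g : G, (g : G ⧸ zN N) * (a : G ⧸ zN N) =
      (a : G ⧸ zN N) * (g : G ⧸ zN N) := by
    intro g
    have : g ∈ starCZ (zN N) a := by rw [has]; trivial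
    exact mem_starCZ'.1 this
  have hy : x * a ∉ zN N := by
    intro hyZ
    apply hxs
    rw [eq_top_iff]
    intro g _
    rw [mem_starCZ']
    have h1 : ((x * a : G) : G ⧸ zN N) = 1 := (QuotientGroup.eq_one_iff _).2 hyZ
    have h2 : (x : G ⧸ zN N) = (a : G ⧸ zN N)⁻¹ := by
      rw [QuotientGroup.mk_mul] at h1
      exact eq_inv_of_mul_eq_one_left h1
    rw [h2]
    have hc : Commute (g : G ⧸ zN N) (a : G ⧸ zN N) := hac' g
    exact hc.inv_right.eq
  have hyN : x * a ∈ N := N.mul_mem hxN haN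
  have hyco := h (x * a) hyN (fun hc => hy ⟨hyN, hc⟩)
  have hle1 : cz (x * a) ≤ cz x := by
    intro g hg
    rw [← hstar, mem_starCZ']
    have e := mem_cz.1 hg
    have e' : (g : G ⧸ zN N) * ((x : G ⧸ zN N) * (a : G ⧸ zN N)) =
        (x : G ⧸ zN N) * (a : G ⧸ zN N) * (g : G ⧸ zN N) := by
      have e0 := congrArg (fun t : G => (t : G ⧸ zN N)) e
      simp only [QuotientGroup.mk_mul] at e0
      exact e0
    have e2 : (g : G ⧸ zN N) * (x : G ⧸ zN N) * (a : G ⧸ zN N) =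
        (x : G ⧸ zN N) * (g : G ⧸ zN N) * (a : G ⧸ zN N) := by
      rw [mul_assoc, e', mul_assoc, mul_assoc, hac' g]
    exact mul_right_cancel e2
  have hle2 : cz (x * a) ≤ cz a := by
    intro g hg
    have hgx := mem_cz.1 (hle1 hg)
    have e := mem_cz.1 hg
    rw [mem_cz]
    apply mul_left_cancel (a := x)
    calc x * (g * a) = (x * g) * a := by group
      _ = g * x * a := by rw [hgx]
      _ = g * (x * a) := by group
      _ = x * a * g := e
      _ = x * (a * g) := by group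
  have h1 : cz (x * a) = cz x := by
    rcases hyco.le_iff.1 hle1 with h2 | h2
    · exact absurd h2 hxco.1
    · exact h2.symm
  have h2 : cz (x * a) = cz a := by
    rcases hyco.le_iff.1 hle2 with h3 | h3
    · exact absurd h3 haco.1
    · exact h3.symm
  rw [← h1, h2]

theorem rel_caseI_all {N : Subgroup G} [N.Normal]
    (h : ∀ x ∈ N, x ∉ Subgroup.centralizer (N : Set G) → IsCoatom (cz x))
    {a : G} (haN : a ∈ N) (haZ : a ∉ zN N) (has : starCZ (zN N) a = ⊤) :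
    ∀ x ∈ N, starCZ (zN N) x = ⊤ := by
  intro x hxN
  by_contra hxs
  have hxZ : x ∉ zN N := fun hx => hxs (starCZ_eq_top_of_mem hx)
  have hcxa := rel_core h hxN hxZ hxs haN haZ has
  apply hxZ
  refine Subgroup.mem_inf.2 ⟨hxN, Subgroup.mem_centralizer_iff.2 ?_⟩
  intro n hn
  have hnx : n ∈ cz x := by
    by_cases hnZ : n ∈ zN N
    · rw [mem_cz]
      exact ((Subgroup.mem_centralizer_iff.1 hnZ.2) x hxN).symm
    · by_cases hns : starCZ (zN N) n = ⊤
      · rw [rel_core h hxN hxZ hxs hn hnZ hns]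
        exact self_mem_cz n
      · rw [hcxa, ← rel_core h hn hnZ hns haN haZ has]
        exact self_mem_cz n
  exact mem_cz.1 hnx

theorem rel_caseI_comm {N : Subgroup G} [N.Normal]
    (hall : ∀ x ∈ N, starCZ (zN N) x = ⊤) {x y : G} (_hx : x ∈ N) (hy : y ∈ N) :
    x * y * x⁻¹ * y⁻¹ ∈ zN N := by
  have : x ∈ starCZ (zN N) y := by rw [hall y hy]; trivial
  exact mem_starCZ.1 this

theorem rel_caseI_pow [Finite G] {N : Subgroup G} [N.Normal]
    (h : ∀ x ∈ N, x ∉ Subgroup.centralizer (N : Set G) → IsCoatom (cz x))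
    (hall : ∀ x ∈ N, starCZ (zN N) x = ⊤) {x : G} (hxN : x ∈ N) (hxZ : x ∉ zN N) :
    ∃ r : ℕ, r.Prime ∧ x ^ r ∈ zN N := by
  have hxc : x ∉ Subgroup.centralizer (N : Set G) := fun hc => hxZ ⟨hxN, hc⟩
  have hxco := h x hxN hxc
  obtain ⟨n₀, hn₀N, hn₀⟩ : ∃ n₀ ∈ N, n₀ * x ≠ x * n₀ := by
    by_contra hcon
    simp only [not_exists, not_and, not_not] at hcon
    exact hxc (Subgroup.mem_centralizer_iff.2 hcon)
  have hZc : ∀ z ∈ zN N, ∀ n ∈ N, n * z = z * n :=
    fun z hz n hn => (Subgroup.mem_centralizer_iff.1 hz.2) n hn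
  have hpow : ∀ n ∈ N, ∀ c, c = n * x * n⁻¹ * x⁻¹ → ∀ k : ℕ,
      n ^ k * x * (n ^ k)⁻¹ = c ^ k * x := by
    intro n hn c hc k
    have hcZ : c ∈ zN N := hc ▸ rel_caseI_comm hall hn hxN
    have hcn := hZc c hcZ n hn
    have hnx : n * x * n⁻¹ = c * x := by rw [hc]; group
    induction k with
    | zero => simp
    | succ k ih =>
      calc n ^ (k + 1) * x * (n ^ (k + 1))⁻¹ = n * (n ^ k * x * (n ^ k)⁻¹) * n⁻¹ := by
            rw [pow_succ']; group
        _ = n * (c ^ k * x) * n⁻¹ := by rw [ih]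
        _ = (n * c ^ k) * x * n⁻¹ := by group
        _ = (c ^ k * n) * x * n⁻¹ := by
            rw [(Commute.pow_right (show Commute n c from hcn) k).eq]
        _ = c ^ k * (n * x * n⁻¹) := by group
        _ = c ^ k * (c * x) := by rw [hnx]
        _ = c ^ (k + 1) * x := by rw [pow_succ]; group
  obtain ⟨c₀, hc₀⟩ : ∃ c₀, c₀ = n₀ * x * n₀⁻¹ * x⁻¹ := ⟨_, rfl⟩
  have hc₀Z : c₀ ∈ zN N := hc₀ ▸ rel_caseI_comm hall hn₀N hxN
  have hc₀1 : c₀ ≠ 1 := by
    intro h1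
    apply hn₀
    rw [h1] at hc₀
    have h2 : n₀ * x * n₀⁻¹ = x := (mul_inv_eq_one.1 hc₀.symm)
    exact mul_inv_eq_iff_eq_mul.1 h2
  have ho : orderOf c₀ ≠ 1 := fun h => hc₀1 (orderOf_eq_one_iff.1 h)
  obtain ⟨r, hr, hrd⟩ := Nat.exists_prime_and_dvd ho
  refine ⟨r, hr, ?_⟩
  obtain ⟨c₁, hc₁⟩ : ∃ c₁, c₁ = c₀ ^ (orderOf c₀ / r) := ⟨_, rfl⟩
  have hdiv0 : orderOf c₀ / r ≠ 0 := by
    have := Nat.div_pos (Nat.le_of_dvd (orderOf_pos c₀) hrd) hr.pos
    omega
  have hc₁o : orderOf c₁ = r := by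
    rw [hc₁, orderOf_pow_of_dvd hdiv0 (Nat.div_dvd_of_dvd hrd)]
    exact Nat.div_div_self hrd (orderOf_pos c₀).ne'
  have hc₁1 : c₁ ≠ 1 := by
    intro h1
    rw [h1, orderOf_one] at hc₁o
    exact hr.one_lt.ne hc₁o
  have hc₁r : c₁ ^ r = 1 := by
    rw [← hc₁o]
    exact pow_orderOf_eq_one c₁
  have hc₁Z : c₁ ∈ zN N := hc₁ ▸ (zN N).pow_mem hc₀Z _
  obtain ⟨n₁, hn₁⟩ : ∃ n₁, n₁ = n₀ ^ (orderOf c₀ / r) := ⟨_, rfl⟩
  have hn₁N : n₁ ∈ N := hn₁ ▸ N.pow_mem hn₀N _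
  have hn₁x : n₁ * x * n₁⁻¹ = c₁ * x := by
    rw [hn₁, hc₁]
    exact hpow n₀ hn₀N c₀ hc₀ _
  have hxc₁ : x * c₁ = c₁ * x := hZc c₁ hc₁Z x hxN
  have hn₁xr : n₁ * x ^ r * n₁⁻¹ = x ^ r := by
    rw [← conj_pow, hn₁x, (show Commute c₁ x from hxc₁.symm).mul_pow, hc₁r, one_mul]
  have hn₁cz : n₁ ∈ cz (x ^ r) := mem_cz.2 (mul_inv_eq_iff_eq_mul.1 hn₁xr)
  have hn₁not : n₁ ∉ cz x := by
    intro hmem
    apply hc₁1
    have h3 : n₁ * x * n₁⁻¹ = x := by
      rw [mem_cz.1 hmem]; group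
    rw [h3] at hn₁x
    exact (mul_eq_right.1 hn₁x.symm)
  by_contra hxr
  have hxrN : x ^ r ∈ N := N.pow_mem hxN r
  have hxrco := h (x ^ r) hxrN (fun hc => hxr ⟨hxrN, hc⟩)
  rcases hxco.le_iff.1 (cz_le_cz_pow x r) with h4 | h4
  · exact hxrco.1 h4
  · rw [h4] at hn₁cz
    exact hn₁not hn₁cz

theorem rel_caseI_elementary [Finite G] {N : Subgroup G} [N.Normal]
    (h : ∀ x ∈ N, x ∉ Subgroup.centralizer (N : Set G) → IsCoatom (cz x))
    {a : G} (haN : a ∈ N) (haZ : a ∉ zN N) (has : starCZ (zN N) a = ⊤) :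
    ∃ p : ℕ, p.Prime ∧
      Cfsg.IsElementaryAbelian p (⊤ : Subgroup (↥N ⧸ Subgroup.center ↥N)) := by
  have hall := rel_caseI_all h haN haZ has
  have hcomm : ∀ q₁ q₂ : N ⧸ center N, q₁ * q₂ = q₂ * q₁ := by
    intro q₁ q₂
    obtain ⟨x, rfl⟩ := QuotientGroup.mk_surjective q₁
    obtain ⟨y, rfl⟩ := QuotientGroup.mk_surjective q₂
    have h1 : x * y * x⁻¹ * y⁻¹ ∈ center N := by
      rw [mem_center_subtype_iff]
      have := rel_caseI_comm hall x.2 y.2
      simpa using this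
    have := (QuotientGroup.eq_one_iff _).2 h1
    simp only [QuotientGroup.mk_mul, QuotientGroup.mk_inv] at this
    rw [mul_inv_eq_one, mul_inv_eq_iff_eq_mul] at this
    exact this
  have hord : ∀ q : N ⧸ center N, q ≠ 1 → (orderOf q).Prime := by
    intro q hq
    obtain ⟨x, rfl⟩ := QuotientGroup.mk_surjective q
    have hx : (x : G) ∉ zN N :=
      fun hx => hq ((QuotientGroup.eq_one_iff x).2 ((mem_center_subtype_iff N x).2 hx))
    obtain ⟨r, hr, hxr⟩ := rel_caseI_pow h hall x.2 hx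
    have hpow : (x : N ⧸ center N) ^ r = 1 := by
      rw [← QuotientGroup.mk_pow]
      exact (QuotientGroup.eq_one_iff _).2 ((mem_center_subtype_iff N _).2 (by simpa using hxr))
    have := orderOf_dvd_of_pow_eq_one hpow
    rcases (Nat.dvd_prime hr).1 this with h1 | h1
    · exact absurd (orderOf_eq_one_iff.1 h1) hq
    · rw [h1]
      exact hr
  obtain ⟨p, hp, hpp⟩ := exists_prime_exponent_of_comm hcomm hord
  exact ⟨p, hp, ⟨⟨fun a b => Subtype.ext (hcomm a.1 b.1)⟩⟩, fun a _ => hpp a⟩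

theorem rel_caseII [Finite G] {N : Subgroup G} [hN : N.Normal]
    (h : ∀ x ∈ N, x ∉ Subgroup.centralizer (N : Set G) → IsCoatom (cz x))
    (hNZ : ¬ N ≤ zN N) (hII : ∀ a ∈ N, a ∉ zN N → starCZ (zN N) a ≠ ⊤) :
    ∃ (Q K : Subgroup (↥N ⧸ Subgroup.center ↥N)) (p : ℕ), p.Prime ∧
      Cfsg.IsFrobeniusComplement Q ∧ (Nat.card ↥Q).Prime ∧ K.Normal ∧
      (K : Set (↥N ⧸ Subgroup.center ↥N)) = Cfsg.frobeniusKernel Q ∧
      Cfsg.IsElementaryAbelian p K := by
  obtain ⟨π, hπ⟩ : ∃ π : G →* G ⧸ zN N, π = QuotientGroup.mk' (zN N) := ⟨_, rfl⟩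
  have hπmk : ∀ g : G, π g = (g : G ⧸ zN N) := fun g => by rw [hπ]; rfl
  have hπs : Function.Surjective π := hπ ▸ QuotientGroup.mk'_surjective _
  have hNbn : (N.map π).Normal := hN.map π hπs
  have hstar : ∀ x ∈ N, x ∉ zN N → starCZ (zN N) x = cz x := by
    intro x hx hxZ
    rcases (h x hx (fun hc => hxZ ⟨hx, hc⟩)).le_iff.1 (cz_le_starCZ (zN N) x) with h1 | h1
    · exact absurd h1 (hII x hx hxZ)
    · exact h1
  have h1' : ∀ xb ∈ N.map π, xb ≠ 1 → IsCoatom (cz xb) := by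
    intro xb hxb hxb1
    obtain ⟨x, hx, rfl⟩ := Subgroup.mem_map.1 hxb
    rw [hπmk] at hxb1 ⊢
    have hxZ : x ∉ zN N := fun hxZ => hxb1 ((QuotientGroup.eq_one_iff x).2 hxZ)
    have hxco := h x hx (fun hc => hxZ ⟨hx, hc⟩)
    have hs := hstar x hx hxZ
    constructor
    · intro htop
      apply hII x hx hxZ
      unfold starCZ
      rw [htop, Subgroup.comap_top]
    · intro L hL
      have h3 : starCZ (zN N) x < L.comap (QuotientGroup.mk' (zN N)) := by
        unfold starCZ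
        exact (Subgroup.comap_lt_comap_of_surjective (QuotientGroup.mk'_surjective _)).2 hL
      rw [hs] at h3
      have h4 := hxco.2 _ h3
      apply Subgroup.comap_injective (QuotientGroup.mk'_surjective (zN N))
      rw [h4, Subgroup.comap_top]
  have h2' : ∀ zb ∈ N.map π, (∀ nb ∈ N.map π, nb * zb = zb * nb) → zb = 1 := by
    intro zb hzb hcomm
    obtain ⟨z, hz, rfl⟩ := Subgroup.mem_map.1 hzb
    by_contra hne
    rw [hπmk] at hne
    have hzZ : z ∉ zN N := fun hzZ => hne ((QuotientGroup.eq_one_iff z).2 hzZ)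
    have hs := hstar z hz hzZ
    apply hzZ
    refine Subgroup.mem_inf.2 ⟨hz, Subgroup.mem_centralizer_iff.2 ?_⟩
    intro n hn
    have hn' : n ∈ starCZ (zN N) z := by
      rw [mem_starCZ']
      have := hcomm (π n) (Subgroup.mem_map_of_mem π hn)
      rw [hπmk, hπmk] at this
      exact this
    rw [hs] at hn'
    exact mem_cz.1 hn'
  have hNb : N.map π ≠ ⊥ := by
    intro hbot
    apply hNZ
    intro n hn
    have : π n ∈ N.map π := Subgroup.mem_map_of_mem π hn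
    rw [hbot, Subgroup.mem_bot, hπmk] at this
    exact (QuotientGroup.eq_one_iff n).1 this
  obtain ⟨K, w, p, q, hp, hq, hKn, hKN, hKbot, hKab, hKp, hwN, hw1, hwq, hwK, hdec, hfpf⟩ :=
    rel_frobenius_data h1' h2' hNb
  obtain ⟨φ, hφmk⟩ : ∃ φ : N ⧸ center N →* G ⧸ zN N,
      ∀ n' : N, φ (n' : N ⧸ center N) = π (n' : G) := by
    refine ⟨QuotientGroup.lift (center N) (π.comp N.subtype) ?_, fun n' => rfl⟩
    intro n' hn'
    rw [MonoidHom.mem_ker, MonoidHom.comp_apply, Subgroup.subtype_apply, hπmk]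
    exact (QuotientGroup.eq_one_iff _).2 ((mem_center_subtype_iff N n').1 hn')
  have hφinj : Function.Injective φ := by
    rw [injective_iff_map_eq_one]
    intro q hq
    obtain ⟨n', rfl⟩ := QuotientGroup.mk_surjective q
    rw [hφmk, hπmk] at hq
    exact (QuotientGroup.eq_one_iff n').2
      ((mem_center_subtype_iff N n').2 ((QuotientGroup.eq_one_iff _).1 hq))
  have hφrange : φ.range = N.map π := by
    ext y
    constructor
    · rintro ⟨q, rfl⟩
      obtain ⟨n', rfl⟩ := QuotientGroup.mk_surjective q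
      rw [hφmk]
      exact Subgroup.mem_map_of_mem π n'.2
    · intro hy
      obtain ⟨n, hn, rfl⟩ := Subgroup.mem_map.1 hy
      exact ⟨((⟨n, hn⟩ : N) : N ⧸ center N), hφmk ⟨n, hn⟩⟩
  exact frobenius_of_data φ hφinj K w p q hp hq hKn (hφrange ▸ hKN) hKbot hKab hKp
    (hφrange ▸ hwN) hw1 hwq hwK (by rw [hφrange]; exact hdec) hfpf

/-- **S3905.** -/
theorem rel_main [Finite G] (N : Subgroup G) [N.Normal]
    (h : ∀ x : G, x ∈ N → x ∉ Subgroup.centralizer (N : Set G) →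
      IsCoatom (Subgroup.centralizer ({x} : Set G))) :
    (∃ p : ℕ, p.Prime ∧
      Cfsg.IsElementaryAbelian p (⊤ : Subgroup (↥N ⧸ Subgroup.center ↥N))) ∨
    (∃ (Q K : Subgroup (↥N ⧸ Subgroup.center ↥N)) (p : ℕ), p.Prime ∧
      Cfsg.IsFrobeniusComplement Q ∧ (Nat.card ↥Q).Prime ∧ K.Normal ∧
      (K : Set (↥N ⧸ Subgroup.center ↥N)) = Cfsg.frobeniusKernel Q ∧
      Cfsg.IsElementaryAbelian p K) := by
  by_cases hNZ : N ≤ zN N
  · left
    have hall : ∀ q : N ⧸ center N, q = 1 := by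
      intro q
      obtain ⟨n', rfl⟩ := QuotientGroup.mk_surjective q
      exact (QuotientGroup.eq_one_iff n').2 ((mem_center_subtype_iff N n').2 (hNZ n'.2))
    refine ⟨2, Nat.prime_two, ⟨⟨fun a b => ?_⟩⟩, fun a _ => ?_⟩
    · have hab : a = b := Subtype.ext ((hall a.1).trans (hall b.1).symm)
      rw [hab]
    · rw [hall a, one_pow]
  by_cases hI : ∃ a ∈ N, a ∉ zN N ∧ starCZ (zN N) a = ⊤
  · left
    obtain ⟨a, haN, haZ, has⟩ := hI
    exact rel_caseI_elementary h haN haZ has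
  · right
    simp only [not_exists, not_and] at hI
    exact rel_caseII h hNZ hI

end RelCent4

end Cfsg.Agent.Lib.helper68
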