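import Mathlib
import Cfsg.Agent.Lib.helper26.S4409Defs

/-!
S4409 piece G3 (racer copy by helper68): `C_X(H) ≤ X'` when `[X, H] = X`, for a 2-group `X`
normalized by a subgroup `H` of odd order.  Transfer-type product
`τ y = ∏_{h ∈ H} [h y h⁻¹]` in the abelianization of `X`.
-/

set_option autoImplicit false

namespace Cfsg.Agent.Lib.helper26.S4409

open scoped commutatorElement

variable {G : Type*} [Group G]

/-- conjugation by an element of the normalizer, as an endomorphism of `↥X`. -/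
noncomputable def h68_conjHom (X : Subgroup G) (h : G)
    (hh : h ∈ Subgroup.normalizer (X : Set G)) : ↥X →* ↥X where
  toFun y := ⟨h * (y : G) * h⁻¹, (Subgroup.mem_normalizer_iff.mp hh (y : G)).mp y.2⟩
  map_one' := by ext; simp
  map_mul' a b := by ext; simp [mul_assoc]

theorem h68_g3 [Finite G] (X H : Subgroup G) (hX : IsPGroup 2 ↥X)
    (hH : H ≤ Subgroup.normalizer (X : Set G)) (hodd : (Nat.card ↥H).Coprime 2)
    (hXH : ⁅X, H⁆ = X) (w : G) (hw : w ∈ X) (hc : ∀ h ∈ H, h * w = w * h) : w ∈ ⁅X, X⁆ := by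
  classical
  have : Fintype ↥H := Fintype.ofFinite _
  -- the product hom
  let τ : ↥X →* Abelianization ↥X :=
    ∏ h : ↥H, (Abelianization.of).comp (h68_conjHom X (h : G) (hH h.2))
  have hτ : ∀ y : ↥X, τ y = ∏ h : ↥H, Abelianization.of (h68_conjHom X (h : G) (hH h.2) y) := by
    intro y
    simp [τ]
  -- invariance under conjugation by H
  have hinv : ∀ (h₀ : ↥H) (y : ↥X), τ (h68_conjHom X (h₀ : G) (hH h₀.2) y) = τ y := by
    intro h₀ y
    rw [hτ, hτ]
    refine Fintype.prod_equiv (Equiv.mulRight h₀) _ _ ?_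
    intro h
    congr 1
    ext
    simp [h68_conjHom, mul_assoc]
  -- the kernel contains X (via generators of ⁅X, H⁆)
  have hker : X ≤ (τ.ker).map X.subtype := by
    conv_lhs => rw [← hXH]
    rw [Subgroup.commutator_le]
    intro x hx h hh
    have hxh : ⁅x, h⁆ ∈ X := by
      rw [commutatorElement_def]
      have := (Subgroup.mem_normalizer_iff.mp (hH hh) x⁻¹).mp (X.inv_mem hx)
      have h2 : x * h * x⁻¹ * h⁻¹ = x * (h * x⁻¹ * h⁻¹) := by group
      rw [h2]
      exact X.mul_mem hx this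
    refine ⟨⟨⁅x, h⁆, hxh⟩, ?_, rfl⟩
    rw [SetLike.mem_coe, MonoidHom.mem_ker]
    have e : (⟨⁅x, h⁆, hxh⟩ : ↥X) =
        ⟨x, hx⟩ * h68_conjHom X h (hH hh) (⟨x, hx⟩⁻¹) := by
      ext
      simp [h68_conjHom, commutatorElement_def, mul_assoc]
    rw [e, map_mul, hinv ⟨h, hh⟩, ← map_mul, mul_inv_cancel, map_one]
  -- τ w = of(w)^|H|
  have hwk : (⟨w, hw⟩ : ↥X) ∈ τ.ker := by
    obtain ⟨y, hy, hyw⟩ := hker hw
    have : y = ⟨w, hw⟩ := Subtype.ext hyw
    rw [← this]; exact hy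
  have hτw : τ ⟨w, hw⟩ = (Abelianization.of (⟨w, hw⟩ : ↥X)) ^ Nat.card ↥H := by
    rw [hτ]
    have : ∀ h : ↥H, h68_conjHom X (h : G) (hH h.2) ⟨w, hw⟩ = ⟨w, hw⟩ := by
      intro h
      ext
      simp only [h68_conjHom, MonoidHom.coe_mk, OneHom.coe_mk]
      rw [hc h h.2]; group
    simp only [this, Finset.prod_const, Finset.card_univ, Nat.card_eq_fintype_card]
  have h1 : (Abelianization.of (⟨w, hw⟩ : ↥X)) ^ Nat.card ↥H = 1 := by
    rw [← hτw]; exact MonoidHom.mem_ker.mp hwk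
  -- order of of(w) is a power of 2 and divides |H|
  obtain ⟨k, hk⟩ := hX ⟨w, hw⟩
  have h2 : (Abelianization.of (⟨w, hw⟩ : ↥X)) ^ (2 ^ k) = 1 := by
    rw [← map_pow, hk, map_one]
  have hd1 := orderOf_dvd_of_pow_eq_one h1
  have hd2 := orderOf_dvd_of_pow_eq_one h2
  have hcop : (Nat.card ↥H).Coprime (2 ^ k) := Nat.Coprime.pow_right k hodd
  have ho : orderOf (Abelianization.of (⟨w, hw⟩ : ↥X)) = 1 :=
    Nat.eq_one_of_dvd_coprimes hcop hd1 hd2
  have hof : Abelianization.of (⟨w, hw⟩ : ↥X) = 1 := orderOf_eq_one_iff.mp ho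
  have hwc : (⟨w, hw⟩ : ↥X) ∈ _root_.commutator ↥X := by
    rw [← Abelianization.ker_of]
    exact MonoidHom.mem_ker.mpr hof
  have := Subgroup.mem_map_of_mem X.subtype hwc
  rw [Subgroup.map_subtype_commutator] at this
  simpa using this

end Cfsg.Agent.Lib.helper26.S4409
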