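import Mathlib
import Cfsg.Agent.Lib.helper9.Srg77Defs

/-!
S0429 piece G1: a vertex outside a 21-coclique of an SRG(77,16,0,4) has exactly 6 neighbours in it.
-/

set_option autoImplicit false

namespace Cfsg.Agent.Lib.helper68

open Finset Cfsg.Agent.Lib.helper9

variable {V : Type*} [Fintype V] [DecidableEq V] {G : SimpleGraph V} [DecidableRel G.Adj]

theorem coclique_nbr_card (h : Srg77 G) {C : Finset V} (hC : C ∈ cocl G) {v : V} (hv : v ∉ C) :
    (nbr G v ∩ C).card = 6 := by
  obtain ⟨hco, hcard⟩ := mem_cocl.1 hC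
  have hzero : ∀ u ∈ C, (nbr G u ∩ C).card = 0 := by
    intro u hu
    rw [Finset.card_eq_zero, Finset.eq_empty_iff_forall_notMem]
    intro w hw
    rw [Finset.mem_inter, mem_nbr] at hw
    exact hco u hu w hw.2 hw.1
  have h1 : ∑ u ∈ (Finset.univ : Finset V), (nbr G u ∩ C).card = 336 := by
    rw [sum_card_nbr_inter]
    have h16 : ∀ w ∈ C, (nbr G w ∩ Finset.univ).card = 16 := by
      intro w _
      rw [Finset.inter_univ, h.deg]
    rw [Finset.sum_congr rfl h16, Finset.sum_const, hcard]
    rfl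
  have h2 : ∑ u ∈ (Finset.univ : Finset V), (nbr G u ∩ C).card * (nbr G u ∩ C).card = 2016 := by
    rw [sum_card_mul_card]
    have hin : ∀ w ∈ C, ∑ w' ∈ C, (nbr G w ∩ nbr G w' ∩ Finset.univ).card = 96 := by
      intro w hw
      have h3 : ∀ w' ∈ C, (nbr G w ∩ nbr G w' ∩ Finset.univ).card
          = 4 + (if w = w' then 12 else 0) := by
        intro w' hw'
        rw [Finset.inter_univ, h.card_nbr_inter_nbr]
        by_cases e : w = w'
        · rw [if_pos e, if_pos e]
        · rw [if_neg e, if_neg e, if_neg (hco w hw w' hw')]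
      rw [Finset.sum_congr rfl h3, Finset.sum_add_distrib, Finset.sum_const, hcard,
        Finset.sum_ite_eq, if_pos hw]
      rfl
    rw [Finset.sum_congr rfl hin, Finset.sum_const, hcard]
    rfl
  -- restrict to the complement of `C`
  have hsplit : ∀ f : V → ℕ, (∀ u ∈ C, f u = 0) →
      ∑ u ∈ (Finset.univ : Finset V) \ C, f u = ∑ u ∈ (Finset.univ : Finset V), f u := by
    intro f hf
    have := Finset.sum_sdiff (Finset.subset_univ C) (f := f)
    rw [Finset.sum_eq_zero hf, add_zero] at this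
    exact this
  have h1' : ∑ u ∈ (Finset.univ : Finset V) \ C, (nbr G u ∩ C).card = 336 := by
    rw [hsplit _ hzero, h1]
  have h2' : ∑ u ∈ (Finset.univ : Finset V) \ C, (nbr G u ∩ C).card * (nbr G u ∩ C).card
      = 2016 := by
    rw [hsplit _ (fun u hu => by rw [hzero u hu]), h2]
  have hcc : ((Finset.univ : Finset V) \ C).card = 56 := by
    rw [Finset.card_sdiff_of_subset (Finset.subset_univ C), Finset.card_univ, h.card, hcard]
  have hsum : ∑ u ∈ (Finset.univ : Finset V) \ C, (((nbr G u ∩ C).card : ℤ) - 6) ^ 2 = 0 := by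
    have e : ∀ u ∈ (Finset.univ : Finset V) \ C, (((nbr G u ∩ C).card : ℤ) - 6) ^ 2
        = (((nbr G u ∩ C).card * (nbr G u ∩ C).card : ℕ) : ℤ)
          - 12 * ((nbr G u ∩ C).card : ℤ) + 36 := by
      intro u _
      push_cast
      ring
    rw [Finset.sum_congr rfl e, Finset.sum_add_distrib, Finset.sum_sub_distrib,
      ← Finset.mul_sum, ← Nat.cast_sum, ← Nat.cast_sum, h1', h2', Finset.sum_const, hcc]
    norm_num
  have hv' : v ∈ (Finset.univ : Finset V) \ C := by
    rw [Finset.mem_sdiff]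
    exact ⟨Finset.mem_univ v, hv⟩
  have hz := (Finset.sum_eq_zero_iff_of_nonneg (fun u _ => sq_nonneg _)).1 hsum v hv'
  have hz' : ((nbr G v ∩ C).card : ℤ) - 6 = 0 := by
    exact pow_eq_zero_iff (n := 2) (by norm_num) |>.1 hz
  omega

end Cfsg.Agent.Lib.helper68
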