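import Mathlib
import Cfsg.Agent.Lib.helper9.Srg77Defs

/-!
S0429 piece G2: a 21-coclique of an SRG(77,16,0,4) contains the line through any two of its
vertices.
-/

set_option autoImplicit false

namespace Cfsg.Agent.Lib.helper68

open Finset Cfsg.Agent.Lib.helper9

variable {V : Type*} [Fintype V] [DecidableEq V] {G : SimpleGraph V} [DecidableRel G.Adj]

theorem line_subset_coclique (h : Srg77 G)
    (hA : ∀ x y z : V, Triad G x y z → (nbr G x ∩ nbr G y ∩ nbr G z).card ≤ 2)
    (hB : ∀ x y : V, x ≠ y → ¬ G.Adj x y → (zset G x y).card = 3)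
    (hG1 : ∀ C : Finset V, C ∈ cocl G → ∀ v : V, v ∉ C → (nbr G v ∩ C).card = 6)
    {C : Finset V} (hC : C ∈ cocl G) {x c : V} (hx : x ∈ C) (hc : c ∈ C) (hxc : x ≠ c) :
    line G x c ⊆ C := by
  obtain ⟨hco, hcard⟩ := mem_cocl.1 hC
  have hnxc : ¬ G.Adj x c := hco x hx c hc
  set D : Finset V := nbr G x ∩ nbr G c with hD
  have hDcard : D.card = 4 := h.mu x c hxc hnxc
  set S : Finset V := (C.erase x).erase c with hS
  have hcx : c ∈ C.erase x := Finset.mem_erase.2 ⟨fun e => hxc e.symm, hc⟩
  have hScard : S.card = 19 := by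
    rw [hS, Finset.card_erase_of_mem hcx, Finset.card_erase_of_mem hx, hcard]
  have hSC : S ⊆ C := fun u hu => Finset.mem_of_mem_erase (Finset.mem_of_mem_erase hu)
  -- the double count
  have hsum : ∑ u ∈ S, (nbr G u ∩ D).card = 16 := by
    rw [sum_card_nbr_inter]
    have h4 : ∀ w ∈ D, (nbr G w ∩ S).card = 4 := by
      intro w hw
      rw [hD, Finset.mem_inter, mem_nbr, mem_nbr] at hw
      have hwC : w ∉ C := fun hwC => hco x hx w hwC hw.1
      have h6 := hG1 C hC w hwC
      have e : nbr G w ∩ S = ((nbr G w ∩ C).erase x).erase c := by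
        ext u
        simp only [hS, Finset.mem_inter, Finset.mem_erase]
        tauto
      have hx' : x ∈ nbr G w ∩ C := Finset.mem_inter.2 ⟨mem_nbr.2 hw.1.symm, hx⟩
      have hc' : c ∈ (nbr G w ∩ C).erase x :=
        Finset.mem_erase.2 ⟨fun e => hxc e.symm, Finset.mem_inter.2 ⟨mem_nbr.2 hw.2.symm, hc⟩⟩
      rw [e, Finset.card_erase_of_mem hc', Finset.card_erase_of_mem hx', h6]
    rw [Finset.sum_congr rfl h4, Finset.sum_const, hDcard]
    rfl
  -- at least three vertices of `S` have no neighbour in `D`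
  set Z0 : Finset V := S.filter (fun u => (nbr G u ∩ D).card = 0) with hZ0
  have hZ1 : (S.filter (fun u => ¬ (nbr G u ∩ D).card = 0)).card ≤ 16 := by
    rw [Finset.card_filter, ← hsum]
    refine Finset.sum_le_sum fun u _ => ?_
    by_cases e : (nbr G u ∩ D).card = 0
    · rw [if_neg (not_not.2 e)]
      exact Nat.zero_le _
    · rw [if_pos e]
      exact Nat.one_le_iff_ne_zero.2 e
  have hZ0card : 3 ≤ Z0.card := by
    have := Finset.card_filter_add_card_filter_not (s := S) (fun u => (nbr G u ∩ D).card = 0)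
    rw [hScard] at this
    rw [hZ0]
    omega
  have hZ0sub : Z0 ⊆ zset G x c := by
    intro u hu
    rw [hZ0, Finset.mem_filter] at hu
    obtain ⟨huS, hu0⟩ := hu
    have huC : u ∈ C := hSC huS
    rw [hS, Finset.mem_erase, Finset.mem_erase] at huS
    rw [mem_zset]
    refine ⟨huS.2.1, huS.1, hco x hx u huC, hco c hc u huC, ?_⟩
    rw [Finset.card_eq_zero, hD] at hu0
    rw [Finset.inter_comm]
    exact hu0
  have hZeq : Z0 = zset G x c :=
    Finset.eq_of_subset_of_card_le hZ0sub (by rw [hB x c hxc hnxc]; exact hZ0card)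
  intro u hu
  rw [mem_line] at hu
  rcases hu with rfl | rfl | hu
  · exact hx
  · exact hc
  · rw [← hZeq, hZ0] at hu
    exact hSC (Finset.mem_filter.1 hu).1

end Cfsg.Agent.Lib.helper68
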