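import Mathlib

/-!
S2334 piece HSUM (racer copy by helper68): eigenvectors belonging to different characters of a
finite abelian group are linearly independent, hence `|T| * |S'| ≤ k`.
-/

set_option autoImplicit false

namespace Cfsg.Agent.Lib.helper72.SUO

theorem h68_eig_sum {G : Type*} [Group G] {A : Type*} [AddCommGroup A] [Fintype A]
    (e : A → A → ℂ) (he0 : ∀ y, e y 0 = 1) (he_add : ∀ y a b, e y (a + b) = e y a * e y b)
    (he_row : ∀ y y', y ≠ y' → ∑ a, e y a * (e y' a)⁻¹ = 0)
    (u : A → G) (hu : ∀ a b, u (a + b) = u a * u b)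
    {k : ℕ} (ρ : Representation ℂ G (Fin k → ℂ))
    {T : Type*} [Finite T] (S' : Set A)
    (v : A → T → (Fin k → ℂ))
    (hv : ∀ y ∈ S', LinearIndependent ℂ (v y) ∧ ∀ a x, ρ (u x) (v y a) = e y x • v y a) :
    Nat.card T * Nat.card S' ≤ k := by
  classical
  have : Fintype T := Fintype.ofFinite T
  have : Fintype ↥S' := Fintype.ofFinite _
  have hne : ∀ y x, e y x ≠ 0 := by
    intro y x h
    have := he_add y x (-x)
    rw [add_neg_cancel, he0, h, zero_mul] at this
    exact one_ne_zero this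
  have hli : LinearIndependent ℂ (fun i : ↥S' × T => v i.1.1 i.2) := by
    rw [Fintype.linearIndependent_iff]
    intro g hg
    rintro ⟨⟨y₀, hy₀⟩, a₀⟩
    let P : (Fin k → ℂ) →ₗ[ℂ] (Fin k → ℂ) := ∑ x : A, (e y₀ x)⁻¹ • ρ (u x)
    have hP : ∀ (y : ↥S') (a : T),
        P (v y.1 a) = (∑ x, e y.1 x * (e y₀ x)⁻¹) • v y.1 a := by
      intro y a
      simp only [P, LinearMap.sum_apply, LinearMap.smul_apply, (hv y.1 y.2).2 a, smul_smul,
        Finset.sum_smul]
      refine Finset.sum_congr rfl fun x _ => ?_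
      rw [mul_comm]
    have h1 := congrArg P hg
    rw [map_sum, map_zero, Fintype.sum_prod_type] at h1
    simp only [map_smul, hP] at h1
    rw [Finset.sum_eq_single (⟨y₀, hy₀⟩ : ↥S')] at h1
    · have hcard : (∑ x, e y₀ x * (e y₀ x)⁻¹) = (Fintype.card A : ℂ) := by
        simp [mul_inv_cancel₀ (hne y₀ _)]
      simp only [hcard, smul_smul] at h1
      have h2 := (Fintype.linearIndependent_iff.mp (hv y₀ hy₀).1)
        (fun a => g (⟨y₀, hy₀⟩, a) * (Fintype.card A : ℂ)) h1 a₀
      have hA : (Fintype.card A : ℂ) ≠ 0 := by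
        exact_mod_cast Fintype.card_ne_zero
      exact (mul_eq_zero.mp h2).resolve_right hA
    · intro y _ hy
      have h0 : (∑ x, e y.1 x * (e y₀ x)⁻¹) = 0 :=
        he_row y.1 y₀ (fun h => hy (Subtype.ext h))
      simp [h0]
    · intro h; exact absurd (Finset.mem_univ _) h
  have hcard := hli.fintype_card_le_finrank
  rw [Module.finrank_fin_fun, Fintype.card_prod] at hcard
  rw [Nat.card_eq_fintype_card, Nat.card_eq_fintype_card, mul_comm]
  exact hcard

end Cfsg.Agent.Lib.helper72.SUO
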