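import Mathlib
import Cfsg.Agent.Lib.helper68.SecA

/-!
# Conjugate configurations `(P, T = C(z), z)` with `Z(P) = ⟨z⟩`
-/

namespace Cfsg.Agent.Lib.helper68

open Subgroup

variable {S : Type*} [Group S]

/-- The conjugate subgroup `s P s⁻¹`. -/
def cj (s : S) (P : Subgroup S) : Subgroup S := P.map (MulAut.conj s).toMonoidHom

theorem mem_cj {s x : S} {P : Subgroup S} : x ∈ cj s P ↔ s⁻¹ * x * s ∈ P := by
  unfold cj
  rw [Subgroup.mem_map_equiv, MulAut.conj_symm_apply]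

theorem cj_intro {s x : S} {P : Subgroup S} (hx : x ∈ P) : s * x * s⁻¹ ∈ cj s P := by
  rw [mem_cj]
  have : s⁻¹ * (s * x * s⁻¹) * s = x := by group
  rw [this]; exact hx

theorem cj_elim {s x : S} {P : Subgroup S} (hx : x ∈ cj s P) : ∃ y ∈ P, x = s * y * s⁻¹ :=
  ⟨s⁻¹ * x * s, mem_cj.mp hx, by group⟩

theorem card_cj (s : S) (P : Subgroup S) : Nat.card (cj s P) = Nat.card P :=
  Subgroup.card_map_of_injective (MulAut.conj s).injective

theorem cj_normalizer {n : S} {T : Subgroup S} (hn : n ∈ Subgroup.normalizer (T : Set S)) :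
    cj n T = T := by
  ext x
  rw [mem_cj]
  have h1 := (Subgroup.mem_normalizer_iff.mp hn) (n⁻¹ * x * n)
  have h2 : n * (n⁻¹ * x * n) * n⁻¹ = x := by group
  rw [h2] at h1
  exact h1

/-- `x ↦ s x s⁻¹` as a homomorphism `P →* S`. -/
def cjHom (s : S) (P : Subgroup S) : ↥P →* S := (MulAut.conj s).toMonoidHom.comp P.subtype

theorem cjHom_apply (s : S) (P : Subgroup S) (x : ↥P) : cjHom s P x = s * (x : S) * s⁻¹ := rfl

theorem cjHom_mem (s : S) (P : Subgroup S) (x : ↥P) : cjHom s P x ∈ cj s P := cj_intro x.2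

theorem cjHom_eq_one (s : S) (P : Subgroup S) (x : ↥P) (h : cjHom s P x = 1) : x = 1 := by
  rw [cjHom_apply] at h
  apply Subtype.ext
  have : (x : S) = s⁻¹ * (s * (x : S) * s⁻¹) * s := by group
  rw [this, h]; simp

/-- A configuration: `Z(P) = {1, z}`, `T = C(z)`, `T` normalizes `P`, `P` non-abelian. -/
structure Cfg (P T : Subgroup S) (z : S) : Prop where
  zP : z ∈ P
  z1 : z ≠ 1
  zc : ∀ x ∈ P, z * x = x * z
  cen : ∀ x ∈ P, (∀ y ∈ P, x * y = y * x) → x = 1 ∨ x = z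
  T_eq : ∀ s : S, s ∈ T ↔ s * z = z * s
  norm : ∀ s ∈ T, ∀ x ∈ P, s * x * s⁻¹ ∈ P
  nonab : ∃ x ∈ P, ∃ y ∈ P, x * y ≠ y * x

theorem Cfg.PT {P T : Subgroup S} {z : S} (h : Cfg P T z) : P ≤ T :=
  fun x hx => (h.T_eq x).mpr (h.zc x hx).symm

theorem Cfg.zz {P T : Subgroup S} {z : S} (h : Cfg P T z) : z * z = 1 := by
  have hc : ∀ y ∈ P, z * z * y = y * (z * z) := by
    intro y hy
    have := h.zc y hy
    calc z * z * y = z * (z * y) := by group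
      _ = z * (y * z) := by rw [this]
      _ = (z * y) * z := by group
      _ = (y * z) * z := by rw [this]
      _ = y * (z * z) := by group
  rcases h.cen (z * z) (P.mul_mem h.zP h.zP) hc with h1 | h1
  · exact h1
  · exfalso; apply h.z1
    have : z * z = z * 1 := by rw [h1, mul_one]
    exact mul_left_cancel this

theorem Cfg.zinv {P T : Subgroup S} {z : S} (h : Cfg P T z) : z⁻¹ = z := by
  rw [inv_eq_iff_mul_eq_one]; exact h.zz

theorem Cfg.conj {P T : Subgroup S} {z : S} (s : S) (h : Cfg P T z) :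
    Cfg (cj s P) (cj s T) (s * z * s⁻¹) where
  zP := cj_intro h.zP
  z1 := fun h1 => h.z1 (by
    have : z = s⁻¹ * (s * z * s⁻¹) * s := by group
    rw [this, h1]; group)
  zc := by
    intro x hx
    obtain ⟨y, hy, rfl⟩ := cj_elim hx
    have := h.zc y hy
    calc s * z * s⁻¹ * (s * y * s⁻¹) = s * (z * y) * s⁻¹ := by group
      _ = s * (y * z) * s⁻¹ := by rw [this]
      _ = s * y * s⁻¹ * (s * z * s⁻¹) := by group
  cen := by
    intro x hx hxc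
    obtain ⟨y, hy, rfl⟩ := cj_elim hx
    have hyc : ∀ w ∈ P, y * w = w * y := by
      intro w hw
      have := hxc (s * w * s⁻¹) (cj_intro hw)
      have e : y * w = s⁻¹ * ((s * y * s⁻¹) * (s * w * s⁻¹)) * s := by group
      rw [e, this]; group
    rcases h.cen y hy hyc with h1 | h1
    · left; rw [h1]; group
    · right; rw [h1]
  T_eq := by
    intro t
    rw [mem_cj, h.T_eq]
    constructor
    · intro e
      calc t * (s * z * s⁻¹) = s * ((s⁻¹ * t * s) * z) * s⁻¹ := by group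
        _ = s * (z * (s⁻¹ * t * s)) * s⁻¹ := by rw [e]
        _ = s * z * s⁻¹ * t := by group
    · intro e
      calc s⁻¹ * t * s * z = s⁻¹ * (t * (s * z * s⁻¹)) * s := by group
        _ = s⁻¹ * ((s * z * s⁻¹) * t) * s := by rw [e]
        _ = z * (s⁻¹ * t * s) := by group
  norm := by
    intro t ht x hx
    obtain ⟨y, hy, rfl⟩ := cj_elim hx
    obtain ⟨u, hu, rfl⟩ := cj_elim ht
    have := h.norm u hu y hy
    have e : s * u * s⁻¹ * (s * y * s⁻¹) * (s * u * s⁻¹)⁻¹ = s * (u * y * u⁻¹) * s⁻¹ := by group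
    rw [e]; exact cj_intro this
  nonab := by
    obtain ⟨x, hx, y, hy, hxy⟩ := h.nonab
    refine ⟨s * x * s⁻¹, cj_intro hx, s * y * s⁻¹, cj_intro hy, fun e => hxy ?_⟩
    have e1 : x * y = s⁻¹ * ((s * x * s⁻¹) * (s * y * s⁻¹)) * s := by group
    rw [e1, e]; group

/-- Every nontrivial subgroup of `P` normalized by `P` contains `z`. -/
theorem Cfg.min [Finite S] (h2 : IsPGroup 2 S) {P T : Subgroup S} {z : S} (h : Cfg P T z)
    (D : Subgroup S) (hDP : D ≤ P) (hDn : ∀ x ∈ P, ∀ d ∈ D, x * d * x⁻¹ ∈ D) (hD : D ≠ ⊥) :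
    z ∈ D := by
  have hn : (D.subgroupOf P).Normal := by
    refine ⟨fun d hd x => ?_⟩
    rw [Subgroup.mem_subgroupOf] at hd ⊢
    simpa using hDn x x.2 d hd
  have hne : D.subgroupOf P ≠ ⊥ := by
    intro hbot
    apply hD
    rw [eq_bot_iff]
    intro d hd
    have h1 : (⟨d, hDP hd⟩ : P) ∈ D.subgroupOf P := by rw [Subgroup.mem_subgroupOf]; exact hd
    rw [hbot, Subgroup.mem_bot] at h1
    rw [Subgroup.mem_bot]
    exact congrArg Subtype.val h1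
  obtain ⟨w, hwD, hwc, hw1, _⟩ :=
    Cfsg.Agent.Lib.helper3.exists_central_of_normal_ne_bot (h2.to_subgroup P) (D.subgroupOf P) hne
  rw [Subgroup.mem_subgroupOf] at hwD
  have hwc' : ∀ y ∈ P, (w : S) * y = y * (w : S) := by
    intro y hy
    have h1 := Subgroup.mem_center_iff.mp hwc ⟨y, hy⟩
    have h2' := congrArg Subtype.val h1
    simpa using h2'.symm
  rcases h.cen w w.2 hwc' with h1 | h1
  · exact absurd (Subtype.ext h1) hw1
  · rw [← h1]; exact hwD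

theorem Cfg.triv_inter [Finite S] (h2 : IsPGroup 2 S) {P T : Subgroup S} {z : S} (c : Cfg P T z)
    (Q : Subgroup S) (hQn : ∀ y ∈ P, ∀ x ∈ Q, y * x * y⁻¹ ∈ Q) (hz : z ∉ Q) :
    ∀ x ∈ P, x ∈ Q → x = 1 := by
  by_contra hcon
  simp only [not_forall] at hcon
  obtain ⟨x, hx1, hx2, hx⟩ := hcon
  have hD : P ⊓ Q ≠ ⊥ := by
    intro hb
    have : x ∈ P ⊓ Q := ⟨hx1, hx2⟩
    rw [hb, Subgroup.mem_bot] at this
    exact hx this
  have h1 := c.min h2 (P ⊓ Q) inf_le_left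
    (fun y hy d hd => ⟨P.mul_mem (P.mul_mem hy hd.1) (P.inv_mem hy), hQn y hy d hd.2⟩) hD
  exact hz h1.2

theorem Cfg.disj [Finite S] (h2 : IsPGroup 2 S) {P₁ P₂ T : Subgroup S} {z₁ z₂ : S}
    (h1 : Cfg P₁ T z₁) (h2' : Cfg P₂ T z₂) (hne : z₁ ≠ z₂) : ∀ x ∈ P₁, x ∈ P₂ → x = 1 := by
  apply h1.triv_inter h2 P₂ (fun y hy x hx => h2'.norm y (h1.PT hy) x hx)
  intro hz
  rcases h2'.cen z₁ hz (fun y hy => ((h1.T_eq y).mp (h2'.PT hy)).symm) with e | e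
  · exact h1.z1 e
  · exact hne e

theorem Cfg.comm [Finite S] (h2 : IsPGroup 2 S) {P₁ P₂ T : Subgroup S} {z₁ z₂ : S}
    (h1 : Cfg P₁ T z₁) (h2' : Cfg P₂ T z₂) (hne : z₁ ≠ z₂) :
    ∀ a ∈ P₁, ∀ b ∈ P₂, a * b = b * a := by
  intro a ha b hb
  have hk1 : a * b * a⁻¹ * b⁻¹ ∈ P₁ := by
    have := h1.norm b (h2'.PT hb) a⁻¹ (P₁.inv_mem ha)
    have e : a * b * a⁻¹ * b⁻¹ = a * (b * a⁻¹ * b⁻¹) := by group
    rw [e]; exact P₁.mul_mem ha this
  have hk2 : a * b * a⁻¹ * b⁻¹ ∈ P₂ := P₂.mul_mem (h2'.norm a (h1.PT ha) b hb) (P₂.inv_mem hb)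
  have := h1.disj h2 h2' hne _ hk1 hk2
  calc a * b = (a * b * a⁻¹ * b⁻¹) * (b * a) := by group
    _ = b * a := by rw [this, one_mul]

/-- The product of two elementwise commuting subgroups. -/
def prodSub (H K : Subgroup S) (hc : ∀ a ∈ H, ∀ b ∈ K, a * b = b * a) : Subgroup S where
  carrier := {x | ∃ a ∈ H, ∃ b ∈ K, x = a * b}
  mul_mem' := by
    rintro _ _ ⟨a, ha, b, hb, rfl⟩ ⟨a', ha', b', hb', rfl⟩
    refine ⟨a * a', H.mul_mem ha ha', b * b', K.mul_mem hb hb', ?_⟩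
    have := hc a' ha' b hb
    calc a * b * (a' * b') = a * (b * a') * b' := by group
      _ = a * (a' * b) * b' := by rw [this]
      _ = a * a' * (b * b') := by group
  one_mem' := ⟨1, H.one_mem, 1, K.one_mem, by simp⟩
  inv_mem' := by
    rintro _ ⟨a, ha, b, hb, rfl⟩
    exact ⟨a⁻¹, H.inv_mem ha, b⁻¹, K.inv_mem hb,
      by rw [mul_inv_rev, hc a⁻¹ (H.inv_mem ha) b⁻¹ (K.inv_mem hb)]⟩

theorem mem_prodSub {H K : Subgroup S} {hc : ∀ a ∈ H, ∀ b ∈ K, a * b = b * a} {x : S} :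
    x ∈ prodSub H K hc ↔ ∃ a ∈ H, ∃ b ∈ K, x = a * b := Iff.rfl

theorem prodSub_norm {N T P₁ P₂ : Subgroup S}
    (hn1 : ∀ t ∈ T, ∀ a ∈ P₁, t * a * t⁻¹ ∈ P₁) (hn2 : ∀ t ∈ T, ∀ b ∈ P₂, t * b * t⁻¹ ∈ P₂)
    (sw : ∀ n ∈ N, n ∉ T → (∀ a ∈ P₁, n * a * n⁻¹ ∈ P₂) ∧ (∀ b ∈ P₂, n * b * n⁻¹ ∈ P₁))
    (hc : ∀ a ∈ P₁, ∀ b ∈ P₂, a * b = b * a) :
    ∀ n ∈ N, ∀ x ∈ prodSub P₁ P₂ hc, n * x * n⁻¹ ∈ prodSub P₁ P₂ hc := by
  rintro n hn _ ⟨a, ha, b, hb, rfl⟩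
  have e : n * (a * b) * n⁻¹ = (n * a * n⁻¹) * (n * b * n⁻¹) := by group
  by_cases hnT : n ∈ T
  · exact ⟨n * a * n⁻¹, hn1 n hnT a ha, n * b * n⁻¹, hn2 n hnT b hb, e⟩
  · obtain ⟨s1, s2⟩ := sw n hn hnT
    refine ⟨n * b * n⁻¹, s2 b hb, n * a * n⁻¹, s1 a ha, ?_⟩
    rw [e]
    exact (hc _ (s2 b hb) _ (s1 a ha)).symm

theorem cfg_swap {N T P : Subgroup S} {z : S} (c : Cfg P T z)
    (idx2 : ∀ a ∈ N, ∀ b ∈ N, a ∉ T → b ∉ T → a * b ∈ T) (g : S) (hgN : g ∈ N) (hgT : g ∉ T)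
    (n : S) (hn : n ∈ N) (hnT : n ∉ T) :
    (∀ a ∈ P, n * a * n⁻¹ ∈ cj g P) ∧ (∀ b ∈ cj g P, n * b * n⁻¹ ∈ P) := by
  have hgi : g⁻¹ ∉ T := fun h => hgT (by simpa using T.inv_mem h)
  have h1 : g⁻¹ * n ∈ T := idx2 _ (N.inv_mem hgN) n hn hgi hnT
  have h2 : n * g ∈ T := idx2 n hn g hgN hnT hgT
  constructor
  · intro a ha
    rw [mem_cj]
    have e : g⁻¹ * (n * a * n⁻¹) * g = (g⁻¹ * n) * a * (g⁻¹ * n)⁻¹ := by group
    rw [e]
    exact c.norm _ h1 a ha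
  · intro b hb
    obtain ⟨b', hb', rfl⟩ := cj_elim hb
    have e : n * (g * b' * g⁻¹) * n⁻¹ = (n * g) * b' * (n * g)⁻¹ := by group
    rw [e]
    exact c.norm _ h2 b' hb'

theorem lemX (N T T' P₃ P₄ : Subgroup S) (z₃ : S)
    (hT'N : T' ≤ N) (idx2 : ∀ a ∈ N, ∀ b ∈ N, a ∉ T → b ∉ T → a * b ∈ T)
    (c3 : Cfg P₃ T' z₃) (hP₄ : P₄ ≤ T')
    (comm : ∀ a ∈ P₃, ∀ b ∈ P₄, a * b = b * a) (disj : ∀ x ∈ P₃, x ∈ P₄ → x = 1)
    (g' : S) (sw1 : ∀ a ∈ P₃, g' * a * g'⁻¹ ∈ P₄) (sw2 : ∀ b ∈ P₄, g' * b * g'⁻¹ ∈ P₃)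
    (normT' : ∀ t ∈ T', g'⁻¹ * t * g' ∈ T')
    (t₀ : S) (ht₀ : t₀ ∈ T') (ht₀' : t₀ ∉ T)
    (zs : S) (hg'z : g' * zs = zs * g') (hzs : ∀ n ∈ N, n ∈ T ↔ n * zs = zs * n) :
    ∀ a ∈ P₃, ∀ b ∈ P₄, zs ≠ a * b := by
  intro a ha b hb hzab
  have hab' : g' * a * g'⁻¹ * (g' * b * g'⁻¹) = a * b := by
    have : g' * a * g'⁻¹ * (g' * b * g'⁻¹) = g' * (a * b) * g'⁻¹ := by group
    rw [this, ← hzab, hg'z]; group
  have hb_eq : b = g' * a * g'⁻¹ := by
    have ha' := sw1 a ha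
    have hb' := sw2 b hb
    have e1 : (g' * b * g'⁻¹) * (g' * a * g'⁻¹) = a * b := by
      rw [comm _ hb' _ ha']; exact hab'
    have e2 : a⁻¹ * (g' * b * g'⁻¹) = b * (g' * a * g'⁻¹)⁻¹ := by
      calc a⁻¹ * (g' * b * g'⁻¹)
          = a⁻¹ * ((g' * b * g'⁻¹) * (g' * a * g'⁻¹)) * (g' * a * g'⁻¹)⁻¹ := by group
        _ = a⁻¹ * (a * b) * (g' * a * g'⁻¹)⁻¹ := by rw [e1]
        _ = b * (g' * a * g'⁻¹)⁻¹ := by group
    have e3 : a⁻¹ * (g' * b * g'⁻¹) ∈ P₃ := P₃.mul_mem (P₃.inv_mem ha) hb'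
    have e4 : a⁻¹ * (g' * b * g'⁻¹) ∈ P₄ := by
      rw [e2]; exact P₄.mul_mem hb (P₄.inv_mem ha')
    have e5 := disj _ e3 e4
    rw [e5] at e2
    calc b = (b * (g' * a * g'⁻¹)⁻¹) * (g' * a * g'⁻¹) := by group
      _ = g' * a * g'⁻¹ := by rw [← e2, one_mul]
  have ht₀N : t₀ ∈ N := hT'N ht₀
  by_cases hac : ∀ y ∈ P₃, a * y = y * a
  · have ht₀z₃ : t₀ * z₃ = z₃ * t₀ := (c3.T_eq t₀).mp ht₀
    have ht₀z₄ : t₀ * (g' * z₃ * g'⁻¹) = (g' * z₃ * g'⁻¹) * t₀ := by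
      have := (c3.T_eq _).mp (normT' t₀ ht₀)
      calc t₀ * (g' * z₃ * g'⁻¹) = g' * ((g'⁻¹ * t₀ * g') * z₃) * g'⁻¹ := by group
        _ = g' * (z₃ * (g'⁻¹ * t₀ * g')) * g'⁻¹ := by rw [this]
        _ = g' * z₃ * g'⁻¹ * t₀ := by group
    apply ht₀'
    rw [hzs t₀ ht₀N, hzab, hb_eq]
    rcases c3.cen a ha hac with h1 | h1
    · rw [h1]; group
    · rw [h1]
      calc t₀ * (z₃ * (g' * z₃ * g'⁻¹)) = (t₀ * z₃) * (g' * z₃ * g'⁻¹) := by group
        _ = z₃ * (t₀ * (g' * z₃ * g'⁻¹)) := by rw [ht₀z₃]; group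
        _ = z₃ * (g' * z₃ * g'⁻¹) * t₀ := by rw [ht₀z₄]; group
  · simp only [not_forall] at hac
    obtain ⟨c, hc, hca⟩ := hac
    set d := g' * c * g'⁻¹ with hd
    have hdP : d ∈ P₄ := sw1 c hc
    have hdb : b * d ≠ d * b := by
      intro e
      apply hca
      rw [hb_eq, hd] at e
      have e' : a * c = g'⁻¹ * ((g' * a * g'⁻¹) * (g' * c * g'⁻¹)) * g' := by group
      rw [e', e]; group
    have hcN : c ∈ N := hT'N (c3.PT hc)
    have hdN : d ∈ N := hT'N (hP₄ hdP)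
    have ad := comm a ha d hdP
    have cb := comm c hc b hb
    have hcT : c ∉ T := by
      intro hcT
      have e := (hzs c hcN).mp hcT
      rw [hzab] at e
      apply hca
      have : c * a * b = a * c * b := by
        calc c * a * b = c * (a * b) := by group
          _ = a * b * c := e
          _ = a * (b * c) := by group
          _ = a * (c * b) := by rw [cb]
          _ = a * c * b := by group
      exact (mul_right_cancel this).symm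
    have hdT : d ∉ T := by
      intro hdT
      have e := (hzs d hdN).mp hdT
      rw [hzab] at e
      apply hdb
      have : a * (d * b) = a * (b * d) := by
        calc a * (d * b) = (a * d) * b := by group
          _ = (d * a) * b := by rw [ad]
          _ = d * (a * b) := by group
          _ = a * b * d := e
          _ = a * (b * d) := by group
      exact (mul_left_cancel this).symm
    have hcd := idx2 c hcN d hdN hcT hdT
    have e := (hzs (c * d) (N.mul_mem hcN hdN)).mp hcd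
    rw [hzab] at e
    have e1 : (c * a) * (d * b) = (a * c) * (b * d) := by
      calc (c * a) * (d * b) = c * (a * d) * b := by group
        _ = c * (d * a) * b := by rw [ad]
        _ = c * d * (a * b) := by group
        _ = a * b * (c * d) := e
        _ = a * (b * c) * d := by group
        _ = a * (c * b) * d := by rw [cb]
        _ = (a * c) * (b * d) := by group
    have e2 : (a * c)⁻¹ * (c * a) = (b * d) * (d * b)⁻¹ := by
      calc (a * c)⁻¹ * (c * a) = (a * c)⁻¹ * ((c * a) * (d * b)) * (d * b)⁻¹ := by group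
        _ = (a * c)⁻¹ * ((a * c) * (b * d)) * (d * b)⁻¹ := by rw [e1]
        _ = (b * d) * (d * b)⁻¹ := by group
    have e3 : (a * c)⁻¹ * (c * a) ∈ P₃ :=
      P₃.mul_mem (P₃.inv_mem (P₃.mul_mem ha hc)) (P₃.mul_mem hc ha)
    have e4 : (a * c)⁻¹ * (c * a) ∈ P₄ := by
      rw [e2]; exact P₄.mul_mem (P₄.mul_mem hb hdP) (P₄.inv_mem (P₄.mul_mem hdP hb))
    have e5 := disj _ e3 e4
    apply hca
    calc a * c = (a * c) * ((a * c)⁻¹ * (c * a)) := by rw [e5, mul_one]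
      _ = c * a := by group

theorem exists_sq_mem (h2 : IsPGroup 2 S) (T : Subgroup S) (g₀ : S) (hg₀ : g₀ ∉ T) :
    ∃ i : ℕ, g₀ ^ i ∉ T ∧ g₀ ^ i * g₀ ^ i ∈ T := by
  classical
  obtain ⟨k, hk⟩ := h2 g₀
  have hex : ∃ j : ℕ, g₀ ^ (2 ^ j) ∈ T := ⟨k, by rw [hk]; exact T.one_mem⟩
  have hj0 : Nat.find hex ≠ 0 := by
    intro h0
    have := Nat.find_spec hex
    rw [h0, pow_zero, pow_one] at this
    exact hg₀ this
  refine ⟨2 ^ (Nat.find hex - 1), Nat.find_min hex (by omega), ?_⟩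
  have := Nat.find_spec hex
  rw [← pow_add, ← two_mul, ← pow_succ', Nat.sub_add_cancel (Nat.one_le_iff_ne_zero.mpr hj0)]
  exact this

end Cfsg.Agent.Lib.helper68
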