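import Mathlib
import Cfsg.Agent.Lib.helper68.SecB

/-!
# 2-groups of sectional rank ≤ 4: a non-abelian `P` with `|Z(P)| = 2`, normal in `C_S(Z(P))`
-/

namespace Cfsg.Agent.Lib.helper68

open Subgroup

variable {S : Type*} [Group S]

theorem sec4_top [Finite S] (h2 : IsPGroup 2 S) (hr : SecRkC 4 S) (P T : Subgroup S) (z : S)
    (c1 : Cfg P T z) (g : S) (hgN : g ∈ Subgroup.normalizer (T : Set S)) (hgT : g ∉ T)
    (idx2 : ∀ a ∈ Subgroup.normalizer (T : Set S), ∀ b ∈ Subgroup.normalizer (T : Set S),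
      a ∉ T → b ∉ T → a * b ∈ T) :
    Subgroup.normalizer (T : Set S) = ⊤ := by
  by_contra hNtop
  set N := Subgroup.normalizer (T : Set S) with hN
  have hTN : T ≤ N := Subgroup.le_normalizer
  have hnil : Group.IsNilpotent S := h2.isNilpotent
  have hlt : N < Subgroup.normalizer (N : Set S) :=
    Group.normalizerCondition_of_isNilpotent N (lt_top_iff_ne_top.mpr hNtop)
  obtain ⟨h, hhNN, hhN⟩ := SetLike.exists_of_lt hlt
  have nN : ∀ x ∈ N, h * x * h⁻¹ ∈ N := fun x hx => (Subgroup.mem_normalizer_iff.mp hhNN x).mp hx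
  have nN' : ∀ x ∈ N, h⁻¹ * x * h ∈ N := by
    intro x hx
    have h1 := (Subgroup.mem_normalizer_iff.mp hhNN (h⁻¹ * x * h))
    have h2' : h * (h⁻¹ * x * h) * h⁻¹ = x := by group
    rw [h2'] at h1
    exact h1.mpr hx
  have nT : ∀ n ∈ N, ∀ t ∈ T, n * t * n⁻¹ ∈ T :=
    fun n hn t ht => (Subgroup.mem_normalizer_iff.mp hn t).mp ht
  have nTi : ∀ n ∈ N, ∀ t ∈ T, n⁻¹ * t * n ∈ T := by
    intro n hn t ht
    have := nT n⁻¹ (N.inv_mem hn) t ht
    rwa [inv_inv] at this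
  set T' := cj h T with hT'
  have c2 : Cfg (cj g P) T (g * z * g⁻¹) := by
    have := c1.conj g
    rwa [cj_normalizer hgN] at this
  have c3 : Cfg (cj h P) T' (h * z * h⁻¹) := c1.conj h
  have hT'N : T' ≤ N := by
    intro x hx
    have h1 := nN _ (hTN (mem_cj.mp hx))
    have h2' : h * (h⁻¹ * x * h) * h⁻¹ = x := by group
    rwa [h2'] at h1
  have hTT' : T' ≠ T := by
    intro e
    apply hhN
    rw [hN, Subgroup.mem_normalizer_iff]
    intro x
    constructor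
    · intro hx
      have : h * x * h⁻¹ ∈ T' := cj_intro hx
      rwa [e] at this
    · intro hx
      rw [← e] at hx
      have h1 := mem_cj.mp hx
      have h2' : h⁻¹ * (h * x * h⁻¹) * h = x := by group
      rwa [h2'] at h1
  have idx2' : ∀ a ∈ N, ∀ b ∈ N, a ∉ T' → b ∉ T' → a * b ∈ T' := by
    intro a ha b hb haT hbT
    rw [hT', mem_cj] at haT hbT ⊢
    have h1 := idx2 _ (nN' a ha) _ (nN' b hb) haT hbT
    have h2' : h⁻¹ * (a * b) * h = (h⁻¹ * a * h) * (h⁻¹ * b * h) := by group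
    rw [h2']; exact h1
  have nT' : ∀ a ∈ N, ∀ t ∈ T', a * t * a⁻¹ ∈ T' := by
    intro a ha t ht
    by_cases haT : a ∈ T'
    · exact T'.mul_mem (T'.mul_mem haT ht) (T'.inv_mem haT)
    · by_contra hcon
      have h1 := idx2' _ (N.mul_mem (N.mul_mem ha (hT'N ht)) (N.inv_mem ha)) a ha hcon haT
      have h2' : a * t * a⁻¹ * a = a * t := by group
      rw [h2'] at h1
      apply haT
      have h3 : a = (a * t) * t⁻¹ := by group
      rw [h3]
      exact T'.mul_mem h1 (T'.inv_mem ht)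
  have nT'i : ∀ a ∈ N, ∀ t ∈ T', a⁻¹ * t * a ∈ T' := by
    intro a ha t ht
    have := nT' a⁻¹ (N.inv_mem ha) t ht
    rwa [inv_inv] at this
  obtain ⟨g', hg'T, hg'T'⟩ : ∃ x ∈ T, x ∉ T' := by
    by_contra hcon
    simp only [not_exists, not_and, not_not] at hcon
    have hle : T ≤ T' := fun x hx => hcon x hx
    exact hTT' (Subgroup.eq_of_le_of_card_ge hle (card_cj h T).le).symm
  obtain ⟨g'', hg''T', hg''T⟩ : ∃ x ∈ T', x ∉ T := by
    by_contra hcon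
    simp only [not_exists, not_and, not_not] at hcon
    have hle : T' ≤ T := fun x hx => hcon x hx
    exact hTT' (Subgroup.eq_of_le_of_card_ge hle (card_cj h T).ge)
  have hg'N : g' ∈ N := hTN hg'T
  have hg''N : g'' ∈ N := hT'N hg''T'
  have c4 : Cfg (cj g' (cj h P)) T' (g' * (h * z * h⁻¹) * g'⁻¹) := by
    have := c3.conj g'
    have e : cj g' T' = T' := by
      ext x
      rw [mem_cj]
      constructor
      · intro hx
        have h1 := nT' g' hg'N _ hx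
        have h2' : g' * (g'⁻¹ * x * g') * g'⁻¹ = x := by group
        rwa [h2'] at h1
      · intro hx
        exact nT'i g' hg'N x hx
    rwa [e] at this
  have ne12 : z ≠ g * z * g⁻¹ := by
    intro e
    apply hgT
    rw [c1.T_eq]
    calc g * z = (g * z * g⁻¹) * g := by group
      _ = z * g := by rw [← e]
  have ne34 : h * z * h⁻¹ ≠ g' * (h * z * h⁻¹) * g'⁻¹ := by
    intro e
    apply hg'T'
    rw [c3.T_eq]
    calc g' * (h * z * h⁻¹) = (g' * (h * z * h⁻¹) * g'⁻¹) * g' := by group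
      _ = (h * z * h⁻¹) * g' := by rw [← e]
  have d12 := c1.disj h2 c2 ne12
  have m12 := c1.comm h2 c2 ne12
  have d34 := c3.disj h2 c4 ne34
  have m34 := c3.comm h2 c4 ne34
  have sw12 := cfg_swap c1 idx2 g hgN hgT
  have sw34 := cfg_swap c3 idx2' g' hg'N hg'T'
  set Q := prodSub P (cj g P) m12 with hQ
  set Q' := prodSub (cj h P) (cj g' (cj h P)) m34 with hQ'
  have QN : ∀ n ∈ N, ∀ x ∈ Q, n * x * n⁻¹ ∈ Q :=
    prodSub_norm c1.norm c2.norm sw12 m12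
  have Q'N : ∀ n ∈ N, ∀ x ∈ Q', n * x * n⁻¹ ∈ Q' :=
    prodSub_norm c3.norm c4.norm sw34 m34
  have hP1N : P ≤ N := le_trans c1.PT hTN
  have hP2N : cj g P ≤ N := le_trans c2.PT hTN
  have hP3N : cj h P ≤ N := le_trans c3.PT hT'N
  have hP1Q : P ≤ Q := fun a ha => ⟨a, ha, 1, Subgroup.one_mem _, by simp⟩
  have hP2Q : cj g P ≤ Q := fun b hb => ⟨1, Subgroup.one_mem _, b, hb, by simp⟩
  have hP3Q' : cj h P ≤ Q' := fun a ha => ⟨a, ha, 1, Subgroup.one_mem _, by simp⟩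
  have hQT : Q ≤ T := by
    rintro _ ⟨a, ha, b, hb, rfl⟩
    exact T.mul_mem (c1.PT ha) (c2.PT hb)
  -- the three applications of the key lemma
  have X1 : ∀ a ∈ cj h P, ∀ b ∈ cj g' (cj h P), z ≠ a * b :=
    lemX N T T' (cj h P) (cj g' (cj h P)) (h * z * h⁻¹) hT'N idx2 c3 c4.PT m34 d34 g'
      (sw34 g' hg'N hg'T').1 (sw34 g' hg'N hg'T').2 (nT'i g' hg'N) g'' hg''T' hg''T z
      ((c1.T_eq g').mp hg'T) (fun n _ => c1.T_eq n)
  have X2 : ∀ a ∈ cj h P, ∀ b ∈ cj g' (cj h P), g * z * g⁻¹ ≠ a * b :=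
    lemX N T T' (cj h P) (cj g' (cj h P)) (h * z * h⁻¹) hT'N idx2 c3 c4.PT m34 d34 g'
      (sw34 g' hg'N hg'T').1 (sw34 g' hg'N hg'T').2 (nT'i g' hg'N) g'' hg''T' hg''T (g * z * g⁻¹)
      ((c2.T_eq g').mp hg'T) (fun n _ => c2.T_eq n)
  have X3 : ∀ a ∈ P, ∀ b ∈ cj g P, h * z * h⁻¹ ≠ a * b :=
    lemX N T' T P (cj g P) z hTN idx2' c1 c2.PT m12 d12 g''
      (sw12 g'' hg''N hg''T).1 (sw12 g'' hg''N hg''T).2 (nTi g'' hg''N) g' hg'T hg'T'
      (h * z * h⁻¹) ((c3.T_eq g'').mp hg''T') (fun n _ => c3.T_eq n)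
  have K1 : ∀ x ∈ P, x ∈ Q' → x = 1 :=
    c1.triv_inter h2 Q' (fun y hy x hx => Q'N y (hP1N hy) x hx)
      (fun hz => by obtain ⟨a, ha, b, hb, e⟩ := hz; exact X1 a ha b hb e)
  have K2 : ∀ x ∈ cj g P, x ∈ Q' → x = 1 :=
    c2.triv_inter h2 Q' (fun y hy x hx => Q'N y (hP2N hy) x hx)
      (fun hz => by obtain ⟨a, ha, b, hb, e⟩ := hz; exact X2 a ha b hb e)
  have K3 : ∀ x ∈ cj h P, x ∈ Q → x = 1 :=
    c3.triv_inter h2 Q (fun y hy x hx => QN y (hP3N hy) x hx)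
      (fun hz => by obtain ⟨a, ha, b, hb, e⟩ := hz; exact X3 a ha b hb e)
  -- commutators of N-elements of Q with elements of P₃ lie in Q ∩ Q'
  have hk : ∀ a ∈ Q, a ∈ N → ∀ c ∈ cj h P, a * c * a⁻¹ * c⁻¹ ∈ Q ∧ a * c * a⁻¹ * c⁻¹ ∈ Q' := by
    intro a haQ haN c hc
    constructor
    · have h1 := QN c (hP3N hc) a⁻¹ (Q.inv_mem haQ)
      have e : a * c * a⁻¹ * c⁻¹ = a * (c * a⁻¹ * c⁻¹) := by group
      rw [e]; exact Q.mul_mem haQ h1
    · exact Q'.mul_mem (Q'N a haN c (hP3Q' hc)) (Q'.inv_mem (hP3Q' hc))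
  -- elements of Q ∩ Q'
  have D3 : ∀ d ∈ Q, d ∈ Q' → d = 1 ∨ d = z * (g * z * g⁻¹) := by
    intro d hdQ hdQ'
    have hdT : d ∈ T := hQT hdQ
    have hdN : d ∈ N := hTN hdT
    have dc1 : ∀ a ∈ P, Commute a d := by
      intro a ha
      have k1 : d * a * d⁻¹ * a⁻¹ ∈ P := P.mul_mem (c1.norm d hdT a ha) (P.inv_mem ha)
      have k2 : d * a * d⁻¹ * a⁻¹ ∈ Q' := by
        have h1 := Q'N a (hP1N ha) d⁻¹ (Q'.inv_mem hdQ')
        have e : d * a * d⁻¹ * a⁻¹ = d * (a * d⁻¹ * a⁻¹) := by group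
        rw [e]; exact Q'.mul_mem hdQ' h1
      have k3 := K1 _ k1 k2
      show a * d = d * a
      calc a * d = (d * a * d⁻¹ * a⁻¹)⁻¹ * (d * a) := by group
        _ = d * a := by rw [k3]; group
    have dc2 : ∀ b ∈ cj g P, Commute b d := by
      intro b hb
      have k1 : d * b * d⁻¹ * b⁻¹ ∈ cj g P :=
        (cj g P).mul_mem (c2.norm d hdT b hb) ((cj g P).inv_mem hb)
      have k2 : d * b * d⁻¹ * b⁻¹ ∈ Q' := by
        have h1 := Q'N b (hP2N hb) d⁻¹ (Q'.inv_mem hdQ')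
        have e : d * b * d⁻¹ * b⁻¹ = d * (b * d⁻¹ * b⁻¹) := by group
        rw [e]; exact Q'.mul_mem hdQ' h1
      have k3 := K2 _ k1 k2
      show b * d = d * b
      calc b * d = (d * b * d⁻¹ * b⁻¹)⁻¹ * (d * b) := by group
        _ = d * b := by rw [k3]; group
    obtain ⟨a₀, ha₀, b₀, hb₀, hd⟩ := hdQ
    have ea : a₀ = d * b₀⁻¹ := by rw [hd]; group
    have eb : b₀ = a₀⁻¹ * d := by rw [hd]; group
    have hac : ∀ y ∈ P, a₀ * y = y * a₀ := by
      intro y hy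
      have h1 : Commute y d := dc1 y hy
      have h2' : Commute y b₀ := m12 y hy b₀ hb₀
      have h3 : Commute y (d * b₀⁻¹) := h1.mul_right h2'.inv_right
      rw [← ea] at h3
      exact h3.symm.eq
    have hbc : ∀ y ∈ cj g P, b₀ * y = y * b₀ := by
      intro y hy
      have h1 : Commute y d := dc2 y hy
      have h2' : Commute a₀ y := m12 a₀ ha₀ y hy
      have h3 : Commute y (a₀⁻¹ * d) := (h2'.symm.inv_right).mul_right h1
      rw [← eb] at h3
      exact h3.symm.eq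
    rcases c1.cen a₀ ha₀ hac with e1 | e1 <;> rcases c2.cen b₀ hb₀ hbc with e2 | e2
    · left; rw [hd, e1, e2, mul_one]
    · exfalso
      have h1 : d = g * z * g⁻¹ := by rw [hd, e1, e2, one_mul]
      have h2' := K2 d (h1 ▸ c2.zP) hdQ'
      exact c2.z1 (h1 ▸ h2')
    · exfalso
      have h1 : d = z := by rw [hd, e1, e2, mul_one]
      have h2' := K1 d (h1 ▸ c1.zP) hdQ'
      exact c1.z1 (h1 ▸ h2')
    · right; rw [hd, e1, e2]
  -- P₃ ≤ T
  have hP3T : cj h P ≤ T := by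
    intro c hc
    by_contra hcT
    have hcN : c ∈ N := hP3N hc
    obtain ⟨x, hx, y, hy, hxy⟩ := c1.nonab
    have hx1 : x ≠ 1 := by
      rintro rfl
      exact hxy (by simp)
    have hxz : x ≠ z := by
      rintro rfl
      exact hxy (c1.zc y hy)
    obtain ⟨k1, k2⟩ := hk x (hP1Q hx) (hP1N hx) c hc
    have hw : c * x⁻¹ * c⁻¹ ∈ cj g P := (sw12 c hcN hcT).1 x⁻¹ (P.inv_mem hx)
    have e : x * c * x⁻¹ * c⁻¹ = x * (c * x⁻¹ * c⁻¹) := by group
    rcases D3 _ k1 k2 with h1 | h1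
    · rw [e] at h1
      have h3 : c * x⁻¹ * c⁻¹ = x⁻¹ := by
        calc c * x⁻¹ * c⁻¹ = x⁻¹ * (x * (c * x⁻¹ * c⁻¹)) := by group
          _ = x⁻¹ := by rw [h1, mul_one]
      have h4 := d12 x⁻¹ (P.inv_mem hx) (h3 ▸ hw)
      exact hx1 (inv_eq_one.mp h4)
    · rw [e] at h1
      have h3 : z⁻¹ * x = (g * z * g⁻¹) * (c * x⁻¹ * c⁻¹)⁻¹ := by
        calc z⁻¹ * x = z⁻¹ * (x * (c * x⁻¹ * c⁻¹)) * (c * x⁻¹ * c⁻¹)⁻¹ := by group
          _ = z⁻¹ * (z * (g * z * g⁻¹)) * (c * x⁻¹ * c⁻¹)⁻¹ := by rw [h1]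
          _ = (g * z * g⁻¹) * (c * x⁻¹ * c⁻¹)⁻¹ := by group
      have h4 : z⁻¹ * x ∈ P := P.mul_mem (P.inv_mem c1.zP) hx
      have h5 : z⁻¹ * x ∈ cj g P := by
        rw [h3]; exact (cj g P).mul_mem c2.zP ((cj g P).inv_mem hw)
      have h6 := d12 _ h4 h5
      apply hxz
      calc x = z * (z⁻¹ * x) := by group
        _ = z := by rw [h6, mul_one]
  -- P₁, P₂ commute with P₃
  have m13 : ∀ a ∈ P, ∀ c ∈ cj h P, a * c = c * a := by
    intro a ha c hc
    obtain ⟨_, k2⟩ := hk a (hP1Q ha) (hP1N ha) c hc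
    have k1 : a * c * a⁻¹ * c⁻¹ ∈ P := by
      have h1 := c1.norm c (hP3T hc) a⁻¹ (P.inv_mem ha)
      have e : a * c * a⁻¹ * c⁻¹ = a * (c * a⁻¹ * c⁻¹) := by group
      rw [e]; exact P.mul_mem ha h1
    have k3 := K1 _ k1 k2
    calc a * c = (a * c * a⁻¹ * c⁻¹) * (c * a) := by group
      _ = c * a := by rw [k3, one_mul]
  have m23 : ∀ b ∈ cj g P, ∀ c ∈ cj h P, b * c = c * b := by
    intro b hb c hc
    obtain ⟨_, k2⟩ := hk b (hP2Q hb) (hP2N hb) c hc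
    have k1 : b * c * b⁻¹ * c⁻¹ ∈ cj g P := by
      have h1 := c2.norm c (hP3T hc) b⁻¹ ((cj g P).inv_mem hb)
      have e : b * c * b⁻¹ * c⁻¹ = b * (c * b⁻¹ * c⁻¹) := by group
      rw [e]; exact (cj g P).mul_mem hb h1
    have k3 := K2 _ k1 k2
    calc b * c = (b * c * b⁻¹ * c⁻¹) * (c * b) := by group
      _ = c * b := by rw [k3, one_mul]
  have hP2 : IsPGroup 2 ↥P := h2.to_subgroup P
  have hncP : ∃ a b : ↥P, a * b ≠ b * a := by
    obtain ⟨x, hx, y, hy, hxy⟩ := c1.nonab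
    exact ⟨⟨x, hx⟩, ⟨y, hy⟩, fun e => hxy (congrArg Subtype.val e)⟩
  apply core3 hr hP2 hncP P.subtype (cjHom g P) (cjHom h P)
    (fun a b => m12 _ a.2 _ (cjHom_mem g P b))
    (fun a c => m13 _ a.2 _ (cjHom_mem h P c))
    (fun b c => m23 _ (cjHom_mem g P b) _ (cjHom_mem h P c))
  intro a b c habc
  have hb := cjHom_mem g P b
  have hc := cjHom_mem h P c
  have ha : (P.subtype a) ∈ P := a.2
  have hcQ : cjHom h P c ∈ Q := by
    have e : cjHom h P c = (P.subtype a * cjHom g P b)⁻¹ := (inv_eq_of_mul_eq_one_right habc).symm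
    rw [e]
    exact Q.inv_mem ⟨_, ha, _, hb, rfl⟩
  have hc1 := K3 _ hc hcQ
  rw [hc1, mul_one] at habc
  have ha2 : P.subtype a ∈ cj g P := by
    have e : P.subtype a = (cjHom g P b)⁻¹ := eq_inv_of_mul_eq_one_left habc
    rw [e]; exact (cj g P).inv_mem hb
  have ha1 := d12 _ ha ha2
  rw [ha1, one_mul] at habc
  exact ⟨Subtype.ext ha1, cjHom_eq_one g P b habc, cjHom_eq_one h P c hc1⟩

theorem sec4_main [Finite S] (h2 : IsPGroup 2 S) (hr : SecRkC 4 S) (P T : Subgroup S) (z : S)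
    (hc : Cfg P T z) (hT : T ≠ ⊤) : SecRkC 2 ↥P ∧ T.index = 2 := by
  set N := Subgroup.normalizer (T : Set S) with hN
  have hTN : T ≤ N := Subgroup.le_normalizer
  have hnil : Group.IsNilpotent S := h2.isNilpotent
  have hTltN : T < N := Group.normalizerCondition_of_isNilpotent T (lt_top_iff_ne_top.mpr hT)
  have hcn : ∀ n ∈ N, Cfg (cj n P) T (n * z * n⁻¹) := by
    intro n hn
    have := hc.conj n
    rwa [cj_normalizer hn] at this
  have hzn : ∀ n : S, n * z * n⁻¹ = z ↔ n ∈ T := by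
    intro n
    rw [hc.T_eq]
    constructor
    · intro e
      calc n * z = (n * z * n⁻¹) * n := by group
        _ = z * n := by rw [e]
    · intro e
      rw [e]; group
  have hznm : ∀ m n : S, m * z * m⁻¹ = n * z * n⁻¹ ↔ n⁻¹ * m ∈ T := by
    intro m n
    rw [← hzn]
    constructor
    · intro e
      have : n⁻¹ * m * z * (n⁻¹ * m)⁻¹ = n⁻¹ * (m * z * m⁻¹) * n := by group
      rw [this, e]; group
    · intro e
      have : m * z * m⁻¹ = n * (n⁻¹ * m * z * (n⁻¹ * m)⁻¹) * n⁻¹ := by group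
      rw [this, e]
  have hP2 : IsPGroup 2 ↥P := h2.to_subgroup P
  have hncP : ∃ a b : ↥P, a * b ≠ b * a := by
    obtain ⟨x, hx, y, hy, hxy⟩ := hc.nonab
    exact ⟨⟨x, hx⟩, ⟨y, hy⟩, fun e => hxy (congrArg Subtype.val e)⟩
  have nT : ∀ n ∈ N, ∀ t ∈ T, n * t * n⁻¹ ∈ T :=
    fun n hn t ht => (Subgroup.mem_normalizer_iff.mp hn t).mp ht
  have nTi : ∀ n ∈ N, ∀ t ∈ T, n⁻¹ * t * n ∈ T := by
    intro n hn t ht
    have := nT n⁻¹ (N.inv_mem hn) t ht
    rwa [inv_inv] at this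
  have hpair : ∀ m ∈ N, ∀ n ∈ N, m * z * m⁻¹ ≠ n * z * n⁻¹ →
      (∀ x ∈ cj m P, x ∈ cj n P → x = 1) ∧ (∀ a ∈ cj m P, ∀ b ∈ cj n P, a * b = b * a) := by
    intro m hm n hn hne
    exact ⟨(hcn m hm).disj h2 (hcn n hn) hne, (hcn m hm).comm h2 (hcn n hn) hne⟩
  have T3 : ∀ m₁ ∈ N, ∀ m₂ ∈ N, ∀ m₃ ∈ N, m₁ * z * m₁⁻¹ ≠ m₂ * z * m₂⁻¹ →
      m₁ * z * m₁⁻¹ ≠ m₃ * z * m₃⁻¹ → m₂ * z * m₂⁻¹ ≠ m₃ * z * m₃⁻¹ →
      (m₁ * z * m₁⁻¹) * (m₂ * z * m₂⁻¹) * (m₃ * z * m₃⁻¹) = 1 := by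
    intro m₁ h₁ m₂ h₂ m₃ h₃ n12 n13 n23
    by_contra hne
    obtain ⟨d12, c12⟩ := hpair m₁ h₁ m₂ h₂ n12
    obtain ⟨d13, c13⟩ := hpair m₁ h₁ m₃ h₃ n13
    obtain ⟨d23, c23⟩ := hpair m₂ h₂ m₃ h₃ n23
    have C1 := hcn m₁ h₁
    have C2 := hcn m₂ h₂
    have C3 := hcn m₃ h₃
    apply core3 hr hP2 hncP (cjHom m₁ P) (cjHom m₂ P) (cjHom m₃ P)
      (fun a b => c12 _ (cjHom_mem m₁ P a) _ (cjHom_mem m₂ P b))
      (fun a c => c13 _ (cjHom_mem m₁ P a) _ (cjHom_mem m₃ P c))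
      (fun b c => c23 _ (cjHom_mem m₂ P b) _ (cjHom_mem m₃ P c))
    intro a b c habc
    have ha := cjHom_mem m₁ P a
    have hb := cjHom_mem m₂ P b
    have hc' := cjHom_mem m₃ P c
    have hac : ∀ y ∈ cj m₁ P, cjHom m₁ P a * y = y * cjHom m₁ P a := by
      intro y hy
      have e1 : cjHom m₁ P a = (cjHom m₂ P b * cjHom m₃ P c)⁻¹ :=
        eq_inv_of_mul_eq_one_left (by rw [← mul_assoc]; exact habc)
      have yb : Commute y (cjHom m₂ P b) := c12 y hy _ hb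
      have yc : Commute y (cjHom m₃ P c) := c13 y hy _ hc'
      rw [e1]
      exact ((yb.mul_right yc).inv_right).symm.eq
    have hbc : ∀ y ∈ cj m₂ P, cjHom m₂ P b * y = y * cjHom m₂ P b := by
      intro y hy
      have e1 : cjHom m₂ P b = (cjHom m₁ P a)⁻¹ * (cjHom m₃ P c)⁻¹ := by
        calc cjHom m₂ P b
            = (cjHom m₁ P a)⁻¹ * (cjHom m₁ P a * cjHom m₂ P b * cjHom m₃ P c) *
              (cjHom m₃ P c)⁻¹ := by group
          _ = (cjHom m₁ P a)⁻¹ * (cjHom m₃ P c)⁻¹ := by rw [habc, mul_one]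
      have ya : Commute y (cjHom m₁ P a) := (c12 _ ha y hy).symm
      have yc : Commute y (cjHom m₃ P c) := c23 y hy _ hc'
      rw [e1]
      exact ((ya.inv_right).mul_right (yc.inv_right)).symm.eq
    have hcc : ∀ y ∈ cj m₃ P, cjHom m₃ P c * y = y * cjHom m₃ P c := by
      intro y hy
      have e1 : cjHom m₃ P c = (cjHom m₁ P a * cjHom m₂ P b)⁻¹ :=
        (inv_eq_of_mul_eq_one_right habc).symm
      have ya : Commute y (cjHom m₁ P a) := (c13 _ ha y hy).symm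
      have yb : Commute y (cjHom m₂ P b) := (c23 _ hb y hy).symm
      rw [e1]
      exact ((ya.mul_right yb).inv_right).symm.eq
    rcases C1.cen _ ha hac with ea | ea <;> rcases C2.cen _ hb hbc with eb | eb <;>
      rcases C3.cen _ hc' hcc with ec | ec
    · exact ⟨cjHom_eq_one _ _ _ ea, cjHom_eq_one _ _ _ eb, cjHom_eq_one _ _ _ ec⟩
    · exfalso
      rw [ea, eb, ec, one_mul, one_mul] at habc
      exact C3.z1 habc
    · exfalso
      rw [ea, eb, ec, one_mul, mul_one] at habc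
      exact C2.z1 habc
    · exfalso
      rw [ea, eb, ec, one_mul] at habc
      have := eq_inv_of_mul_eq_one_left habc
      rw [C3.zinv] at this
      exact n23 this
    · exfalso
      rw [ea, eb, ec, mul_one, mul_one] at habc
      exact C1.z1 habc
    · exfalso
      rw [ea, eb, ec, mul_one] at habc
      have := eq_inv_of_mul_eq_one_left habc
      rw [C3.zinv] at this
      exact n13 this
    · exfalso
      rw [ea, eb, ec, mul_one] at habc
      have := eq_inv_of_mul_eq_one_left habc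
      rw [C2.zinv] at this
      exact n12 this
    · exfalso
      rw [ea, eb, ec] at habc
      exact hne habc
  obtain ⟨g₀, hg₀N, hg₀T⟩ := SetLike.exists_of_lt hTltN
  obtain ⟨i, hgT, hgg⟩ := exists_sq_mem h2 T g₀ hg₀T
  set g := g₀ ^ i with hg
  have hgN : g ∈ N := N.pow_mem hg₀N i
  have hz1 : (1 : S) * z * (1 : S)⁻¹ = z := by group
  have ne12 : (1 : S) * z * (1 : S)⁻¹ ≠ g * z * g⁻¹ := by
    rw [hz1]
    intro e
    exact hgT ((hzn g).mp e.symm)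
  -- first conclusion
  have hsec : SecRkC 2 ↥P := by
    obtain ⟨d12, c12⟩ := hpair 1 N.one_mem g hgN ne12
    apply core2 hr (cjHom 1 P) (cjHom g P)
      (fun a b => c12 _ (cjHom_mem 1 P a) _ (cjHom_mem g P b))
    intro a b hab
    have ha := cjHom_mem 1 P a
    have hb := cjHom_mem g P b
    have e : cjHom 1 P a = (cjHom g P b)⁻¹ := eq_inv_of_mul_eq_one_left hab
    have ha2 : cjHom 1 P a ∈ cj g P := by rw [e]; exact (cj g P).inv_mem hb
    have ha1 := d12 _ ha ha2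
    rw [ha1, one_mul] at hab
    exact ⟨cjHom_eq_one _ _ _ ha1, cjHom_eq_one _ _ _ hab⟩
  -- index two in the normalizer
  have IDX : ∀ n ∈ N, n ∉ T → g⁻¹ * n ∈ T := by
    intro n hn hnT
    by_contra hgn
    have n13 : (1 : S) * z * (1 : S)⁻¹ ≠ n * z * n⁻¹ := by
      rw [hz1]
      intro e
      exact hnT ((hzn n).mp e.symm)
    have n23 : g * z * g⁻¹ ≠ n * z * n⁻¹ := by
      intro e
      have h1 := (hznm g n).mp e
      apply hgn
      have e2 : g⁻¹ * n = (n⁻¹ * g)⁻¹ := by group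
      rw [e2]; exact T.inv_mem h1
    have t1 := T3 1 N.one_mem g hgN n hn ne12 n13 n23
    have hngT : n * g ∉ T := by
      intro h1
      apply hgn
      have e2 : g⁻¹ * n = (g⁻¹ * (n * g) * g) * (g * g)⁻¹ := by group
      rw [e2]
      exact T.mul_mem (nTi g hgN _ h1) (T.inv_mem hgg)
    have n13' : (1 : S) * z * (1 : S)⁻¹ ≠ (n * g) * z * (n * g)⁻¹ := by
      rw [hz1]
      intro e
      exact hngT ((hzn (n * g)).mp e.symm)
    have n23' : g * z * g⁻¹ ≠ (n * g) * z * (n * g)⁻¹ := by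
      intro e
      have h1 := (hznm g (n * g)).mp e
      apply hnT
      have h3 := nT g hgN _ h1
      have e2 : g * ((n * g)⁻¹ * g) * g⁻¹ = n⁻¹ := by group
      rw [e2] at h3
      simpa using T.inv_mem h3
    have t2 := T3 1 N.one_mem g hgN (n * g) (N.mul_mem hn hgN) ne12 n13' n23'
    have e3 : n * z * n⁻¹ = (n * g) * z * (n * g)⁻¹ := by
      have := t1.trans t2.symm
      exact mul_left_cancel this
    have h4 := (hznm n (n * g)).mp e3
    have e4 : (n * g)⁻¹ * n = g⁻¹ := by group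
    rw [e4] at h4
    exact hgT (by simpa using T.inv_mem h4)
  have idx2 : ∀ a ∈ N, ∀ b ∈ N, a ∉ T → b ∉ T → a * b ∈ T := by
    intro a ha b hb haT hbT
    have h1 := IDX a ha haT
    have h3 := IDX b hb hbT
    have e : a * b = (g * (g⁻¹ * a) * g⁻¹) * (g * g) * (g⁻¹ * b) := by group
    rw [e]
    exact T.mul_mem (T.mul_mem (nT g hgN _ h1) hgg) h3
  have hNtop : N = ⊤ := sec4_top h2 hr P T z hc g hgN hgT idx2
  refine ⟨hsec, ?_⟩
  rw [Subgroup.index_eq_two_iff]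
  refine ⟨g, fun b => ?_⟩
  have hbN : b ∈ N := by rw [hNtop]; exact Subgroup.mem_top b
  by_cases hb : b ∈ T
  · refine Or.inr ⟨hb, fun h => hgT ?_⟩
    have := T.mul_mem (T.inv_mem hb) h
    simpa using this
  · exact Or.inl ⟨idx2 b hbN g hgN hb hgT, hb⟩

end Cfsg.Agent.Lib.helper68
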