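import Mathlib
import Cfsg.Agent.Lib.helper20.BlockOrth

/-!
# Two-prime block orthogonality (helper68)

`two_prime_orth`: let `x` be a `p`-element such that every element of the `p`-section of `x`
is `q`-regular, and let `y` be `q`-singular.  Then for every `p`-block `B` and every `q`-block
`B'`:  `∑_{χ ∈ B ∩ B'} χ x * χ y⁻¹ = 0`.
-/

set_option autoImplicit false
set_option linter.unusedSectionVars false

namespace Cfsg.Agent.Lib.helper68

open Cfsg Cfsg.Agent.Lib.helper81 Cfsg.Agent.Lib.helper20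
open scoped ComplexConjugate

universe u

variable {G : Type u} [Group G]

open scoped Classical in
/-- The inner product of `u ↦ ∑_{χ ∈ B'} χ u * χ h⁻¹` with an irreducible `ψ`. -/
theorem h68_classInner_sum_block_mul [Fintype G] (B' : Set (IrrCharacter G)) (h : G)
    (ψ : IrrCharacter G) :
    classInner (fun u : G => ∑ χ : IrrCharacter G,
        if χ ∈ B' then (χ : G → ℂ) u * (χ : G → ℂ) h⁻¹ else 0)
      (ψ : G → ℂ) = if ψ ∈ B' then (ψ : G → ℂ) h⁻¹ else 0 := by
  unfold classInner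
  simp_rw [Finset.sum_mul]
  rw [Finset.sum_comm]
  have h1 : ∀ χ : IrrCharacter G,
      ∑ u : G, (if χ ∈ B' then (χ : G → ℂ) u * (χ : G → ℂ) h⁻¹ else 0) * conj ((ψ : G → ℂ) u)
        = if χ = ψ then (if χ ∈ B' then (χ : G → ℂ) h⁻¹ * (Nat.card G : ℂ) else 0) else 0 := by
    intro χ
    by_cases hχ : χ ∈ B'
    · simp only [if_pos hχ]
      have h2 : ∑ u : G, (χ : G → ℂ) u * (χ : G → ℂ) h⁻¹ * conj ((ψ : G → ℂ) u)
          = (χ : G → ℂ) h⁻¹ * ∑ u : G, (χ : G → ℂ) u * conj ((ψ : G → ℂ) u) := by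
        rw [Finset.mul_sum]
        exact Finset.sum_congr rfl (fun u _ => by ring)
      rw [h2, Cfsg.Agent.Lib.helper80.irr_sum_mul_conj χ ψ]
      split_ifs <;> simp
    · simp only [if_neg hχ]
      simp
  simp_rw [h1]
  rw [Finset.sum_ite_eq' Finset.univ ψ, if_pos (Finset.mem_univ ψ)]
  have hG : (Nat.card G : ℂ) ≠ 0 := by
    have : 0 < Nat.card G := Nat.card_pos
    exact_mod_cast this.ne'
  split_ifs
  · field_simp
  · simp

/-- **Two-prime block orthogonality.**  Let `x` be a `p`-element all of whose `p`-section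
`x * c` (`c` a `p`-regular element commuting with `x`) consists of `q`-regular elements, and let
`y` be `q`-singular.  Then `∑_{χ ∈ B ∩ B'} χ x * χ y⁻¹ = 0` for every `p`-block `B` and every
`q`-block `B'`. -/
theorem two_prime_orth [Finite G] {p q : ℕ} [Fact p.Prime] [Fact q.Prime]
    {Mp Mq : Ideal AlgInt} (hMp : IsPModular p Mp) (hMq : IsPModular q Mq)
    (x : G) (hx : ∃ k : ℕ, orderOf x = p ^ k)
    (hsec : ∀ c : G, c * x = x * c → ¬ p ∣ orderOf c → ¬ q ∣ orderOf (x * c))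
    (y : G) (hy : q ∣ orderOf y)
    (B : Set (IrrCharacter G)) (hB : IsPBlock Mp B)
    (B' : Set (IrrCharacter G)) (hB' : IsPBlock Mq B') :
    ∑ᶠ χ ∈ B ∩ B', (χ : G → ℂ) x * (χ : G → ℂ) y⁻¹ = 0 := by
  classical
  have hqp : q.Prime := Fact.out
  have hfin : Fintype G := Fintype.ofFinite G
  -- the q-part of y is nontrivial
  obtain ⟨a', b', k, n, hsplit, hzk, hyn, hn, hcop⟩ :=
    Cfsg.Agent.Lib.helper20.exists_zpow_split hqp y
  have ha : IsPPart q y (y ^ a') := by
    refine ⟨y ^ b', hsplit.symm, zpow_mul_comm y a' b', ?_, ?_⟩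
    · obtain ⟨j, -, hj⟩ := (Nat.dvd_prime_pow hqp).mp (orderOf_dvd_of_pow_eq_one hzk)
      exact ⟨j, hj⟩
    · intro hdvd
      have h1 : q ∣ n := hdvd.trans (orderOf_dvd_of_pow_eq_one hyn)
      exact (Nat.Prime.coprime_iff_not_dvd hqp).mp hcop.symm h1
  have hz1 : y ^ a' ≠ 1 := by
    intro h1
    obtain ⟨y', hy', -, -, hy'q⟩ := ha
    rw [h1, one_mul] at hy'
    rw [hy'] at hy'q
    exact hy'q hy
  set ϑ : G → ℂ := fun u => ∑ χ : IrrCharacter G,
      if χ ∈ B' then (χ : G → ℂ) u * (χ : G → ℂ) y⁻¹ else 0 with hϑdef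
  have hϑ : IsClassFunction G ϑ := by
    intro g' t
    show (∑ χ : IrrCharacter G,
        if χ ∈ B' then (χ : G → ℂ) (t * g' * t⁻¹) * (χ : G → ℂ) y⁻¹ else 0)
      = ∑ χ : IrrCharacter G, if χ ∈ B' then (χ : G → ℂ) g' * (χ : G → ℂ) y⁻¹ else 0
    exact Finset.sum_congr rfl (fun χ _ => by rw [irr_classFun χ g' t])
  have hvan : ∀ c : G, c * x = x * c → ¬ p ∣ orderOf c → ϑ (x * c) = 0 := by
    intro c hcx hcp
    have hreg := hsec c hcx hcp
    have h1 : IsPPart q (x * c) 1 :=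
      ⟨x * c, one_mul _, Commute.one_left _, ⟨0, by simp⟩, hreg⟩
    have hne : ¬ IsConj (1 : G) (y ^ a') := by
      intro hc
      rw [isConj_iff] at hc
      obtain ⟨t, ht⟩ := hc
      apply hz1
      rw [← ht]; group
    have key := sum_block_mul_inv_eq_zero hMq (x * c) y 1 (y ^ a') h1 ha hne B' hB'
    rw [finsum_mem_def, finsum_eq_sum_of_fintype] at key
    show (∑ χ : IrrCharacter G,
        if χ ∈ B' then (χ : G → ℂ) (x * c) * (χ : G → ℂ) y⁻¹ else 0) = 0
    refine Eq.trans (Finset.sum_congr rfl (fun χ _ => ?_)) key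
    rw [Set.indicator_apply]
  have hp1 : ¬ p ∣ orderOf (1 : G) := by
    rw [orderOf_one]
    exact (Fact.out : p.Prime).one_lt.ne' ∘ Nat.dvd_one.mp
  have key := blockPart_eq_zero_of_section hMp ϑ hϑ x 1 (by simp) hx hp1 hvan B hB
  unfold blockPart at key
  rw [mul_one] at key
  have e : ∑ᶠ χ ∈ B ∩ B', (χ : G → ℂ) x * (χ : G → ℂ) y⁻¹
      = ∑ᶠ χ ∈ B, @classInner G _ (Fintype.ofFinite G) ϑ (χ : G → ℂ) * (χ : G → ℂ) x := by
    rw [finsum_mem_def, finsum_mem_def]
    apply finsum_congr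
    intro χ
    have hci : @classInner G _ (Fintype.ofFinite G) ϑ (χ : G → ℂ)
        = if χ ∈ B' then (χ : G → ℂ) y⁻¹ else 0 :=
      @h68_classInner_sum_block_mul G _ (Fintype.ofFinite G) B' y χ
    by_cases h1 : χ ∈ B
    · by_cases h2 : χ ∈ B'
      · rw [Set.indicator_of_mem (show χ ∈ B ∩ B' from ⟨h1, h2⟩), Set.indicator_of_mem h1, hci,
          if_pos h2, mul_comm]
      · rw [Set.indicator_of_notMem (fun h => h2 h.2), Set.indicator_of_mem h1, hci, if_neg h2,
          zero_mul]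
    · rw [Set.indicator_of_notMem (fun h => h1 h.1), Set.indicator_of_notMem h1]
  rw [e]
  exact key

end Cfsg.Agent.Lib.helper68
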