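import Mathlib
import Cfsg.Agent.Lib.helper16.U34CDefs

/-!
# S1903, piece A4b (`rel_of_u`) with an inline copy of piece M (`sq_eq_of_prod`)

Racer copies under prefixed names (`helper68_…`), statements verbatim from `tools/S1903_Skel.lean.txt`.
-/

set_option autoImplicit false
set_option linter.unusedSectionVars false
set_option linter.unusedVariables false

namespace Cfsg.Agent.Lib.helper16.U34C

open Cfsg
open scoped commutatorElement

/-- PIECE M (pure word computation), racer copy. -/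
theorem helper68_sq_eq_of_prod {H : Type*} [Group H] (u0 u1 u2 u3 u4 a b s : H)
    (ha : ∀ g : H, Commute a g) (hb : ∀ g : H, Commute b g) (hs : ∀ g : H, Commute s g)
    (ha2 : a ^ 2 = 1) (hb2 : b ^ 2 = 1) (hs2 : s ^ 2 = 1)
    (h0 : u0 ^ 2 = s) (h1 : u1 ^ 2 = s) (h2 : u2 ^ 2 = s) (h3 : u3 ^ 2 = s) (h4 : u4 ^ 2 = s)
    (c01 : u1 * u0 = u0 * u1 * a) (c02 : u2 * u0 = u0 * u2 * b) (c03 : u3 * u0 = u0 * u3 * b)
    (c12 : u2 * u1 = u1 * u2 * a) (c13 : u3 * u1 = u1 * u3 * b) (c23 : u3 * u2 = u2 * u3 * a)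
    (hprod : u0 * u1 * u2 * u3 * u4 = 1) : s = a * b := by
  -- central elements move to the right
  have ca' : ∀ g X : H, a * (g * X) = g * (a * X) := fun g X => by
    rw [← mul_assoc, (ha g).eq, mul_assoc]
  have cb' : ∀ g X : H, b * (g * X) = g * (b * X) := fun g X => by
    rw [← mul_assoc, (hb g).eq, mul_assoc]
  have cs' : ∀ g X : H, s * (g * X) = g * (s * X) := fun g X => by
    rw [← mul_assoc, (hs g).eq, mul_assoc]
  -- squares
  have a2' : a * a = 1 := by rw [← pow_two]; exact ha2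
  have b2' : b * b = 1 := by rw [← pow_two]; exact hb2
  have s2' : s * s = 1 := by rw [← pow_two]; exact hs2
  have q0 : u0 * u0 = s := by rw [← pow_two]; exact h0
  have q1 : u1 * u1 = s := by rw [← pow_two]; exact h1
  have q2 : u2 * u2 = s := by rw [← pow_two]; exact h2
  have q3 : u3 * u3 = s := by rw [← pow_two]; exact h3
  have q4 : u4 * u4 = s := by rw [← pow_two]; exact h4
  -- (u2 u3)^2 = a
  have e23 : (u2 * u3) * (u2 * u3) = a := by
    calc (u2 * u3) * (u2 * u3) = u2 * (u3 * u2) * u3 := by simp only [mul_assoc]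
      _ = u2 * (u2 * u3 * a) * u3 := by rw [c23]
      _ = (u2 * u2) * (u3 * (a * u3)) := by simp only [mul_assoc]
      _ = s * (u3 * (u3 * a)) := by rw [q2, (ha u3).eq]
      _ = s * ((u3 * u3) * a) := by simp only [mul_assoc]
      _ = s * (s * a) := by rw [q3]
      _ = a := by rw [← mul_assoc, s2', one_mul]
  -- (u1 u2 u3)^2 = s * b
  have e123 : (u1 * (u2 * u3)) * (u1 * (u2 * u3)) = s * b := by
    have hmove : (u2 * u3) * u1 = u1 * ((u2 * u3) * (a * b)) := by
      calc (u2 * u3) * u1 = u2 * (u3 * u1) := by simp only [mul_assoc]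
        _ = u2 * (u1 * u3 * b) := by rw [c13]
        _ = (u2 * u1) * (u3 * b) := by simp only [mul_assoc]
        _ = (u1 * u2 * a) * (u3 * b) := by rw [c12]
        _ = u1 * (u2 * (a * (u3 * b))) := by simp only [mul_assoc]
        _ = u1 * (u2 * (u3 * (a * b))) := by rw [ca']
        _ = u1 * ((u2 * u3) * (a * b)) := by simp only [mul_assoc]
    calc (u1 * (u2 * u3)) * (u1 * (u2 * u3))
        = u1 * ((u2 * u3) * u1) * (u2 * u3) := by simp only [mul_assoc]
      _ = u1 * (u1 * ((u2 * u3) * (a * b))) * (u2 * u3) := by rw [hmove]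
      _ = (u1 * u1) * ((u2 * u3) * ((a * b) * (u2 * u3))) := by simp only [mul_assoc]
      _ = s * ((u2 * u3) * ((u2 * u3) * (a * b))) := by
          rw [q1, ((ha (u2 * u3)).mul_left (hb (u2 * u3))).eq]
      _ = s * (((u2 * u3) * (u2 * u3)) * (a * b)) := by simp only [mul_assoc]
      _ = s * (a * (a * b)) := by rw [e23]
      _ = s * b := by rw [← mul_assoc a a b, a2', one_mul]
  -- (u0 u1 u2 u3)^2 = a * b
  have e0123 : (u0 * (u1 * (u2 * u3))) * (u0 * (u1 * (u2 * u3))) = a * b := by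
    have hmove : (u1 * (u2 * u3)) * u0 = u0 * ((u1 * (u2 * u3)) * a) := by
      calc (u1 * (u2 * u3)) * u0 = u1 * (u2 * (u3 * u0)) := by simp only [mul_assoc]
        _ = u1 * (u2 * (u0 * u3 * b)) := by rw [c03]
        _ = u1 * ((u2 * u0) * (u3 * b)) := by simp only [mul_assoc]
        _ = u1 * ((u0 * u2 * b) * (u3 * b)) := by rw [c02]
        _ = (u1 * u0) * (u2 * (b * (u3 * b))) := by simp only [mul_assoc]
        _ = (u0 * u1 * a) * (u2 * (u3 * (b * b))) := by rw [c01, cb']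
        _ = (u0 * u1 * a) * (u2 * u3) := by rw [b2', mul_one]
        _ = u0 * (u1 * (a * (u2 * u3))) := by simp only [mul_assoc]
        _ = u0 * (u1 * ((u2 * u3) * a)) := by rw [(ha (u2 * u3)).eq]
        _ = u0 * ((u1 * (u2 * u3)) * a) := by simp only [mul_assoc]
    calc (u0 * (u1 * (u2 * u3))) * (u0 * (u1 * (u2 * u3)))
        = u0 * ((u1 * (u2 * u3)) * u0) * (u1 * (u2 * u3)) := by simp only [mul_assoc]
      _ = u0 * (u0 * ((u1 * (u2 * u3)) * a)) * (u1 * (u2 * u3)) := by rw [hmove]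
      _ = (u0 * u0) * ((u1 * (u2 * u3)) * (a * (u1 * (u2 * u3)))) := by simp only [mul_assoc]
      _ = s * ((u1 * (u2 * u3)) * ((u1 * (u2 * u3)) * a)) := by
          rw [q0, (ha (u1 * (u2 * u3))).eq]
      _ = s * (((u1 * (u2 * u3)) * (u1 * (u2 * u3))) * a) := by simp only [mul_assoc]
      _ = s * ((s * b) * a) := by rw [e123]
      _ = (s * s) * (b * a) := by simp only [mul_assoc]
      _ = a * b := by rw [s2', one_mul, (hb a).eq]
  -- conclusion
  set w := u0 * (u1 * (u2 * u3)) with hw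
  have hw4 : w * u4 = 1 := by rw [hw, ← hprod]; simp only [mul_assoc]
  have h1' : (w * w) * (u4 * u4) = 1 := by
    calc (w * w) * (u4 * u4) = w * ((w * u4) * u4) := by simp only [mul_assoc]
      _ = 1 := by rw [hw4, one_mul, hw4]
  rw [e0123, q4] at h1'
  -- a * b * s = 1, (a*b)*(a*b) = 1
  have hab2 : (a * b) * (a * b) = 1 := by
    calc (a * b) * (a * b) = a * ((b * a) * b) := by simp only [mul_assoc]
      _ = a * ((a * b) * b) := by rw [(hb a).eq]
      _ = (a * a) * (b * b) := by simp only [mul_assoc]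
      _ = 1 := by rw [a2', b2', one_mul]
  have : s = (a * b)⁻¹ := by
    rw [eq_comm, inv_eq_iff_mul_eq_one]
    exact h1'
  rw [this, inv_eq_iff_mul_eq_one]
  exact hab2

/-- if `⁅g, h⁆ = c` is a central involution then `h * g = g * h * c`. -/
theorem helper68_swap_of_comm {H : Type*} [Group H] (g h c : H) (hc : c = ⁅g, h⁆)
    (hcen : ∀ y : H, c * y = y * c) (hc2 : c ^ 2 = 1) : h * g = g * h * c := by
  have e1 : c * (h * g) = g * h := by
    rw [hc, commutatorElement_def]; group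
  have hci : c⁻¹ = c := by
    rw [inv_eq_iff_mul_eq_one, ← pow_two]; exact hc2
  calc h * g = c⁻¹ * (c * (h * g)) := by group
    _ = c * (g * h) := by rw [e1, hci]
    _ = g * h * c := hcen _

/-- conjugating a swap relation with a central error term. -/
theorem helper68_conj_swap {H : Type*} [Group H] (y g h c : H)
    (hcen : ∀ z : H, c * z = z * c) (hsw : h * g = g * h * c) :
    (y * h * y⁻¹) * (y * g * y⁻¹) = (y * g * y⁻¹) * (y * h * y⁻¹) * c := by
  have hyc : y * c * y⁻¹ = c := by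
    rw [← hcen y]; group
  calc (y * h * y⁻¹) * (y * g * y⁻¹) = y * (h * g) * y⁻¹ := by group
    _ = y * (g * h * c) * y⁻¹ := by rw [hsw]
    _ = (y * g * y⁻¹) * (y * h * y⁻¹) * (y * c * y⁻¹) := by group
    _ = (y * g * y⁻¹) * (y * h * y⁻¹) * c := by rw [hyc]

/-- conjugation by `x` shifts the conjugates `x^i u x^{-i}`. -/
theorem helper68_shift {H : Type*} [Group H] (x u : H) (i : ℕ) :
    x * (x ^ i * u * x⁻¹ ^ i) * x⁻¹ = x ^ (i + 1) * u * x⁻¹ ^ (i + 1) := by
  rw [pow_succ' x i, pow_succ x⁻¹ i]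
  simp only [mul_assoc]

/-- the product of the five conjugates. -/
theorem helper68_prod5 {H : Type*} [Group H] (x u : H) :
    u * (x ^ 1 * u * x⁻¹ ^ 1) * (x ^ 2 * u * x⁻¹ ^ 2) * (x ^ 3 * u * x⁻¹ ^ 3) * (x ^ 4 * u * x⁻¹ ^ 4)
      = (u * x) ^ 5 * x⁻¹ ^ 5 := by
  simp [pow_succ, mul_assoc]

/-- PIECE A4b, racer copy. -/
theorem helper68_rel_of_u {G : Type*} [Group G] {x : G} {Z : Subgroup G} (h1 : D1 x Z) (h3 : D3 x Z) {u : G}
    (hu : u ∈ commutator G) (hux : (u * x) ^ 5 = 1) : Rel u x := by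
  have hPn : (commutator G).Normal := by unfold commutator; infer_instance
  -- the conjugates of u
  have hcjP : ∀ i : ℕ, x ^ i * u * x⁻¹ ^ i ∈ commutator G := fun i => by
    have := hPn.conj_mem u hu (x ^ i); rwa [← inv_pow] at this
  have hu1 : x * u * x⁻¹ ∈ commutator G := by
    have := hcjP 1; rwa [pow_one, pow_one] at this
  have hu2 : x ^ 2 * u * x⁻¹ ^ 2 ∈ commutator G := hcjP 2
  have haZ : ca u x ∈ Z := h3.comm u hu _ hu1
  have hbZ : cb u x ∈ Z := h3.comm u hu _ hu2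
  have hsZ : u ^ 2 ∈ Z := h3.sq u hu
  have hacen : ∀ y : G, ca u x * y = y * ca u x := fun y => h1.Zc _ haZ y
  have hbcen : ∀ y : G, cb u x * y = y * cb u x := fun y => h1.Zc _ hbZ y
  have hscen : ∀ y : G, u ^ 2 * y = y * u ^ 2 := fun y => h1.Zc _ hsZ y
  have ha2 : ca u x ^ 2 = 1 := h1.Z2 _ haZ
  have hb2 : cb u x ^ 2 = 1 := h1.Z2 _ hbZ
  have hs2 : (u ^ 2) ^ 2 = 1 := h1.Z2 _ hsZ
  refine ⟨h1.x5, hux, ha2, hb2, hacen u, hacen x, hbcen u, hbcen x, ?_⟩
  have x5 := h1.x5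
  have xi5 : x⁻¹ ^ 5 = 1 := by rw [inv_pow, x5, inv_one]
  -- the conjugates v i = x^i u x^{-i}
  obtain ⟨v, hv⟩ : ∃ v : ℕ → G, ∀ i, v i = x ^ i * u * x⁻¹ ^ i := ⟨fun i => x ^ i * u * x⁻¹ ^ i, fun _ => rfl⟩
  have v0 : v 0 = u := by rw [hv]; simp
  have v5 : v 5 = u := by rw [hv, x5, xi5, one_mul, mul_one]
  have sh : ∀ i, x * v i * x⁻¹ = v (i + 1) := fun i => by rw [hv, hv, helper68_shift]
  -- squares
  have sq : ∀ i, v i ^ 2 = u ^ 2 := fun i => by
    rw [hv, inv_pow, conj_pow, ← hscen (x ^ i), mul_inv_cancel_right]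
  -- a, b in terms of v
  have ha : ca u x = ⁅v 0, v 1⁆ := by rw [v0, hv 1, pow_one, pow_one]; rfl
  have hb : cb u x = ⁅v 0, v 2⁆ := by rw [v0, hv 2]; rfl
  -- swaps
  have c01 : v 1 * v 0 = v 0 * v 1 * ca u x := helper68_swap_of_comm (v 0) (v 1) _ ha hacen ha2
  have c02 : v 2 * v 0 = v 0 * v 2 * cb u x := helper68_swap_of_comm (v 0) (v 2) _ hb hbcen hb2
  have c12 : v 2 * v 1 = v 1 * v 2 * ca u x := by
    have := helper68_conj_swap x (v 0) (v 1) _ hacen c01
    rwa [sh, sh] at this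
  have c23 : v 3 * v 2 = v 2 * v 3 * ca u x := by
    have := helper68_conj_swap x (v 1) (v 2) _ hacen c12
    rwa [sh, sh] at this
  have c13 : v 3 * v 1 = v 1 * v 3 * cb u x := by
    have := helper68_conj_swap x (v 0) (v 2) _ hbcen c02
    rwa [sh, sh] at this
  have c24 : v 4 * v 2 = v 2 * v 4 * cb u x := by
    have := helper68_conj_swap x (v 1) (v 3) _ hbcen c13
    rwa [sh, sh] at this
  have c35 : v 5 * v 3 = v 3 * v 5 * cb u x := by
    have := helper68_conj_swap x (v 2) (v 4) _ hbcen c24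
    rwa [sh, sh] at this
  have hbi : (cb u x)⁻¹ = cb u x := by
    rw [inv_eq_iff_mul_eq_one, ← pow_two]; exact hb2
  have c03 : v 3 * v 0 = v 0 * v 3 * cb u x := by
    have c30 : v 0 * v 3 = v 3 * v 0 * cb u x := by
      have h50 : v 5 = v 0 := by rw [v5, v0]
      rw [← h50]; exact c35
    have e : v 3 * v 0 = v 0 * v 3 * (cb u x)⁻¹ := by rw [c30, mul_inv_cancel_right]
    rw [e, hbi]
  -- the product
  have hprod : v 0 * v 1 * v 2 * v 3 * v 4 = 1 := by
    rw [v0, hv 1, hv 2, hv 3, hv 4, helper68_prod5, hux, xi5, one_mul]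
  have key := helper68_sq_eq_of_prod (v 0) (v 1) (v 2) (v 3) (v 4) (ca u x) (cb u x) (u ^ 2)
    (fun g => hacen g) (fun g => hbcen g) (fun g => hscen g) ha2 hb2 hs2
    (sq 0) (sq 1) (sq 2) (sq 3) (sq 4) c01 c02 c03 c12 c13 c23 hprod
  exact key

end Cfsg.Agent.Lib.helper16.U34C
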