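import Cfsg.Agent.Lib.helper68.W2PA1

/-! # S0720, piece A2: consequences of `Eig` -/

set_option autoImplicit false

namespace Cfsg.Agent.Lib.helper68.W2P

open Finset
open scoped Classical

variable {p : ℕ} [Fact p.Prime] {ι : Type*}

section A2
variable [Fintype ι] (D : Scheme p ι) (c : ι → ℚ) (hctr : ∀ j, c (D.tr j) = c j)
  (hc0 : 0 < c D.i0) (hE : D.Eig c)
include hctr hE

theorem c_mul_n (j : ι) : c j * (D.n j : ℚ) = c D.i0 * (D.mu j : ℚ) := by
  have h := hE j (0, 0) (0, 0)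
  rw [col_i0] at h
  have h2 : ∑ ω'' ∈ univ.filter (fun ω'' => D.col (0, 0) ω'' = j), c (D.col ω'' (0, 0)) =
      ∑ ω'' ∈ univ.filter (fun ω'' : ZMod p × Fin 2 => D.col (0, 0) ω'' = j), c j := by
    apply Finset.sum_congr rfl
    intro ω'' hω''
    simp only [mem_filter, mem_univ, true_and] at hω''
    rw [D.col_tr (0, 0) ω'', hω'', hctr]
  rw [h2, Finset.sum_const, D.valency, nsmul_eq_mul] at h
  rw [mul_comm (c j), h, mul_comm]

theorem E_mul_E (ω ω' : ZMod p × Fin 2) :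
    ∑ ω'' : ZMod p × Fin 2, D.E c ω ω'' * D.E c ω'' ω' = ((D.kappa c : ℚ) : ℂ) * D.E c ω ω' := by
  have key : ∑ ω'' : ZMod p × Fin 2, c (D.col ω ω'') * c (D.col ω'' ω') =
      D.kappa c * c (D.col ω ω') := by
    rw [← Finset.sum_fiberwise univ (fun ω'' => D.col ω ω'')
      (fun ω'' => c (D.col ω ω'') * c (D.col ω'' ω'))]
    unfold Scheme.kappa
    rw [Finset.sum_mul]
    apply Finset.sum_congr rfl
    intro j _
    have h := hE j ω ω'
    calc ∑ ω'' ∈ univ.filter (fun ω'' => D.col ω ω'' = j), c (D.col ω ω'') * c (D.col ω'' ω')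
        = ∑ ω'' ∈ univ.filter (fun ω'' => D.col ω ω'' = j), c j * c (D.col ω'' ω') := by
          apply Finset.sum_congr rfl
          intro ω'' hω''
          rw [(mem_filter.mp hω'').2]
      _ = c j * ((D.mu j : ℚ) * c (D.col ω ω')) := by rw [← Finset.mul_sum, h]
      _ = c j * (D.mu j : ℚ) * c (D.col ω ω') := by ring
  have := congrArg (fun x : ℚ => (x : ℂ)) key
  simp only [Rat.cast_sum, Rat.cast_mul] at this
  exact this

theorem B_mul_E (j : ι) (ω ω' : ZMod p × Fin 2) :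
    ∑ ω'' : ZMod p × Fin 2, D.B j ω ω'' * D.E c ω'' ω' = ((D.mu j : ℤ) : ℂ) * D.E c ω ω' := by
  have h := hE j ω ω'
  have h2 : ∑ ω'' : ZMod p × Fin 2, D.B j ω ω'' * D.E c ω'' ω' =
      ((∑ ω'' ∈ univ.filter (fun ω'' => D.col ω ω'' = j), c (D.col ω'' ω') : ℚ) : ℂ) := by
    rw [Finset.sum_filter, Rat.cast_sum]
    apply Finset.sum_congr rfl
    intro ω'' _
    unfold Scheme.B Scheme.E
    split_ifs <;> simp
  rw [h2, h]
  unfold Scheme.E
  push_cast
  rfl

theorem E_mul_B (j : ι) (ω ω' : ZMod p × Fin 2) :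
    ∑ ω'' : ZMod p × Fin 2, D.E c ω ω'' * D.B j ω'' ω' = ((D.mu j : ℤ) : ℂ) * D.E c ω ω' := by
  have h := hE (D.tr j) ω' ω
  rw [mu_tr, D.col_tr ω ω', hctr] at h
  have h2 : ∑ ω'' : ZMod p × Fin 2, D.E c ω ω'' * D.B j ω'' ω' =
      ((∑ ω'' ∈ univ.filter (fun ω'' => D.col ω' ω'' = D.tr j), c (D.col ω'' ω) : ℚ) : ℂ) := by
    rw [Finset.sum_filter, Rat.cast_sum]
    apply Finset.sum_congr rfl
    intro ω'' _
    unfold Scheme.B Scheme.E
    rw [D.col_tr ω ω'', hctr]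
    by_cases hj : D.col ω'' ω' = j
    · have h' : D.col ω' ω'' = D.tr j := (col_eq_tr_iff D j ω'' ω').mpr hj
      simp [hj, h']
    · have h' : ¬ D.col ω' ω'' = D.tr j := fun h' => hj ((col_eq_tr_iff D j ω'' ω').mp h')
      simp [hj, h']
  rw [h2, h]
  unfold Scheme.E
  push_cast
  rfl

include hc0 in
theorem kappa_pos : 0 < D.kappa c := by
  unfold Scheme.kappa
  have hnn : ∀ j, 0 ≤ c j * (D.mu j : ℚ) := by
    intro j
    have h := c_mul_n D c hctr hE j
    have hn : (0 : ℚ) < D.n j := by exact_mod_cast n_pos D j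
    have e : c j * (D.mu j : ℚ) = c j ^ 2 * D.n j / c D.i0 := by
      field_simp
      linear_combination (-(c j)) * h
    rw [e]
    exact div_nonneg (mul_nonneg (sq_nonneg _) hn.le) hc0.le
  have hpos : 0 < c D.i0 * (D.mu D.i0 : ℚ) := by
    rw [mu_i0]
    simpa using hc0
  calc 0 < c D.i0 * (D.mu D.i0 : ℚ) := hpos
    _ ≤ ∑ j, c j * (D.mu j : ℚ) :=
      Finset.single_le_sum (f := fun j => c j * (D.mu j : ℚ)) (fun j _ => hnn j) (mem_univ _)

omit hE [Fintype ι] in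
theorem hatE_conjTranspose (ξ : ℂ) (hξ : ξ ^ p = 1) :
    (hat (D.E c) ξ).conjTranspose = hat (D.E c) ξ := by
  have hp : p ≠ 0 := (Fact.out : p.Prime).ne_zero
  have hnorm : ‖ξ‖ = 1 := Complex.norm_eq_one_of_pow_eq_one hξ hp
  have hconj : (starRingEnd ℂ) ξ = ξ⁻¹ := (Complex.inv_eq_conj hnorm).symm
  have hpow : ∀ s : ZMod p, (ξ⁻¹) ^ s.val = ξ ^ (-s).val := by
    intro s
    have h1 : ξ ^ s.val * ξ ^ (-s).val = 1 := by
      rw [← pow_add]
      have hd : (p : ℕ) ∣ s.val + (-s).val := by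
        rw [← ZMod.natCast_eq_zero_iff]
        push_cast
        simp
      obtain ⟨k, hk⟩ := hd
      rw [hk, pow_mul, hξ, one_pow]
    rw [inv_pow]
    exact inv_eq_of_mul_eq_one_right h1
  ext j k
  rw [Matrix.conjTranspose_apply, hatE_apply, hatE_apply, star_sum]
  conv_rhs => rw [← Equiv.sum_comp (Equiv.neg (ZMod p))]
  apply Finset.sum_congr rfl
  intro s _
  have hcol : c (D.col (0, j) (-s, k)) = c (D.col (0, k) (s, j)) := by
    have h1 := col_add D s 0 (-s) j k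
    rw [zero_add, neg_add_cancel] at h1
    rw [← h1, D.col_tr (0, k) (s, j), hctr]
  simp only [Equiv.neg_apply, star_mul', star_pow, Complex.star_def, map_ratCast, hconj, hpow,
    hcol]

end A2

end Cfsg.Agent.Lib.helper68.W2P
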